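import Mathlib
import Groth.Agent.Lib.Helper6.LocalFlat4

/-!
# Local criterion of flatness via all truncations (module version of S14002)

`flat_of_forall_flat_quotient_pow`: `A` a Noetherian `B`-algebra (`B` Noetherian), `M` a finite
`A`-module, `J ⊂ B` with `J A ⊂ rad A`.  If `(B/J^n) ⊗ M` is flat over `B/J^n` for all `n ≥ 1`, then
`M` is flat over `B`.
-/

set_option autoImplicit false
universe u

open TensorProduct

namespace Groth.Agent.Lib.Helper24.LocalCritPow

theorem flat_of_forall_flat_quotient_pow (B A M : Type u) [CommRing B] [CommRing A]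
    [IsNoetherianRing B] [IsNoetherianRing A] [Algebra B A] [AddCommGroup M] [Module A M]
    [Module B M] [IsScalarTower B A M] [Module.Finite A M] (J : Ideal B)
    (hJ : J.map (algebraMap B A) ≤ Ideal.jacobson ⊥)
    (h : ∀ n : ℕ, 0 < n → Module.Flat (B ⧸ J ^ n) ((B ⧸ J ^ n) ⊗[B] M)) :
    Module.Flat B M := by
  refine Groth.Agent.Lib.Helper6.LocalFlat.flat_of_g1_lTensor_injective (S := A) (M := M) J hJ ?_
  intro n 𝔞
  have hP : Module.IsTorsionBySet B (𝔞 ⧸ Groth.Agent.Lib.Helper6.LocalFlat.bq J 𝔞 n)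
      (↑(J ^ n) : Set B) := by
    intro x j
    obtain ⟨a, rfl⟩ := Submodule.Quotient.mk_surjective _ x
    rw [← Submodule.Quotient.mk_smul, Submodule.Quotient.mk_eq_zero]
    change ((j : B) • a : 𝔞).1 ∈ J ^ n
    exact Ideal.mul_mem_right _ _ j.2
  have hQ : Module.IsTorsionBySet B (B ⧸ J ^ n) (↑(J ^ n) : Set B) := by
    intro x j
    obtain ⟨b, rfl⟩ := Ideal.Quotient.mk_surjective x
    change (j : B) • Ideal.Quotient.mk (J ^ n) b = 0
    rw [Algebra.smul_def, Ideal.Quotient.algebraMap_eq, ← map_mul,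
      Ideal.Quotient.eq_zero_iff_mem]
    exact Ideal.mul_mem_right _ _ j.2
  rcases Nat.eq_zero_or_pos n with h0 | hn
  · subst h0
    have hsub : Subsingleton (𝔞 ⧸ Groth.Agent.Lib.Helper6.LocalFlat.bq J 𝔞 0) := by
      have h1 : Groth.Agent.Lib.Helper6.LocalFlat.bq J 𝔞 0 = ⊤ := by
        unfold Groth.Agent.Lib.Helper6.LocalFlat.bq
        rw [pow_zero, Ideal.one_eq_top]
        exact Submodule.comap_top _
      rw [h1]
      infer_instance
    have hsub2 : Subsingleton (M ⊗[B] (𝔞 ⧸ Groth.Agent.Lib.Helper6.LocalFlat.bq J 𝔞 0)) :=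
      inferInstance
    exact Function.injective_of_subsingleton _
  · have := h n hn
    exact Groth.Agent.Lib.Helper6.LocalFlat.lTensor_injective_of_flat_baseChange (J ^ n) hP hQ _
      (Groth.Agent.Lib.Helper6.LocalFlat.g1_injective J 𝔞 n)

end Groth.Agent.Lib.Helper24.LocalCritPow
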