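import Mathlib
import Groth.Prelude.Def_CAlg
import Groth.Agent.Lib.Helper4.GorCM
import Groth.Agent.Lib.Helper67.Depth
import Groth.Agent.Lib.Helper64.DepthQuot
import Groth.Agent.Lib.Helper6.LocalFlat

/-!
# Linkage (Peskine–Szpiro) basics (helper24)

* `ext_subsingleton_of_le_depth`: (Ischebeck-type vanishing) if `N` is f.g. of injective
  dimension `< d + 1` over a Noetherian local ring then `Ext^i(M, N) = 0` for `i + depth M > d`.
* `ext_self_subsingleton_of_depth_le`: over a Gorenstein local ring `A`, `Ext^i(M, A) = 0` for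
  `i ≥ 1` when `depth M ≥ depth A` (maximal Cohen–Macaulay modules).
* `annihilator_colon`: if `Ext^i(A/I, A) = 0` for `i ≥ 1` and `xs` is weakly `A`-regular generating
  `𝔞` then `(0 : I) + 𝔞 = (𝔞 : I)` and `(0 : I) ∩ 𝔞 = 𝔞 (0 : I)`.
* `rTensor_quot_injective`: `A` flat over `R`, `J ∩ mA = mJ` implies `m ⊗ A/J → A/J` injective.
-/

universe u
set_option autoImplicit false
open CategoryTheory CategoryTheory.Abelian LocCoh IsLocalRing RingTheory.Sequence TensorProduct
open scoped Pointwise

namespace Groth.Agent.Lib.Helper24.Linkage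

open Groth.Agent.Lib.Helper67

section Ischebeck

variable {A : Type u} [CommRing A] [IsLocalRing A] [IsNoetherianRing A]

theorem ext_subsingleton_of_le_depth (N : ModuleCat.{u} A) [Module.Finite A N] (d : ℕ)
    (hN : HasInjectiveDimensionLT N (d + 1)) :
    ∀ (j : ℕ) (M : Type u) [AddCommGroup M] [Module A M] [Module.Finite A M],
      (j : ℕ∞) ≤ LocCoh.depth A M → ∀ i, d < i + j →
      Subsingleton (Ext (ModuleCat.of A M) N i) := by
  intro j
  induction j with
  | zero =>
    intro M _ _ _ _ i hi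
    exact HasInjectiveDimensionLT.subsingleton N (d + 1) i (by omega) _
  | succ j ih =>
    intro M _ _ _ hdep i hi
    by_cases hM : Subsingleton M
    · refine ⟨fun a b => ?_⟩
      have : Subsingleton (ModuleCat.of A M) := hM
      rw [Groth.Agent.Lib.Helper4.InjDim.ext_eq_zero_of_subsingleton_left a,
        Groth.Agent.Lib.Helper4.InjDim.ext_eq_zero_of_subsingleton_left b]
    rw [not_subsingleton_iff_nontrivial] at hM
    have hIM : maximalIdeal A • (⊤ : Submodule A M) ≠ ⊤ := maximalIdeal_smul_top_ne_top M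
    have h1 : (1 : ℕ∞) ≤ LocCoh.depth A M := le_trans (by simp) hdep
    obtain h | ⟨x, hx, hreg⟩ := (one_le_idealDepth_iff _ _).mp h1
    · exact absurd h hIM
    have hq : LocCoh.depth A (QuotSMulTop x M) + 1 = LocCoh.depth A M :=
      idealDepth_quotSMulTop_add_one _ _ hIM x hx hreg
    have hjq : (j : ℕ∞) ≤ LocCoh.depth A (QuotSMulTop x M) := by
      rw [← hq] at hdep
      push_cast at hdep
      exact (ENat.add_le_add_iff_right (by simp)).mp hdep
    have hQ : Subsingleton (Ext (ModuleCat.of A (QuotSMulTop x M)) N (i + 1)) :=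
      ih (QuotSMulTop x M) hjq (i + 1) (by omega)
    have hS := IsSMulRegular.smulShortComplex_shortExact (M := ModuleCat.of A M) hreg
    have hsurj : ∀ α : Ext (ModuleCat.of A M) N i, ∃ β : Ext (ModuleCat.of A M) N i,
        x • β = α := by
      intro α
      have hQ' : Subsingleton (Ext ((ModuleCat.of A M).smulShortComplex x).X₃ N (i + 1)) := hQ
      obtain ⟨β, hβ⟩ : ∃ β : Ext (ModuleCat.of A M) N i,
          (Ext.mk₀ (x • 𝟙 (ModuleCat.of A M))).comp β (zero_add i) = α :=
        Ext.contravariant_sequence_exact₁ hS N α (n₁ := i + 1) (add_comm 1 i)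
          (Subsingleton.elim _ _)
      refine ⟨β, ?_⟩
      rw [← hβ, Ext.mk₀_smul, Ext.smul_comp, Ext.mk₀_id_comp]
    -- Nakayama
    have htop : (⊤ : Submodule A (Ext (ModuleCat.of A M) N i)) ≤
        maximalIdeal A • (⊤ : Submodule A (Ext (ModuleCat.of A M) N i)) := by
      intro α _
      obtain ⟨β, rfl⟩ := hsurj α
      exact Submodule.smul_mem_smul hx trivial
    have hbot := Submodule.eq_bot_of_le_smul_of_le_jacobson_bot (maximalIdeal A)
      (⊤ : Submodule A (Ext (ModuleCat.of A M) N i)) Module.Finite.fg_top htop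
      (by rw [IsLocalRing.jacobson_eq_maximalIdeal ⊥ bot_ne_top])
    exact (Submodule.subsingleton_iff A).mp (subsingleton_of_bot_eq_top hbot.symm)


end Ischebeck

section Colon

variable {A : Type u} [CommRing A] (I : Ideal A)

/-- the `I`-torsion submodule `N[I] = {n | I n = 0} = Hom(A/I, N)` -/
def tors (N : Type u) [AddCommGroup N] [Module A N] : Submodule A N where
  carrier := {n | ∀ a ∈ I, a • n = 0}
  add_mem' := by
    intro x y hx hy a ha
    rw [smul_add, hx a ha, hy a ha, add_zero]
  zero_mem' := by intro a _; exact smul_zero a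
  smul_mem' := by
    intro c x hx a ha
    rw [smul_comm, hx a ha, smul_zero]

theorem mem_tors {N : Type u} [AddCommGroup N] [Module A N] (n : N) :
    n ∈ tors I N ↔ ∀ a ∈ I, a • n = 0 := Iff.rfl

/-- the vanishing hypothesis -/
def ExtVanish (N : Type u) [AddCommGroup N] [Module A N] : Prop :=
  ∀ i : ℕ, 1 ≤ i → Subsingleton (Ext (ModuleCat.of A (A ⧸ I)) (ModuleCat.of A N) i)

variable {I}

theorem extVanish_quotSMulTop {N : Type u} [AddCommGroup N] [Module A N] (h : ExtVanish I N)
    (x : A) (hx : IsSMulRegular N x) : ExtVanish I (QuotSMulTop x N) := by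
  intro i hi
  have hS := IsSMulRegular.smulShortComplex_shortExact (M := ModuleCat.of A N) hx
  exact ext_X3_subsingleton hS (ModuleCat.of A (A ⧸ I)) i (h i hi) (h (i + 1) (by omega))

/-- single step: elements of `(N/xN)[I]` lift to `N[I]` -/
theorem exists_lift_tors {N : Type u} [AddCommGroup N] [Module A N]
    (h : Subsingleton (Ext (ModuleCat.of A (A ⧸ I)) (ModuleCat.of A N) 1))
    (x : A) (hx : IsSMulRegular N x) (m : N) (hm : ∀ a ∈ I, a • m ∈ x • (⊤ : Submodule A N)) :
    ∃ m0 ∈ tors I N, m - m0 ∈ x • (⊤ : Submodule A N) := by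
  have hS := IsSMulRegular.smulShortComplex_shortExact (M := ModuleCat.of A N) hx
  -- the map `A/I → N/xN`, `1 ↦ m`
  let φ0 : A →ₗ[A] QuotSMulTop x N := LinearMap.toSpanSingleton A _ ((x • (⊤ : Submodule A N)).mkQ m)
  have hφ0 : I ≤ LinearMap.ker φ0 := by
    intro a ha
    rw [LinearMap.mem_ker]
    change a • (x • (⊤ : Submodule A N)).mkQ m = 0
    rw [← map_smul, Submodule.mkQ_apply, Submodule.Quotient.mk_eq_zero]
    exact hm a ha
  let φ : (A ⧸ I) →ₗ[A] QuotSMulTop x N := Submodule.liftQ I φ0 hφ0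
  have h' : Subsingleton (Ext (ModuleCat.of A (A ⧸ I))
      ((ModuleCat.of A N).smulShortComplex x).X₁ 1) := h
  have h1 : (Ext.mk₀ (ModuleCat.ofHom φ)).comp hS.extClass (zero_add 1) = 0 :=
    Subsingleton.elim _ _
  obtain ⟨y, hy⟩ := Ext.covariant_sequence_exact₃ (ModuleCat.of A (A ⧸ I)) hS
    (Ext.mk₀ (ModuleCat.ofHom φ)) (n₁ := 1) rfl h1
  obtain ⟨ψ, rfl⟩ := (Ext.mk₀_bijective _ _).2 y
  rw [Ext.mk₀_comp_mk₀] at hy
  have hy' := (Ext.mk₀_bijective _ _).1 hy
  let m0 : N := ψ.hom (Submodule.Quotient.mk 1 : A ⧸ I)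
  refine ⟨m0, ?_, ?_⟩
  · intro a ha
    change a • ψ.hom _ = 0
    rw [← map_smul]
    have : a • (Submodule.Quotient.mk 1 : A ⧸ I) = 0 := by
      rw [← Submodule.Quotient.mk_smul, Submodule.Quotient.mk_eq_zero, smul_eq_mul, mul_one]
      exact ha
    rw [this, map_zero]
  · have h2 := congrArg (fun t => t.hom (Submodule.Quotient.mk 1 : A ⧸ I)) hy'
    have h3 : (x • (⊤ : Submodule A N)).mkQ m0 = (x • (⊤ : Submodule A N)).mkQ m := by
      have : φ (Submodule.Quotient.mk 1) = (x • (⊤ : Submodule A N)).mkQ m := by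
        change φ0 1 = _
        simp [φ0]
      rw [← this]
      exact h2
    rw [← Submodule.Quotient.mk_eq_zero, Submodule.Quotient.mk_sub]
    rw [Submodule.mkQ_apply, Submodule.mkQ_apply] at h3
    rw [h3, sub_self]

theorem mem_ofList_cons_smul_top_iff {N : Type u} [AddCommGroup N] [Module A N] (x : A)
    (xs : List A) (n : N) :
    n ∈ Ideal.ofList (x :: xs) • (⊤ : Submodule A N) ↔
      (x • (⊤ : Submodule A N)).mkQ n ∈
        Ideal.ofList xs • (⊤ : Submodule A (QuotSMulTop x N)) := by
  rw [Ideal.ofList_cons_smul]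
  have e : Ideal.ofList xs • (⊤ : Submodule A (QuotSMulTop x N)) =
      Submodule.map (x • (⊤ : Submodule A N)).mkQ (Ideal.ofList xs • ⊤) := by
    rw [Submodule.map_smul'', Submodule.map_top, Submodule.range_mkQ]
  rw [e]
  constructor
  · intro h
    obtain ⟨a, ha, b, hb, rfl⟩ := Submodule.mem_sup.mp h
    refine ⟨b, hb, ?_⟩
    rw [map_add, Submodule.mkQ_apply, Submodule.mkQ_apply,
      (Submodule.Quotient.mk_eq_zero _).mpr ha, zero_add]
  · rintro ⟨b, hb, hbn⟩
    have h1 : n - b ∈ x • (⊤ : Submodule A N) := by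
      rw [← Submodule.Quotient.mk_eq_zero, Submodule.Quotient.mk_sub]
      rw [Submodule.mkQ_apply, Submodule.mkQ_apply] at hbn
      rw [hbn, sub_self]
    have h2 : n = (n - b) + b := by abel
    rw [h2]
    exact Submodule.add_mem_sup h1 hb

theorem exists_tors_sub_mem (xs : List A) : ∀ (N : Type u) [AddCommGroup N] [Module A N],
    IsWeaklyRegular N xs → ExtVanish I N →
    ∀ n : N, (∀ a ∈ I, a • n ∈ Ideal.ofList xs • (⊤ : Submodule A N)) →
      ∃ n0 ∈ tors I N, n - n0 ∈ Ideal.ofList xs • (⊤ : Submodule A N) := by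
  induction xs with
  | nil =>
    intro N _ _ _ _ n hn
    refine ⟨n, ?_, by rw [sub_self]; exact zero_mem _⟩
    intro a ha
    have := hn a ha
    rwa [Ideal.ofList_nil, Submodule.bot_smul, Submodule.mem_bot] at this
  | cons x xs ih =>
    intro N _ _ hreg h n hn
    rw [isWeaklyRegular_cons_iff] at hreg
    obtain ⟨hx, hreg'⟩ := hreg
    have hn' : ∀ a ∈ I, a • (x • (⊤ : Submodule A N)).mkQ n ∈
        Ideal.ofList xs • (⊤ : Submodule A (QuotSMulTop x N)) := by
      intro a ha
      rw [← map_smul, ← mem_ofList_cons_smul_top_iff]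
      exact hn a ha
    obtain ⟨n0', hn0', hsub⟩ := ih (QuotSMulTop x N) hreg' (extVanish_quotSMulTop h x hx) _ hn'
    obtain ⟨m, rfl⟩ := Submodule.mkQ_surjective _ n0'
    have hm : ∀ a ∈ I, a • m ∈ x • (⊤ : Submodule A N) := by
      intro a ha
      have := hn0' a ha
      rw [← map_smul, Submodule.mkQ_apply, Submodule.Quotient.mk_eq_zero] at this
      exact this
    obtain ⟨m0, hm0, hmm0⟩ := exists_lift_tors (h 1 le_rfl) x hx m hm
    refine ⟨m0, hm0, ?_⟩
    have h1 : n - m ∈ Ideal.ofList (x :: xs) • (⊤ : Submodule A N) := by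
      rw [mem_ofList_cons_smul_top_iff, map_sub]
      exact hsub
    have h2 : m - m0 ∈ Ideal.ofList (x :: xs) • (⊤ : Submodule A N) := by
      rw [Ideal.ofList_cons_smul]
      exact Submodule.mem_sup_left hmm0
    have h3 : n - m0 = (n - m) + (m - m0) := by abel
    rw [h3]
    exact add_mem h1 h2

theorem tors_inf_le (xs : List A) : ∀ (N : Type u) [AddCommGroup N] [Module A N],
    IsWeaklyRegular N xs → ExtVanish I N →
    tors I N ⊓ Ideal.ofList xs • (⊤ : Submodule A N) ≤ Ideal.ofList xs • tors I N := by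
  induction xs with
  | nil =>
    intro N _ _ _ _ n hn
    have : n ∈ Ideal.ofList ([] : List A) • (⊤ : Submodule A N) := hn.2
    rw [Ideal.ofList_nil, Submodule.bot_smul, Submodule.mem_bot] at this
    rw [this]
    exact zero_mem _
  | cons x xs ih =>
    intro N _ _ hreg h n hn
    rw [isWeaklyRegular_cons_iff] at hreg
    obtain ⟨hx, hreg'⟩ := hreg
    obtain ⟨hn1, hn2⟩ := hn
    -- `(N/xN)[I] = image of N[I]`
    have hmap : tors I (QuotSMulTop x N) = Submodule.map (x • (⊤ : Submodule A N)).mkQ (tors I N) := by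
      apply le_antisymm
      · intro n0' hn0'
        obtain ⟨m, rfl⟩ := Submodule.mkQ_surjective _ n0'
        have hm : ∀ a ∈ I, a • m ∈ x • (⊤ : Submodule A N) := by
          intro a ha
          have := hn0' a ha
          rw [← map_smul, Submodule.mkQ_apply, Submodule.Quotient.mk_eq_zero] at this
          exact this
        obtain ⟨m0, hm0, hmm0⟩ := exists_lift_tors (h 1 le_rfl) x hx m hm
        refine ⟨m0, hm0, ?_⟩
        rw [Submodule.mkQ_apply, Submodule.mkQ_apply, eq_comm, ← sub_eq_zero,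
          ← Submodule.Quotient.mk_sub, Submodule.Quotient.mk_eq_zero]
        exact hmm0
      · rintro _ ⟨m0, hm0, rfl⟩ a ha
        rw [← map_smul, hm0 a ha, map_zero]
    have h1 : (x • (⊤ : Submodule A N)).mkQ n ∈
        tors I (QuotSMulTop x N) ⊓ Ideal.ofList xs • (⊤ : Submodule A (QuotSMulTop x N)) := by
      refine ⟨?_, (mem_ofList_cons_smul_top_iff x xs n).mp hn2⟩
      intro a ha
      rw [← map_smul, hn1 a ha, map_zero]
    have h2 := ih (QuotSMulTop x N) hreg' (extVanish_quotSMulTop h x hx) h1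
    rw [hmap, ← Submodule.map_smul''] at h2
    obtain ⟨w, hw, hwn⟩ := h2
    have hw' : w ∈ tors I N := Submodule.smul_le_right hw
    have h3 : n - w ∈ x • (⊤ : Submodule A N) := by
      rw [← Submodule.Quotient.mk_eq_zero, Submodule.Quotient.mk_sub]
      rw [Submodule.mkQ_apply, Submodule.mkQ_apply] at hwn
      rw [hwn, sub_self]
    obtain ⟨l, -, hl⟩ := (Submodule.mem_smul_pointwise_iff_exists _ _ _).mp h3
    have hl' : l ∈ tors I N := by
      intro a ha
      apply hx
      change x • a • l = x • 0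
      rw [smul_zero, smul_comm, hl]
      exact (tors I N).sub_mem hn1 hw' a ha
    have h4 : n = x • l + w := by rw [hl]; abel
    rw [h4, Ideal.ofList_cons_smul]
    exact Submodule.add_mem_sup (Submodule.smul_mem_pointwise_smul l x _ hl') hw

end Colon


section Ring

variable {A : Type u} [CommRing A] {I : Ideal A}

theorem tors_self : tors I A = Submodule.annihilator I := by
  ext r
  rw [mem_tors, Submodule.mem_annihilator]
  constructor
  · intro h n hn
    rw [smul_eq_mul, mul_comm]
    exact h n hn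
  · intro h a ha
    rw [smul_eq_mul, mul_comm]
    exact h a ha

/-- **Linkage along a regular sequence**: if `Ext^i_A(A/I, A) = 0` for `i ≥ 1` and `xs` is a weakly
regular sequence on `A` generating `𝔞`, then `(0 : I) + 𝔞 = (𝔞 : I)` and `(0 : I) ∩ 𝔞 = 𝔞 (0 : I)`. -/
theorem annihilator_colon (xs : List A) (hreg : IsWeaklyRegular A xs) (h : ExtVanish I A) :
    Submodule.annihilator I ⊔ Ideal.ofList xs =
        Submodule.colon (Ideal.ofList xs) (I : Set A) ∧
      Submodule.annihilator I ⊓ Ideal.ofList xs = Ideal.ofList xs * Submodule.annihilator I := by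
  have htop : Ideal.ofList xs • (⊤ : Submodule A A) = Ideal.ofList xs := by
    rw [smul_eq_mul, Ideal.mul_top]
  constructor
  · apply le_antisymm
    · apply sup_le
      · intro r hr
        rw [Submodule.mem_colon]
        intro s hs
        rw [(Submodule.mem_annihilator.mp hr) s hs]
        exact zero_mem _
      · intro r hr
        rw [Submodule.mem_colon]
        intro s _
        rw [smul_eq_mul]
        exact Ideal.mul_mem_right _ _ hr
    · intro r hr
      rw [Submodule.mem_colon] at hr
      have h1 : ∀ a ∈ I, a • r ∈ Ideal.ofList xs • (⊤ : Submodule A A) := by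
        intro a ha
        rw [htop, smul_eq_mul, mul_comm]
        exact hr a ha
      obtain ⟨n0, hn0, hsub⟩ := exists_tors_sub_mem xs A hreg h r h1
      rw [htop] at hsub
      rw [tors_self] at hn0
      have : r = n0 + (r - n0) := by abel
      rw [this]
      exact Submodule.add_mem_sup hn0 hsub
  · apply le_antisymm
    · have := tors_inf_le xs A hreg h
      rw [htop, tors_self] at this
      exact this
    · apply le_inf
      · exact Ideal.mul_le_right (I := Ideal.ofList xs) (J := Submodule.annihilator I)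
      · exact Ideal.mul_le_left (I := Ideal.ofList xs) (J := Submodule.annihilator I)

end Ring

section Gorenstein

open Groth.Agent.Lib.Helper4.GorCM

/-- Over a Gorenstein local ring `A`, a f.g. module `M` with `depth M ≥ depth A` has
`Ext^i(M, A) = 0` for `i ≥ 1`. -/
theorem ext_self_subsingleton_of_depth_le (A : Type u) [CommRing A]
    [LocCoh.IsGorensteinLocalRing A] (M : Type u) [AddCommGroup M] [Module A M] [Module.Finite A M]
    (hM : LocCoh.depth A A ≤ LocCoh.depth A M) (i : ℕ) (hi : 1 ≤ i) :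
    Subsingleton (Ext (ModuleCat.of A M) (ModuleCat.of A A) i) := by
  obtain ⟨d, -, hdepth, hinj⟩ := gorenstein_dim A
  rw [hdepth] at hM
  have : Module.Finite A (ModuleCat.of A A) := inferInstanceAs (Module.Finite A A)
  exact ext_subsingleton_of_le_depth (ModuleCat.of A A) d hinj d M hM i (by omega)

/-- the vanishing hypothesis holds for a codimension zero Cohen–Macaulay quotient of a Gorenstein
local ring -/
theorem extVanish_of_gorenstein (A : Type u) [CommRing A] [LocCoh.IsGorensteinLocalRing A]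
    (I : Ideal A) (hI : ringKrullDim (A ⧸ I) = ringKrullDim A)
    [LocCoh.IsCohenMacaulayLocalRing (A ⧸ I)] : ExtVanish I A := by
  intro i hi
  apply ext_self_subsingleton_of_depth_le A (A ⧸ I) _ i hi
  obtain ⟨d, hdim, hdepth, -⟩ := gorenstein_dim A
  have h1 : LocCoh.depth A (A ⧸ I) = LocCoh.depth (A ⧸ I) (A ⧸ I) :=
    (Groth.Agent.Lib.Helper64.DepthQuot.depth_quotient A I).symm
  have h2 := LocCoh.IsCohenMacaulayLocalRing.supportDim_eq_depth (R := A ⧸ I)
  rw [Module.supportDim_self_eq_ringKrullDim, hI, hdim] at h2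
  rw [h1, hdepth]
  have h3 : ((d : ℕ∞) : WithBot ℕ∞) = ((LocCoh.depth (A ⧸ I) (A ⧸ I) : ℕ∞) : WithBot ℕ∞) := h2
  exact le_of_eq (WithBot.coe_injective h3)

end Gorenstein

section Flat

variable {R A : Type u} [CommRing R] [CommRing A] [Algebra R A]

/-- `Tor_1^R(R/m, A/J) = 0` (in the form `m ⊗ A/J → A/J` injective) when `A` is `R`-flat and
`J ∩ mA = mJ`. -/
theorem rTensor_quot_injective [Module.Flat R A] (m : Ideal R) (J : Ideal A)
    (h : J ⊓ m.map (algebraMap R A) ≤ m.map (algebraMap R A) * J) :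
    Function.Injective (LinearMap.rTensor (A ⧸ J) (Submodule.subtype m)) := by
  let ι : m →ₗ[R] R := Submodule.subtype m
  let q : A →ₗ[R] A ⧸ J := (Ideal.Quotient.mkₐ R J).toLinearMap
  let JR : Submodule R A := J.restrictScalars R
  let Jι : JR →ₗ[R] A := JR.subtype
  have hq : Function.Surjective q := Ideal.Quotient.mk_surjective
  have hqJ : q ∘ₗ Jι = 0 := by
    ext j
    exact Ideal.Quotient.eq_zero_iff_mem.mpr j.2
  have hιA : Function.Injective (ι.rTensor A) :=
    Module.Flat.rTensor_preserves_injective_linearMap ι (Submodule.subtype_injective m)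
  let μ : m ⊗[R] A →ₗ[R] A := (TensorProduct.lid R A).toLinearMap ∘ₗ ι.rTensor A
  have hμinj : Function.Injective μ := (TensorProduct.lid R A).injective.comp hιA
  have hμ : ∀ (r : m) (a : A), μ (r ⊗ₜ a) = (r : R) • a := fun r a => by simp [μ, ι]
  have hμmap : ∀ w, μ w ∈ m.map (algebraMap R A) := by
    intro w
    induction w using TensorProduct.induction_on with
    | zero => rw [map_zero]; exact zero_mem _
    | tmul r a =>
      rw [hμ, Algebra.smul_def]
      exact Ideal.mul_mem_right _ _ (Ideal.mem_map_of_mem _ r.2)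
    | add x y hx hy => rw [map_add]; exact add_mem hx hy
  have hμq : ∀ w, q (μ w) = (TensorProduct.lid R (A ⧸ J)) (ι.rTensor (A ⧸ J) (q.lTensor m w)) := by
    intro w
    induction w using TensorProduct.induction_on with
    | zero => simp
    | tmul r a => simp [μ, ι]
    | add x y hx hy => simp only [map_add, hx, hy]
  let Φ : m ⊗[R] JR →ₗ[R] A := μ ∘ₗ Jι.lTensor m
  have hP : ∀ x ∈ Ideal.map (algebraMap R A) m, ∀ j ∈ J, x * j ∈ LinearMap.range Φ := by
    intro x hx
    refine Submodule.span_induction ?_ ?_ ?_ ?_ hx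
    · rintro _ ⟨r, hr, rfl⟩ j hj
      refine ⟨(⟨r, hr⟩ : m) ⊗ₜ (⟨j, hj⟩ : JR), ?_⟩
      simp only [Φ, LinearMap.comp_apply, LinearMap.lTensor_tmul]
      rw [hμ, Algebra.smul_def]
      rfl
    · intro j _; rw [zero_mul]; exact zero_mem _
    · intro x y _ _ hx hy j hj; rw [add_mul]; exact add_mem (hx j hj) (hy j hj)
    · intro b x _ hx j hj
      have := hx (b * j) (J.mul_mem_left b hj)
      rw [smul_eq_mul]
      convert this using 1
      ring
  have hΦ : ∀ a ∈ m.map (algebraMap R A) * J, a ∈ LinearMap.range Φ := by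
    intro a ha
    exact Submodule.mul_induction_on ha (fun x hx j hj => hP x hx j hj)
      (fun x y hx hy => add_mem hx hy)
  rw [injective_iff_map_eq_zero]
  intro z hz
  obtain ⟨w, rfl⟩ := LinearMap.lTensor_surjective m hq z
  have h1 : q (μ w) = 0 := by rw [hμq, hz, map_zero]
  have h2 : μ w ∈ J := Ideal.Quotient.eq_zero_iff_mem.mp h1
  obtain ⟨w', hw'⟩ := hΦ _ (h ⟨h2, hμmap w⟩)
  have h3 : w = Jι.lTensor m w' := (hμinj hw').symm
  rw [h3, ← LinearMap.comp_apply, ← LinearMap.lTensor_comp, hqJ, LinearMap.lTensor_zero,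
    LinearMap.zero_apply]

end Flat


end Groth.Agent.Lib.Helper24.Linkage
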