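import Mathlib
import Groth.Prelude.Def_CAlg
import Groth.Agent.Lib.Helper24.Linkage
import Groth.Agent.Lib.Helper67.CM
import Groth.Agent.Lib.Helper56.CMRing

/-!
# Linkage II: direct linkage preserves Cohen–Macaulayness (helper24)

* `isWeaklyRegular_quot_annihilator`: if `Ext^i(A/I, A) = 0` (`i ≥ 1`), an `A`-weakly-regular
  sequence stays weakly regular on `A/(0:I)`.
* `isCM_quot_annihilator` (Peskine–Szpiro): `B` Gorenstein local, `B/I` CM of dimension `dim B`
  implies `B/(0:I)` CM.
* `ringKrullDim_quot_annihilator_eq`: in a CM local ring a proper annihilator ideal has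
  codimension `0`.
* `annihilator_map_eq`: annihilators of f.g. ideals commute with localization.
* `locQuotEquiv`: `(A/K)_q ≃ A_Q / K A_Q`.
* `isCMRing_quot_of_linked`, `isCMRing_of_linked_colon`: linked ideals in a Gorenstein ring:
  `A/I` CM ring implies `A/J` CM ring.
-/

universe u
set_option autoImplicit false
open CategoryTheory CategoryTheory.Abelian LocCoh IsLocalRing RingTheory.Sequence
open scoped Pointwise

namespace Groth.Agent.Lib.Helper24.Linkage2

open Groth.Agent.Lib.Helper24.Linkage Groth.Agent.Lib.Helper67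

section WR
variable {A : Type u} [CommRing A] {I : Ideal A}

theorem mk_mem_smul_top_iff (J 𝔞 : Ideal A) (b : A) :
    (Submodule.Quotient.mk b : A ⧸ J) ∈ 𝔞 • (⊤ : Submodule A (A ⧸ J)) ↔ b ∈ 𝔞 ⊔ J := by
  have e : 𝔞 • (⊤ : Submodule A (A ⧸ J)) = Submodule.map (Submodule.mkQ J) 𝔞 := by
    have h1 : (𝔞 : Submodule A A) = 𝔞 • (⊤ : Submodule A A) := by
      rw [smul_eq_mul, Ideal.mul_top]
    conv_rhs => rw [h1]
    rw [Submodule.map_smul'', Submodule.map_top, Submodule.range_mkQ]
  rw [e]
  constructor
  · rintro ⟨c, hc, hcb⟩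
    have h1 : b - c ∈ J := by
      rw [← Submodule.Quotient.mk_eq_zero, Submodule.Quotient.mk_sub]
      rw [Submodule.mkQ_apply] at hcb
      rw [hcb, sub_self]
    have h2 : b = c + (b - c) := by abel
    rw [h2]
    exact Submodule.add_mem_sup hc h1
  · intro hb
    obtain ⟨c, hc, j, hj, rfl⟩ := Submodule.mem_sup.mp hb
    refine ⟨c, hc, ?_⟩
    rw [Submodule.mkQ_apply, Submodule.Quotient.mk_add, (Submodule.Quotient.mk_eq_zero J).mpr hj,
      add_zero]

/-- a weakly regular sequence on `A` remains weakly regular on `A/(0:I)` when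
`Ext^i(A/I, A) = 0` for `i ≥ 1`. -/
theorem isWeaklyRegular_quot_annihilator (h : ExtVanish I A) (xs : List A)
    (hreg : IsWeaklyRegular A xs) :
    IsWeaklyRegular (A ⧸ (Submodule.annihilator I : Ideal A)) xs := by
  refine ⟨fun i hi => ?_⟩
  have htake : IsWeaklyRegular A (xs.take i) := isWeaklyRegular_take hreg i
  have hcol := (annihilator_colon (xs.take i) htake h).1
  have hx := hreg.regular_mod_prev i hi
  rw [isSMulRegular_iff_right_eq_zero_of_smul]
  intro z hz
  obtain ⟨z', rfl⟩ := Submodule.Quotient.mk_surjective _ z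
  obtain ⟨a, rfl⟩ := Submodule.Quotient.mk_surjective _ z'
  rw [← Submodule.Quotient.mk_smul, Submodule.Quotient.mk_eq_zero, ← Submodule.Quotient.mk_smul,
    mk_mem_smul_top_iff, sup_comm, hcol, Submodule.mem_colon] at hz
  rw [Submodule.Quotient.mk_eq_zero, mk_mem_smul_top_iff, sup_comm, hcol, Submodule.mem_colon]
  intro s hs
  have h1 := hz s hs
  have htop : Ideal.ofList (xs.take i) • (⊤ : Submodule A A) = Ideal.ofList (xs.take i) := by
    rw [smul_eq_mul, Ideal.mul_top]
  have h2 : xs[i] • (Submodule.Quotient.mk (a • s) :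
      A ⧸ (Ideal.ofList (xs.take i) • ⊤ : Submodule A A)) = 0 := by
    rw [← Submodule.Quotient.mk_smul, Submodule.Quotient.mk_eq_zero, htop]
    convert h1 using 1
    simp only [smul_eq_mul]
    ring
  have h3 := (isSMulRegular_iff_right_eq_zero_of_smul.mp hx) _ h2
  rw [Submodule.Quotient.mk_eq_zero, htop] at h3
  exact h3

end WR


section LT

/-- **Peskine–Szpiro**: over a Gorenstein local ring `B`, if `B/I` is Cohen–Macaulay of the same
dimension as `B` then so is `B/(0:I)` (when nonzero). -/
theorem isCM_quot_annihilator (B : Type u) [CommRing B] [LocCoh.IsGorensteinLocalRing B]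
    (I : Ideal B) (hI : ringKrullDim (B ⧸ I) = ringKrullDim B)
    [LocCoh.IsCohenMacaulayLocalRing (B ⧸ I)]
    (hJ : (Submodule.annihilator I : Ideal B) ≠ ⊤) :
    LocCoh.IsCohenMacaulayLocalRing (B ⧸ (Submodule.annihilator I : Ideal B)) := by
  have hnt : Nontrivial (B ⧸ (Submodule.annihilator I : Ideal B)) :=
    Ideal.Quotient.nontrivial_iff.mpr hJ
  have hloc : IsLocalRing (B ⧸ (Submodule.annihilator I : Ideal B)) :=
    IsLocalRing.of_surjective' (Ideal.Quotient.mk _) Ideal.Quotient.mk_surjective
  obtain ⟨d, hdim, hdepth, -⟩ := Groth.Agent.Lib.Helper4.GorCM.gorenstein_dim B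
  obtain ⟨xs, hlen, hreg, hmem⟩ := exists_isRegular_of_le_depth (R := B) B d (le_of_eq hdepth.symm)
  have hwr := isWeaklyRegular_quot_annihilator (extVanish_of_gorenstein B I hI) xs
    hreg.toIsWeaklyRegular
  have h1 : (d : ℕ∞) ≤ LocCoh.depth B (B ⧸ (Submodule.annihilator I : Ideal B)) := by
    rw [← hlen]
    exact length_le_idealDepth (maximalIdeal B) _ xs hwr hmem
  rw [← Groth.Agent.Lib.Helper64.DepthQuot.depth_quotient B _] at h1
  have h2 : ringKrullDim (B ⧸ (Submodule.annihilator I : Ideal B)) ≤ d := by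
    rw [← hdim]
    exact ringKrullDim_le_of_surjective (Ideal.Quotient.mk _) Ideal.Quotient.mk_surjective
  have h3 := depth_le_supportDim (R := B ⧸ (Submodule.annihilator I : Ideal B))
    (B ⧸ (Submodule.annihilator I : Ideal B))
  rw [Module.supportDim_self_eq_ringKrullDim] at h3
  refine { supportDim_eq_depth := ?_ }
  rw [Module.supportDim_self_eq_ringKrullDim]
  apply le_antisymm
  · refine h2.trans ?_
    exact_mod_cast h1
  · exact h3

end LT


section Dim

/-- in a Cohen–Macaulay local ring, a proper annihilator ideal has codimension zero -/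
theorem ringKrullDim_quot_annihilator_eq (B : Type u) [CommRing B]
    [LocCoh.IsCohenMacaulayLocalRing B] (J : Ideal B)
    (hI : (Submodule.annihilator J : Ideal B) ≠ ⊤) :
    ringKrullDim (B ⧸ (Submodule.annihilator J : Ideal B)) = ringKrullDim B := by
  apply le_antisymm
  · exact ringKrullDim_le_of_surjective (Ideal.Quotient.mk _) Ideal.Quotient.mk_surjective
  have hJ0 : J ≠ ⊥ := by
    rintro rfl
    exact hI (Submodule.annihilator_bot)
  obtain ⟨j, hj, hj0⟩ := Submodule.exists_mem_ne_zero_of_ne_bot hJ0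
  have hnr : ∀ r ∈ (Submodule.annihilator J : Ideal B), ¬ IsSMulRegular B r := by
    intro r hr hreg
    have h1 : r • j = 0 := Submodule.mem_annihilator.mp hr j hj
    exact hj0 (hreg (show r • j = r • 0 by rw [h1, smul_zero]))
  obtain ⟨Q, hQ, hle⟩ := (forall_not_isSMulRegular_iff _ B).mp hnr
  have h1 := depth_le_ringKrullDim_quotient_of_mem_associatedPrimes (R := B) B hQ
  have h2 := LocCoh.IsCohenMacaulayLocalRing.supportDim_eq_depth (R := B)
  rw [Module.supportDim_self_eq_ringKrullDim] at h2
  rw [h2]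
  refine h1.trans ?_
  exact ringKrullDim_le_of_surjective (Ideal.Quotient.factor hle)
    (Ideal.Quotient.factor_surjective hle)

end Dim


section LocAnn

variable {A : Type u} [CommRing A] (M : Submonoid A) (S : Type u) [CommRing S] [Algebra A S]
  [IsLocalization M S]

include M in
theorem annihilator_map_eq (I : Ideal A) (hI : I.FG) :
    (Submodule.annihilator (I.map (algebraMap A S)) : Ideal S) =
      (Submodule.annihilator I : Ideal A).map (algebraMap A S) := by
  classical
  apply le_antisymm
  · intro y hy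
    obtain ⟨T, rfl⟩ := hI
    obtain ⟨b, s, rfl⟩ := IsLocalization.exists_mk'_eq M y
    have hb : ∀ a ∈ T, ∃ t : M, (t : A) * (b * a) = 0 := by
      intro a ha
      have h1 : IsLocalization.mk' S b s * algebraMap A S a = 0 := by
        have := Submodule.mem_annihilator.mp hy (algebraMap A S a)
          (Ideal.mem_map_of_mem _ (Ideal.subset_span ha))
        simpa [smul_eq_mul] using this
      have h2 : algebraMap A S (b * a) = 0 := by
        rw [map_mul, ← IsLocalization.mk'_spec' S b s, mul_assoc, h1, mul_zero]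
      exact (IsLocalization.map_eq_zero_iff M S _).mp h2
    choose! t ht using hb
    let tt : M := ∏ a ∈ T, t a
    have htt : ∀ a ∈ T, (tt : A) * b * a = 0 := by
      intro a ha
      have h1 : (tt : A) = (∏ a' ∈ T.erase a, (t a' : A)) * (t a : A) := by
        simp only [tt, Submonoid.coe_finsetProd]
        rw [Finset.prod_erase_mul _ _ ha]
      rw [h1, mul_assoc, mul_assoc, ht a ha, mul_zero]
    have hmem : (tt : A) * b ∈ (Submodule.annihilator (Ideal.span (T : Set A)) : Ideal A) := by
      rw [Submodule.mem_annihilator_span]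
      rintro ⟨a, ha⟩
      simpa [smul_eq_mul] using htt a ha
    have h3 : IsLocalization.mk' S b s =
        algebraMap A S ((tt : A) * b) * IsLocalization.mk' S 1 (tt * s) := by
      rw [← IsLocalization.mk'_eq_mul_mk'_one, IsLocalization.mk'_eq_iff_eq]
      congr 1
      simp only [Submonoid.coe_mul]
      ring
    rw [h3]
    exact Ideal.mul_mem_right _ _ (Ideal.mem_map_of_mem _ hmem)
  · rw [Ideal.map_le_iff_le_comap]
    intro r hr
    rw [Ideal.mem_comap, Ideal.map, Submodule.mem_annihilator_span]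
    rintro ⟨_, a, ha, rfl⟩
    have := Submodule.mem_annihilator.mp hr a ha
    rw [smul_eq_mul] at this ⊢
    change algebraMap A S r * algebraMap A S a = 0
    rw [← map_mul, this, map_zero]

end LocAnn

section LocQuot

variable (A : Type u) [CommRing A]

theorem algebraMapSubmonoid_primeCompl_eq (K : Ideal A) (Q : Ideal A) [Q.IsPrime]
    (q : Ideal (A ⧸ K)) [q.IsPrime] (hq : q.comap (Ideal.Quotient.mk K) = Q) :
    Algebra.algebraMapSubmonoid (A ⧸ K) Q.primeCompl = q.primeCompl := by
  ext x
  constructor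
  · rintro ⟨a, ha, rfl⟩
    intro hx
    apply ha
    rw [← hq]
    exact hx
  · intro hx
    obtain ⟨a, rfl⟩ := Ideal.Quotient.mk_surjective x
    refine ⟨a, ?_, rfl⟩
    intro ha
    apply hx
    rw [← hq] at ha
    exact ha

/-- the localization of a quotient is the quotient of the localization -/
noncomputable def locQuotEquiv (K : Ideal A) (Q : Ideal A) [Q.IsPrime]
    (q : Ideal (A ⧸ K)) [q.IsPrime] (hq : q.comap (Ideal.Quotient.mk K) = Q) :
    Localization.AtPrime q ≃+*
      (Localization.AtPrime Q ⧸ K.map (algebraMap A (Localization.AtPrime Q))) := by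
  have h1 : IsLocalization (Algebra.algebraMapSubmonoid (A ⧸ K) Q.primeCompl)
      (Localization.AtPrime Q ⧸ K.map (algebraMap A (Localization.AtPrime Q))) := inferInstance
  rw [algebraMapSubmonoid_primeCompl_eq A K Q q hq] at h1
  exact (IsLocalization.algEquiv q.primeCompl (Localization.AtPrime q)
    (Localization.AtPrime Q ⧸ K.map (algebraMap A (Localization.AtPrime Q)))).toRingEquiv

end LocQuot


section Global

/-- **CM-ness is preserved under direct linkage** in a Gorenstein ring. -/
theorem isCMRing_quot_of_linked (A : Type u) [CommRing A] [hG : LocCoh.IsGorensteinRing A]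
    (I J : Ideal A)
    (hIJ : (Submodule.annihilator I : Ideal A) = J) (hJI : (Submodule.annihilator J : Ideal A) = I)
    (hCM : LocCoh.IsCohenMacaulayRing (A ⧸ I)) : LocCoh.IsCohenMacaulayRing (A ⧸ J) := by
  refine { isCohenMacaulayLocalRing_localization := ?_ }
  intro q _
  let Q : Ideal A := q.comap (Ideal.Quotient.mk J)
  have hQprime : Q.IsPrime := Ideal.comap_isPrime _ _
  have hJQ : J ≤ Q := by
    intro x hx
    change Ideal.Quotient.mk J x ∈ q
    rw [Ideal.Quotient.eq_zero_iff_mem.mpr hx]
    exact zero_mem _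
  let B := Localization.AtPrime Q
  have hGB : LocCoh.IsGorensteinLocalRing B := hG.isGorensteinLocalRing_localization Q
  have hCMB : LocCoh.IsCohenMacaulayLocalRing B :=
    Groth.Agent.Lib.Helper4.GorCM.isCohenMacaulayLocalRing_of_gorenstein B
  let e := locQuotEquiv A J Q q rfl
  -- annihilators localize
  have hannI : (Submodule.annihilator (I.map (algebraMap A B)) : Ideal B) = J.map (algebraMap A B) := by
    rw [annihilator_map_eq Q.primeCompl B I (IsNoetherian.noetherian I), hIJ]
  have hannJ : (Submodule.annihilator (J.map (algebraMap A B)) : Ideal B) = I.map (algebraMap A B) := by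
    rw [annihilator_map_eq Q.primeCompl B J (IsNoetherian.noetherian J), hJI]
  -- the target is nontrivial
  have hJtop : J.map (algebraMap A B) ≠ ⊤ := by
    intro h
    have h1 : Subsingleton (B ⧸ J.map (algebraMap A B)) := by
      rw [h]; exact Ideal.Quotient.subsingleton_iff.mpr rfl
    have h2 : Subsingleton (Localization.AtPrime q) := e.toEquiv.subsingleton
    exact not_subsingleton _ h2
  suffices h : LocCoh.IsCohenMacaulayLocalRing (B ⧸ J.map (algebraMap A B)) from
    Groth.Agent.Lib.Helper56.isCohenMacaulayLocalRing_of_ringEquiv e.symm h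
  by_cases hIQ : I ≤ Q
  · -- `I ⊆ Q`
    have hqI : (Q.map (Ideal.Quotient.mk I)).IsPrime :=
      Ideal.isPrime_map_quotientMk_of_isPrime hIQ
    have hcomap : (Q.map (Ideal.Quotient.mk I)).comap (Ideal.Quotient.mk I) = Q := by
      rw [Ideal.comap_map_of_surjective _ Ideal.Quotient.mk_surjective, ← RingHom.ker_eq_comap_bot,
        Ideal.mk_ker, sup_eq_left.mpr hIQ]
    let eI := locQuotEquiv A I Q (Q.map (Ideal.Quotient.mk I)) hcomap
    have hCMI : LocCoh.IsCohenMacaulayLocalRing (B ⧸ I.map (algebraMap A B)) :=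
      Groth.Agent.Lib.Helper56.isCohenMacaulayLocalRing_of_ringEquiv eI
        (hCM.isCohenMacaulayLocalRing_localization _)
    have hItop : I.map (algebraMap A B) ≠ ⊤ := by
      intro h
      have h1 : Subsingleton (B ⧸ I.map (algebraMap A B)) := by
        rw [h]; exact Ideal.Quotient.subsingleton_iff.mpr rfl
      have : IsLocalRing (B ⧸ I.map (algebraMap A B)) := hCMI.toIsLocalRing
      exact not_subsingleton _ h1
    have hdim : ringKrullDim (B ⧸ I.map (algebraMap A B)) = ringKrullDim B := by
      have := ringKrullDim_quot_annihilator_eq B (J.map (algebraMap A B)) (by rw [hannJ]; exact hItop)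
      rw [hannJ] at this
      exact this
    have := isCM_quot_annihilator B (I.map (algebraMap A B)) hdim (by rw [hannI]; exact hJtop)
    rw [hannI] at this
    exact this
  · -- `I ⊄ Q`
    obtain ⟨a, haI, haQ⟩ := Set.not_subset.mp hIQ
    have hItop : I.map (algebraMap A B) = ⊤ := by
      apply Ideal.eq_top_of_isUnit_mem _ (Ideal.mem_map_of_mem _ haI)
      exact IsLocalization.map_units B (⟨a, haQ⟩ : Q.primeCompl)
    have hJbot : J.map (algebraMap A B) = ⊥ := by
      rw [← hannI, hItop, eq_bot_iff]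
      intro x hx
      have := Submodule.mem_annihilator.mp hx 1 trivial
      simpa using this
    rw [hJbot]
    exact Groth.Agent.Lib.Helper56.isCohenMacaulayLocalRing_of_ringEquiv
      (RingEquiv.quotientBot B).symm hCMB

end Global


section Colon

variable {R : Type u} [CommRing R]

theorem annihilator_map_mk_eq (𝔠 I J : Ideal R) (hIJ : 𝔠.colon (I : Set R) = J) :
    (Submodule.annihilator (I.map (Ideal.Quotient.mk 𝔠)) : Ideal (R ⧸ 𝔠)) =
      J.map (Ideal.Quotient.mk 𝔠) := by
  apply le_antisymm
  · intro x hx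
    obtain ⟨x, rfl⟩ := Ideal.Quotient.mk_surjective x
    apply Ideal.mem_map_of_mem
    rw [← hIJ, Submodule.mem_colon]
    intro i hi
    have := Submodule.mem_annihilator.mp hx _ (Ideal.mem_map_of_mem (Ideal.Quotient.mk 𝔠) hi)
    rw [smul_eq_mul, ← map_mul, Ideal.Quotient.eq_zero_iff_mem] at this
    exact this
  · intro y hy
    obtain ⟨j, hj, rfl⟩ := (Ideal.mem_map_iff_of_surjective _ Ideal.Quotient.mk_surjective).mp hy
    rw [Submodule.mem_annihilator]
    intro z hz
    obtain ⟨i, hi, rfl⟩ := (Ideal.mem_map_iff_of_surjective _ Ideal.Quotient.mk_surjective).mp hz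
    rw [smul_eq_mul, ← map_mul, Ideal.Quotient.eq_zero_iff_mem]
    rw [← hIJ, Submodule.mem_colon] at hj
    exact hj i hi

theorem le_colon_self (𝔠 J : Ideal R) : 𝔠 ≤ 𝔠.colon (J : Set R) := by
  intro r hr
  rw [Submodule.mem_colon]
  intro s _
  rw [smul_eq_mul]
  exact Ideal.mul_mem_right _ _ hr

/-- **Direct linkage preserves the Cohen–Macaulay property.** -/
theorem isCMRing_of_linked_colon (𝔠 I J : Ideal R) [LocCoh.IsGorensteinRing (R ⧸ 𝔠)]
    (hIJ : 𝔠.colon (I : Set R) = J) (hJI : 𝔠.colon (J : Set R) = I)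
    (hCM : LocCoh.IsCohenMacaulayRing (R ⧸ I)) : LocCoh.IsCohenMacaulayRing (R ⧸ J) := by
  have h𝔠I : 𝔠 ≤ I := hJI ▸ le_colon_self 𝔠 J
  have h𝔠J : 𝔠 ≤ J := hIJ ▸ le_colon_self 𝔠 I
  have h1 := annihilator_map_mk_eq 𝔠 I J hIJ
  have h2 := annihilator_map_mk_eq 𝔠 J I hJI
  have hCM' : LocCoh.IsCohenMacaulayRing ((R ⧸ 𝔠) ⧸ I.map (Ideal.Quotient.mk 𝔠)) :=
    Groth.Agent.Lib.Helper56.isCohenMacaulayRing_of_ringEquiv
      (DoubleQuot.quotQuotEquivQuotOfLE h𝔠I).symm hCM
  have h3 := isCMRing_quot_of_linked (R ⧸ 𝔠) _ _ h1 h2 hCM'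
  exact Groth.Agent.Lib.Helper56.isCohenMacaulayRing_of_ringEquiv
    (DoubleQuot.quotQuotEquivQuotOfLE h𝔠J) h3

end Colon


end Groth.Agent.Lib.Helper24.Linkage2
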