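import Mathlib
import Groth.Agent.S2015
import Groth.Agent.S7123

/-!
# RD-projectivity of finitely presented modules over locally-chain rings (Warfield)

* `lift_of_equiv_pi` : a finite product of cyclic modules `R/f_i` lifts against RD-pure surjections.
* `rdPure_localized` : RD-purity localizes.
* `exists_lift_of_locally_chain` : if all localizations of `R` at maximal ideals are chain rings
  (`a ∣ b ∨ b ∣ a`), every finitely presented module lifts against RD-pure surjections.
* `finite_retract` : a finite module which is a retract of a direct sum of cyclic modules is a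
  retract of a finite subsum.
* `prodEquivOfRetract` : retract ⇒ product decomposition.
-/

set_option autoImplicit false
set_option linter.style.haveILetI false
universe u

namespace Groth.Agent.Lib.Helper24.RDProj

open DirectSum

variable {R : Type u} [CommRing R]

/-- `π` is RD-pure: `f B ∩ ker π = f ker π` for all `f`. -/
def RDPure {B C : Type u} [AddCommGroup B] [Module R B] [AddCommGroup C] [Module R C]
    (π : B →ₗ[R] C) : Prop :=
  ∀ (f : R) (b : B), π (f • b) = 0 → ∃ a : B, π a = 0 ∧ f • a = f • b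

theorem lift_of_equiv_pi {P : Type u} [AddCommGroup P] [Module R P] {n : ℕ} (f : Fin n → R)
    (e : P ≃ₗ[R] ((i : Fin n) → R ⧸ Ideal.span {f i}))
    {B C : Type u} [AddCommGroup B] [Module R B] [AddCommGroup C] [Module R C] (π : B →ₗ[R] C)
    (hπ : Function.Surjective π) (hRD : RDPure π) (ψ : P →ₗ[R] C) :
    ∃ φ : P →ₗ[R] B, π ∘ₗ φ = ψ := by
  classical
  -- the generators
  let x : Fin n → P := fun i => e.symm (Pi.single i 1)
  have hx : ∀ i, f i • x i = 0 := by
    intro i
    show f i • e.symm (Pi.single i 1) = 0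
    rw [← map_smul, ← Pi.single_smul]
    have : f i • (1 : R ⧸ Ideal.span {f i}) = 0 := by
      rw [Algebra.smul_def, mul_one]
      exact Ideal.Quotient.eq_zero_iff_mem.mpr (Ideal.mem_span_singleton_self _)
    rw [this, Pi.single_zero, map_zero]
  have hb : ∀ i, ∃ b : B, π b = ψ (x i) ∧ f i • b = 0 := by
    intro i
    obtain ⟨b, hb⟩ := hπ (ψ (x i))
    have h0 : π (f i • b) = 0 := by rw [map_smul, hb, ← map_smul, hx, map_zero]
    obtain ⟨a, ha, hab⟩ := hRD (f i) b h0
    exact ⟨b - a, by rw [map_sub, ha, sub_zero, hb], by rw [smul_sub, hab, sub_self]⟩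
  choose b hb1 hb2 using hb
  let Φ : ((i : Fin n) → R ⧸ Ideal.span {f i}) →ₗ[R] B :=
    ∑ i, (Groth.Agent.S7123.cyc (f i) (b i) (hb2 i)) ∘ₗ LinearMap.proj i
  have key : π ∘ₗ Φ = ψ ∘ₗ e.symm.toLinearMap := by
    refine LinearMap.pi_ext' fun i => ?_
    refine Submodule.linearMap_qext _ ?_
    refine LinearMap.ext_ring ?_
    simp only [LinearMap.comp_apply, Submodule.mkQ_apply, LinearMap.coe_single,
      LinearEquiv.coe_coe]
    have h1 : Φ (Pi.single i (Submodule.Quotient.mk 1)) = b i := by
      simp only [Φ, LinearMap.sum_apply, LinearMap.comp_apply, LinearMap.proj_apply]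
      rw [Finset.sum_eq_single i]
      · rw [Pi.single_eq_same, Groth.Agent.S7123.cyc_mk, one_smul]
      · intro j _ hj
        rw [Pi.single_eq_of_ne hj, map_zero]
      · intro h; exact absurd (Finset.mem_univ _) h
    rw [h1, hb1]
    rfl
  refine ⟨Φ ∘ₗ e.toLinearMap, ?_⟩
  rw [← LinearMap.comp_assoc, key, LinearMap.comp_assoc]
  ext z
  simp

theorem rdPure_localized (S : Submonoid R)
    {B C : Type u} [AddCommGroup B] [Module R B] [AddCommGroup C] [Module R C] (π : B →ₗ[R] C)
    (hRD : RDPure π) : RDPure (LocalizedModule.map S π) := by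
  intro f' b' h
  induction f' using Localization.induction_on with
  | H fs =>
    obtain ⟨f, s⟩ := fs
    induction b' using LocalizedModule.induction_on with
    | h b t =>
      rw [LocalizedModule.mk_smul_mk, LocalizedModule.map_mk] at h
      rw [← LocalizedModule.zero_mk (s * t), LocalizedModule.mk_eq] at h
      obtain ⟨u, hu⟩ := h
      simp only [smul_zero] at hu
      -- hu : u • (s*t) • π (f • b) = 0
      have h1 : π (f • ((u : R) • ((s * t : S) : R) • b)) = 0 := by
        rw [smul_comm, map_smul, smul_comm, map_smul]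
        exact hu
      obtain ⟨a, ha, hab⟩ := hRD f _ h1
      refine ⟨LocalizedModule.mk a (u * (s * t) * t), ?_, ?_⟩
      · rw [LocalizedModule.map_mk, ha, LocalizedModule.zero_mk]
      · rw [LocalizedModule.mk_smul_mk, LocalizedModule.mk_smul_mk, hab, LocalizedModule.mk_eq]
        refine ⟨1, ?_⟩
        simp only [one_smul, Submonoid.smul_def, Submonoid.coe_mul, smul_smul]
        congr 1
        ring

theorem exists_lift_of_locally_chain
    (h : ∀ (m : Ideal R) [m.IsMaximal], ∀ a b : Localization.AtPrime m, a ∣ b ∨ b ∣ a)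
    (M : Type u) [AddCommGroup M] [Module R M] [Module.FinitePresentation R M]
    {B C : Type u} [AddCommGroup B] [Module R B] [AddCommGroup C] [Module R C] (π : B →ₗ[R] C)
    (hπ : Function.Surjective π) (hRD : RDPure π) (ψ : M →ₗ[R] C) :
    ∃ φ : M →ₗ[R] B, π ∘ₗ φ = ψ := by
  classical
  let J : Ideal R :=
    { carrier := {r | ∃ φ : M →ₗ[R] B, π ∘ₗ φ = r • ψ}
      add_mem' := by
        rintro r₁ r₂ ⟨φ₁, h₁⟩ ⟨φ₂, h₂⟩
        exact ⟨φ₁ + φ₂, by rw [LinearMap.comp_add, h₁, h₂, add_smul]⟩
      zero_mem' := ⟨0, by rw [LinearMap.comp_zero, zero_smul]⟩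
      smul_mem' := by
        rintro c r ⟨φ, h₁⟩
        exact ⟨c • φ, by rw [LinearMap.comp_smul, h₁, smul_eq_mul, mul_smul]⟩ }
  suffices hJ : J = ⊤ by
    have : (1 : R) ∈ J := hJ ▸ Submodule.mem_top
    obtain ⟨φ, hφ⟩ := this
    exact ⟨φ, by rw [hφ, one_smul]⟩
  by_contra hJ
  obtain ⟨m, hm, hJm⟩ := Ideal.exists_le_maximal J hJ
  haveI := hm
  let S := m.primeCompl
  -- local decomposition
  obtain ⟨n, f, ⟨e⟩⟩ := Groth.Agent.S2015.result (Localization.AtPrime m) (h m)
    (LocalizedModule S M)
  obtain ⟨φ', hφ'⟩ := lift_of_equiv_pi f e (LocalizedModule.map S π)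
    (LocalizedModule.map_surjective S π hπ) (rdPure_localized S π hRD) (LocalizedModule.map S ψ)
  let g : M →ₗ[R] LocalizedModule S B :=
    (φ'.restrictScalars R) ∘ₗ LocalizedModule.mkLinearMap S M
  obtain ⟨h₀, s, hs⟩ := Module.FinitePresentation.exists_lift_of_isLocalizedModule S
    (LocalizedModule.mkLinearMap S B) g
  have hcomp : (LocalizedModule.mkLinearMap S C) ∘ₗ (π ∘ₗ h₀) =
      (LocalizedModule.mkLinearMap S C) ∘ₗ ((s : R) • ψ) := by
    ext x
    have h1 := LinearMap.congr_fun hs x
    have h2 := LinearMap.congr_fun hφ' (LocalizedModule.mkLinearMap S M x)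
    simp only [LinearMap.comp_apply, LocalizedModule.mkLinearMap_apply, LinearMap.smul_apply,
      LinearMap.coe_restrictScalars, g] at h1 h2 ⊢
    rw [← LocalizedModule.map_mk S π, h1, Submonoid.smul_def, LinearMap.map_smul_of_tower, h2,
      LocalizedModule.map_mk, LocalizedModule.smul'_mk]
  obtain ⟨t, ht⟩ := Module.Finite.exists_smul_of_comp_eq_of_isLocalizedModule S
    (LocalizedModule.mkLinearMap S C) _ _ hcomp
  have hmem : ((t * s : S) : R) ∈ J := by
    refine ⟨(t : R) • h₀, ?_⟩
    rw [LinearMap.comp_smul]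
    have : (t : R) • (π ∘ₗ h₀) = (t : R) • ((s : R) • ψ) := ht
    rw [this, smul_smul, Submonoid.coe_mul]
  exact (t * s).2 (hJm hmem)

theorem finite_retract (P : Type u) [AddCommGroup P] [Module R P] [Module.Finite R P]
    (ι : Type u) (f : ι → R) (i : P →ₗ[R] (⨁ j, R ⧸ Ideal.span {f j}))
    (p : (⨁ j, R ⧸ Ideal.span {f j}) →ₗ[R] P) (hpi : p ∘ₗ i = LinearMap.id) :
    ∃ (n : ℕ) (g : Fin n → ι) (i' : P →ₗ[R] ((k : Fin n) → R ⧸ Ideal.span {f (g k)}))
      (p' : ((k : Fin n) → R ⧸ Ideal.span {f (g k)}) →ₗ[R] P),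
      p' ∘ₗ i' = LinearMap.id ∧ ∀ k, ∃ x : P, i x (g k) ≠ 0 := by
  classical
  obtain ⟨σ, hσ⟩ := (Module.Finite.fg_top : (⊤ : Submodule R P).FG)
  let Fset : Finset ι := σ.biUnion (fun x => DFinsupp.support (i x))
  have hsupp : ∀ x : P, ∀ j, j ∉ Fset → i x j = 0 := by
    intro x
    have hx : x ∈ Submodule.span R (σ : Set P) := hσ ▸ Submodule.mem_top
    induction hx using Submodule.span_induction with
    | mem y hy =>
      intro j hj
      by_contra h0
      apply hj
      simp only [Fset, Finset.mem_biUnion]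
      exact ⟨y, hy, DFinsupp.mem_support_iff.mpr h0⟩
    | zero => intro j _; rw [map_zero]; rfl
    | add y z _ _ hy hz => intro j hj; rw [map_add, DirectSum.add_apply, hy j hj, hz j hj, add_zero]
    | smul c y _ hy => intro j hj; rw [map_smul, DirectSum.smul_apply, hy j hj, smul_zero]
  let e : Fin Fset.card ≃ Fset := Fset.equivFin.symm
  let g : Fin Fset.card → ι := fun k => (e k).1
  let i' : P →ₗ[R] ((k : Fin Fset.card) → R ⧸ Ideal.span {f (g k)}) :=
    LinearMap.pi fun k => DirectSum.component R ι (fun j => R ⧸ Ideal.span {f j}) (g k) ∘ₗ i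
  let p' : ((k : Fin Fset.card) → R ⧸ Ideal.span {f (g k)}) →ₗ[R] P :=
    ∑ k, (p ∘ₗ DirectSum.lof R ι (fun j => R ⧸ Ideal.span {f j}) (g k)) ∘ₗ LinearMap.proj k
  refine ⟨Fset.card, g, i', p', ?_, ?_⟩
  · ext x
    have hsum : ∑ k : Fin Fset.card, DirectSum.lof R ι (fun j => R ⧸ Ideal.span {f j}) (g k)
        (i x (g k)) = i x := by
      have h1 : i x = ∑ j ∈ Fset, DirectSum.lof R ι (fun j => R ⧸ Ideal.span {f j}) j (i x j) := by
        conv_lhs => rw [← DirectSum.sum_support_of (i x)]
        refine Finset.sum_subset ?_ ?_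
        · intro j hj
          by_contra hj'
          exact (DFinsupp.mem_support_iff.mp hj) (hsupp x j hj')
        · intro j _ hj
          have : i x j = 0 := by
            by_contra h0
            exact hj (DFinsupp.mem_support_iff.mpr h0)
          rw [this, map_zero]
      have h2 : ∑ k : Fin Fset.card, DirectSum.lof R ι (fun j => R ⧸ Ideal.span {f j}) (g k)
          (i x (g k)) =
          ∑ j ∈ Fset, DirectSum.lof R ι (fun j => R ⧸ Ideal.span {f j}) j (i x j) := by
        rw [← Finset.sum_coe_sort Fset]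
        exact Equiv.sum_comp e
          (fun j : Fset => DirectSum.lof R ι (fun j => R ⧸ Ideal.span {f j}) j.1 (i x j.1))
      exact h2.trans h1.symm
    simp only [LinearMap.comp_apply, LinearMap.id_apply, p', i', LinearMap.sum_apply,
      LinearMap.pi_apply, LinearMap.proj_apply]
    rw [← map_sum]
    show p (∑ k : Fin Fset.card, DirectSum.lof R ι (fun j => R ⧸ Ideal.span {f j}) (g k)
        (i x (g k))) = x
    rw [hsum]
    exact LinearMap.congr_fun hpi x
  · intro k
    have hk : g k ∈ Fset := (e k).2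
    simp only [Fset, Finset.mem_biUnion] at hk
    obtain ⟨x, _, hx⟩ := hk
    exact ⟨x, DFinsupp.mem_support_iff.mp hx⟩

/-- A retract gives a product decomposition. -/
noncomputable def prodEquivOfRetract {P Q : Type u} [AddCommGroup P] [Module R P] [AddCommGroup Q]
    [Module R Q] (i : P →ₗ[R] Q) (p : Q →ₗ[R] P) (hpi : p ∘ₗ i = LinearMap.id) :
    (P × LinearMap.ker p) ≃ₗ[R] Q :=
  LinearEquiv.ofLinearMap (i.coprod (LinearMap.ker p).subtype)
    (LinearMap.prod p (LinearMap.codRestrict (LinearMap.ker p) (LinearMap.id - i ∘ₗ p) (by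
      intro z
      have := LinearMap.congr_fun hpi (p z)
      simp only [LinearMap.comp_apply, LinearMap.id_apply] at this
      simp [LinearMap.mem_ker, this])))
    (by
      ext z
      simp)
    (by
      have h1 : ∀ x, p (i x) = x := fun x => LinearMap.congr_fun hpi x
      apply LinearMap.ext
      rintro ⟨x, k, hk⟩
      have hk' : p k = 0 := hk
      apply Prod.ext
      · simp [h1, hk']
      · apply Subtype.ext
        simp [h1, hk'])

end Groth.Agent.Lib.Helper24.RDProj
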