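import Mathlib
import Groth.Agent.Lib.Helper24.RDProj
import Groth.Agent.S7120

/-!
# Finitely presented modules over Bézout domains (Stacks 0ASP)

* `exists_injective_fin_of_torsionFree` : finite torsion-free modules over a domain embed in `R^n`.
* `dvd_total_localization_of_isBezout` : localizations of a Bézout domain at primes are chain rings.
* `exists_equiv_free_prod_torsion` : FP module over a Bézout domain is `R^r × torsion`, torsion FP.
-/

set_option autoImplicit false
set_option linter.style.haveILetI false
universe u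

namespace Groth.Agent.Lib.Helper24.RDProj

open Module Submodule Set

/-- A finite torsion-free module over a domain embeds into a finite free module. -/
theorem exists_injective_fin_of_torsionFree {R : Type u} [CommRing R] [IsDomain R]
    (M : Type u) [AddCommGroup M] [Module R M] [Module.Finite R M] [IsTorsionFree R M] :
    ∃ (n : ℕ) (ι : M →ₗ[R] (Fin n → R)), Function.Injective ι := by
  classical
  obtain ⟨k, s, hs⟩ := Module.Finite.exists_fin (R := R) (M := M)
  have := exists_maximal_linearIndepOn R s
  let I : Set (Fin k) := this.choose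
  obtain
    ⟨indepI : LinearIndependent R (s ∘ (fun x => x) : I → M), hI :
      ∀ i ∉ I, ∃ a : R, a ≠ 0 ∧ a • s i ∈ span R (s '' I)⟩ :=
    this.choose_spec
  let N := span R (range <| (s ∘ (fun x => x) : I → M))
  let sI_basis : Basis I R N := Basis.span indepI
  have exists_a : ∀ i : Fin k, ∃ a : R, a ≠ 0 ∧ a • s i ∈ N := by
    intro i
    by_cases hi : i ∈ I
    · use 1, zero_ne_one.symm
      rw [one_smul]
      exact subset_span (mem_range_self (⟨i, hi⟩ : I))
    · simpa [image_eq_range s I] using! hI i hi
  choose a ha ha' using exists_a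
  let A := ∏ i, a i
  have hA : A ≠ 0 := by
    rw [Finset.prod_ne_zero_iff]
    simpa using! ha
  let φ : M →ₗ[R] M := LinearMap.lsmul R M A
  have hker : LinearMap.ker φ = ⊥ := LinearMap.ker_lsmul hA
  have hle : ∀ x, φ x ∈ N := by
    have : LinearMap.range φ ≤ N := by
      suffices ∀ i, φ (s i) ∈ N by
        rw [LinearMap.range_eq_map, ← hs, map_span_le]
        rintro _ ⟨i, rfl⟩
        apply this
      intro i
      calc
        (∏ j ∈ {i}ᶜ, a j) • a i • s i ∈ N := N.smul_mem _ (ha' i)
        _ = (∏ j, a j) • s i := by rw [Fintype.prod_eq_prod_compl_mul i, mul_smul]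
    exact fun x => this (LinearMap.mem_range_self φ x)
  let φ' : M →ₗ[R] N := LinearMap.codRestrict N φ hle
  have hφ' : Function.Injective φ' := by
    intro x y hxy
    have : φ x = φ y := congrArg Subtype.val hxy
    exact LinearMap.ker_eq_bot.mp hker this
  let e : N ≃ₗ[R] (Fin (Fintype.card I) → R) :=
    sI_basis.equivFun ≪≫ₗ LinearEquiv.funCongrLeft R R (Fintype.equivFin I).symm
  exact ⟨Fintype.card I, e.toLinearMap ∘ₗ φ', e.injective.comp hφ'⟩

/-- Localizations of a Bézout domain at primes are chain rings. -/
theorem dvd_total_localization_of_isBezout {R : Type u} [CommRing R] [IsDomain R] [IsBezout R]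
    (m : Ideal R) [m.IsPrime] (a b : Localization.AtPrime m) : a ∣ b ∨ b ∣ a := by
  obtain ⟨x, s, rfl⟩ := IsLocalization.exists_mk'_eq m.primeCompl a
  obtain ⟨y, t, rfl⟩ := IsLocalization.exists_mk'_eq m.primeCompl b
  have hs : IsUnit (algebraMap R (Localization.AtPrime m) s) := IsLocalization.map_units _ s
  have ht : IsUnit (algebraMap R (Localization.AtPrime m) t) := IsLocalization.map_units _ t
  -- reduce to algebraMap x, algebraMap y
  suffices H : algebraMap R (Localization.AtPrime m) x ∣ algebraMap R (Localization.AtPrime m) y ∨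
      algebraMap R (Localization.AtPrime m) y ∣ algebraMap R (Localization.AtPrime m) x by
    rw [← IsLocalization.mk'_spec (Localization.AtPrime m) x s,
      ← IsLocalization.mk'_spec (Localization.AtPrime m) y t] at H
    rcases H with H | H
    · left
      exact (hs.mul_right_dvd.mp ((ht.dvd_mul_right).mp H))
    · right
      exact (ht.mul_right_dvd.mp ((hs.dvd_mul_right).mp H))
  obtain ⟨x', hx'⟩ := IsBezout.gcd_dvd_left x y
  obtain ⟨y', hy'⟩ := IsBezout.gcd_dvd_right x y
  obtain ⟨α, β, hαβ⟩ := IsBezout.gcd_eq_sum x y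
  set d := IsBezout.gcd x y with hd
  rcases eq_or_ne d 0 with h0 | h0
  · left
    rw [hx', hy', h0, zero_mul, zero_mul]
  · have h1 : α * x' + β * y' = 1 := by
      apply mul_left_cancel₀ h0
      rw [mul_one]
      calc d * (α * x' + β * y') = α * (d * x') + β * (d * y') := by ring
        _ = d := by rw [← hx', ← hy', hαβ]
    have hor : x' ∉ m ∨ y' ∉ m := by
      by_contra hcon
      push Not at hcon
      have : (1 : R) ∈ m := h1 ▸ m.add_mem (m.mul_mem_left _ hcon.1) (m.mul_mem_left _ hcon.2)
      exact (Ideal.IsPrime.ne_top ‹_›) ((Ideal.eq_top_iff_one m).mpr this)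
    rcases hor with hxm | hym
    · left
      have hu : IsUnit (algebraMap R (Localization.AtPrime m) x') :=
        IsLocalization.map_units _ (⟨x', hxm⟩ : m.primeCompl)
      rw [hx', hy', map_mul, map_mul]
      exact hu.mul_right_dvd.mpr (Dvd.intro _ rfl)
    · right
      have hu : IsUnit (algebraMap R (Localization.AtPrime m) y') :=
        IsLocalization.map_units _ (⟨y', hym⟩ : m.primeCompl)
      rw [hx', hy', map_mul, map_mul]
      exact hu.mul_right_dvd.mpr (Dvd.intro _ rfl)

/-- Over a Bézout domain a finitely presented module is `R^r ⊕ torsion`, and the torsion part is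
finitely presented. -/
theorem exists_equiv_free_prod_torsion (R : Type u) [CommRing R] [IsDomain R] [IsBezout R]
    (M : Type u) [AddCommGroup M] [Module R M] [Module.FinitePresentation R M] :
    (∃ r : ℕ, Nonempty (M ≃ₗ[R] ((Fin r → R) × Submodule.torsion R M))) ∧
      Module.FinitePresentation R (Submodule.torsion R M) := by
  classical
  let T := Submodule.torsion R M
  let Q := M ⧸ T
  obtain ⟨n, ι, hι⟩ := exists_injective_fin_of_torsionFree (R := R) Q
  haveI : Module.Free R Q := Groth.Agent.S7120.free_of_injective_fin R n Q ι hι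
  obtain ⟨σ, hσ⟩ := Module.projective_lifting_property T.mkQ (LinearMap.id : Q →ₗ[R] Q)
    T.mkQ_surjective
  let e₀ : (Q × LinearMap.ker T.mkQ) ≃ₗ[R] M := prodEquivOfRetract σ T.mkQ hσ
  let e₁ : LinearMap.ker T.mkQ ≃ₗ[R] T := LinearEquiv.ofEq _ _ (Submodule.ker_mkQ T)
  let b := Module.finBasis R Q
  let e₂ : Q ≃ₗ[R] (Fin (Module.finrank R Q) → R) := b.equivFun
  let e : M ≃ₗ[R] ((Fin (Module.finrank R Q) → R) × T) := e₀.symm ≪≫ₗ LinearEquiv.prodCongr e₂ e₁
  refine ⟨⟨_, ⟨e⟩⟩, ?_⟩
  -- finite presentation of T
  let l : M →ₗ[R] T := LinearMap.snd R _ T ∘ₗ e.toLinearMap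
  have hl : Function.Surjective l := by
    intro t
    exact ⟨e.symm (0, t), by simp [l]⟩
  refine Module.finitePresentation_of_surjective l hl ?_
  have hker : LinearMap.ker l = Submodule.map (e.symm.toLinearMap ∘ₗ LinearMap.inl R _ T) ⊤ := by
    ext x
    simp only [LinearMap.mem_ker, Submodule.mem_map, Submodule.mem_top, true_and, l,
      LinearMap.comp_apply, LinearEquiv.coe_coe, LinearMap.snd_apply, LinearMap.inl_apply]
    constructor
    · intro hx
      refine ⟨(e x).1, ?_⟩
      rw [LinearEquiv.symm_apply_eq]
      exact Prod.ext rfl hx.symm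
    · rintro ⟨q, rfl⟩
      simp
  rw [hker]
  exact Submodule.FG.map _ Module.Finite.fg_top

end Groth.Agent.Lib.Helper24.RDProj
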