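import Mathlib

/-!
# Flatness via adic quotients (helper24)

* `flat_of_exact` : an extension of flat modules is flat.
* `flat_of_forall_flat_quotient_pow` : `B` Noetherian `A`-algebra, `M` finite `B`-module,
  `I ≤ rad B`; if `M / I^n M` is `A`-flat for arbitrarily large `n` then `M` is `A`-flat
  (Krull intersection on `M ⊗_A 𝔞`).
-/

open TensorProduct

namespace Groth.Agent.Lib.Helper24.FlatAdic

universe u v

section Ext

variable {R : Type*} [CommRing R] {M' M M'' : Type*}
  [AddCommGroup M'] [Module R M'] [AddCommGroup M] [Module R M] [AddCommGroup M''] [Module R M'']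

/-- An extension of flat modules is flat. -/
theorem flat_of_exact (f : M' →ₗ[R] M) (g : M →ₗ[R] M'') (hf : Function.Injective f)
    (hfg : Function.Exact f g) (hg : Function.Surjective g)
    [Module.Flat R M'] [Module.Flat R M''] : Module.Flat R M := by
  rw [Module.Flat.iff_lTensor_injective']
  intro I
  rw [injective_iff_map_eq_zero]
  intro x hx
  -- image in `M'' ⊗ I` vanishes
  have h1 : g.rTensor I x = 0 := by
    apply Module.Flat.lTensor_preserves_injective_linearMap (M := M'') I.subtype
      Subtype.val_injective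
    rw [map_zero, ← LinearMap.comp_apply, LinearMap.lTensor_comp_rTensor,
      ← LinearMap.rTensor_comp_lTensor, LinearMap.comp_apply, hx, map_zero]
  obtain ⟨y, rfl⟩ := (rTensor_exact I hfg hg x).mp h1
  have h2 : I.subtype.lTensor M' y = 0 := by
    have hinj : Function.Injective (f.rTensor R) := by
      have := LinearMap.lTensor_injective_of_exact_of_flat g hg f hf hfg R
      rwa [LinearMap.lTensor_inj_iff_rTensor_inj] at this
    apply hinj
    rw [map_zero, ← LinearMap.comp_apply, LinearMap.rTensor_comp_lTensor,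
      ← LinearMap.lTensor_comp_rTensor, LinearMap.comp_apply, hx]
  have h3 : y = 0 := by
    apply Module.Flat.lTensor_preserves_injective_linearMap (M := M') I.subtype
      Subtype.val_injective
    rw [h2, map_zero]
  rw [h3, map_zero]

end Ext

section Krull

variable {A : Type*} {B : Type*} [CommRing A] [CommRing B] [Algebra A B]
  (M : Type*) [AddCommGroup M] [Module B M] [Module A M] [IsScalarTower A B M]

/-- `M ⊗[A] N` is a finite `B`-module if `M` is finite over `B` and `N` is finite over `A`. -/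
theorem finite_tensor_right [Module.Finite B M] (N : Type*) [AddCommGroup N] [Module A N]
    [Module.Finite A N] : Module.Finite B (M ⊗[A] N) := by
  classical
  obtain ⟨k, π, hπ⟩ := Module.Finite.exists_fin' A N
  let e := (TensorProduct.piScalarRight A B M (Fin k)).symm
  let f : (Fin k → M) →ₗ[B] M ⊗[A] N :=
    (TensorProduct.AlgebraTensorModule.lTensor B M π) ∘ₗ e.toLinearMap
  refine Module.Finite.of_surjective f ?_
  have h1 : Function.Surjective (TensorProduct.AlgebraTensorModule.lTensor B M π) :=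
    LinearMap.lTensor_surjective M hπ
  exact h1.comp e.surjective

/-- The image of `(I^m M) ⊗ N → M ⊗ N` lies in `I^m (M ⊗ N)`. -/
theorem rTensor_subtype_mem (J : Ideal B) (N : Type*) [AddCommGroup N] [Module A N]
    (y : ↥(J • (⊤ : Submodule B M)) ⊗[A] N) :
    (LinearMap.rTensor N ((J • (⊤ : Submodule B M)).subtype.restrictScalars A)) y ∈
      J • (⊤ : Submodule B (M ⊗[A] N)) := by
  induction y with
  | zero => simp
  | add a b ha hb => rw [map_add]; exact Submodule.add_mem _ ha hb
  | tmul p a =>
    obtain ⟨p, hp⟩ := p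
    rw [LinearMap.rTensor_tmul]
    change p ⊗ₜ[A] a ∈ _
    refine Submodule.smul_induction_on
      (p := fun p => p ⊗ₜ[A] a ∈ J • (⊤ : Submodule B (M ⊗[A] N))) hp ?_ ?_
    · intro b hb m' _
      rw [← TensorProduct.smul_tmul']
      exact Submodule.smul_mem_smul hb trivial
    · intro p₁ p₂ h₁ h₂
      rw [TensorProduct.add_tmul]
      exact Submodule.add_mem _ h₁ h₂

variable [IsNoetherianRing B] (I : Ideal B) (hI : I ≤ Ideal.jacobson ⊥) [Module.Finite B M]

include hI in
/-- **Flatness from adic quotients.** `B` Noetherian, `M` finite over `B`, `I ≤ rad B`.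
If `M / I^m M` is `A`-flat for arbitrarily large `m`, then `M` is `A`-flat. -/
theorem flat_of_forall_flat_quotient_pow
    (h : ∀ n : ℕ, ∃ m, n ≤ m ∧ Module.Flat A (M ⧸ (I ^ m • (⊤ : Submodule B M)))) :
    Module.Flat A M := by
  rw [Module.Flat.iff_lTensor_injective]
  intro 𝔞 h𝔞
  rw [injective_iff_map_eq_zero]
  intro x hx
  have : Module.Finite A 𝔞 := Module.Finite.iff_fg.mpr h𝔞
  have : Module.Finite B (M ⊗[A] 𝔞) := finite_tensor_right M 𝔞
  have key : ∀ n, x ∈ I ^ n • (⊤ : Submodule B (M ⊗[A] 𝔞)) := by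
    intro n
    obtain ⟨m, hnm, hflat⟩ := h n
    have hle : I ^ m • (⊤ : Submodule B (M ⊗[A] 𝔞)) ≤ I ^ n • ⊤ :=
      Submodule.smul_mono_left (Ideal.pow_le_pow_right hnm)
    apply hle
    set P : Submodule B M := I ^ m • ⊤ with hP
    let q : M →ₗ[A] M ⧸ P := P.mkQ.restrictScalars A
    let inc : P →ₗ[A] M := P.subtype.restrictScalars A
    have hex : Function.Exact inc q := by
      intro z
      change P.mkQ z = 0 ↔ z ∈ Set.range P.subtype
      rw [Submodule.mkQ_apply, Submodule.Quotient.mk_eq_zero]
      simp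
    have hq : Function.Surjective q := P.mkQ_surjective
    have h1 : q.rTensor 𝔞 x = 0 := by
      apply Module.Flat.lTensor_preserves_injective_linearMap (M := M ⧸ P) 𝔞.subtype
        Subtype.val_injective
      rw [map_zero, ← LinearMap.comp_apply, LinearMap.lTensor_comp_rTensor,
        ← LinearMap.rTensor_comp_lTensor, LinearMap.comp_apply, hx, map_zero]
    obtain ⟨y, rfl⟩ := (rTensor_exact 𝔞 hex hq x).mp h1
    exact rTensor_subtype_mem M (I ^ m) 𝔞 y
  have hbot := Ideal.iInf_pow_smul_eq_bot_of_le_jacobson (M := M ⊗[A] 𝔞) I hI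
  have hx' : x ∈ (⨅ i : ℕ, I ^ i • ⊤ : Submodule B (M ⊗[A] 𝔞)) := (Submodule.mem_iInf _).mpr key
  rw [hbot] at hx'
  exact hx'

end Krull

section Regular

variable {A : Type*} {B : Type*} [CommRing A] [CommRing B] [Algebra A B]
  (M : Type*) [AddCommGroup M] [Module B M] [Module A M] [IsScalarTower A B M]

theorem mem_span_singleton_pow_smul_top (f : B) (n : ℕ) (x : M) :
    x ∈ (Ideal.span {f}) ^ n • (⊤ : Submodule B M) ↔ ∃ m : M, x = f ^ n • m := by
  rw [Ideal.span_singleton_pow, Submodule.ideal_span_singleton_smul,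
    Submodule.mem_smul_pointwise_iff_exists]
  constructor
  · rintro ⟨m, -, rfl⟩
    exact ⟨m, rfl⟩
  · rintro ⟨m, rfl⟩
    exact ⟨m, trivial, rfl⟩

/-- If `f` is `M`-regular and `M / f M` is `A`-flat, then `M / f^(n+1) M` is `A`-flat. -/
theorem flat_quotient_pow_of_regular (f : B) (hreg : IsSMulRegular M f)
    (hflat : Module.Flat A (M ⧸ (Ideal.span {f} • (⊤ : Submodule B M)))) (n : ℕ) :
    Module.Flat A (M ⧸ ((Ideal.span {f}) ^ (n + 1) • (⊤ : Submodule B M))) := by
  induction n with
  | zero => rw [zero_add, pow_one]; exact hflat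
  | succ n ih =>
    set P1 : Submodule B M := Ideal.span {f} • ⊤ with hP1
    set Pn : Submodule B M := (Ideal.span {f}) ^ (n + 1) • ⊤ with hPn
    set Pn1 : Submodule B M := (Ideal.span {f}) ^ (n + 1 + 1) • ⊤ with hPn1
    have mem1 : ∀ x : M, x ∈ P1 ↔ ∃ m : M, x = f • m := by
      intro x
      have := mem_span_singleton_pow_smul_top M f 1 x
      rwa [pow_one, pow_one] at this
    have memn : ∀ x : M, x ∈ Pn ↔ ∃ m : M, x = f ^ (n + 1) • m :=
      mem_span_singleton_pow_smul_top M f (n + 1)
    have memn1 : ∀ x : M, x ∈ Pn1 ↔ ∃ m : M, x = f ^ (n + 1 + 1) • m :=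
      mem_span_singleton_pow_smul_top M f (n + 1 + 1)
    have hle : P1 ≤ Pn1.comap ((f ^ (n + 1)) • (LinearMap.id : M →ₗ[B] M)) := by
      intro x hx
      obtain ⟨m, rfl⟩ := (mem1 x).mp hx
      rw [Submodule.mem_comap, LinearMap.smul_apply, LinearMap.id_apply, memn1]
      exact ⟨m, by rw [smul_smul, ← pow_succ]⟩
    have hle' : Pn1 ≤ Pn.comap (LinearMap.id : M →ₗ[B] M) := by
      intro x hx
      obtain ⟨m, rfl⟩ := (memn1 x).mp hx
      rw [Submodule.mem_comap, LinearMap.id_apply, memn]
      exact ⟨f • m, by rw [smul_smul, ← pow_succ]⟩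
    let φ : (M ⧸ P1) →ₗ[B] (M ⧸ Pn1) := P1.mapQ Pn1 _ hle
    let g : (M ⧸ Pn1) →ₗ[B] (M ⧸ Pn) := Pn1.mapQ Pn _ hle'
    have hφ : Function.Injective (φ.restrictScalars A) := by
      change Function.Injective φ
      rw [injective_iff_map_eq_zero]
      intro x hx
      obtain ⟨m, rfl⟩ := P1.mkQ_surjective x
      rw [Submodule.mkQ_apply, Submodule.mapQ_apply, Submodule.Quotient.mk_eq_zero,
        LinearMap.smul_apply, LinearMap.id_apply, memn1] at hx
      obtain ⟨m', hm'⟩ := hx
      rw [Submodule.mkQ_apply, Submodule.Quotient.mk_eq_zero, mem1]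
      refine ⟨m', ?_⟩
      apply hreg.pow (n + 1)
      change f ^ (n + 1) • m = f ^ (n + 1) • f • m'
      rw [hm', smul_smul, ← pow_succ]
    have hg : Function.Surjective (g.restrictScalars A) := by
      change Function.Surjective g
      intro y
      obtain ⟨m, rfl⟩ := Pn.mkQ_surjective y
      exact ⟨Pn1.mkQ m, by simp [g]⟩
    have hex : Function.Exact (φ.restrictScalars A) (g.restrictScalars A) := by
      intro y
      change g y = 0 ↔ y ∈ Set.range φ
      obtain ⟨m, rfl⟩ := Pn1.mkQ_surjective y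
      rw [Submodule.mkQ_apply, Submodule.mapQ_apply, LinearMap.id_apply,
        Submodule.Quotient.mk_eq_zero, memn]
      constructor
      · rintro ⟨m', rfl⟩
        exact ⟨P1.mkQ m', by simp [φ]⟩
      · rintro ⟨x, hx⟩
        obtain ⟨m', rfl⟩ := P1.mkQ_surjective x
        rw [Submodule.mkQ_apply, Submodule.mapQ_apply, LinearMap.smul_apply, LinearMap.id_apply,
          Submodule.Quotient.eq, memn1] at hx
        obtain ⟨m'', hm''⟩ := hx
        refine ⟨m' - f • m'', ?_⟩
        rw [smul_sub, smul_smul, ← pow_succ, ← hm'']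
        abel
    have : Module.Flat A (M ⧸ P1) := hflat
    have : Module.Flat A (M ⧸ Pn) := ih
    exact flat_of_exact (φ.restrictScalars A) (g.restrictScalars A) hφ hex hg

end Regular

section Graded

variable {A : Type*} {B : Type*} [CommRing A] [CommRing B] [Algebra A B]
  (M : Type*) [AddCommGroup M] [Module B M] [Module A M] [IsScalarTower A B M]

theorem map_subtype_smul_top (I : Ideal B) (P : Submodule B M) :
    (I • (⊤ : Submodule B P)).map P.subtype = I • P := by
  rw [Submodule.map_smul'', Submodule.map_subtype_top]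

/-- If all graded pieces `I^n M / I^(n+1) M` are `A`-flat, then all `M / I^n M` are `A`-flat. -/
theorem flat_quotient_pow_of_gr (I : Ideal B)
    (hgr : ∀ n : ℕ, Module.Flat A
      (↥(I ^ n • (⊤ : Submodule B M)) ⧸ (I • (⊤ : Submodule B ↥(I ^ n • (⊤ : Submodule B M))))))
    (n : ℕ) : Module.Flat A (M ⧸ (I ^ n • (⊤ : Submodule B M))) := by
  induction n with
  | zero =>
    have : Subsingleton (M ⧸ (I ^ 0 • (⊤ : Submodule B M))) := by
      rw [pow_zero, Ideal.one_eq_top, Submodule.top_smul]
      exact Submodule.Quotient.subsingleton_iff.mpr rfl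
    infer_instance
  | succ n ih =>
    set Pn : Submodule B M := I ^ n • ⊤ with hPn
    set Pn1 : Submodule B M := I ^ (n + 1) • ⊤ with hPn1
    set Q : Submodule B Pn := I • ⊤ with hQ
    have hmap : Q.map Pn.subtype = Pn1 := by
      rw [hQ, map_subtype_smul_top, hPn, hPn1, ← Submodule.mul_smul, ← pow_succ']
    have hle : Q ≤ Pn1.comap Pn.subtype := by
      rw [← Submodule.map_le_iff_le_comap, hmap]
    have hle' : Pn1 ≤ Pn.comap (LinearMap.id : M →ₗ[B] M) := by
      rw [Submodule.comap_id, hPn, hPn1]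
      exact Submodule.smul_mono_left (Ideal.pow_le_pow_right (Nat.le_succ n))
    let φ : (Pn ⧸ Q) →ₗ[B] (M ⧸ Pn1) := Q.mapQ Pn1 Pn.subtype hle
    let g : (M ⧸ Pn1) →ₗ[B] (M ⧸ Pn) := Pn1.mapQ Pn _ hle'
    have hφ : Function.Injective (φ.restrictScalars A) := by
      change Function.Injective φ
      rw [injective_iff_map_eq_zero]
      intro x hx
      obtain ⟨m, rfl⟩ := Q.mkQ_surjective x
      rw [Submodule.mkQ_apply, Submodule.mapQ_apply, Submodule.Quotient.mk_eq_zero,
        ← hmap, Submodule.mem_map] at hx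
      obtain ⟨y, hy, hym⟩ := hx
      rw [Submodule.mkQ_apply, Submodule.Quotient.mk_eq_zero]
      have : y = m := Subtype.ext hym
      rwa [← this]
    have hg : Function.Surjective (g.restrictScalars A) := by
      change Function.Surjective g
      intro y
      obtain ⟨m, rfl⟩ := Pn.mkQ_surjective y
      exact ⟨Pn1.mkQ m, by simp [g]⟩
    have hex : Function.Exact (φ.restrictScalars A) (g.restrictScalars A) := by
      intro y
      change g y = 0 ↔ y ∈ Set.range φ
      obtain ⟨m, rfl⟩ := Pn1.mkQ_surjective y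
      rw [Submodule.mkQ_apply, Submodule.mapQ_apply, LinearMap.id_apply,
        Submodule.Quotient.mk_eq_zero]
      constructor
      · intro hm
        exact ⟨Q.mkQ ⟨m, hm⟩, by simp [φ]⟩
      · rintro ⟨x, hx⟩
        obtain ⟨m', rfl⟩ := Q.mkQ_surjective x
        rw [Submodule.mkQ_apply, Submodule.mapQ_apply, Submodule.Quotient.eq] at hx
        have h1 : (m' : M) ∈ Pn := m'.2
        have h2 : (Pn.subtype m' - m) ∈ Pn := hle' hx
        have : m = Pn.subtype m' - (Pn.subtype m' - m) := by abel
        rw [this]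
        exact Submodule.sub_mem _ h1 h2
    have : Module.Flat A (Pn ⧸ Q) := hgr n
    have : Module.Flat A (M ⧸ Pn) := ih
    exact flat_of_exact (φ.restrictScalars A) (g.restrictScalars A) hφ hex hg

end Graded

end Groth.Agent.Lib.Helper24.FlatAdic
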