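import Mathlib

/-!
# Eilenberg swindle

For a projective module `P` over a commutative ring `R` there is a set `Z` with
`P × (Z →₀ R) ≃ₗ[R] (Z →₀ R)`.
-/

namespace Groth.Agent.Lib.Helper24.Swindle

open TensorProduct

universe u v

section split

variable {R : Type*} [CommRing R] {P F : Type*} [AddCommGroup P] [Module R P]
  [AddCommGroup F] [Module R F]

/-- A split surjection `π : F → P` (section `s`) gives `F ≃ P × ker π`. -/
noncomputable def splitEquiv (π : F →ₗ[R] P) (s : P →ₗ[R] F) (h : π ∘ₗ s = LinearMap.id) :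
    F ≃ₗ[R] P × LinearMap.ker π where
  toFun x := (π x, ⟨x - s (π x), by
    have h1 : π (s (π x)) = π x := LinearMap.congr_fun h (π x)
    rw [LinearMap.mem_ker, map_sub, h1, sub_self]⟩)
  map_add' x y := by
    refine Prod.ext (map_add _ _ _) (Subtype.ext ?_)
    simp only [map_add, Prod.snd_add, Submodule.coe_add]
    abel
  map_smul' a x := by
    refine Prod.ext (map_smul _ _ _) (Subtype.ext ?_)
    simp only [map_smul, RingHom.id_apply, Prod.smul_snd, Submodule.coe_smul, smul_sub]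
  invFun p := s p.1 + p.2
  left_inv x := by simp
  right_inv p := by
    have h1 : π (s p.1) = p.1 := LinearMap.congr_fun h p.1
    have h2 : π (p.2 : F) = 0 := p.2.2
    refine Prod.ext ?_ (Subtype.ext ?_)
    · simp only [map_add, h1, h2, add_zero]
    · simp only [map_add, h1, h2, add_zero, add_sub_cancel_left]

end split

section swindle

variable (R : Type u) [CommRing R]

/-- `(ℕ →₀ R) ≃ R × (ℕ →₀ R)`. -/
noncomputable def shiftEquiv : (ℕ →₀ R) ≃ₗ[R] R × (ℕ →₀ R) :=
  ((Finsupp.domLCongr (Equiv.trans (Equiv.sumComm Unit ℕ) (Equiv.natSumPUnitEquivNat)).symm).trans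
    (Finsupp.sumFinsuppLEquivProdFinsupp R)).trans
    (LinearEquiv.prodCongr (Finsupp.uniqueLinearEquiv R R ()) (LinearEquiv.refl R _))

variable (P : Type v) [AddCommGroup P] [Module R P]

/-- `P × ((ℕ →₀ R) ⊗ P) ≃ (ℕ →₀ R) ⊗ P`. -/
noncomputable def absorbEquiv : (P × ((ℕ →₀ R) ⊗[R] P)) ≃ₗ[R] ((ℕ →₀ R) ⊗[R] P) :=
  ((LinearEquiv.prodCongr (TensorProduct.lid R P).symm (LinearEquiv.refl R _)).trans
    (TensorProduct.prodLeft R R R (ℕ →₀ R) P).symm).trans
    (TensorProduct.congr (shiftEquiv R).symm (LinearEquiv.refl R P))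

variable {R P} in
/-- The swindle for a direct summand of a module `F`. -/
noncomputable def swindleEquiv {F K : Type*} [AddCommGroup F] [Module R F] [AddCommGroup K]
    [Module R K] (e : F ≃ₗ[R] P × K) :
    (P × ((ℕ →₀ R) ⊗[R] F)) ≃ₗ[R] ((ℕ →₀ R) ⊗[R] F) :=
  let a : ((ℕ →₀ R) ⊗[R] F) ≃ₗ[R] ((ℕ →₀ R) ⊗[R] P) × ((ℕ →₀ R) ⊗[R] K) :=
    (TensorProduct.congr (LinearEquiv.refl R _) e).trans (TensorProduct.prodRight R R _ P K)
  ((LinearEquiv.prodCongr (LinearEquiv.refl R P) a).trans
    ((LinearEquiv.prodAssoc R P _ _).symm.trans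
      (LinearEquiv.prodCongr (absorbEquiv R P) (LinearEquiv.refl R _)))).trans a.symm

/-- **Eilenberg swindle**: a projective module becomes free after adding a free module. -/
theorem exists_equiv_of_projective (P : Type u) [AddCommGroup P] [Module R P]
    [Module.Projective R P] :
    ∃ Z : Type u, Nonempty ((P × (Z →₀ R)) ≃ₗ[R] (Z →₀ R)) := by
  obtain ⟨s, hs⟩ := Module.projective_def'.1 (inferInstance : Module.Projective R P)
  let e := splitEquiv (Finsupp.linearCombination R (id : P → P)) s hs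
  let t : ((ℕ →₀ R) ⊗[R] (P →₀ R)) ≃ₗ[R] (ℕ × P →₀ R) := finsuppTensorFinsupp' R ℕ P
  exact ⟨ℕ × P, ⟨((LinearEquiv.prodCongr (LinearEquiv.refl R P) t.symm).trans
    (swindleEquiv (K := LinearMap.ker (Finsupp.linearCombination R (id : P → P))) e)).trans t⟩⟩

end swindle

end Groth.Agent.Lib.Helper24.Swindle
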