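import Mathlib
import Groth.Agent.Lib.Helper97.Decaying
import Groth.Agent.Lib.Helper24.Swindle
import Groth.Agent.Lib.Helper24.FlatAdic

/-!
# Completion of a flat module whose reduction is free

`map_bijective_of_flat`: if `M` is flat, `φ : F → M` is linear, injective and surjective modulo `I`
(in the elementwise sense), then `AdicCompletion.map I φ` is bijective.
-/

namespace Groth.Agent.Lib.Helper24.ComplFlatProj

open Groth.Agent.Lib.Helper97.Decaying

section lemmaA

variable {R : Type*} [CommRing R] (I : Ideal R) {F M : Type*} [AddCommGroup F] [Module R F]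
  [AddCommGroup M] [Module R M]

lemma map_mem_smul_top {N N' : Type*} [AddCommGroup N] [Module R N] [AddCommGroup N']
    [Module R N'] (φ : N →ₗ[R] N') (J : Ideal R) {x : N}
    (hx : x ∈ (J • ⊤ : Submodule R N)) : φ x ∈ (J • ⊤ : Submodule R N') := by
  refine Submodule.smul_induction_on hx (fun r hr y _ => ?_) (fun y z hy hz => ?_)
  · rw [map_smul]; exact Submodule.smul_mem_smul hr Submodule.mem_top
  · rw [map_add]; exact Submodule.add_mem _ hy hz

/-- Key flatness step: if `φ` is surjective modulo `N`, `x ∈ J • ⊤` and `φ x ∈ J • N`, then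
`x ∈ J • φ⁻¹ N`. -/
lemma mem_smul_comap_of_flat [Module.Flat R M] (φ : F →ₗ[R] M) (N : Submodule R M)
    (hN : ∀ y, ∃ x, y - φ x ∈ N) (J : Ideal R) (x : F) (hxJ : x ∈ (J • ⊤ : Submodule R F))
    (hx : φ x ∈ J • N) : x ∈ J • N.comap φ := by
  let φ' : F × N →ₗ[R] M := φ.coprod N.subtype
  have hsurj : Function.Surjective φ' := by
    intro y
    obtain ⟨x0, hx0⟩ := hN y
    refine ⟨(x0, ⟨y - φ x0, hx0⟩), ?_⟩
    simp [φ']
  have hxN : φ x ∈ N := Submodule.smul_le_right hx
  have hν : (⟨φ x, hxN⟩ : N) ∈ (J • ⊤ : Submodule R N) :=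
    (Submodule.mem_smul_top_iff J N _).2 hx
  have h0 : φ' (x, -(⟨φ x, hxN⟩ : N)) = 0 := by simp [φ']
  have hJ : (x, -(⟨φ x, hxN⟩ : N)) ∈ (J • ⊤ : Submodule R (F × N)) := by
    have : (x, -(⟨φ x, hxN⟩ : N)) =
        LinearMap.inl R F N x + LinearMap.inr R F N (-(⟨φ x, hxN⟩ : N)) := by simp
    rw [this]
    exact Submodule.add_mem _ (map_mem_smul_top _ J hxJ)
      (map_mem_smul_top _ J (Submodule.neg_mem _ hν))
  have h1 := mem_smul_ker_of_flat φ' hsurj J _ h0 hJ
  have h2 : LinearMap.fst R F N (x, -(⟨φ x, hxN⟩ : N)) ∈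
      J • (LinearMap.ker φ').map (LinearMap.fst R F N) := by
    rw [← Submodule.map_smul'']
    exact Submodule.mem_map_of_mem h1
  refine Submodule.smul_mono (le_refl J) ?_ h2
  rintro _ ⟨⟨d, n⟩, hdn, rfl⟩
  have hdn' : φ d + (n : M) = 0 := by simpa [φ'] using hdn
  show φ d ∈ N
  rw [eq_neg_of_add_eq_zero_left hdn']
  exact N.neg_mem n.2

/-- If `M` is flat and `φ : F → M` is injective and surjective modulo `I`, then it is injective
modulo every power of `I`. -/
lemma mem_pow_smul_top_of_flat [Module.Flat R M] (φ : F →ₗ[R] M)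
    (h1 : ∀ x, φ x ∈ (I • ⊤ : Submodule R M) → x ∈ (I • ⊤ : Submodule R F))
    (h2 : ∀ y, ∃ x, y - φ x ∈ (I • ⊤ : Submodule R M)) :
    ∀ (n : ℕ) (x : F), φ x ∈ (I ^ n • ⊤ : Submodule R M) → x ∈ (I ^ n • ⊤ : Submodule R F) := by
  intro n
  induction n with
  | zero =>
    intro x _
    rw [pow_zero, Ideal.one_eq_top, Submodule.top_smul]
    exact Submodule.mem_top
  | succ n ih =>
    intro x hx
    have hx' : φ x ∈ (I ^ n • ⊤ : Submodule R M) :=
      Submodule.smul_mono_left (Ideal.pow_le_pow_right n.le_succ) hx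
    have h3 := ih x hx'
    have h4 : φ x ∈ I ^ n • (I • ⊤ : Submodule R M) := by
      rwa [← Submodule.mul_smul, ← pow_succ]
    have h5 := mem_smul_comap_of_flat φ (I • ⊤) h2 (I ^ n) x h3 h4
    have h6 : (I • ⊤ : Submodule R M).comap φ ≤ I • ⊤ := fun y hy => h1 y hy
    have h7 := Submodule.smul_mono (le_refl (I ^ n)) h6 h5
    rwa [← Submodule.mul_smul, ← pow_succ] at h7

/-- If `M` is flat and `φ : F → M` is injective and surjective modulo `I`, then the induced map on
`I`-adic completions is bijective. -/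
theorem map_bijective_of_flat [Module.Flat R M] (φ : F →ₗ[R] M)
    (h1 : ∀ x, φ x ∈ (I • ⊤ : Submodule R M) → x ∈ (I • ⊤ : Submodule R F))
    (h2 : ∀ y, ∃ x, y - φ x ∈ (I • ⊤ : Submodule R M)) :
    Function.Bijective (AdicCompletion.map I φ) := by
  constructor
  · rw [injective_iff_map_eq_zero]
    intro x hx
    apply AdicCompletion.ext
    intro n
    obtain ⟨t, ht⟩ := Submodule.mkQ_surjective _ (x.val n)
    have h3 : (AdicCompletion.map I φ x).val n = 0 := by rw [hx]; rfl
    rw [AdicCompletion.map_val_apply, ← ht, Submodule.mkQ_apply,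
      LinearMap.reduceModIdeal_apply, Submodule.Quotient.mk_eq_zero] at h3
    have h4 := mem_pow_smul_top_of_flat I φ h1 h2 n t h3
    rw [AdicCompletion.val_zero_apply, ← ht, Submodule.mkQ_apply, Submodule.Quotient.mk_eq_zero]
    exact h4
  · apply AdicCompletion.map_surjective_of_mkQ_comp_surjective
    intro ybar
    obtain ⟨y, rfl⟩ := Submodule.mkQ_surjective _ ybar
    obtain ⟨x, hx⟩ := h2 y
    refine ⟨x, ?_⟩
    rw [LinearMap.comp_apply, Submodule.mkQ_apply, Submodule.mkQ_apply, Submodule.Quotient.eq]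
    rw [← neg_mem_iff, neg_sub]
    exact hx

end lemmaA

section assembly

universe u

lemma flat_prod {R : Type*} [CommRing R] (M N : Type*) [AddCommGroup M] [Module R M]
    [AddCommGroup N] [Module R N] [Module.Flat R M] [Module.Flat R N] : Module.Flat R (M × N) :=
  Groth.Agent.Lib.Helper24.FlatAdic.flat_of_exact (LinearMap.inl R M N) (LinearMap.snd R M N)
    LinearMap.inl_injective Function.Exact.inl_snd LinearMap.snd_surjective

lemma finsupp_mem_smul_top {R : Type*} [CommRing R] (I : Ideal R) {Z : Type*} (x : Z →₀ R)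
    (h : ∀ z, x z ∈ I) : x ∈ (I • ⊤ : Submodule R (Z →₀ R)) := by
  classical
  rw [← Finsupp.sum_single x, Finsupp.sum]
  refine Submodule.sum_mem _ fun z _ => ?_
  have : Finsupp.single z (x z) = x z • Finsupp.single z (1 : R) := by
    rw [Finsupp.smul_single, smul_eq_mul, mul_one]
  rw [this]
  exact Submodule.smul_mem_smul (h z) Submodule.mem_top

variable (R : Type u) [CommRing R] (I : Ideal R) (M : Type u) [AddCommGroup M] [Module R M]

/-- If `M` is flat and `M / I M` is projective over `R / I`, then the completion of `M` is a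
retract of the completion of a free module. -/
theorem exists_retract [Module.Flat R M]
    [Module.Projective (R ⧸ I) (M ⧸ (I • ⊤ : Submodule R M))] :
    ∃ (Z : Type u) (i : AdicCompletion I M →ₗ[R] AdicCompletion I (Z →₀ R))
      (s : AdicCompletion I (Z →₀ R) →ₗ[R] AdicCompletion I M), s ∘ₗ i = LinearMap.id := by
  classical
  obtain ⟨Z, ⟨ε⟩⟩ := Groth.Agent.Lib.Helper24.Swindle.exists_equiv_of_projective (R ⧸ I)
    (M ⧸ (I • ⊤ : Submodule R M))
  refine ⟨Z, ?_⟩
  let mr : (Z →₀ R) →ₗ[R] (Z →₀ R ⧸ I) := Finsupp.mapRange.linearMap (Algebra.linearMap R (R ⧸ I))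
  have hmr : Function.Surjective mr :=
    Finsupp.mapRange_surjective _ (map_zero _) Ideal.Quotient.mk_surjective
  let q : (M × (Z →₀ R)) →ₗ[R] ((M ⧸ (I • ⊤ : Submodule R M)) × (Z →₀ R ⧸ I)) :=
    LinearMap.prodMap (Submodule.mkQ _) mr
  have hq : Function.Surjective q := by
    rintro ⟨a, b⟩
    obtain ⟨a', rfl⟩ := Submodule.mkQ_surjective _ a
    obtain ⟨b', rfl⟩ := hmr b
    exact ⟨(a', b'), rfl⟩
  let θ : (M × (Z →₀ R)) →ₗ[R] (Z →₀ R ⧸ I) := (ε.restrictScalars R).toLinearMap ∘ₗ q
  have hθ : Function.Surjective θ := ε.surjective.comp hq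
  have hkill : ∀ (r : R), r ∈ I → ∀ v : (Z →₀ R ⧸ I), r • v = 0 := by
    intro r hr v
    ext z
    rw [Finsupp.smul_apply, Finsupp.zero_apply, Algebra.smul_def, Ideal.Quotient.algebraMap_eq,
      Ideal.Quotient.eq_zero_iff_mem.2 hr, zero_mul]
  have hker : ∀ x, θ x = 0 ↔ x ∈ (I • ⊤ : Submodule R (M × (Z →₀ R))) := by
    intro x
    constructor
    · intro hx
      have hqx : q x = 0 := ε.injective (by rw [map_zero]; exact hx)
      have h1 : x.1 ∈ (I • ⊤ : Submodule R M) := by
        have := congrArg Prod.fst hqx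
        simpa [q] using this
      have h2 : ∀ z, x.2 z ∈ I := by
        intro z
        have := congrArg Prod.snd hqx
        have h3 : mr x.2 = 0 := this
        have h4 := DFunLike.congr_fun h3 z
        rw [Finsupp.mapRange.linearMap_apply, Finsupp.mapRange_apply] at h4
        exact Ideal.Quotient.eq_zero_iff_mem.1 h4
      have hx' : x = LinearMap.inl R M (Z →₀ R) x.1 + LinearMap.inr R M (Z →₀ R) x.2 := by
        simp
      rw [hx']
      exact Submodule.add_mem _ (map_mem_smul_top _ I h1)
        (map_mem_smul_top _ I (finsupp_mem_smul_top I x.2 h2))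
    · intro hx
      refine Submodule.smul_induction_on hx (fun r hr y _ => ?_) (fun y z hy hz => ?_)
      · rw [map_smul]; exact hkill r hr _
      · rw [map_add, hy, hz, add_zero]
  choose b hb using fun z : Z => hθ (Finsupp.single z 1)
  let φ : (Z →₀ R) →ₗ[R] (M × (Z →₀ R)) := Finsupp.linearCombination R b
  have hθφ : θ ∘ₗ φ = mr := by
    apply Finsupp.lhom_ext'
    intro z
    apply LinearMap.ext_ring
    simp only [LinearMap.comp_apply, Finsupp.lsingle_apply, φ, Finsupp.linearCombination_single,
      one_smul, hb]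
    rw [Finsupp.mapRange.linearMap_apply, Finsupp.mapRange_single]
    simp
  have h1 : ∀ x, φ x ∈ (I • ⊤ : Submodule R (M × (Z →₀ R))) →
      x ∈ (I • ⊤ : Submodule R (Z →₀ R)) := by
    intro x hx
    have h3 : mr x = 0 := by
      rw [← hθφ, LinearMap.comp_apply]; exact (hker _).2 hx
    apply finsupp_mem_smul_top
    intro z
    have h4 := DFunLike.congr_fun h3 z
    rw [Finsupp.mapRange.linearMap_apply, Finsupp.mapRange_apply] at h4
    exact Ideal.Quotient.eq_zero_iff_mem.1 h4
  have h2 : ∀ y, ∃ x, y - φ x ∈ (I • ⊤ : Submodule R (M × (Z →₀ R))) := by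
    intro y
    obtain ⟨x, hx⟩ := hmr (θ y)
    refine ⟨x, (hker _).1 ?_⟩
    rw [map_sub, ← LinearMap.comp_apply, hθφ, hx, sub_self]
  have : Module.Flat R (M × (Z →₀ R)) := flat_prod M (Z →₀ R)
  have hbij := map_bijective_of_flat I φ h1 h2
  let e := LinearEquiv.ofBijective (AdicCompletion.map I φ) hbij
  refine ⟨(e.symm.toLinearMap ∘ₗ AdicCompletion.map I (LinearMap.inl R M (Z →₀ R))).restrictScalars R,
    (AdicCompletion.map I (LinearMap.fst R M (Z →₀ R)) ∘ₗ e.toLinearMap).restrictScalars R, ?_⟩
  apply LinearMap.ext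
  intro x
  simp only [LinearMap.comp_apply, LinearMap.restrictScalars_apply, LinearEquiv.coe_coe,
    LinearEquiv.apply_symm_apply, LinearMap.id_apply]
  rw [AdicCompletion.map_comp_apply, LinearMap.fst_comp_inl, AdicCompletion.map_id,
    LinearMap.id_apply]

end assembly

section ML

open TensorProduct

variable {R : Type*} [CommRing R] {M N : Type*} [AddCommGroup M] [Module R M]
  [AddCommGroup N] [Module R N]

/-- Injectivity of `N ⊗ ∏ Q → ∏ (N ⊗ Q)` passes to retracts. -/
lemma piRightHom_injective_of_retract {ι : Type*} (Q : ι → Type*) [∀ j, AddCommGroup (Q j)]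
    [∀ j, Module R (Q j)] (i : N →ₗ[R] M) (s : M →ₗ[R] N) (h : s ∘ₗ i = LinearMap.id)
    (hM : Function.Injective (TensorProduct.piRightHom R R M Q)) :
    Function.Injective (TensorProduct.piRightHom R R N Q) := by
  rw [injective_iff_map_eq_zero]
  intro x hx
  have hnat : ∀ y : N ⊗[R] (∀ j, Q j),
      TensorProduct.piRightHom R R M Q (LinearMap.rTensor _ i y) =
        fun j => LinearMap.rTensor (Q j) i (TensorProduct.piRightHom R R N Q y j) := by
    intro y
    induction y using TensorProduct.induction_on with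
    | zero => ext j; simp
    | tmul a b => ext j; simp
    | add a b ha hb =>
      ext j
      rw [map_add, map_add, ha, hb, map_add, Pi.add_apply, Pi.add_apply, map_add]
  have h1 : TensorProduct.piRightHom R R M Q (LinearMap.rTensor _ i x) = 0 := by
    rw [hnat, hx]; ext j; simp
  have h2 : LinearMap.rTensor _ i x = 0 := hM (h1.trans (map_zero _).symm)
  have h3 : LinearMap.rTensor _ s (LinearMap.rTensor _ i x) = x := by
    rw [← LinearMap.comp_apply, ← LinearMap.rTensor_comp, h, LinearMap.rTensor_id,
      LinearMap.id_apply]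
  rw [← h3, h2, map_zero]

end ML

section ML2

open TensorProduct

variable {R : Type*} [CommRing R] {M N : Type*} [AddCommGroup M] [Module R M]
  [AddCommGroup N] [Module R N]

/-- Naturality of `piRightHom` in the left variable. -/
lemma piRightHom_rTensor {ι : Type*} (Q : ι → Type*) [∀ j, AddCommGroup (Q j)]
    [∀ j, Module R (Q j)] (i : N →ₗ[R] M) (y : N ⊗[R] (∀ j, Q j)) :
    TensorProduct.piRightHom R R M Q (LinearMap.rTensor _ i y) =
      fun j => LinearMap.rTensor (Q j) i (TensorProduct.piRightHom R R N Q y j) := by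
  induction y using TensorProduct.induction_on with
  | zero => ext j; simp
  | tmul a b => ext j; simp
  | add a b ha hb =>
    ext j
    rw [map_add, map_add, ha, hb, map_add, Pi.add_apply, Pi.add_apply, map_add]

/-- Injectivity of `N ⊗ ∏ Q → ∏ (N ⊗ Q)` passes to submodules `N → M` that stay injective after
tensoring with `∏ Q` (e.g. universally injective ones). -/
lemma piRightHom_injective_of_rTensor_injective {ι : Type*} (Q : ι → Type*)
    [∀ j, AddCommGroup (Q j)] [∀ j, Module R (Q j)] (i : N →ₗ[R] M)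
    (hi : Function.Injective (LinearMap.rTensor (∀ j, Q j) i))
    (hM : Function.Injective (TensorProduct.piRightHom R R M Q)) :
    Function.Injective (TensorProduct.piRightHom R R N Q) := by
  rw [injective_iff_map_eq_zero]
  intro x hx
  have h1 : TensorProduct.piRightHom R R M Q (LinearMap.rTensor _ i x) = 0 := by
    rw [piRightHom_rTensor, hx]; ext j; simp
  exact hi ((hM (h1.trans (map_zero _).symm)).trans (map_zero _).symm)

end ML2

section Countable

universe u

open scoped Pointwise

/-- A finite module over a finite type algebra is countably generated over the base. -/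
lemma exists_countable_span_eq_top (R S : Type u) [CommRing R] [CommRing S] [Algebra R S]
    [Algebra.FiniteType R S] (N : Type u) [AddCommGroup N] [Module S N] [Module R N]
    [IsScalarTower R S N] [Module.Finite S N] :
    ∃ s : Set N, s.Countable ∧ Submodule.span R s = ⊤ := by
  classical
  obtain ⟨n, f, hf⟩ := Algebra.FiniteType.iff_quotient_mvPolynomial''.1
    (inferInstance : Algebra.FiniteType R S)
  obtain ⟨T, hT⟩ := (Module.Finite.fg_top : (⊤ : Submodule S N).FG)
  let X : Set S := Set.range (fun m : Fin n →₀ ℕ => f (MvPolynomial.monomial m 1))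
  have hX : Submodule.span R X = ⊤ := by
    have h1 : X = f.toLinearMap '' Set.range (MvPolynomial.basisMonomials (Fin n) R) := by
      rw [← Set.range_comp]
      apply congrArg Set.range
      funext m
      simp
    rw [h1, Submodule.span_image, (MvPolynomial.basisMonomials (Fin n) R).span_eq,
      Submodule.map_top, LinearMap.range_eq_top]
    exact hf
  refine ⟨X • (T : Set N), ?_, ?_⟩
  · exact Set.Countable.image2 (Set.countable_range _) T.countable_toSet _
  · rw [Submodule.span_smul_of_span_eq_top hX, hT]; rfl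

end Countable

end Groth.Agent.Lib.Helper24.ComplFlatProj
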