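import Mathlib
import Groth.Agent.Lib.Helper97.Decaying
import Groth.Agent.Lib.Helper24.ComplFlatProj

/-!
# Descent of flatness along an injective map out of a local ring with nilpotent maximal ideal

`flat_of_flat_baseChange_of_injective`: `C` local with nilpotent maximal ideal, `C → C'` injective,
`X` a `C`-module with `C' ⊗ X` flat over `C'`.  Then `X` is flat (indeed free) over `C`.
-/

set_option autoImplicit false
universe u

open TensorProduct

namespace Groth.Agent.Lib.Helper24.ArtinDescent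

open Groth.Agent.Lib.Helper97.Decaying Groth.Agent.Lib.Helper24.ComplFlatProj

section family

variable {A : Type u} [CommRing A] [IsLocalRing A] (M : Type u) [AddCommGroup M] [Module A M]

/-- A family of elements of `M` lifting a basis of `M / 𝔪 M`. -/
lemma exists_family :
    ∃ (Zt : Type u) (b : Zt → M),
      (∀ x : M, ∃ (S : Finset Zt) (a : Zt → A),
        x - ∑ z ∈ S, a z • b z ∈ (IsLocalRing.maximalIdeal A • ⊤ : Submodule A M)) ∧
      (∀ (S : Finset Zt) (a : Zt → A),
        ∑ z ∈ S, a z • b z ∈ (IsLocalRing.maximalIdeal A • ⊤ : Submodule A M) →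
          ∀ z ∈ S, a z ∈ IsLocalRing.maximalIdeal A) := by
  classical
  let _ : Field (A ⧸ (IsLocalRing.maximalIdeal A)) := Ideal.Quotient.field _
  let bas : Module.Basis (Module.Basis.ofVectorSpaceIndex (A ⧸ (IsLocalRing.maximalIdeal A)) (M ⧸ ((IsLocalRing.maximalIdeal A) • ⊤ : Submodule A M)))
      (A ⧸ (IsLocalRing.maximalIdeal A)) (M ⧸ ((IsLocalRing.maximalIdeal A) • ⊤ : Submodule A M)) :=
    Module.Basis.ofVectorSpace (A ⧸ (IsLocalRing.maximalIdeal A)) (M ⧸ ((IsLocalRing.maximalIdeal A) • ⊤ : Submodule A M))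
  have hsm : ∀ (a : A) (v : M ⧸ ((IsLocalRing.maximalIdeal A) • ⊤ : Submodule A M)),
      (Ideal.Quotient.mk (IsLocalRing.maximalIdeal A) a : A ⧸ (IsLocalRing.maximalIdeal A)) • v = a • v := by
    intro a v
    obtain ⟨x, rfl⟩ := Submodule.mkQ_surjective _ v
    rfl
  choose b hb using fun z : Module.Basis.ofVectorSpaceIndex (A ⧸ (IsLocalRing.maximalIdeal A)) (M ⧸ ((IsLocalRing.maximalIdeal A) • ⊤ : Submodule A M)) =>
    Submodule.mkQ_surjective ((IsLocalRing.maximalIdeal A) • ⊤ : Submodule A M) (bas z)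
  have hq : ∀ (S : Finset (Module.Basis.ofVectorSpaceIndex (A ⧸ (IsLocalRing.maximalIdeal A)) (M ⧸ ((IsLocalRing.maximalIdeal A) • ⊤ : Submodule A M))))
      (a : Module.Basis.ofVectorSpaceIndex (A ⧸ (IsLocalRing.maximalIdeal A)) (M ⧸ ((IsLocalRing.maximalIdeal A) • ⊤ : Submodule A M)) → A),
      ((IsLocalRing.maximalIdeal A) • ⊤ : Submodule A M).mkQ (∑ z ∈ S, a z • b z) =
        ∑ z ∈ S, (Ideal.Quotient.mk (IsLocalRing.maximalIdeal A) (a z) : A ⧸ (IsLocalRing.maximalIdeal A)) • bas z := by
    intro S a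
    rw [map_sum]
    refine Finset.sum_congr rfl fun z _ => ?_
    rw [map_smul, hb, hsm]
  refine ⟨Module.Basis.ofVectorSpaceIndex (A ⧸ (IsLocalRing.maximalIdeal A)) (M ⧸ ((IsLocalRing.maximalIdeal A) • ⊤ : Submodule A M)), b, ?_, ?_⟩
  · intro x
    choose a ha using fun z => Ideal.Quotient.mk_surjective
      (bas.repr (((IsLocalRing.maximalIdeal A) • ⊤ : Submodule A M).mkQ x) z)
    refine ⟨(bas.repr (((IsLocalRing.maximalIdeal A) • ⊤ : Submodule A M).mkQ x)).support, a, ?_⟩
    rw [← Submodule.Quotient.mk_eq_zero, ← Submodule.mkQ_apply, map_sub, sub_eq_zero, hq]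
    have h1 := bas.linearCombination_repr (((IsLocalRing.maximalIdeal A) • ⊤ : Submodule A M).mkQ x)
    rw [Finsupp.linearCombination_apply, Finsupp.sum] at h1
    refine Eq.trans h1.symm ?_
    exact (Finset.sum_congr rfl fun z _ => by rw [ha])
  · intro S a hS z hz
    have h0 : ((IsLocalRing.maximalIdeal A) • ⊤ : Submodule A M).mkQ (∑ z ∈ S, a z • b z) = 0 := by
      rw [Submodule.mkQ_apply, Submodule.Quotient.mk_eq_zero]; exact hS
    rw [hq] at h0
    have := linearIndependent_iff'.1 bas.linearIndependent S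
      (fun z => (Ideal.Quotient.mk (IsLocalRing.maximalIdeal A) (a z) : A ⧸ (IsLocalRing.maximalIdeal A))) h0 z hz
    exact Ideal.Quotient.eq_zero_iff_mem.1 this

end family

section descent

variable {C C' : Type u} [CommRing C] [CommRing C'] [Algebra C C'] [IsLocalRing C]

/-- nilpotent Nakayama: a submodule `P` with `⊤ ≤ P ⊔ 𝔫 • ⊤`, `𝔫` nilpotent, is `⊤`. -/
lemma eq_top_of_sup_smul_top {R : Type*} [CommRing R] {X : Type*} [AddCommGroup X] [Module R X]
    (J : Ideal R) (N : ℕ) (hJ : J ^ N = ⊥) (P : Submodule R X)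
    (h : (⊤ : Submodule R X) ≤ P ⊔ J • ⊤) : P = ⊤ := by
  have key : ∀ j : ℕ, (⊤ : Submodule R X) ≤ P ⊔ J ^ j • ⊤ := by
    intro j
    induction j with
    | zero => rw [pow_zero, Ideal.one_eq_top, Submodule.top_smul]; exact le_sup_right
    | succ j ih =>
      calc (⊤ : Submodule R X) ≤ P ⊔ J ^ j • ⊤ := ih
        _ ≤ P ⊔ J ^ j • (P ⊔ J • ⊤) := sup_le_sup_left (Submodule.smul_mono le_rfl h) P
        _ ≤ P ⊔ J ^ (j + 1) • ⊤ := by
          rw [Submodule.smul_sup, ← Submodule.mul_smul, ← pow_succ]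
          refine sup_le le_sup_left (sup_le ?_ le_sup_right)
          exact le_trans Submodule.smul_le_right le_sup_left
  have := key N
  rw [hJ, Submodule.bot_smul, sup_bot_eq] at this
  exact top_le_iff.1 this

/-- a submodule `L` with `L ≤ J • L`, `J` nilpotent, is `⊥`. -/
lemma eq_bot_of_le_smul {R : Type*} [CommRing R] {X : Type*} [AddCommGroup X] [Module R X]
    (J : Ideal R) (N : ℕ) (hJ : J ^ N = ⊥) (L : Submodule R X) (h : L ≤ J • L) : L = ⊥ := by
  have key : ∀ j : ℕ, L ≤ J ^ j • L := by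
    intro j
    induction j with
    | zero => rw [pow_zero, Ideal.one_eq_top, Submodule.top_smul]
    | succ j ih =>
      calc L ≤ J ^ j • L := ih
        _ ≤ J ^ j • (J • L) := Submodule.smul_mono le_rfl h
        _ = J ^ (j + 1) • L := by rw [← Submodule.mul_smul, ← pow_succ]
  have := key N
  rw [hJ, Submodule.bot_smul] at this
  exact le_bot_iff.1 this

theorem flat_of_flat_baseChange_of_injective (N : ℕ)
    (hnil : IsLocalRing.maximalIdeal C ^ N = ⊥) (hinj : Function.Injective (algebraMap C C'))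
    (X : Type u) [AddCommGroup X] [Module C X] [Module.Flat C' (C' ⊗[C] X)] :
    Module.Flat C X := by
  classical
  obtain ⟨Z, b, hspan, hindep⟩ := exists_family (A := C) X
  let π : (Z →₀ C) →ₗ[C] X := Finsupp.linearCombination C b
  -- surjectivity
  have hπsurj : Function.Surjective π := by
    rw [← LinearMap.range_eq_top]
    apply eq_top_of_sup_smul_top (IsLocalRing.maximalIdeal C) N hnil
    intro x _
    obtain ⟨S, a, hS⟩ := hspan x
    have hx : x = π (∑ z ∈ S, Finsupp.single z (a z)) + (x - ∑ z ∈ S, a z • b z) := by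
      simp [π, Finsupp.linearCombination_single]
    rw [hx]
    exact Submodule.add_mem_sup (LinearMap.mem_range_self _ _) hS
  -- the kernel lies in `𝔫 F`
  have hK : LinearMap.ker π ≤ (IsLocalRing.maximalIdeal C • ⊤ : Submodule C (Z →₀ C)) := by
    intro f hf
    apply finsupp_mem_smul_top
    intro z
    by_cases hz : z ∈ f.support
    · have h0 : ∑ z ∈ f.support, f z • b z = 0 := by
        have := LinearMap.mem_ker.1 hf
        rwa [Finsupp.linearCombination_apply, Finsupp.sum] at this
      exact hindep f.support f (h0 ▸ Submodule.zero_mem _) z hz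
    · rw [Finsupp.notMem_support_iff.1 hz]; exact Submodule.zero_mem _
  -- base change
  let π' : C' ⊗[C] (Z →₀ C) →ₗ[C'] C' ⊗[C] X := π.baseChange C'
  have hπ'surj : Function.Surjective π' := by
    have : ⇑π' = ⇑(LinearMap.lTensor C' π) := rfl
    rw [this]
    exact LinearMap.lTensor_surjective C' hπsurj
  have hex0 : Function.Exact (LinearMap.ker π).subtype π := LinearMap.exact_subtype_ker_map π
  have hex := lTensor_exact (M := ↥(LinearMap.ker π)) C' hex0 hπsurj
  let J' : Ideal C' := (IsLocalRing.maximalIdeal C).map (algebraMap C C')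
  have hJ' : J' ^ N = ⊥ := by
    rw [← Ideal.map_pow, hnil, Ideal.map_bot]
  have haux : ∀ (c' : C') (f : Z →₀ C),
      f ∈ (IsLocalRing.maximalIdeal C • ⊤ : Submodule C (Z →₀ C)) →
      c' ⊗ₜ[C] f ∈ (J' • ⊤ : Submodule C' (C' ⊗[C] (Z →₀ C))) := by
    intro c' f hf
    refine Submodule.smul_induction_on hf ?_ ?_
    · intro r hr g _
      have : c' ⊗ₜ[C] (r • g) = (algebraMap C C' r) • (c' ⊗ₜ[C] g) := by
        rw [TensorProduct.tmul_smul, algebraMap_smul]
      rw [this]
      exact Submodule.smul_mem_smul (Ideal.mem_map_of_mem _ hr) Submodule.mem_top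
    · intro g h hg hh
      rw [TensorProduct.tmul_add]
      exact Submodule.add_mem _ hg hh
  have hL1 : LinearMap.ker π' ≤ (J' • ⊤ : Submodule C' (C' ⊗[C] (Z →₀ C))) := by
    intro y hy
    have hy' : LinearMap.lTensor C' π y = 0 := hy
    obtain ⟨w, rfl⟩ := (hex y).1 hy'
    clear hy hy'
    induction w using TensorProduct.induction_on with
    | zero => rw [map_zero]; exact Submodule.zero_mem _
    | add a b ha hb => rw [map_add]; exact Submodule.add_mem _ ha hb
    | tmul c' k =>
      rw [LinearMap.lTensor_tmul]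
      exact haux c' k (hK k.2)
  have hL : LinearMap.ker π' = ⊥ := by
    apply eq_bot_of_le_smul J' N hJ'
    intro y hy
    exact mem_smul_ker_of_flat π' hπ'surj J' y hy (hL1 hy)
  -- the kernel vanishes
  have hKbot : LinearMap.ker π = ⊥ := by
    rw [eq_bot_iff]
    intro f hf
    have h1 : (1 : C') ⊗ₜ[C] f ∈ LinearMap.ker π' := by
      rw [LinearMap.mem_ker]
      show (1 : C') ⊗ₜ[C] π f = 0
      rw [LinearMap.mem_ker.1 hf, TensorProduct.tmul_zero]
    rw [hL, Submodule.mem_bot] at h1
    rw [Submodule.mem_bot]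
    ext z
    have h2 := congrArg (fun w => TensorProduct.rid C C'
      (LinearMap.lTensor C' (Finsupp.lapply z : (Z →₀ C) →ₗ[C] C) w)) h1
    simp only [LinearMap.lTensor_tmul, Finsupp.lapply_apply, TensorProduct.rid_tmul, map_zero]
      at h2
    rw [Algebra.smul_def, mul_one] at h2
    rw [Finsupp.zero_apply]
    exact hinj (h2.trans (map_zero _).symm)
  have hπinj : Function.Injective π := LinearMap.ker_eq_bot.1 hKbot
  exact Module.Flat.of_linearEquiv (LinearEquiv.ofBijective π ⟨hπinj, hπsurj⟩).symm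

end descent

end Groth.Agent.Lib.Helper24.ArtinDescent
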