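import Mathlib

universe u
set_option autoImplicit false

namespace Groth.Agent.Lib.Helper24.BDL

variable {R : Type u} [CommRing R] (J I : Ideal R) (f : R)

theorem bdl_le_sup : J ⊔ Ideal.span {f} * I ≤ J ⊔ Ideal.span {f} :=
  sup_le_sup_left Ideal.mul_le_left J

/-- multiplication by `f`: `R/I → R/(J + fI)` -/
noncomputable def mulMap : (R ⧸ I) →ₗ[R] (R ⧸ (J ⊔ Ideal.span {f} * I)) :=
  Submodule.liftQ I ((Submodule.mkQ (J ⊔ Ideal.span {f} * I)).comp (LinearMap.toSpanSingleton R R f))
    (by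
      intro r hr
      rw [LinearMap.mem_ker, LinearMap.comp_apply, LinearMap.toSpanSingleton_apply,
        Submodule.mkQ_apply, Submodule.Quotient.mk_eq_zero, smul_eq_mul, mul_comm r f]
      exact Ideal.mem_sup_right (Ideal.mul_mem_mul (Ideal.mem_span_singleton_self f) hr))

theorem mulMap_mk (r : R) :
    mulMap J I f (Submodule.Quotient.mk r) = Submodule.Quotient.mk (r * f) := by
  show Submodule.liftQ I _ _ (Submodule.Quotient.mk r) = _
  rw [Submodule.liftQ_apply, LinearMap.comp_apply, LinearMap.toSpanSingleton_apply,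
    Submodule.mkQ_apply, smul_eq_mul]

variable {J I f}

theorem mulMap_injective (hJI : J ≤ I) (hJf : J.colon {f} = J) :
    Function.Injective (mulMap J I f) := by
  rw [← LinearMap.ker_eq_bot, LinearMap.ker_eq_bot']
  intro x hx
  obtain ⟨r, rfl⟩ := Submodule.Quotient.mk_surjective _ x
  rw [mulMap_mk, Submodule.Quotient.mk_eq_zero] at hx
  rw [Submodule.Quotient.mk_eq_zero]
  obtain ⟨j, hj, y, hy, hjy⟩ := Submodule.mem_sup.mp hx
  obtain ⟨i, hi, rfl⟩ := Ideal.mem_span_singleton_mul.mp hy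
  have h1 : r - i ∈ J := by
    rw [← hJf, Submodule.mem_colon_singleton, smul_eq_mul]
    have : (r - i) * f = j := by
      rw [sub_mul, ← hjy]; ring
    rw [this]; exact hj
  have := I.add_mem (hJI h1) hi
  rwa [sub_add_cancel] at this

variable (J I f)

theorem exact_mulMap_factor :
    Function.Exact (mulMap J I f) (Submodule.factor (bdl_le_sup J I f)) := by
  intro y
  obtain ⟨r, rfl⟩ := Submodule.Quotient.mk_surjective _ y
  rw [← Submodule.mkQ_apply, Submodule.factor_mk, Submodule.mkQ_apply, Submodule.Quotient.mk_eq_zero]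
  constructor
  · intro hr
    obtain ⟨j, hj, y, hy, hjy⟩ := Submodule.mem_sup.mp hr
    obtain ⟨a, rfl⟩ := Ideal.mem_span_singleton'.mp hy
    refine ⟨Submodule.Quotient.mk a, ?_⟩
    rw [mulMap_mk, Submodule.mkQ_apply, Submodule.Quotient.eq, ← hjy]
    have : a * f - (j + a * f) = -j := by ring
    rw [this]
    exact Ideal.mem_sup_left (J.neg_mem hj)
  · rintro ⟨x, hx⟩
    obtain ⟨a, rfl⟩ := Submodule.Quotient.mk_surjective _ x
    rw [mulMap_mk, Submodule.mkQ_apply, Submodule.Quotient.eq] at hx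
    have h1 : a * f ∈ J ⊔ Ideal.span {f} :=
      Ideal.mem_sup_right (Ideal.mem_span_singleton'.mpr ⟨a, rfl⟩)
    have h2 := bdl_le_sup J I f hx
    have := (J ⊔ Ideal.span {f}).sub_mem h1 h2
    rwa [sub_sub_cancel] at this

/-- Associated primes of a basic double link. -/
theorem associatedPrimes_bdl (hJI : J ≤ I) (hJf : J.colon {f} = J) :
    associatedPrimes R (R ⧸ I) ⊆ associatedPrimes R (R ⧸ (J ⊔ Ideal.span {f} * I)) ∧
    associatedPrimes R (R ⧸ (J ⊔ Ideal.span {f} * I)) ⊆
      associatedPrimes R (R ⧸ I) ∪ associatedPrimes R (R ⧸ (J ⊔ Ideal.span {f})) :=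
  ⟨associatedPrimes.subset_of_injective (mulMap_injective hJI hJf),
    associatedPrimes.subset_union_of_exact (mulMap_injective hJI hJf)
      (exact_mulMap_factor J I f)⟩

end Groth.Agent.Lib.Helper24.BDL
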