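import Mathlib
import Groth.Prelude.Def_CAlg
import Groth.Prelude.Def_GrSyz
import Groth.Agent.Lib.Helper8.GrSyzBasic
import Groth.Agent.Lib.Helper11.CMUnmixed
import Groth.Agent.Lib.Helper73.DimFT.Catenary
import Groth.Agent.Lib.Helper67.CMCat
import Groth.Agent.Lib.Helper24.Linkage2
import Groth.Agent.Lib.Helper4.GorCM

universe u v
set_option autoImplicit false
open LocCoh IsLocalRing

namespace Groth.Agent.Lib.Helper24.GrUnmixed

open Groth.Agent.Lib.Helper24.Linkage2

section AssColon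

variable {R : Type u} [CommRing R] [IsNoetherianRing R]

/-- `Ass(R/(𝔠 : I)) ⊆ Ass(R/𝔠)`. -/
theorem associatedPrimes_colon_subset (𝔠 I : Ideal R) :
    associatedPrimes R (R ⧸ 𝔠.colon (I : Set R)) ⊆ associatedPrimes R (R ⧸ 𝔠) := by
  classical
  intro p hp
  obtain ⟨hpp, y, hy⟩ := isAssociatedPrime_iff.mp hp
  obtain ⟨y, rfl⟩ := Ideal.Quotient.mk_surjective y
  obtain ⟨T, hT⟩ := (isNoetherianRing_iff_ideal_fg R).mp inferInstance I
  have hmem : ∀ r : R, r ∈ p ↔ ∀ t ∈ T, r * y * t ∈ 𝔠 := by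
    intro r
    rw [hy, Submodule.mem_colon_singleton, Submodule.mem_bot]
    change Ideal.Quotient.mk _ (r * y) = 0 ↔ _
    rw [Ideal.Quotient.eq_zero_iff_mem, Submodule.mem_colon]
    constructor
    · intro h t ht
      have := h t (by rw [← hT]; exact Ideal.subset_span ht)
      rwa [smul_eq_mul] at this
    · intro h i hi
      rw [SetLike.mem_coe, ← hT] at hi
      rw [smul_eq_mul]
      refine Submodule.span_induction (p := fun i _ => r * y * i ∈ 𝔠) ?_ ?_ ?_ ?_ hi
      · intro t ht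
        exact h t ht
      · rw [mul_zero]; exact 𝔠.zero_mem
      · intro a b _ _ ha hb
        rw [mul_add]; exact 𝔠.add_mem ha hb
      · intro a b _ hb
        rw [smul_eq_mul, mul_left_comm]; exact 𝔠.mul_mem_left _ hb
  have hinf : T.inf (fun t => 𝔠.colon {y * t}) ≤ p := by
    intro r hr
    rw [hmem]
    intro t ht
    have := (Finset.inf_le ht : T.inf (fun t => 𝔠.colon {y * t}) ≤ _) hr
    rw [Submodule.mem_colon_singleton, smul_eq_mul] at this
    rwa [mul_assoc]
  obtain ⟨t, ht, hle⟩ := (Ideal.IsPrime.inf_le' hpp).mp hinf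
  have heq : p = 𝔠.colon {y * t} := by
    apply le_antisymm _ hle
    intro r hr
    rw [Submodule.mem_colon_singleton, smul_eq_mul, ← mul_assoc]
    exact (hmem r).mp hr t ht
  refine isAssociatedPrime_iff.mpr ⟨hpp, Ideal.Quotient.mk 𝔠 (y * t), ?_⟩
  rw [heq]
  ext r
  rw [Submodule.mem_colon_singleton, Submodule.mem_colon_singleton, Submodule.mem_bot]
  change _ ↔ Ideal.Quotient.mk _ (r * (y * t)) = 0
  rw [Ideal.Quotient.eq_zero_iff_mem, smul_eq_mul]

end AssColon

section Homog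

variable {K : Type u} [Field K] {σ : Type v}

open GrSyz MvPolynomial Groth.Agent.Lib.Helper8.GrSyzBasic

/-- A proper homogeneous ideal of a polynomial ring lies in the ideal of polynomials without
constant term. -/
theorem le_ker_constantCoeff (J : Ideal (MvPolynomial σ K)) (hJ : J.IsHomogeneous (stdGr K σ))
    (hne : J ≠ ⊤) : J ≤ RingHom.ker (constantCoeff : MvPolynomial σ K →+* K) := by
  classical
  intro f hf
  rw [RingHom.mem_ker]
  set f₀ : MvPolynomial σ K := (DirectSum.decompose (stdGr K σ) f 0 : MvPolynomial σ K) with hf₀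
  have hf₀J : f₀ ∈ J := hJ 0 hf
  have hf₀0 : f₀ ∈ stdGr K σ 0 := (DirectSum.decompose (stdGr K σ) f 0).2
  have hC := eq_C_of_mem_stdGr_zero hf₀0
  have hc0 : constantCoeff f₀ = 0 := by
    by_contra hc
    apply hne
    rw [Ideal.eq_top_iff_one]
    have : (C (constantCoeff f₀)⁻¹ : MvPolynomial σ K) * f₀ = 1 := by
      rw [hC, constantCoeff_C, ← C_mul, inv_mul_cancel₀ hc, C_1]
    rw [← this]
    exact J.mul_mem_left _ hf₀J
  have hsum := DirectSum.sum_support_decompose (stdGr K σ) f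
  rw [← hsum, map_sum]
  rw [Finset.sum_eq_single (0 : ℤ)]
  · exact hc0
  · intro i _ hi
    exact constantCoeff_eq_zero_of_mem_stdGr hi (DirectSum.decompose (stdGr K σ) f i).2
  · intro h0
    rw [DFinsupp.notMem_support_iff] at h0
    rw [h0]
    simp

/-- Minimal primes over a homogeneous ideal are homogeneous. -/
theorem isHomogeneous_of_mem_minimalPrimes {A : Type u} [CommRing A] [Algebra K A]
    (𝒜 : ℤ → Submodule K A) [GradedAlgebra 𝒜] {I : Ideal A} (hI : I.IsHomogeneous 𝒜) {q : Ideal A}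
    (hq : q ∈ I.minimalPrimes) : q.IsHomogeneous 𝒜 := by
  have hqp : q.IsPrime := hq.1.1
  have hcp : (q.homogeneousCore 𝒜).toIdeal.IsPrime := hqp.homogeneousCore
  have hIc : I ≤ (q.homogeneousCore 𝒜).toIdeal := by
    have := Ideal.homogeneousCore_mono 𝒜 hq.1.2
    rw [← hI.toIdeal_homogeneousCore_eq_self]
    exact this
  have hle : (q.homogeneousCore 𝒜).toIdeal ≤ q := Ideal.toIdeal_homogeneousCore_le 𝒜 q
  have : q ≤ (q.homogeneousCore 𝒜).toIdeal := hq.2 ⟨hcp, hIc⟩ hle
  have e : (q.homogeneousCore 𝒜).toIdeal = q := le_antisymm hle this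
  rw [← e]
  exact (q.homogeneousCore 𝒜).isHomogeneous

end Homog

section Dim

variable (k : Type u) [Field k] {R : Type u} [CommRing R] [Algebra k R] [Algebra.FiniteType k R]
  [IsDomain R]

include k in
theorem height_add_ringKrullDim_localization (𝔠 m P : Ideal R) [hm : m.IsMaximal]
    [hMp : (m.map (Ideal.Quotient.mk 𝔠)).IsPrime]
    [hCM : LocCoh.IsCohenMacaulayLocalRing (Localization.AtPrime (m.map (Ideal.Quotient.mk 𝔠)))]
    (hP : P ∈ 𝔠.minimalPrimes) (hPm : P ≤ m) :
    (P.height : WithBot ℕ∞) +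
      ringKrullDim (Localization.AtPrime (m.map (Ideal.Quotient.mk 𝔠))) = ringKrullDim R := by
  have hPp : P.IsPrime := hP.1.1
  have h𝔠P : 𝔠 ≤ P := hP.1.2
  have h1 := Groth.Agent.Lib.Helper73.height_add_ringKrullDim_quotient k P
  rw [← h1]
  congr 1
  set B := R ⧸ 𝔠
  set M : Ideal B := m.map (Ideal.Quotient.mk 𝔠) with hM
  set C := Localization.AtPrime M
  set Qb : Ideal B := P.map (Ideal.Quotient.mk 𝔠) with hQb
  have hQbp : Qb.IsPrime :=
    Ideal.map_isPrime_of_surjective Ideal.Quotient.mk_surjective (by simpa using h𝔠P)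
  have hQbmin : Qb ∈ minimalPrimes B := by
    rw [Ideal.minimalPrimes_eq_comap] at hP
    obtain ⟨Q', hQ'min, hQ'⟩ := hP
    rw [hQb, ← hQ', Ideal.map_comap_of_surjective _ Ideal.Quotient.mk_surjective]
    exact hQ'min
  have hQbM : Qb ≤ M := Ideal.map_mono hPm
  have e1 : (B ⧸ Qb) ≃+* R ⧸ P := DoubleQuot.quotQuotEquivQuotOfLE h𝔠P
  rw [← ringKrullDim_eq_of_ringEquiv e1]
  set q : Ideal (B ⧸ Qb) := M.map (Ideal.Quotient.mk Qb) with hq
  have hqM : q.comap (Ideal.Quotient.mk Qb) = M := by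
    rw [hq, Ideal.comap_map_of_surjective' _ Ideal.Quotient.mk_surjective, Ideal.mk_ker,
      sup_eq_left.mpr hQbM]
  have hMmax : M.IsMaximal := by
    rcases Ideal.map_eq_top_or_isMaximal_of_surjective (Ideal.Quotient.mk 𝔠)
      Ideal.Quotient.mk_surjective hm with h | h
    · exact absurd h hMp.ne_top
    · exact h
  have hqmax : q.IsMaximal := by
    rcases Ideal.map_eq_top_or_isMaximal_of_surjective (Ideal.Quotient.mk Qb)
      Ideal.Quotient.mk_surjective hMmax with h | h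
    · exfalso
      rw [← hq] at h
      rw [h, Ideal.comap_top] at hqM
      exact hMp.ne_top hqM.symm
    · exact h
  have h2 := Groth.Agent.Lib.Helper73.height_eq_ringKrullDim_of_isMaximal k q
  rw [← h2, ← IsLocalization.AtPrime.ringKrullDim_eq_height q (Localization.AtPrime q)]
  have e2 := locQuotEquiv B Qb M q hqM
  rw [ringKrullDim_eq_of_ringEquiv e2]
  have hdisj : Disjoint (M.primeCompl : Set B) (Qb : Set B) := by
    rw [Set.disjoint_left]
    intro x hx hxQ
    exact hx (hQbM hxQ)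
  have hQCp : (Qb.map (algebraMap B C)).IsPrime :=
    IsLocalization.isPrime_of_isPrime_disjoint M.primeCompl C Qb hQbp hdisj
  have hht : (Qb.map (algebraMap B C)).height = 0 := by
    rw [IsLocalization.height_map_of_disjoint M.primeCompl Qb hdisj, Ideal.height_eq_zero_iff]
    exact hQbmin
  have hsupp : Module.support C C = Set.univ := by
    rw [Module.support_of_algebra,
      (RingHom.injective_iff_ker_eq_bot (algebraMap C C)).mp Function.injective_id]
    simp
  have h3 := Groth.Agent.Lib.Helper67.CMCat.ringKrullDim_quotient_add_height (R := C) C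
    hCM.supportDim_eq_depth hsupp (Qb.map (algebraMap B C))
  rw [hht] at h3
  simpa using h3.symm

end Dim

section Main

open GrSyz MvPolynomial

variable (K : Type u) [Field K] (n : ℕ)

/-- Gorenstein rings are Cohen–Macaulay rings. -/
theorem isCohenMacaulayRing_of_isGorensteinRing (A : Type u) [CommRing A]
    [LocCoh.IsGorensteinRing A] : LocCoh.IsCohenMacaulayRing A :=
  { isCohenMacaulayLocalRing_localization := fun p _ =>
      haveI : LocCoh.IsGorensteinLocalRing (Localization.AtPrime p) :=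
        LocCoh.IsGorensteinRing.isGorensteinLocalRing_localization p
      Groth.Agent.Lib.Helper4.GorCM.isCohenMacaulayLocalRing_of_gorenstein _ }

/-- All minimal primes of a homogeneous ideal `𝔠` of a polynomial ring with `R/𝔠`
Cohen–Macaulay have the same height. -/
theorem height_eq_of_mem_minimalPrimes
    (𝔠 : Ideal (MvPolynomial (Fin (n + 1)) K))
    (h𝔠 : 𝔠.IsHomogeneous (GrSyz.stdGr K (Fin (n + 1))))
    [LocCoh.IsCohenMacaulayRing (MvPolynomial (Fin (n + 1)) K ⧸ 𝔠)]
    {P P₀ : Ideal (MvPolynomial (Fin (n + 1)) K)} (hP : P ∈ 𝔠.minimalPrimes)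
    (hP₀ : P₀ ∈ 𝔠.minimalPrimes) : P.height = P₀.height := by
  set R := MvPolynomial (Fin (n + 1)) K
  set m : Ideal R := RingHom.ker (constantCoeff : R →+* K) with hm
  have hmmax : m.IsMaximal :=
    RingHom.ker_isMaximal_of_surjective _ (fun a => ⟨C a, constantCoeff_C _ a⟩)
  have hPp : P.IsPrime := hP.1.1
  have hP₀p : P₀.IsPrime := hP₀.1.1
  have hPm : P ≤ m := le_ker_constantCoeff P
    (isHomogeneous_of_mem_minimalPrimes _ h𝔠 hP) hPp.ne_top
  have hP₀m : P₀ ≤ m := le_ker_constantCoeff P₀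
    (isHomogeneous_of_mem_minimalPrimes _ h𝔠 hP₀) hP₀p.ne_top
  have h𝔠m : 𝔠 ≤ m := hP.1.2.trans hPm
  have hMp : (m.map (Ideal.Quotient.mk 𝔠)).IsPrime :=
    Ideal.map_isPrime_of_surjective Ideal.Quotient.mk_surjective (by simpa using h𝔠m)
  have hCM : LocCoh.IsCohenMacaulayLocalRing
      (Localization.AtPrime (m.map (Ideal.Quotient.mk 𝔠))) :=
    LocCoh.IsCohenMacaulayRing.isCohenMacaulayLocalRing_localization _
  have h1 := height_add_ringKrullDim_localization K 𝔠 m P hP hPm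
  have h2 := height_add_ringKrullDim_localization K 𝔠 m P₀ hP₀ hP₀m
  set C := Localization.AtPrime (m.map (Ideal.Quotient.mk 𝔠))
  have hdim : ringKrullDim C = ((m.map (Ideal.Quotient.mk 𝔠)).height : WithBot ℕ∞) :=
    IsLocalization.AtPrime.ringKrullDim_eq_height (m.map (Ideal.Quotient.mk 𝔠)) C
  obtain ⟨d, hd⟩ := ENat.ne_top_iff_exists.mp
    (Ideal.height_ne_top (I := m.map (Ideal.Quotient.mk 𝔠)) hMp.ne_top)
  obtain ⟨a, ha⟩ := ENat.ne_top_iff_exists.mp (Ideal.height_ne_top (I := P) hPp.ne_top)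
  obtain ⟨b, hb⟩ := ENat.ne_top_iff_exists.mp (Ideal.height_ne_top (I := P₀) hP₀p.ne_top)
  rw [hdim, ← hd, ← ha] at h1
  rw [hdim, ← hd, ← hb] at h2
  rw [← ha, ← hb]
  have h3 : ((a : ℕ∞) : WithBot ℕ∞) + ((d : ℕ∞) : WithBot ℕ∞) =
      ((b : ℕ∞) : WithBot ℕ∞) + ((d : ℕ∞) : WithBot ℕ∞) := h1.trans h2.symm
  have h4 : a + d = b + d := by exact_mod_cast h3
  have : a = b := by omega
  rw [this]

theorem main (c : ℕ)
    (𝔠 I : Ideal (MvPolynomial (Fin (n + 1)) K))
    (h𝔠 : 𝔠.IsHomogeneous (GrSyz.stdGr K (Fin (n + 1))))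
    [LocCoh.IsGorensteinRing (MvPolynomial (Fin (n + 1)) K ⧸ 𝔠)] (h𝔠c : 𝔠.height = c)
    (hI𝔠 : ¬ I ≤ 𝔠) :
    (𝔠.colon (I : Set (MvPolynomial (Fin (n + 1)) K))).height = c ∧
      ∀ p ∈ associatedPrimes (MvPolynomial (Fin (n + 1)) K)
        (MvPolynomial (Fin (n + 1)) K ⧸ 𝔠.colon (I : Set (MvPolynomial (Fin (n + 1)) K))),
        p.height = c := by
  set R := MvPolynomial (Fin (n + 1)) K
  have : LocCoh.IsCohenMacaulayRing (R ⧸ 𝔠) := isCohenMacaulayRing_of_isGorensteinRing _
  obtain ⟨P₀, hP₀p, h𝔠P₀, hP₀c⟩ := Ideal.exists_isPrime_height_eq h𝔠c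
  have hP₀min : P₀ ∈ 𝔠.minimalPrimes :=
    Ideal.mem_minimalPrimes_of_height_le h𝔠P₀ (by rw [hP₀c, h𝔠c])
  have hass : ∀ p ∈ associatedPrimes R (R ⧸ 𝔠.colon (I : Set R)), p.height = c := by
    intro p hp
    have hp' := associatedPrimes_colon_subset 𝔠 I hp
    have hpmin :=
      Groth.Agent.Lib.Helper11.CMUnmixed.mem_minimalPrimes_of_mem_associatedPrimes_quotient 𝔠 hp'
    rw [height_eq_of_mem_minimalPrimes K n 𝔠 h𝔠 hpmin hP₀min, hP₀c]
  refine ⟨?_, hass⟩
  apply le_antisymm
  · have hne : 𝔠.colon (I : Set R) ≠ ⊤ := by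
      intro h
      apply hI𝔠
      intro i hi
      have h1 : (1 : R) ∈ 𝔠.colon (I : Set R) := h ▸ Submodule.mem_top
      rw [Submodule.mem_colon] at h1
      simpa using h1 i hi
    have : Nontrivial (R ⧸ 𝔠.colon (I : Set R)) := Ideal.Quotient.nontrivial_iff.mpr hne
    obtain ⟨p, hp⟩ := associatedPrimes.nonempty R (R ⧸ 𝔠.colon (I : Set R))
    have hle : 𝔠.colon (I : Set R) ≤ p := by
      obtain ⟨-, y, hy⟩ := isAssociatedPrime_iff.mp hp
      obtain ⟨y, rfl⟩ := Ideal.Quotient.mk_surjective y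
      intro r hr
      rw [hy, Submodule.mem_colon_singleton, Submodule.mem_bot]
      change Ideal.Quotient.mk _ (r * y) = 0
      rw [Ideal.Quotient.eq_zero_iff_mem]
      exact Ideal.mul_mem_right _ _ hr
    rw [← hass p hp]
    exact Ideal.height_mono hle
  · rw [← h𝔠c]
    exact Ideal.height_mono (le_colon_self 𝔠 I)

end Main

end Groth.Agent.Lib.Helper24.GrUnmixed
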