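import Mathlib
import Groth.Agent.Lib.Helper24.GrUnmixed
import Groth.Agent.Lib.Helper77.CMQuot
import Groth.Agent.Lib.Helper56.CMRing
universe u v
set_option autoImplicit false
open LocCoh IsLocalRing

namespace Groth.Agent.Lib.Helper24.GrUnmixed

open Groth.Agent.Lib.Helper24.Linkage2
section DimPrime

variable (k : Type u) [Field k] {R : Type u} [CommRing R] [Algebra k R] [Algebra.FiniteType k R]
  [IsDomain R]

include k in
/-- `ht Q + ht(P'/Q) = ht P'` for primes `Q ≤ P'` of an affine domain, in the form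
`ht Q + ht (P'/Q) = ht P'`. -/
theorem height_add_height_map_mk (Q P' : Ideal R) [hQ : Q.IsPrime] [hP' : P'.IsPrime]
    (hQP : Q ≤ P') [hq : (P'.map (Ideal.Quotient.mk Q)).IsPrime] :
    Q.height + (P'.map (Ideal.Quotient.mk Q)).height = P'.height := by
  have h1 := Groth.Agent.Lib.Helper73.height_add_ringKrullDim_quotient k Q
  have h2 := Groth.Agent.Lib.Helper73.height_add_ringKrullDim_quotient k P'
  have h3 := Groth.Agent.Lib.Helper73.height_add_ringKrullDim_quotient k
    (P'.map (Ideal.Quotient.mk Q))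
  have e : ((R ⧸ Q) ⧸ P'.map (Ideal.Quotient.mk Q)) ≃+* R ⧸ P' :=
    DoubleQuot.quotQuotEquivQuotOfLE hQP
  rw [ringKrullDim_eq_of_ringEquiv e] at h3
  obtain ⟨d, hd⟩ := Groth.Agent.Lib.Helper73.exists_nat_ringKrullDim_eq k (R ⧸ P')
  have : IsNoetherianRing R := Algebra.FiniteType.isNoetherianRing k R
  obtain ⟨a, ha⟩ := ENat.ne_top_iff_exists.mp (Ideal.height_ne_top (I := Q) hQ.ne_top)
  obtain ⟨b, hb⟩ := ENat.ne_top_iff_exists.mp (Ideal.height_ne_top (I := P') hP'.ne_top)
  obtain ⟨c, hc⟩ := ENat.ne_top_iff_exists.mp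
    (Ideal.height_ne_top (I := P'.map (Ideal.Quotient.mk Q)) hq.ne_top)
  rw [← ha, ← hb, ← hc]
  rw [← h3, ← hc, hd, ← ha] at h1
  rw [← hb, hd] at h2
  have h4 : ((a : ℕ∞) : WithBot ℕ∞) + (((c : ℕ∞) : WithBot ℕ∞) + (d : WithBot ℕ∞)) =
      ((b : ℕ∞) : WithBot ℕ∞) + (d : WithBot ℕ∞) := h1.trans h2.symm
  have h5 : a + (c + d) = b + d := by exact_mod_cast h4
  have : a + c = b := by omega
  exact_mod_cast this

include k in
/-- For a prime `P' ⊇ 𝔠` such that `(R/𝔠)_{P'}` is CM local and a minimal prime `Q ≤ P'` of `𝔠`: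
`ht Q + dim (R/𝔠)_{P'} = ht P'`. -/
theorem height_add_ringKrullDim_localization_prime (𝔠 m P : Ideal R) [hm : m.IsPrime]
    [hMp : (m.map (Ideal.Quotient.mk 𝔠)).IsPrime]
    [hCM : LocCoh.IsCohenMacaulayLocalRing (Localization.AtPrime (m.map (Ideal.Quotient.mk 𝔠)))]
    (hP : P ∈ 𝔠.minimalPrimes) (hPm : P ≤ m) :
    (P.height : WithBot ℕ∞) +
      ringKrullDim (Localization.AtPrime (m.map (Ideal.Quotient.mk 𝔠))) = m.height := by
  have hPp : P.IsPrime := hP.1.1
  have h𝔠P : 𝔠 ≤ P := hP.1.2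
  have hqp : (m.map (Ideal.Quotient.mk P)).IsPrime :=
    Ideal.map_isPrime_of_surjective Ideal.Quotient.mk_surjective (by simpa using hPm)
  have h1 := height_add_height_map_mk k P m hPm
  rw [← h1, WithBot.coe_add]
  congr 1
  set B := R ⧸ 𝔠
  set M : Ideal B := m.map (Ideal.Quotient.mk 𝔠) with hM
  set C := Localization.AtPrime M
  set Qb : Ideal B := P.map (Ideal.Quotient.mk 𝔠) with hQb
  have hQbp : Qb.IsPrime :=
    Ideal.map_isPrime_of_surjective Ideal.Quotient.mk_surjective (by simpa using h𝔠P)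
  have hQbmin : Qb ∈ minimalPrimes B := by
    rw [Ideal.minimalPrimes_eq_comap] at hP
    obtain ⟨Q', hQ'min, hQ'⟩ := hP
    rw [hQb, ← hQ', Ideal.map_comap_of_surjective _ Ideal.Quotient.mk_surjective]
    exact hQ'min
  have hQbM : Qb ≤ M := Ideal.map_mono hPm
  let e1 : (B ⧸ Qb) ≃+* R ⧸ P := DoubleQuot.quotQuotEquivQuotOfLE h𝔠P
  set q : Ideal (B ⧸ Qb) := M.map (Ideal.Quotient.mk Qb) with hq
  have hqM : q.comap (Ideal.Quotient.mk Qb) = M := by
    rw [hq, Ideal.comap_map_of_surjective' _ Ideal.Quotient.mk_surjective, Ideal.mk_ker,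
      sup_eq_left.mpr hQbM]
  have hqprime : q.IsPrime :=
    Ideal.map_isPrime_of_surjective Ideal.Quotient.mk_surjective (by simpa using hQbM)
  -- `q` corresponds to `m/P` under `e1`
  have hqe : q.map (e1 : (B ⧸ Qb) →+* R ⧸ P) = m.map (Ideal.Quotient.mk P) := by
    rw [hq, hM, Ideal.map_map, Ideal.map_map]
    congr 1
  have hht : (m.map (Ideal.Quotient.mk P)).height = q.height := by
    rw [← hqe]
    exact RingEquiv.height_map e1 q
  rw [hht, ← IsLocalization.AtPrime.ringKrullDim_eq_height q (Localization.AtPrime q)]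
  have e2 := locQuotEquiv B Qb M q hqM
  rw [ringKrullDim_eq_of_ringEquiv e2]
  have hdisj : Disjoint (M.primeCompl : Set B) (Qb : Set B) := by
    rw [Set.disjoint_left]
    intro x hx hxQ
    exact hx (hQbM hxQ)
  have hQCp : (Qb.map (algebraMap B C)).IsPrime :=
    IsLocalization.isPrime_of_isPrime_disjoint M.primeCompl C Qb hQbp hdisj
  have hht0 : (Qb.map (algebraMap B C)).height = 0 := by
    rw [IsLocalization.height_map_of_disjoint M.primeCompl Qb hdisj, Ideal.height_eq_zero_iff]
    exact hQbmin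
  have hsupp : Module.support C C = Set.univ := by
    rw [Module.support_of_algebra,
      (RingHom.injective_iff_ker_eq_bot (algebraMap C C)).mp Function.injective_id]
    simp
  have h3 := Groth.Agent.Lib.Helper67.CMCat.ringKrullDim_quotient_add_height (R := C) C
    hCM.supportDim_eq_depth hsupp (Qb.map (algebraMap B C))
  rw [hht0] at h3
  simpa using h3.symm

end DimPrime

section CMQuot

/-- The quotient of a CM ring by a regular element is a CM ring. -/
theorem isCohenMacaulayRing_quot_span_singleton (B : Type u) [CommRing B]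
    [hB : LocCoh.IsCohenMacaulayRing B] (x : B) (hx : IsSMulRegular B x) :
    LocCoh.IsCohenMacaulayRing (B ⧸ Ideal.span {x}) := by
  refine { isCohenMacaulayLocalRing_localization := ?_ }
  intro q _
  let Q : Ideal B := q.comap (Ideal.Quotient.mk (Ideal.span {x}))
  have hQprime : Q.IsPrime := Ideal.comap_isPrime _ _
  have hxQ : x ∈ Q := by
    change Ideal.Quotient.mk (Ideal.span {x}) x ∈ q
    rw [Ideal.Quotient.eq_zero_iff_mem.mpr (Ideal.mem_span_singleton_self x)]
    exact zero_mem _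
  let A := Localization.AtPrime Q
  have hCMA : LocCoh.IsCohenMacaulayLocalRing A := hB.isCohenMacaulayLocalRing_localization Q
  let e := locQuotEquiv B (Ideal.span {x}) Q q rfl
  have hmem : algebraMap B A x ∈ maximalIdeal A :=
    (IsLocalization.AtPrime.to_map_mem_maximal_iff A Q x).mpr hxQ
  have hreg : IsSMulRegular A (algebraMap B A x) := IsSMulRegular.of_flat hx
  have h := Groth.Agent.Lib.Helper77.CMQuot.isCM_quot_of_regular A (algebraMap B A x) hmem hreg
    ((Ideal.span {x}).map (algebraMap B A)) (by rw [Ideal.map_span, Set.image_singleton])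
  exact Groth.Agent.Lib.Helper56.isCohenMacaulayLocalRing_of_ringEquiv e.symm h

end CMQuot

section BDL

open GrSyz MvPolynomial

variable (K : Type u) [Field K] (n : ℕ)

/-- For homogeneous `J` of height `h` with `R/J` CM and `f` regular modulo `J`, every associated
prime of `R/(J + fR)` has height `h + 1`. -/
theorem height_eq_of_mem_associatedPrimes_sup (h : ℕ)
    (J : Ideal (MvPolynomial (Fin (n + 1)) K))
    (hJ : J.IsHomogeneous (GrSyz.stdGr K (Fin (n + 1)))) (hJh : J.height = h)
    [hCMJ : LocCoh.IsCohenMacaulayRing (MvPolynomial (Fin (n + 1)) K ⧸ J)]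
    (f : MvPolynomial (Fin (n + 1)) K) (hJf : J.colon {f} = J)
    (P : Ideal (MvPolynomial (Fin (n + 1)) K))
    (hP : P ∈ associatedPrimes (MvPolynomial (Fin (n + 1)) K)
      (MvPolynomial (Fin (n + 1)) K ⧸ (J ⊔ Ideal.span {f}))) : P.height = h + 1 := by
  set fbar : MvPolynomial (Fin (n + 1)) K ⧸ J := Ideal.Quotient.mk J f with hfbar
  have hreg : IsSMulRegular (MvPolynomial (Fin (n + 1)) K ⧸ J) fbar := by
    rw [isSMulRegular_iff_right_eq_zero_of_smul]
    intro a ha
    obtain ⟨a, rfl⟩ := Ideal.Quotient.mk_surjective a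
    rw [smul_eq_mul, hfbar, ← map_mul, Ideal.Quotient.eq_zero_iff_mem] at ha
    rw [Ideal.Quotient.eq_zero_iff_mem, ← hJf, Submodule.mem_colon_singleton, smul_eq_mul,
      mul_comm]
    exact ha
  have hmap : (Ideal.span {f}).map (Ideal.Quotient.mk J) = Ideal.span {fbar} := by
    rw [Ideal.map_span, Set.image_singleton]
  have hCM1 : LocCoh.IsCohenMacaulayRing ((MvPolynomial (Fin (n + 1)) K ⧸ J) ⧸
      (Ideal.span {f}).map (Ideal.Quotient.mk J)) := by
    rw [hmap]
    exact isCohenMacaulayRing_quot_span_singleton _ fbar hreg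
  have hCM2 : LocCoh.IsCohenMacaulayRing (MvPolynomial (Fin (n + 1)) K ⧸ (J ⊔ Ideal.span {f})) :=
    Groth.Agent.Lib.Helper56.isCohenMacaulayRing_of_ringEquiv
      (DoubleQuot.quotQuotEquivQuotSup J (Ideal.span {f})) hCM1
  have hPmin :=
    Groth.Agent.Lib.Helper11.CMUnmixed.mem_minimalPrimes_of_mem_associatedPrimes_quotient _ hP
  have hcomap : (Ideal.span {fbar}).comap (Ideal.Quotient.mk J) = J ⊔ Ideal.span {f} := by
    rw [← hmap, Ideal.comap_map_of_surjective' _ Ideal.Quotient.mk_surjective, Ideal.mk_ker,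
      sup_comm]
  rw [← hcomap, Ideal.comap_minimalPrimes_eq_of_surjective Ideal.Quotient.mk_surjective] at hPmin
  obtain ⟨p', hp'min, hp'P⟩ := hPmin
  have hp'prime : p'.IsPrime := hp'min.1.1
  have hPprime : P.IsPrime := hp'P ▸ Ideal.comap_isPrime _ _
  have hp'1 : p'.height = 1 := by
    apply le_antisymm
    · exact Ideal.height_le_one_of_isPrincipal_of_mem_minimalPrimes (Ideal.span {fbar}) p' hp'min
    · rw [Order.one_le_iff_pos, pos_iff_ne_zero, Ne, Ideal.height_eq_zero_iff]
      intro hmin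
      have hmem : fbar ∈ p' := hp'min.1.2 (Ideal.mem_span_singleton_self fbar)
      refine notMem_nonZeroDivisors_of_mem_mem_minimalPrimes hmem hmin ?_
      rw [mem_nonZeroDivisors_iff_right]
      intro a ha
      rw [mul_comm] at ha
      exact hreg.right_eq_zero_of_smul ha
  have hJP : J ≤ P := by
    rw [← hp'P]
    intro r hr
    rw [Ideal.mem_comap, Ideal.Quotient.eq_zero_iff_mem.mpr hr]
    exact zero_mem _
  have hmapP : P.map (Ideal.Quotient.mk J) = p' := by
    rw [← hp'P, Ideal.map_comap_of_surjective _ Ideal.Quotient.mk_surjective]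
  obtain ⟨Q, hQmin, hQP⟩ := Ideal.exists_minimalPrimes_le hJP
  obtain ⟨P₀, hP₀p, hJP₀, hP₀h⟩ := Ideal.exists_isPrime_height_eq hJh
  have hP₀min : P₀ ∈ J.minimalPrimes :=
    Ideal.mem_minimalPrimes_of_height_le hJP₀ (by rw [hP₀h, hJh])
  have hQh : Q.height = h := by
    rw [height_eq_of_mem_minimalPrimes K n J hJ hQmin hP₀min, hP₀h]
  have hMp : (P.map (Ideal.Quotient.mk J)).IsPrime := hmapP ▸ hp'prime
  have hCM : LocCoh.IsCohenMacaulayLocalRing
      (Localization.AtPrime (P.map (Ideal.Quotient.mk J))) :=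
    hCMJ.isCohenMacaulayLocalRing_localization _
  have key := height_add_ringKrullDim_localization_prime K J P Q hQmin hQP
  rw [IsLocalization.AtPrime.ringKrullDim_eq_height (P.map (Ideal.Quotient.mk J))
    (Localization.AtPrime (P.map (Ideal.Quotient.mk J))), hQh] at key
  have h1 : (P.map (Ideal.Quotient.mk J)).height = 1 := by
    rw [← hp'1]
    congr 1
  rw [h1] at key
  have : ((h : ℕ∞) : WithBot ℕ∞) + ((1 : ℕ∞) : WithBot ℕ∞) = (P.height : WithBot ℕ∞) := key
  rw [← WithBot.coe_add, WithBot.coe_inj] at this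
  rw [← this]

end BDL

end Groth.Agent.Lib.Helper24.GrUnmixed
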