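import Mathlib
import Groth.Agent.Lib.Helper24.GrUnmixed2
import Groth.Agent.Lib.Helper24.BDL
import Groth.Agent.Lib.Helper92.LocCohDepth
import Groth.Agent.Lib.Helper92.LocCohSeq
import Groth.Agent.Lib.Helper67.FinDepth
import Groth.Agent.Lib.Helper56.DepthAss

universe u v
set_option autoImplicit false
open LocCoh IsLocalRing CategoryTheory

namespace Groth.Agent.Lib.Helper24.BDLLC

open Groth.Agent.Lib.Helper92.LC Groth.Agent.Lib.Helper24.GrUnmixed

section LES

variable {R : Type u} [CommRing R] (I : Ideal R)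

theorem bijective_Hmap_f (i : ℕ) {S : ShortComplex (ModuleCat.{u} R)} (hS : S.ShortExact)
    (h1 : Subsingleton ((localCohomology I i).obj S.X₃))
    (h2 : ∀ k, k + 1 = i → Subsingleton ((localCohomology I k).obj S.X₃)) :
    Function.Bijective (Hmap I i S.f) := by
  constructor
  · cases i with
    | zero => exact Hmap_f_zero_injective I hS
    | succ k =>
      rw [← LinearMap.ker_eq_bot, LinearMap.ker_eq_bot']
      intro x hx
      obtain ⟨z, rfl⟩ := (exact_δ_Hmap_f I k hS x).mp hx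
      have := h2 k rfl
      rw [Subsingleton.elim z 0, map_zero]
  · intro y
    have : Hmap I i S.g y = 0 := Subsingleton.elim _ _
    exact (exact_Hmap_f_g I i hS y).mp this

end LES

section Irrel

open GrSyz MvPolynomial Groth.Agent.Lib.Helper8.GrSyzBasic

variable {K : Type u} [Field K] {σ : Type v}

theorem irrel_eq_ker_constantCoeff :
    (irrel (stdGr K σ)).toIdeal = RingHom.ker (constantCoeff : MvPolynomial σ K →+* K) := by
  classical
  apply le_antisymm irrel_le_ker_constantCoeff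
  intro p hp
  rw [RingHom.mem_ker] at hp
  rw [← DirectSum.sum_support_decompose (stdGr K σ) p]
  apply Ideal.sum_mem
  intro i _
  have hi : ((DirectSum.decompose (stdGr K σ) p i : MvPolynomial σ K)) ∈ stdGr K σ i :=
    (DirectSum.decompose (stdGr K σ) p i).2
  rcases lt_trichotomy i 0 with h | h | h
  · rw [eq_zero_of_mem_stdGr_nonpos h.le hi (constantCoeff_eq_zero_of_mem_stdGr h.ne hi)]
    exact zero_mem _
  · subst h
    have h0 : constantCoeff (DirectSum.decompose (stdGr K σ) p 0 : MvPolynomial σ K) = 0 := by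
      have hsum := DirectSum.sum_support_decompose (stdGr K σ) p
      have : constantCoeff p = constantCoeff
          (DirectSum.decompose (stdGr K σ) p 0 : MvPolynomial σ K) := by
        conv_lhs => rw [← hsum]
        rw [map_sum, Finset.sum_eq_single (0 : ℤ)]
        · intro j _ hj
          exact constantCoeff_eq_zero_of_mem_stdGr hj (DirectSum.decompose (stdGr K σ) p j).2
        · intro h0
          rw [DFinsupp.notMem_support_iff] at h0
          rw [h0]
          simp
      rw [← this, hp]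
    rw [eq_zero_of_mem_stdGr_nonpos le_rfl hi h0]
    exact zero_mem _
  · exact mem_irrel_of_mem_stdGr_pos h hi

end Irrel

section Depth

open GrSyz MvPolynomial Groth.Agent.Lib.Helper8.GrSyzBasic

variable (K : Type u) [Field K] (n : ℕ)

theorem isSMulRegular_mk_of_colon (J : Ideal (MvPolynomial (Fin (n + 1)) K))
    (f : MvPolynomial (Fin (n + 1)) K) (hJf : J.colon {f} = J) :
    IsSMulRegular (MvPolynomial (Fin (n + 1)) K ⧸ J) (Ideal.Quotient.mk J f) := by
  rw [isSMulRegular_iff_right_eq_zero_of_smul]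
  intro a ha
  obtain ⟨a, rfl⟩ := Ideal.Quotient.mk_surjective a
  rw [smul_eq_mul, ← map_mul, Ideal.Quotient.eq_zero_iff_mem] at ha
  rw [Ideal.Quotient.eq_zero_iff_mem, ← hJf, Submodule.mem_colon_singleton, smul_eq_mul,
    mul_comm]
  exact ha

theorem isCohenMacaulayRing_quot_sup (J : Ideal (MvPolynomial (Fin (n + 1)) K))
    [hCMJ : LocCoh.IsCohenMacaulayRing (MvPolynomial (Fin (n + 1)) K ⧸ J)]
    (f : MvPolynomial (Fin (n + 1)) K) (hJf : J.colon {f} = J) :
    LocCoh.IsCohenMacaulayRing (MvPolynomial (Fin (n + 1)) K ⧸ (J ⊔ Ideal.span {f})) := by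
  have hreg := isSMulRegular_mk_of_colon K n J f hJf
  have hmap : (Ideal.span {f}).map (Ideal.Quotient.mk J) =
      Ideal.span {Ideal.Quotient.mk J f} := by
    rw [Ideal.map_span, Set.image_singleton]
  have hCM1 : LocCoh.IsCohenMacaulayRing ((MvPolynomial (Fin (n + 1)) K ⧸ J) ⧸
      (Ideal.span {f}).map (Ideal.Quotient.mk J)) := by
    rw [hmap]
    exact isCohenMacaulayRing_quot_span_singleton _ _ hreg
  exact Groth.Agent.Lib.Helper56.isCohenMacaulayRing_of_ringEquiv
      (DoubleQuot.quotQuotEquivQuotSup J (Ideal.span {f})) hCM1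

/-- minimal primes of `J + fR` have height `h + 1`. -/
theorem height_eq_of_mem_minimalPrimes_sup (h : ℕ)
    (J : Ideal (MvPolynomial (Fin (n + 1)) K))
    (hJ : J.IsHomogeneous (GrSyz.stdGr K (Fin (n + 1)))) (hJh : J.height = h)
    [hCMJ : LocCoh.IsCohenMacaulayRing (MvPolynomial (Fin (n + 1)) K ⧸ J)]
    (f : MvPolynomial (Fin (n + 1)) K) (hJf : J.colon {f} = J)
    (P : Ideal (MvPolynomial (Fin (n + 1)) K))
    (hPmin : P ∈ (J ⊔ Ideal.span {f}).minimalPrimes) : P.height = h + 1 := by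
  set fbar : MvPolynomial (Fin (n + 1)) K ⧸ J := Ideal.Quotient.mk J f with hfbar
  have hreg := isSMulRegular_mk_of_colon K n J f hJf
  have hmap : (Ideal.span {f}).map (Ideal.Quotient.mk J) = Ideal.span {fbar} := by
    rw [Ideal.map_span, Set.image_singleton]
  have hcomap : (Ideal.span {fbar}).comap (Ideal.Quotient.mk J) = J ⊔ Ideal.span {f} := by
    rw [← hmap, Ideal.comap_map_of_surjective' _ Ideal.Quotient.mk_surjective, Ideal.mk_ker,
      sup_comm]
  rw [← hcomap, Ideal.comap_minimalPrimes_eq_of_surjective Ideal.Quotient.mk_surjective] at hPmin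
  obtain ⟨p', hp'min, hp'P⟩ := hPmin
  have hp'prime : p'.IsPrime := hp'min.1.1
  have hPprime : P.IsPrime := hp'P ▸ Ideal.comap_isPrime _ _
  have hp'1 : p'.height = 1 := by
    apply le_antisymm
    · exact Ideal.height_le_one_of_isPrincipal_of_mem_minimalPrimes (Ideal.span {fbar}) p' hp'min
    · rw [Order.one_le_iff_pos, pos_iff_ne_zero, Ne, Ideal.height_eq_zero_iff]
      intro hmin
      have hmem : fbar ∈ p' := hp'min.1.2 (Ideal.mem_span_singleton_self fbar)
      refine notMem_nonZeroDivisors_of_mem_mem_minimalPrimes hmem hmin ?_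
      rw [mem_nonZeroDivisors_iff_right]
      intro a ha
      rw [mul_comm] at ha
      exact hreg.right_eq_zero_of_smul ha
  have hJP : J ≤ P := by
    rw [← hp'P]
    intro r hr
    rw [Ideal.mem_comap, Ideal.Quotient.eq_zero_iff_mem.mpr hr]
    exact zero_mem _
  have hmapP : P.map (Ideal.Quotient.mk J) = p' := by
    rw [← hp'P, Ideal.map_comap_of_surjective _ Ideal.Quotient.mk_surjective]
  obtain ⟨Q, hQmin, hQP⟩ := Ideal.exists_minimalPrimes_le hJP
  obtain ⟨P₀, hP₀p, hJP₀, hP₀h⟩ := Ideal.exists_isPrime_height_eq hJh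
  have hP₀min : P₀ ∈ J.minimalPrimes :=
    Ideal.mem_minimalPrimes_of_height_le hJP₀ (by rw [hP₀h, hJh])
  have hQh : Q.height = h := by
    rw [height_eq_of_mem_minimalPrimes K n J hJ hQmin hP₀min, hP₀h]
  have hMp : (P.map (Ideal.Quotient.mk J)).IsPrime := hmapP ▸ hp'prime
  have hCM : LocCoh.IsCohenMacaulayLocalRing
      (Localization.AtPrime (P.map (Ideal.Quotient.mk J))) :=
    hCMJ.isCohenMacaulayLocalRing_localization _
  have key := height_add_ringKrullDim_localization_prime K J P Q hQmin hQP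
  rw [IsLocalization.AtPrime.ringKrullDim_eq_height (P.map (Ideal.Quotient.mk J))
    (Localization.AtPrime (P.map (Ideal.Quotient.mk J))), hQh] at key
  have h1 : (P.map (Ideal.Quotient.mk J)).height = 1 := by
    rw [← hp'1]
    congr 1
  rw [h1] at key
  have : ((h : ℕ∞) : WithBot ℕ∞) + ((1 : ℕ∞) : WithBot ℕ∞) = (P.height : WithBot ℕ∞) := key
  rw [← WithBot.coe_add, WithBot.coe_inj] at this
  rw [← this]

theorem le_idealDepth_quot_sup (h : ℕ)
    (J : Ideal (MvPolynomial (Fin (n + 1)) K))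
    (hJ : J.IsHomogeneous (GrSyz.stdGr K (Fin (n + 1)))) (hJh : J.height = h)
    [hCMJ : LocCoh.IsCohenMacaulayRing (MvPolynomial (Fin (n + 1)) K ⧸ J)]
    (f : MvPolynomial (Fin (n + 1)) K) (d : ℤ) (hf : f ∈ GrSyz.stdGr K (Fin (n + 1)) d)
    (hJf : J.colon {f} = J) (hne : J ⊔ Ideal.span {f} ≠ ⊤) :
    ((n - h : ℕ) : ℕ∞) ≤ LocCoh.idealDepth (GrSyz.irrel (GrSyz.stdGr K (Fin (n + 1)))).toIdeal
      (MvPolynomial (Fin (n + 1)) K ⧸ (J ⊔ Ideal.span {f})) ∧
    (GrSyz.irrel (GrSyz.stdGr K (Fin (n + 1)))).toIdeal •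
      (⊤ : Submodule (MvPolynomial (Fin (n + 1)) K)
        (MvPolynomial (Fin (n + 1)) K ⧸ (J ⊔ Ideal.span {f}))) ≠ ⊤ := by
  classical
  have hmeq := irrel_eq_ker_constantCoeff (K := K) (σ := Fin (n + 1))
  have hmmax : (GrSyz.irrel (GrSyz.stdGr K (Fin (n + 1)))).toIdeal.IsMaximal := by
    rw [hmeq]
    exact RingHom.ker_isMaximal_of_surjective _ (fun a => ⟨C a, constantCoeff_C _ a⟩)
  have h𝔠hom : (J ⊔ Ideal.span {f}).IsHomogeneous (GrSyz.stdGr K (Fin (n + 1))) := by
    refine hJ.sup (Ideal.homogeneous_span _ _ ?_)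
    intro x hx
    rw [Set.mem_singleton_iff] at hx
    subst hx
    exact ⟨d, hf⟩
  have h𝔠m : J ⊔ Ideal.span {f} ≤ (GrSyz.irrel (GrSyz.stdGr K (Fin (n + 1)))).toIdeal := by
    rw [hmeq]
    exact le_ker_constantCoeff _ h𝔠hom hne
  have hCM𝔠 := isCohenMacaulayRing_quot_sup K n J f hJf
  have hMp : ((GrSyz.irrel (GrSyz.stdGr K (Fin (n + 1)))).toIdeal.map
      (Ideal.Quotient.mk (J ⊔ Ideal.span {f}))).IsPrime :=
    Ideal.map_isPrime_of_surjective Ideal.Quotient.mk_surjective (by simpa using h𝔠m)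
  have hM'max : ((GrSyz.irrel (GrSyz.stdGr K (Fin (n + 1)))).toIdeal.map
      (Ideal.Quotient.mk (J ⊔ Ideal.span {f}))).IsMaximal := by
    rcases Ideal.map_eq_top_or_isMaximal_of_surjective (Ideal.Quotient.mk (J ⊔ Ideal.span {f}))
      Ideal.Quotient.mk_surjective hmmax with h | h
    · exact absurd h hMp.ne_top
    · exact h
  have hCM : LocCoh.IsCohenMacaulayLocalRing (Localization.AtPrime
      ((GrSyz.irrel (GrSyz.stdGr K (Fin (n + 1)))).toIdeal.map
        (Ideal.Quotient.mk (J ⊔ Ideal.span {f})))) :=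
    hCM𝔠.isCohenMacaulayLocalRing_localization _
  obtain ⟨Q, hQmin, hQm⟩ := Ideal.exists_minimalPrimes_le h𝔠m
  have hQh := height_eq_of_mem_minimalPrimes_sup K n h J hJ hJh f hJf Q hQmin
  have key := height_add_ringKrullDim_localization K (J ⊔ Ideal.span {f})
    (GrSyz.irrel (GrSyz.stdGr K (Fin (n + 1)))).toIdeal Q hQmin hQm
  have hdimR : ringKrullDim (MvPolynomial (Fin (n + 1)) K) = ((n + 1 : ℕ) : WithBot ℕ∞) := by
    rw [MvPolynomial.ringKrullDim_of_isNoetherianRing, ringKrullDim_eq_zero_of_field,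
      Nat.card_fin, zero_add]
  have hdimC := IsLocalization.AtPrime.ringKrullDim_eq_height
    ((GrSyz.irrel (GrSyz.stdGr K (Fin (n + 1)))).toIdeal.map
      (Ideal.Quotient.mk (J ⊔ Ideal.span {f})))
    (Localization.AtPrime ((GrSyz.irrel (GrSyz.stdGr K (Fin (n + 1)))).toIdeal.map
      (Ideal.Quotient.mk (J ⊔ Ideal.span {f}))))
  obtain ⟨dC, hdC⟩ := ENat.ne_top_iff_exists.mp (Ideal.height_ne_top
    (I := (GrSyz.irrel (GrSyz.stdGr K (Fin (n + 1)))).toIdeal.map
      (Ideal.Quotient.mk (J ⊔ Ideal.span {f}))) hMp.ne_top)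
  have hd : dC = n - h := by
    rw [hdimC, ← hdC, hQh, hdimR] at key
    have h3 : ((((h : ℕ∞) + 1 : ℕ∞)) : WithBot ℕ∞) + ((dC : ℕ∞) : WithBot ℕ∞) =
        ((n + 1 : ℕ) : WithBot ℕ∞) := key
    have : (h + 1 + dC : ℕ) = n + 1 := by exact_mod_cast h3
    omega
  have hdepth : LocCoh.depth (Localization.AtPrime
      ((GrSyz.irrel (GrSyz.stdGr K (Fin (n + 1)))).toIdeal.map
        (Ideal.Quotient.mk (J ⊔ Ideal.span {f})))) (Localization.AtPrime
      ((GrSyz.irrel (GrSyz.stdGr K (Fin (n + 1)))).toIdeal.map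
        (Ideal.Quotient.mk (J ⊔ Ideal.span {f})))) = dC := by
    have := hCM.supportDim_eq_depth
    rw [Module.supportDim_self_eq_ringKrullDim, hdimC, ← hdC] at this
    exact_mod_cast this.symm
  constructor
  · rw [Groth.Agent.Lib.Helper67.idealDepth_eq_idealDepth_map_of_finite_module
      (B := MvPolynomial (Fin (n + 1)) K ⧸ (J ⊔ Ideal.span {f})),
      Groth.Agent.Lib.Helper67.idealDepth_eq_iInf_depth_localization, Ideal.Quotient.algebraMap_eq]
    apply le_iInf₂
    rintro ⟨p, hpprime⟩ hp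
    simp only at hp
    have hpeq : p = (GrSyz.irrel (GrSyz.stdGr K (Fin (n + 1)))).toIdeal.map
        (Ideal.Quotient.mk (J ⊔ Ideal.span {f})) := (hM'max.eq_of_le hpprime.ne_top hp).symm
    subst hpeq
    show _ ≤ depth (Localization.AtPrime _) (LocalizedModule _ _)
    rw [Groth.Agent.Lib.Helper56.depth_localizedModule_self, hdepth, hd]
  · intro htop
    have h1 : (Submodule.Quotient.mk (1 : MvPolynomial (Fin (n + 1)) K) :
        MvPolynomial (Fin (n + 1)) K ⧸ (J ⊔ Ideal.span {f})) ∈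
        (GrSyz.irrel (GrSyz.stdGr K (Fin (n + 1)))).toIdeal •
      (⊤ : Submodule (MvPolynomial (Fin (n + 1)) K)
        (MvPolynomial (Fin (n + 1)) K ⧸ (J ⊔ Ideal.span {f}))) := by
      rw [htop]; trivial
    rw [Groth.Agent.Lib.Helper24.Linkage2.mk_mem_smul_top_iff, sup_eq_left.mpr h𝔠m] at h1
    exact hmmax.ne_top ((Ideal.eq_top_iff_one _).mpr h1)

end Depth

end Groth.Agent.Lib.Helper24.BDLLC
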