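import Mathlib
import Groth.Agent.Lib.Helper24.BDLLC
import Groth.Agent.S11654

universe u
set_option autoImplicit false
open LocCoh CategoryTheory

namespace Groth.Agent.Lib.Helper24.BDLLC

open Groth.Agent.Lib.Helper92.LC Groth.Agent.Lib.Helper24.BDL

theorem main (K : Type u) [Field K] (n h : ℕ)
    (J I : Ideal (MvPolynomial (Fin (n + 1)) K))
    (hJ : J.IsHomogeneous (GrSyz.stdGr K (Fin (n + 1))))
    (hJI : J ≤ I) (hJh : J.height = h)
    [LocCoh.IsCohenMacaulayRing (MvPolynomial (Fin (n + 1)) K ⧸ J)]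
    (f : MvPolynomial (Fin (n + 1)) K) (d : ℕ) (hf : f ∈ GrSyz.stdGr K (Fin (n + 1)) (d : ℤ))
    (hJf : J.colon {f} = J) (i : ℕ) (hi : i + h < n) :
    Nonempty (LocCoh.H (GrSyz.irrel (GrSyz.stdGr K (Fin (n + 1)))).toIdeal i
        (MvPolynomial (Fin (n + 1)) K ⧸ (J ⊔ Ideal.span {f} * I)) ≃ₗ[MvPolynomial (Fin (n + 1)) K]
      LocCoh.H (GrSyz.irrel (GrSyz.stdGr K (Fin (n + 1)))).toIdeal i
        (MvPolynomial (Fin (n + 1)) K ⧸ I)) := by
  have hS := Groth.Agent.Lib.Helper67.shortExact_of_linearMaps _ _ _ (mulMap J I f)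
    (Submodule.factor (bdl_le_sup J I f)) (mulMap_injective hJI hJf)
    (Submodule.factor_surjective _) (exact_mulMap_factor J I f)
  have hvan : ∀ j : ℕ, j < n - h →
      Subsingleton (LocCoh.H (GrSyz.irrel (GrSyz.stdGr K (Fin (n + 1)))).toIdeal j
        (MvPolynomial (Fin (n + 1)) K ⧸ (J ⊔ Ideal.span {f}))) := by
    intro j hj
    by_cases hne : J ⊔ Ideal.span {f} = ⊤
    · have hsub : Subsingleton (MvPolynomial (Fin (n + 1)) K ⧸ (J ⊔ Ideal.span {f})) :=
        Ideal.Quotient.subsingleton_iff.mpr hne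
      refine ⟨fun x y => ?_⟩
      have hx := Groth.Agent.S11654.smul_H_eq_zero
        (GrSyz.irrel (GrSyz.stdGr K (Fin (n + 1)))).toIdeal j
        (MvPolynomial (Fin (n + 1)) K ⧸ (J ⊔ Ideal.span {f})) 1
        (fun m => Subsingleton.elim _ _) x
      have hy := Groth.Agent.S11654.smul_H_eq_zero
        (GrSyz.irrel (GrSyz.stdGr K (Fin (n + 1)))).toIdeal j
        (MvPolynomial (Fin (n + 1)) K ⧸ (J ⊔ Ideal.span {f})) 1
        (fun m => Subsingleton.elim _ _) y
      rw [one_smul] at hx hy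
      rw [hx, hy]
    · obtain ⟨hdepth, hIM⟩ := le_idealDepth_quot_sup K n h J hJ hJh f d hf hJf hne
      exact subsingleton_of_lt_idealDepth _ (n - h) _ hIM hdepth j hj
  have hbij := bijective_Hmap_f (GrSyz.irrel (GrSyz.stdGr K (Fin (n + 1)))).toIdeal i hS
    (hvan i (by omega)) (fun k hk => hvan k (by omega))
  exact ⟨(LinearEquiv.ofBijective _ hbij).symm⟩

end Groth.Agent.Lib.Helper24.BDLLC
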