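import Mathlib
import Groth.Agent.Lib.Helper92.LocCohDepth
import Groth.Agent.Lib.Helper92.LocCohH0
import Groth.Agent.Lib.Helper92.LocCohGV
import Groth.Agent.Lib.Helper85.CanonGor

/-!
# `Ext^n(k, M) ≃ Hom(k, H^n_m(M))` when `H^i_m(M) = 0` for `i < n` (helper24)
-/

set_option autoImplicit false
set_option linter.unusedSectionVars false
set_option linter.style.haveILetI false

namespace Groth.Agent.Lib.Helper24.ExtSocle

open CategoryTheory Abelian IsLocalRing
open Groth.Agent.Lib.Helper92.LC
open scoped Pointwise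

universe u

variable (A : Type u) [CommRing A] [IsLocalRing A]

theorem smul_residue {a : A} (ha : a ∈ maximalIdeal A) (c : ResidueField A) : a • c = 0 := by
  obtain ⟨c', rfl⟩ := IsLocalRing.residue_surjective c
  change IsLocalRing.residue A (a * c') = 0
  rw [IsLocalRing.residue_eq_zero_iff]
  exact Ideal.mul_mem_right _ _ ha

theorem mem_annihilator_residue {a : A} (ha : a ∈ maximalIdeal A) :
    a ∈ Module.annihilator A (ModuleCat.of A (ResidueField A)) := by
  rw [Module.mem_annihilator]
  intro c
  exact smul_residue A ha c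

/-- Post-composition with an injective map whose range contains all socle elements induces an
equivalence on `Hom(k, -)`. -/
theorem exists_homEquiv {N N' : Type u} [AddCommGroup N] [Module A N] [AddCommGroup N']
    [Module A N'] (j : N →ₗ[A] N') (hj : Function.Injective j)
    (hr : ∀ y : N', (∀ a ∈ maximalIdeal A, a • y = 0) → ∃ x, j x = y) :
    Nonempty ((ResidueField A →ₗ[A] N) ≃ₗ[A] (ResidueField A →ₗ[A] N')) := by
  refine ⟨LinearEquiv.ofBijective (LinearMap.compRight A j) ⟨?_, ?_⟩⟩
  · intro φ ψ h
    ext c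
    apply hj
    exact LinearMap.congr_fun h c
  · intro ψ
    have hmem : ∀ c, ψ c ∈ LinearMap.range j := by
      intro c
      apply hr
      intro a ha
      rw [← map_smul, smul_residue A ha, map_zero]
    let e := LinearEquiv.ofInjective j hj
    refine ⟨e.symm.toLinearMap ∘ₗ ψ.codRestrict (LinearMap.range j) hmem, ?_⟩
    ext c
    change j (e.symm ⟨ψ c, hmem c⟩) = ψ c
    have := e.apply_symm_apply ⟨ψ c, hmem c⟩
    exact congrArg Subtype.val this

variable [IsNoetherianRing A]

/-- The base case. -/
theorem base (M : Type u) [AddCommGroup M] [Module A M] :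
    Nonempty (Ext.{u} (ModuleCat.of A (ResidueField A)) (ModuleCat.of A M) 0 ≃ₗ[A]
      (ResidueField A →ₗ[A] (localCohomology (maximalIdeal A) 0).obj (ModuleCat.of A M))) := by
  obtain ⟨e⟩ := exists_homEquiv A (γ (M := ModuleCat.of A M) (maximalIdeal A))
    (γ_injective (maximalIdeal A)) (by
      intro y hy
      apply exists_γ_eq
      refine ⟨1, fun a ha => ?_⟩
      rw [pow_one] at ha
      exact hy a ha)
  exact ⟨(Ext.linearEquiv₀ (R := A)) ≪≫ₗ (ModuleCat.homLinearEquiv (S := A)) ≪≫ₗ e.symm⟩

/-- **`Ext^n(k, M) ≃ Hom(k, H^n_m(M))`** for a finite module `M` over a Noetherian local ring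
with `H^i_m(M) = 0` for `i < n`. -/
theorem exists_equiv (n : ℕ) : ∀ (M : Type u) [AddCommGroup M] [Module A M] [Module.Finite A M],
    (∀ i < n, Subsingleton ((localCohomology (maximalIdeal A) i).obj (ModuleCat.of A M))) →
    Nonempty (Ext.{u} (ModuleCat.of A (ResidueField A)) (ModuleCat.of A M) n ≃ₗ[A]
      (ResidueField A →ₗ[A] (localCohomology (maximalIdeal A) n).obj (ModuleCat.of A M))) := by
  induction n using Nat.strong_induction_on with
  | _ n ih =>
    intro M _ _ _ hvan
    rcases n with _ | n
    · exact base A M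
    -- a regular element
    obtain ⟨x, hxm, hreg⟩ : ∃ x ∈ maximalIdeal A, IsSMulRegular M x := by
      by_cases hM : Subsingleton M
      · exact ⟨0, zero_mem _, fun a b _ => Subsingleton.elim a b⟩
      · rw [not_subsingleton_iff_nontrivial] at hM
        apply exists_regular_of_torsionSub_eq_bot (maximalIdeal A) M
        rw [eq_bot_iff]
        intro y hy
        obtain ⟨z, hz⟩ := exists_γ_eq (M := ModuleCat.of A M) (maximalIdeal A) y hy
        haveI := hvan 0 (Nat.succ_pos n)
        rw [Submodule.mem_bot, ← hz, Subsingleton.elim z 0, map_zero]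
    have hS := sesSMul_shortExact M x hreg
    -- vanishing for the quotient
    have hvanQ : ∀ i < n, Subsingleton ((localCohomology (maximalIdeal A) i).obj
        (ModuleCat.of A (M ⧸ x • (⊤ : Submodule A M)))) := by
      intro i hi
      refine ⟨fun a b => ?_⟩
      suffices H : ∀ z : (localCohomology (maximalIdeal A) i).obj (sesSMul M x).X₃, z = 0 from
        (H a).trans (H b).symm
      intro z
      haveI := hvan (i + 1) (by omega)
      haveI := hvan i (by omega)
      obtain ⟨y, rfl⟩ := exact₃ (maximalIdeal A) i hS z (Subsingleton.elim _ _)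
      rw [Subsingleton.elim y 0, map_zero]
    obtain ⟨e₁⟩ := ih n (Nat.lt_succ_self n) (M ⧸ x • (⊤ : Submodule A M)) hvanQ
    -- `Ext^n(k, M) = 0`
    have hExt : Subsingleton (Ext.{u} (ModuleCat.of A (ResidueField A)) (ModuleCat.of A M) n) := by
      obtain ⟨e₀⟩ := ih n (Nat.lt_succ_self n) M (fun i hi => hvan i (by omega))
      haveI := hvan n (Nat.lt_succ_self n)
      haveI : Subsingleton (ResidueField A →ₗ[A]
          (localCohomology (maximalIdeal A) n).obj (ModuleCat.of A M)) :=
        ⟨fun φ ψ => LinearMap.ext fun c => Subsingleton.elim _ _⟩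
      exact e₀.injective.subsingleton
    -- the connecting map on `Ext`
    have e₂ : Ext.{u} (ModuleCat.of A (ResidueField A)) (sesSMul M x).X₃ n ≃ₗ[A]
        Ext.{u} (ModuleCat.of A (ResidueField A)) (sesSMul M x).X₁ (n + 1) := by
      refine LinearEquiv.ofBijective
        (Ext.postcompOfLinear hS.extClass A (ModuleCat.of A (ResidueField A)) rfl) ⟨?_, ?_⟩
      · exact Groth.Agent.Lib.Helper85.Canon.ext_comp_extClass_injective hS _ n hExt
      · intro x₁
        have hx₁ : x₁.comp (Ext.mk₀ (sesSMul M x).f) (add_zero (n + 1)) = 0 := by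
          rw [sesSMul_f, ← Ext.smul_eq_comp_mk₀]
          exact Groth.Agent.Lib.Helper67.ext_smul_eq_zero_of_mem_annihilator_left x₁
            (mem_annihilator_residue A hxm)
        obtain ⟨x₃, hx₃⟩ := Ext.covariant_sequence_exact₁ _ hS x₁ hx₁ rfl
        exact ⟨x₃, hx₃⟩
    -- the connecting map on local cohomology
    obtain ⟨e₃⟩ := exists_homEquiv A (δ (maximalIdeal A) n hS) (by
        rw [← LinearMap.ker_eq_bot, LinearMap.ker_eq_bot']
        intro z hz
        haveI := hvan n (Nat.lt_succ_self n)
        obtain ⟨y, rfl⟩ := exact₃ (maximalIdeal A) n hS z hz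
        rw [Subsingleton.elim y 0, map_zero]) (by
        intro y hy
        apply exact₁ (maximalIdeal A) n hS y
        rw [sesSMul_f, Hmap_smul_id]
        exact hy x hxm)
    exact ⟨e₂.symm ≪≫ₗ e₁ ≪≫ₗ e₃⟩

end Groth.Agent.Lib.Helper24.ExtSocle
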