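import Mathlib
import Groth.Agent.Lib.Helper98.CechFlat
import Groth.Agent.Lib.Helper98.CechRestrict
import Groth.Agent.Lib.Helper92.LocCohDepth

/-!
# Local cohomology at a maximal ideal vs. local cohomology of the localization (helper24)

For a maximal ideal `m` of a Noetherian ring `R` and `A = R_m`:
`H^n_{mA}(A) ≃ₗ[A] (H^n_m(R))_m`, and `H^n_m(R) → (H^n_m(R))_m` is bijective.
-/

set_option linter.unusedSectionVars false
set_option linter.style.haveILetI false

namespace Groth.Agent.Lib.Helper24.GorGrC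

open CategoryTheory MonoidalCategory TensorProduct IsLocalRing

universe u

section Torsion
variable {R : Type u} [CommRing R] (m : Ideal R) [hm : m.IsMaximal]
  (N : Type u) [AddCommGroup N] [Module R N]

theorem exists_mul_add_eq_one (s : R) (hs : s ∉ m) (k : ℕ) :
    ∃ t u : R, u ∈ m ^ k ∧ t * s + u = 1 := by
  obtain ⟨y, i, hi, hyi⟩ := hm.exists_inv hs
  have h1 : Ideal.span {s} ⊔ m = ⊤ := by
    rw [Ideal.eq_top_iff_one, ← hyi]
    exact Submodule.add_mem_sup (Ideal.mem_span_singleton'.mpr ⟨y, rfl⟩) hi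
  have h2 : Ideal.span {s} ⊔ m ^ k = ⊤ := Ideal.sup_pow_eq_top h1
  have h3 : (1 : R) ∈ Ideal.span {s} ⊔ m ^ k := by rw [h2]; exact Submodule.mem_top
  obtain ⟨a, ha, u, hu, hau⟩ := Submodule.mem_sup.mp h3
  obtain ⟨t, rfl⟩ := Ideal.mem_span_singleton'.mp ha
  exact ⟨t, u, hu, hau⟩

variable {N}

/-- elements outside a maximal ideal `m` act bijectively on an `m`-power torsion module -/
theorem smul_bijective_of_isPowerTorsion (hN : LocCoh.IsPowerTorsion m N) (s : R) (hs : s ∉ m) :
    Function.Bijective (fun x : N => s • x) := by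
  constructor
  · intro x y hxy
    have hz : s • (x - y) = 0 := by rw [smul_sub]; exact sub_eq_zero.mpr hxy
    obtain ⟨k, hk⟩ := hN (x - y)
    obtain ⟨t, u, hu, htu⟩ := exists_mul_add_eq_one m s hs k
    have : x - y = 0 := by
      calc x - y = (t * s + u) • (x - y) := by rw [htu, one_smul]
        _ = 0 := by rw [add_smul, mul_smul, hz, smul_zero, hk u hu, add_zero]
    exact sub_eq_zero.mp this
  · intro x
    obtain ⟨k, hk⟩ := hN x
    obtain ⟨t, u, hu, htu⟩ := exists_mul_add_eq_one m s hs k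
    refine ⟨t • x, ?_⟩
    change s • t • x = x
    calc s • t • x = (t * s) • x := by rw [mul_smul, smul_comm]
      _ = (t * s + u) • x := by rw [add_smul, hk u hu, add_zero]
      _ = x := by rw [htu, one_smul]

/-- an `m`-power torsion module is its own localization at the maximal ideal `m` -/
theorem mkLinearMap_bijective (hN : LocCoh.IsPowerTorsion m N) :
    Function.Bijective (LocalizedModule.mkLinearMap m.primeCompl N) := by
  constructor
  · rw [← LinearMap.ker_eq_bot, eq_bot_iff]
    intro x hx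
    rw [LinearMap.mem_ker, LocalizedModule.mkLinearMap_apply] at hx
    rw [← LocalizedModule.zero_mk (1 : m.primeCompl), LocalizedModule.mk_eq] at hx
    obtain ⟨c, hc⟩ := hx
    simp only [one_smul, smul_zero] at hc
    have hc' : (c : R) • x = (c : R) • (0 : N) := by rw [smul_zero]; exact hc
    exact (smul_bijective_of_isPowerTorsion m hN c.1 c.2).1 hc'
  · intro y
    induction y using LocalizedModule.induction_on with
    | h x s =>
      obtain ⟨z, hz⟩ := (smul_bijective_of_isPowerTorsion m hN s.1 s.2).2 x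
      refine ⟨z, ?_⟩
      rw [LocalizedModule.mkLinearMap_apply, LocalizedModule.mk_eq]
      refine ⟨1, ?_⟩
      simp only [one_smul]
      exact hz

end Torsion

section Chain
variable {R : Type u} [CommRing R] [IsNoetherianRing R] (m : Ideal R) [hm : m.IsMaximal] (n : ℕ)

local notation "A" => Localization.AtPrime m

/-- an additive map between `R_m`-modules commuting with the scalars from `R` is `R_m`-linear -/
theorem map_smul_of_algebraMap {Y Z : Type u} [AddCommGroup Y] [Module A Y] [AddCommGroup Z]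
    [Module A Z] (Ψ : Y →+ Z)
    (h : ∀ (r : R) (y : Y), Ψ (algebraMap R A r • y) = algebraMap R A r • Ψ y) (a : A) (y : Y) :
    Ψ (a • y) = a • Ψ y := by
  obtain ⟨r, s, rfl⟩ := IsLocalization.exists_mk'_eq m.primeCompl a
  have hu : IsUnit (algebraMap R A s) := IsLocalization.map_units A s
  have h1 : algebraMap R A s • Ψ (IsLocalization.mk' A r s • y) =
      algebraMap R A s • (IsLocalization.mk' A r s • Ψ y) := by
    rw [← h, ← mul_smul, ← mul_smul, IsLocalization.mk'_spec', h]
  exact hu.smul_left_cancel.mp h1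

theorem exists_equiv_localizedModule' :
    Nonempty (LocCoh.H (Ideal.map (algebraMap R A) m) n A ≃ₗ[A]
      LocalizedModule m.primeCompl (LocCoh.H m n R)) := by
  obtain ⟨ψ₁, hψ₁⟩ := Helper98.CechRestrict.lc_restrict (R := R) (R' := A) m A n
  obtain ⟨fs, hfs⟩ := Helper98.CechRestrict.exists_list_span m
  obtain ⟨e₂⟩ := Helper98.CechFlat.lc_tensor_flat A fs (ModuleCat.of R R) n
  rw [hfs] at e₂
  let e₀ : (ModuleCat.of R R ⊗ ModuleCat.of R A) ≅ ModuleCat.of R A :=
    (TensorProduct.lid R A).toModuleIso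
  let ψ₂ : LocCoh.H m n A ≃ₗ[R] (LocCoh.H m n R) ⊗[R] A :=
    (((localCohomology m n).mapIso e₀).symm ≪≫ e₂).toLinearEquiv
  let ψ₃ : (LocCoh.H m n R) ⊗[R] A ≃ₗ[R] LocalizedModule m.primeCompl (LocCoh.H m n R) :=
    (TensorProduct.comm R _ _) ≪≫ₗ
      ((IsLocalizedModule.isBaseChange m.primeCompl A
        (LocalizedModule.mkLinearMap m.primeCompl (LocCoh.H m n R))).equiv.restrictScalars R)
  let Ψ : LocCoh.H (Ideal.map (algebraMap R A) m) n A ≃+
      LocalizedModule m.primeCompl (LocCoh.H m n R) :=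
    ψ₁.trans ((ψ₂ ≪≫ₗ ψ₃).toAddEquiv)
  have hΨ : ∀ (r : R) (y : LocCoh.H (Ideal.map (algebraMap R A) m) n A),
      Ψ (algebraMap R A r • y) = algebraMap R A r • Ψ y := by
    intro r y
    change (ψ₂ ≪≫ₗ ψ₃) (ψ₁ (algebraMap R A r • y)) = algebraMap R A r • (ψ₂ ≪≫ₗ ψ₃) (ψ₁ y)
    rw [hψ₁, LinearEquiv.map_smul, algebraMap_smul]
  exact ⟨{ Ψ with
    map_smul' := fun a y => map_smul_of_algebraMap m Ψ.toAddMonoidHom hΨ a y }⟩

/-- `H^n_{mA}(A) ≃ₗ[A] (H^n_m(R))_m` for `A = R_m`, `m` maximal. -/
theorem exists_equiv_localizedModule :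
    Nonempty (LocCoh.H (maximalIdeal A) n A ≃ₗ[A]
      LocalizedModule m.primeCompl (LocCoh.H m n R)) := by
  have h := exists_equiv_localizedModule' m n
  rwa [Localization.AtPrime.map_eq_maximalIdeal] at h

end Chain

end Groth.Agent.Lib.Helper24.GorGrC
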