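import Mathlib
import Groth.Agent.Lib.Helper24.ExtSocle
import Groth.Agent.Lib.Helper24.GorGrC
import Groth.Agent.Lib.Helper84.BassRes
import Groth.Agent.Lib.Helper56.DepthAss

/-!
# The top Bass number of a ring at a maximal ideal via the socle of `H^n_m(R)` (helper24)
-/

set_option autoImplicit false
set_option linter.unusedSectionVars false
set_option linter.style.haveILetI false

namespace Groth.Agent.Lib.Helper24.BassTop

open CategoryTheory Abelian IsLocalRing
open Groth.Agent.Lib.Helper24.GorGrC

universe u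

variable {R : Type u} [CommRing R] [IsNoetherianRing R] (m : Ideal R) [hm : m.IsMaximal]

local notation "A" => Localization.AtPrime m

/-- If `H^i_{mA}(A) = 0` for `i < n` (`A = R_m`), the `n`-th Bass number of `R` at `m` is the
zeroth Bass number of (the localization of) `H^n_m(R)`. -/
theorem bassNum_eq_bassNumLocal_zero (n : ℕ)
    (hvan : ∀ i < n, Subsingleton (LocCoh.H (maximalIdeal A) i A)) :
    GrLC.bassNum m R n =
      GrLC.bassNumLocal A (LocalizedModule m.primeCompl (LocCoh.H m n R)) 0 := by
  rw [Groth.Agent.Lib.Helper84.BassZero.bassNumLocal_zero_eq_length]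
  unfold GrLC.bassNum GrLC.bassNumLocal
  rw [Groth.Agent.Lib.Helper84.BassRes.length_ext_of_iso_right
    (Groth.Agent.Lib.Helper56.locSelfEquiv m.primeCompl).toModuleIso n]
  obtain ⟨e₁⟩ := Groth.Agent.Lib.Helper24.ExtSocle.exists_equiv A n A hvan
  obtain ⟨e₂⟩ := exists_equiv_localizedModule m n
  exact (e₁ ≪≫ₗ LinearEquiv.congrRight e₂).length_eq

variable {Z : Type u} [AddCommGroup Z] [Module R Z]

/-- Modulo the maximal ideal, elements of `R_m` are represented by elements of `R`. -/
theorem exists_rep (a : A) : ∃ r : R, (r ∈ m → a ∈ maximalIdeal A) ∧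
    ∀ z : Z, (∀ r' ∈ m, r' • z = 0) →
      a • LocalizedModule.mkLinearMap m.primeCompl Z z =
        LocalizedModule.mkLinearMap m.primeCompl Z (r • z) := by
  obtain ⟨r₁, s, rfl⟩ := IsLocalization.exists_mk'_eq m.primeCompl a
  obtain ⟨t, u, hu, htu⟩ := exists_mul_add_eq_one m s s.2 1
  rw [pow_one] at hu
  have htm : t ∉ m := by
    intro ht
    apply hm.ne_top
    rw [Ideal.eq_top_iff_one, ← htu]
    exact Ideal.add_mem _ (Ideal.mul_mem_right _ _ ht) hu
  refine ⟨t * r₁, fun hr => ?_, fun z hz => ?_⟩
  · rw [IsLocalization.AtPrime.mk'_mem_maximal_iff A m r₁ s]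
    exact (hm.isPrime.mem_or_mem hr).resolve_left htm
  · have hunit : IsUnit (algebraMap R A s) := IsLocalization.map_units A s
    apply hunit.smul_left_cancel.mp
    rw [← mul_smul, IsLocalization.mk'_spec', algebraMap_smul, algebraMap_smul, ← map_smul,
      ← map_smul]
    congr 1
    have h1 : (s : R) * (t * r₁) = r₁ - u * r₁ := by
      have : t * (s : R) = 1 - u := by rw [← htu]; ring
      calc (s : R) * (t * r₁) = (t * (s : R)) * r₁ := by ring
        _ = r₁ - u * r₁ := by rw [this]; ring
    rw [← mul_smul, h1, sub_smul, mul_smul, smul_comm u r₁ z, hz u hu, smul_zero, sub_zero]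

/-- The zeroth Bass number of the localization of an `m`-power torsion module, from a basis of
its socle over `R/m`. -/
theorem bassNumLocal_zero_localized (hZ : LocCoh.IsPowerTorsion m Z) {T : Type*} (z : T → Z)
    (hz : ∀ α, ∀ r ∈ m, r • z α = 0)
    (hind : ∀ (s : Finset T) (r : T → R), ∑ α ∈ s, r α • z α = 0 → ∀ α ∈ s, r α ∈ m)
    (hspan : ∀ x : Z, (∀ r ∈ m, r • x = 0) → x ∈ Submodule.span R (Set.range z)) :
    GrLC.bassNumLocal A (LocalizedModule m.primeCompl Z) 0 = ENat.card T := by
  classical
  have hbij := mkLinearMap_bijective m hZ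
  have hmkm : ∀ (r : R) (x : Z), r ∈ m →
      (∀ a ∈ maximalIdeal A, a • LocalizedModule.mkLinearMap m.primeCompl Z x = 0) → r • x = 0 := by
    intro r x hr hx
    apply hbij.1
    rw [map_smul, map_zero, ← algebraMap_smul A r]
    apply hx
    rw [← Localization.AtPrime.map_eq_maximalIdeal]
    exact Ideal.mem_map_of_mem _ hr
  apply Groth.Agent.Lib.Helper84.BassZero.bassNumLocal_zero_eq_card
    (fun α => LocalizedModule.mkLinearMap m.primeCompl Z (z α))
  · intro α a ha
    obtain ⟨r, s, rfl⟩ := IsLocalization.exists_mk'_eq m.primeCompl a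
    have hr : r ∈ m := (IsLocalization.AtPrime.mk'_mem_maximal_iff A m r s).mp ha
    have hunit : IsUnit (algebraMap R A s) := IsLocalization.map_units A s
    apply hunit.smul_left_cancel.mp
    rw [smul_zero, ← mul_smul, IsLocalization.mk'_spec', algebraMap_smul, ← map_smul, hz α r hr,
      map_zero]
  · intro s a hsum
    choose r hr1 hr2 using fun α => exists_rep (Z := Z) m (a α)
    have h1 : ∑ α ∈ s, r α • z α = 0 := by
      apply hbij.1
      rw [map_zero, map_sum, ← hsum]
      apply Finset.sum_congr rfl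
      intro α _
      exact (hr2 α (z α) (hz α)).symm
    intro α hα
    exact hr1 α (hind s r h1 α hα)
  · intro x hx
    obtain ⟨x₀, rfl⟩ := hbij.2 x
    have hx₀ : ∀ r ∈ m, r • x₀ = 0 := fun r hr => hmkm r x₀ hr hx
    have hmem := hspan x₀ hx₀
    clear hx hx₀
    induction hmem using Submodule.span_induction with
    | mem y hy =>
      obtain ⟨α, rfl⟩ := hy
      exact Submodule.subset_span ⟨α, rfl⟩
    | zero =>
      rw [map_zero]
      exact Submodule.zero_mem _
    | add y y' _ _ hy hy' =>
      rw [map_add]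
      exact Submodule.add_mem _ hy hy'
    | smul c y _ hy =>
      rw [map_smul, ← algebraMap_smul A c]
      exact Submodule.smul_mem _ _ hy

end Groth.Agent.Lib.Helper24.BassTop
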