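import Mathlib
import Groth.Agent.Lib.Helper24.GorGrC
import Groth.Agent.Lib.Helper85.CanonGorConv
import Groth.Agent.Lib.Helper85.CanonGor
import Groth.Agent.Lib.Helper85.DepthLC
import Groth.Agent.Lib.Helper85.Matlis
import Groth.Agent.Lib.Helper92.LocCohGV

/-!
# `R_m` Gorenstein vs. injectivity of `H^n_m(R)` (helper24)
-/

set_option linter.unusedSectionVars false
set_option linter.style.haveILetI false

namespace Groth.Agent.Lib.Helper24.GorGrD

open CategoryTheory IsLocalRing
open Groth.Agent.Lib.Helper24.GorGrC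

universe u

section Bridge
variable {R : Type u} [CommRing R] [IsNoetherianRing R] (m : Ideal R) [hm : m.IsMaximal] (n : ℕ)

local notation "A" => Localization.AtPrime m

theorem isPowerTorsion_H : LocCoh.IsPowerTorsion m (LocCoh.H m n R) :=
  fun y => Groth.Agent.Lib.Helper92.LC.exists_pow_smul_eq_zero m n y

/-- If `R_m` is Cohen–Macaulay of dimension `n` and `H^n_m(R)` is an injective `R`-module then
`R_m` is Gorenstein. -/
theorem gor_of_H_injective [LocCoh.IsCohenMacaulayLocalRing A] (hn : ringKrullDim A = n)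
    (hinj : Module.Injective R (LocCoh.H m n R)) : LocCoh.IsGorensteinLocalRing A := by
  have hdepth : LocCoh.depth A A = n := by
    have h := LocCoh.IsCohenMacaulayLocalRing.supportDim_eq_depth (R := A)
    rw [Module.supportDim_self_eq_ringKrullDim, hn] at h
    have h' : ((n : ℕ∞) : WithBot ℕ∞) = ((LocCoh.depth A A : ℕ∞) : WithBot ℕ∞) := by
      exact_mod_cast h
    exact (WithBot.coe_injective h').symm
  have hvan : ∀ i, i ≠ n → Subsingleton (LocCoh.H (maximalIdeal A) i A) := by
    intro i hi
    rcases lt_or_gt_of_ne hi with h | h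
    · exact (Groth.Agent.Lib.Helper85.FLCrit.le_depth_iff A A n).mp (le_of_eq hdepth.symm) i h
    · exact Groth.Agent.Lib.Helper92.LC.cdLE_of_ringKrullDim_le (maximalIdeal A) n (le_of_eq hn) A i h
  obtain ⟨e⟩ := exists_equiv_localizedModule m n
  haveI : Module.Injective A (LocalizedModule m.primeCompl (LocCoh.H m n R)) :=
    Module.injective_of_isLocalizedModule m.primeCompl
      (LocalizedModule.mkLinearMap m.primeCompl (LocCoh.H m n R))
  have hinjY : Module.Injective A (LocCoh.H (maximalIdeal A) n A) :=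
    (Module.Baer.of_equiv e.symm (Module.Baer.of_injective inferInstance)).injective
  have := Groth.Agent.Lib.Helper85.Canon.hasInjectiveDimensionLT_of_H A n hvan hinjY
  exact { exists_hasInjectiveDimensionLT := ⟨n + 1, this⟩ }

/-- the localization of an `m`-power torsion module at another maximal ideal vanishes -/
theorem subsingleton_localizedModule_of_ne {N : Type u} [AddCommGroup N] [Module R N]
    (hN : LocCoh.IsPowerTorsion m N) (I : Ideal R) [hI : I.IsMaximal] (hne : I ≠ m) :
    Subsingleton (LocalizedModule I.primeCompl N) := by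
  obtain ⟨s, hsm, hsI⟩ : ∃ s ∈ m, s ∉ I := by
    by_contra hcon
    push Not at hcon
    exact hne (hm.eq_of_le hI.ne_top hcon).symm
  refine ⟨fun a b => ?_⟩
  suffices H : ∀ z : LocalizedModule I.primeCompl N, z = 0 from (H a).trans (H b).symm
  intro z
  induction z using LocalizedModule.induction_on with
  | h x t =>
    obtain ⟨k, hk⟩ := hN x
    rw [← LocalizedModule.zero_mk t, LocalizedModule.mk_eq]
    refine ⟨⟨s ^ k, fun h => hsI (hI.isPrime.mem_of_pow_mem k h)⟩, ?_⟩
    simp only [smul_zero]
    change s ^ k • (t • x) = 0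
    rw [smul_comm, hk _ (Ideal.pow_mem_pow hsm k), smul_zero]

/-- If `R_m` is Gorenstein of dimension `n`, then `H^n_m(R)` is an injective `R`-module. -/
theorem H_injective_of_gor [LocCoh.IsGorensteinLocalRing A] (hn : ringKrullDim A = n) :
    Module.Injective R (LocCoh.H m n R) := by
  apply Module.injective_of_localization_maximal
  intro I hI
  by_cases hIm : I = m
  · subst hIm
    obtain ⟨E₀, _, _, f₀, hf₀⟩ := Groth.Agent.Lib.Helper85.Hull.exists_injectiveHull
      (R := Localization.AtPrime I) (ResidueField (Localization.AtPrime I))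
    obtain ⟨e₁⟩ := Groth.Agent.Lib.Helper85.Canon.gor_top_equiv (Localization.AtPrime I) n hn hf₀
    obtain ⟨e⟩ := exists_equiv_localizedModule I n
    haveI := hf₀.isInjective
    exact (Module.Baer.of_equiv (e₁.symm ≪≫ₗ e) (Module.Baer.of_injective inferInstance)).injective
  · haveI := subsingleton_localizedModule_of_ne m (isPowerTorsion_H m n) I hIm
    exact Module.Baer.injective (fun J g => ⟨0, fun x hx => Subsingleton.elim _ _⟩)

/-- If `R_m` is Gorenstein of dimension `n`, the socle of `H^n_m(R)` is nonzero and cyclic. -/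
theorem exists_socle_generator_of_gor [LocCoh.IsGorensteinLocalRing A] (hn : ringKrullDim A = n) :
    ∃ h₀ : LocCoh.H m n R, h₀ ≠ 0 ∧ (∀ r ∈ m, r • h₀ = 0) ∧
      ∀ h : LocCoh.H m n R, (∀ r ∈ m, r • h = 0) → ∃ r : R, h = r • h₀ := by
  obtain ⟨E₀, _, _, f₀, hf₀⟩ := Groth.Agent.Lib.Helper85.Hull.exists_injectiveHull
    (R := A) (ResidueField A)
  obtain ⟨e₁⟩ := Groth.Agent.Lib.Helper85.Canon.gor_top_equiv A n hn hf₀
  obtain ⟨e⟩ := exists_equiv_localizedModule m n
  let ε : LocalizedModule m.primeCompl (LocCoh.H m n R) ≃ₗ[A] E₀ := e.symm ≪≫ₗ e₁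
  have hbij := mkLinearMap_bijective m (isPowerTorsion_H m n)
  have hεR : ∀ (r : R) (z : LocalizedModule m.primeCompl (LocCoh.H m n R)),
      ε (r • z) = algebraMap R A r • ε z := by
    intro r z
    rw [← algebraMap_smul A r z, map_smul]
  obtain ⟨h₀, hh₀⟩ := hbij.2 (ε.symm (f₀ 1))
  have hε₀ : ε (LocalizedModule.mkLinearMap m.primeCompl _ h₀) = f₀ 1 := by
    rw [hh₀, LinearEquiv.apply_symm_apply]
  refine ⟨h₀, ?_, ?_, ?_⟩
  · intro h0
    rw [h0, map_zero, map_zero] at hε₀
    exact Groth.Agent.Lib.Helper85.Matlis.f_one_ne_zero hf₀.toIsEssentialInj hε₀.symm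
  · intro r hr
    apply hbij.1
    rw [map_smul, map_zero]
    apply ε.injective
    rw [map_zero, hεR, hε₀, ← map_smul]
    have : algebraMap R A r • (1 : ResidueField A) = 0 :=
      Groth.Agent.Lib.Helper85.Matlis.mem_maximalIdeal_smul_residue _
        (by rw [← Localization.AtPrime.map_eq_maximalIdeal]; exact Ideal.mem_map_of_mem _ hr) 1
    rw [this, map_zero]
  · intro h hh
    have hwsoc : ε (LocalizedModule.mkLinearMap m.primeCompl _ h) ∈
        LocCoh.torsionBy (maximalIdeal A) E₀ := by
      rw [Submodule.mem_torsionBySet_iff]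
      rintro ⟨a, ha⟩
      change a • ε (LocalizedModule.mkLinearMap m.primeCompl _ h) = 0
      obtain ⟨r, s, rfl⟩ := IsLocalization.exists_mk'_eq m.primeCompl a
      have hr : r ∈ m := (IsLocalization.AtPrime.mk'_mem_maximal_iff A m r s).mp ha
      have hu : IsUnit (algebraMap R A s) := IsLocalization.map_units A s
      apply hu.smul_left_cancel.mp
      rw [smul_zero, ← mul_smul, IsLocalization.mk'_spec', ← hεR, ← map_smul, hh r hr, map_zero,
        map_zero]
    rw [Groth.Agent.Lib.Helper85.Matlis.socle_eq_range hf₀.toIsEssentialInj] at hwsoc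
    obtain ⟨c, hc⟩ := hwsoc
    obtain ⟨a, rfl⟩ := Groth.Agent.Lib.Helper85.Matlis.residue_eq_smul_one c
    obtain ⟨r, s, rfl⟩ := IsLocalization.exists_mk'_eq m.primeCompl a
    have hsr : (s : R) • h = r • h₀ := by
      apply hbij.1
      apply ε.injective
      have e1 : ε (LocalizedModule.mkLinearMap m.primeCompl _ ((s : R) • h)) =
          algebraMap R A s • ε (LocalizedModule.mkLinearMap m.primeCompl _ h) := by
        rw [LinearMap.map_smul, hεR]
      have e2 : ε (LocalizedModule.mkLinearMap m.primeCompl _ (r • h₀)) =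
          algebraMap R A r • f₀ 1 := by
        rw [LinearMap.map_smul, hεR, hε₀]
      rw [e1, e2, ← hc, LinearMap.map_smul, ← mul_smul, IsLocalization.mk'_spec']
    obtain ⟨t, u, hu, htu⟩ := exists_mul_add_eq_one m s s.2 1
    rw [pow_one] at hu
    refine ⟨t * r, ?_⟩
    calc h = (t * s + u) • h := by rw [htu, one_smul]
      _ = t • ((s : R) • h) + u • h := by rw [add_smul, mul_smul]
      _ = (t * r) • h₀ := by rw [hsr, hh u hu, add_zero, mul_smul]

end Bridge

end Groth.Agent.Lib.Helper24.GorGrD
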