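import Mathlib
import Groth.Prelude.Def_GrLC
import Groth.Prelude.Def_Wider
import Groth.Agent.Lib.Helper8.GrStarLocal
import Groth.Agent.Lib.Helper24.GorGrC

/-!
# From an injective dual with cyclic socle to `C ≅ R(a)` (helper24)
-/

set_option linter.unusedSectionVars false
set_option linter.style.haveILetI false

namespace Groth.Agent.Lib.Helper24.GorGrE

open DirectSum GrLC
open Groth.Agent.Lib.Helper24.GorGrC

universe u

section Hull
variable {R : Type u} [CommRing R] (m : Ideal R) [hmax : m.IsMaximal]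
  {E' : Type u} [AddCommGroup E'] [Module R E'] (e : (R ⧸ m) →ₗ[R] E')

theorem smul_e_one (r : R) (hr : r ∈ m) : r • e 1 = 0 := by
  rw [← map_smul]
  have : r • (1 : R ⧸ m) = 0 := by
    change Ideal.Quotient.mk m (r * 1) = 0
    rw [mul_one]
    exact Ideal.Quotient.eq_zero_iff_mem.mpr hr
  rw [this, map_zero]

theorem e_eq_smul (c : R ⧸ m) : ∃ t : R, e c = t • e 1 := by
  obtain ⟨t, rfl⟩ := Ideal.Quotient.mk_surjective c
  refine ⟨t, ?_⟩
  rw [← map_smul]
  congr 1
  change _ = Ideal.Quotient.mk m (t * 1)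
  rw [mul_one]

/-- a nonzero socle element is not killed by elements outside `m` -/
theorem mem_of_smul_eq_zero {x : E'} (hx : x ≠ 0) (hxm : ∀ r ∈ m, r • x = 0) {r : R}
    (hr : r • x = 0) : r ∈ m := by
  by_contra hrm
  obtain ⟨t, u, hu, htu⟩ := exists_mul_add_eq_one m r hrm 1
  rw [pow_one] at hu
  apply hx
  calc x = (t * r + u) • x := by rw [htu, one_smul]
    _ = 0 := by rw [add_smul, mul_smul, hr, smul_zero, hxm u hu, add_zero]

variable (he : InjHull.IsInjectiveHull e)
include he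

theorem e_one_ne_zero : e 1 ≠ 0 := by
  intro h
  have := he.injective (h.trans (map_zero e).symm)
  exact one_ne_zero this

theorem e_one_mem_of_ne_bot (N : Submodule R E') (hN : N ≠ ⊥) : e 1 ∈ N := by
  have h1 := he.essential N hN
  obtain ⟨x, hx, hx0⟩ := Submodule.exists_mem_ne_zero_of_ne_bot h1
  obtain ⟨hxN, c, rfl⟩ := hx
  obtain ⟨t, ht⟩ := e_eq_smul m e c
  have htm : t ∉ m := by
    intro htm
    apply hx0
    rw [ht, smul_e_one m e t htm]
  obtain ⟨s, u, hu, hsu⟩ := exists_mul_add_eq_one m t htm 1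
  rw [pow_one] at hu
  have : e 1 = s • e c := by
    calc e 1 = (s * t + u) • e 1 := by rw [hsu, one_smul]
      _ = s • e c := by rw [add_smul, mul_smul, ← ht, smul_e_one m e u hu, add_zero]
  rw [this]
  exact N.smul_mem s hxN

/-- an injective linear map from a nonzero injective module into the injective hull of `R/m` is
surjective -/
theorem surjective_of_injective {D : Type u} [AddCommGroup D] [Module R D] [Nontrivial D]
    [Module.Injective R D] (ev : D →ₗ[R] E') (hev : Function.Injective ev) :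
    Function.Surjective ev := by
  obtain ⟨ρ, hρ⟩ := Module.Injective.extension_property R D D E' ev hev LinearMap.id
  have hρ' : ∀ g : D, ρ (ev g) = g := fun g => LinearMap.congr_fun hρ g
  have hrange : LinearMap.range ev ≠ ⊥ := by
    intro h
    obtain ⟨g, hg⟩ := exists_ne (0 : D)
    apply hg
    apply hev
    have : ev g ∈ LinearMap.range ev := ⟨g, rfl⟩
    rw [h, Submodule.mem_bot] at this
    rw [this, map_zero]
  obtain ⟨g₀, hg₀⟩ := e_one_mem_of_ne_bot m e he _ hrange
  have hker : LinearMap.ker ρ = ⊥ := by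
    by_contra hne
    have h1 := e_one_mem_of_ne_bot m e he _ hne
    rw [LinearMap.mem_ker, ← hg₀, hρ'] at h1
    apply e_one_ne_zero m e he
    rw [← hg₀, h1, map_zero]
  intro x
  refine ⟨ρ x, ?_⟩
  have : ρ (ev (ρ x)) = ρ x := hρ' _
  exact LinearMap.ker_eq_bot.mp hker this

end Hull

section Graded
open Groth.Agent.Lib.Helper8.GrStarLocal

variable {R : Type u} [CommRing R] [IsNoetherianRing R] (𝒜 : ℤ → AddSubgroup R) [GradedRing 𝒜]
  (m : HomogeneousIdeal 𝒜) (hm : GrLC.IsStarLocal 𝒜 m) [hmax : m.toIdeal.IsMaximal]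
  {E' : Type u} [AddCommGroup E'] [Module R E'] (e : (R ⧸ m.toIdeal) →ₗ[R] E')
  (he : InjHull.IsInjectiveHull e)

include hm he in
/-- `E'` is faithful on homogeneous elements -/
theorem exists_smul_ne_zero {i : ℤ} {r : R} (hr : r ∈ 𝒜 i) (hr0 : r ≠ 0) :
    ∃ x : E', r • x ≠ 0 := by
  have hbot : (⊥ : Submodule R R).IsHomogeneous 𝒜 := by
    intro j x hx
    rw [Submodule.mem_bot] at hx
    rw [hx, decompose_zero]
    exact Submodule.zero_mem _
  let J : HomogeneousIdeal 𝒜 := ⟨colon (⊥ : Submodule R R) r, colon_isHomogeneous 𝒜 𝒜 hbot hr⟩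
  have hJtop : J.toIdeal ≠ ⊤ := by
    intro h
    have h1 : (1 : R) ∈ colon (⊥ : Submodule R R) r := by
      have : (1 : R) ∈ J.toIdeal := by rw [h]; exact Submodule.mem_top
      exact this
    rw [mem_colon, one_smul, Submodule.mem_bot] at h1
    exact hr0 h1
  have hle : colon (⊥ : Submodule R R) r ≤ m.toIdeal := le_of_isStarLocal 𝒜 m hm J hJtop
  let t : R →ₗ[R] R := LinearMap.toSpanSingleton R R r
  have hker : LinearMap.ker t = colon (⊥ : Submodule R R) r := by
    ext x
    rw [LinearMap.mem_ker, mem_colon, Submodule.mem_bot]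
    rfl
  let ι : (R ⧸ colon (⊥ : Submodule R R) r) →ₗ[R] R :=
    (colon (⊥ : Submodule R R) r).liftQ t (le_of_eq hker.symm)
  have hι : Function.Injective ι := by
    rw [← LinearMap.ker_eq_bot]
    exact Submodule.ker_liftQ_eq_bot _ _ _ (le_of_eq hker)
  let g : (R ⧸ colon (⊥ : Submodule R R) r) →ₗ[R] E' :=
    e ∘ₗ Submodule.mapQ (colon (⊥ : Submodule R R) r) m.toIdeal LinearMap.id hle
  haveI := he.isInjective
  obtain ⟨h, hh⟩ := Module.Injective.extension_property R E' _ R ι hι g
  refine ⟨h 1, ?_⟩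
  have h1 : r • h 1 = g (Submodule.Quotient.mk 1) := by
    rw [← hh, LinearMap.comp_apply, ← map_smul]
    congr 1
    change r • (1 : R) = (1 : R) • r
    rw [smul_eq_mul, smul_eq_mul, mul_one, one_mul]
  rw [h1]
  change e (Submodule.mapQ _ _ LinearMap.id hle (Submodule.Quotient.mk 1)) ≠ 0
  rw [Submodule.mapQ_apply]
  exact e_one_ne_zero m.toIdeal e he

variable {C : Type u} [AddCommGroup C] [Module R C] (𝒞 : ℤ → AddSubgroup C)
  [DirectSum.Decomposition 𝒞] [SetLike.GradedSMul 𝒜 𝒞] [Module.Finite R C]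

/-- the socle element of `Hom(C, E')` attached to a functional on `C / mC` -/
noncomputable def socleHom
    (l : (C ⧸ m.toIdeal • (⊤ : Submodule R C)) →ₗ[R ⧸ m.toIdeal] (R ⧸ m.toIdeal)) :
    C →ₗ[R] E' where
  toFun x := e (l (Submodule.Quotient.mk x))
  map_add' x y := by rw [Submodule.Quotient.mk_add, map_add, map_add]
  map_smul' r x := by
    rw [RingHom.id_apply, ← map_smul]
    congr 1
    have h1 : (Submodule.Quotient.mk (r • x) : C ⧸ m.toIdeal • (⊤ : Submodule R C)) =
        Ideal.Quotient.mk m.toIdeal r • Submodule.Quotient.mk x := rfl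
    rw [h1, map_smul]
    rfl

theorem socleHom_apply
    (l : (C ⧸ m.toIdeal • (⊤ : Submodule R C)) →ₗ[R ⧸ m.toIdeal] (R ⧸ m.toIdeal)) (x : C) :
    socleHom 𝒜 m e l x = e (l (Submodule.Quotient.mk x)) := rfl

theorem smul_socleHom
    (l : (C ⧸ m.toIdeal • (⊤ : Submodule R C)) →ₗ[R ⧸ m.toIdeal] (R ⧸ m.toIdeal))
    (r : R) (hr : r ∈ m.toIdeal) : r • socleHom 𝒜 m e l = 0 := by
  ext x
  rw [LinearMap.smul_apply, LinearMap.zero_apply, socleHom_apply]
  obtain ⟨t, ht⟩ := e_eq_smul m.toIdeal e (l (Submodule.Quotient.mk x))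
  rw [ht, smul_comm, smul_e_one m.toIdeal e r hr, smul_zero]

include hm he in
/-- **Key step**: if `Hom_R(C, E')` is an injective `R`-module with nonzero cyclic socle, then
`C ≅ R(a)`. -/
theorem exists_bijective_of_socle [hD : Module.Injective R (C →ₗ[R] E')]
    (g₁ : C →ₗ[R] E') (hg₁ : g₁ ≠ 0) (hg₁m : ∀ r ∈ m.toIdeal, r • g₁ = 0)
    (hcyc : ∀ g : C →ₗ[R] E', (∀ r ∈ m.toIdeal, r • g = 0) → ∃ r : R, g = r • g₁) :
    ∃ (a : ℤ) (f : R →ₗ[R] C), Function.Bijective f ∧ GrLC.IsGrHomDeg 𝒜 𝒞 f a := by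
  classical
  -- a homogeneous element on which `g₁` does not vanish
  obtain ⟨y, hy⟩ : ∃ y, g₁ y ≠ 0 := by
    by_contra h
    push Not at h
    exact hg₁ (LinearMap.ext h)
  obtain ⟨d, hd⟩ : ∃ d, g₁ (decompose 𝒞 y d : C) ≠ 0 := by
    by_contra h
    push Not at h
    apply hy
    rw [← sum_support_decompose 𝒞 y, map_sum]
    exact Finset.sum_eq_zero (fun i _ => h i)
  obtain ⟨c₀, hc₀d, hc₀⟩ : ∃ c₀ : C, c₀ ∈ 𝒞 d ∧ g₁ c₀ ≠ 0 := ⟨_, (decompose 𝒞 y d).2, hd⟩
  have hval : ∀ z : C, ∀ r ∈ m.toIdeal, r • g₁ z = 0 := fun z r hr => by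
    have := LinearMap.congr_fun (hg₁m r hr) z
    rwa [LinearMap.smul_apply, LinearMap.zero_apply] at this
  -- `C = R c₀ + mC`
  have hspan : ∀ y : C, y ∈ Submodule.span R {c₀} ⊔ m.toIdeal • (⊤ : Submodule R C) := by
    intro y
    by_contra hy
    letI : Field (R ⧸ m.toIdeal) := Ideal.Quotient.field m.toIdeal
    let p : Submodule (R ⧸ m.toIdeal) (C ⧸ m.toIdeal • (⊤ : Submodule R C)) :=
      Submodule.span (R ⧸ m.toIdeal) {Submodule.Quotient.mk c₀}
    have hyp : (Submodule.Quotient.mk y : C ⧸ m.toIdeal • (⊤ : Submodule R C)) ∉ p := by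
      intro h
      obtain ⟨c, hc⟩ := Submodule.mem_span_singleton.mp h
      obtain ⟨t, rfl⟩ := Ideal.Quotient.mk_surjective c
      have h1 : (Submodule.Quotient.mk (t • c₀) : C ⧸ m.toIdeal • (⊤ : Submodule R C)) =
          Submodule.Quotient.mk y := hc
      rw [Submodule.Quotient.eq] at h1
      apply hy
      have : y = t • c₀ - (t • c₀ - y) := by abel
      rw [this]
      exact Submodule.sub_mem _
        (Submodule.mem_sup_left (Submodule.smul_mem _ _ (Submodule.mem_span_singleton_self c₀)))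
        (Submodule.mem_sup_right h1)
    obtain ⟨l, hly, hlp⟩ := Submodule.exists_dual_map_eq_bot_of_notMem hyp inferInstance
    have hlc₀ : l (Submodule.Quotient.mk c₀) = 0 := by
      have : l (Submodule.Quotient.mk c₀) ∈ p.map l :=
        Submodule.mem_map_of_mem (Submodule.mem_span_singleton_self _)
      rw [hlp, Submodule.mem_bot] at this
      exact this
    obtain ⟨r, hr⟩ := hcyc (socleHom 𝒜 m e l) (smul_socleHom 𝒜 m e l)
    have h0 : r • g₁ c₀ = 0 := by
      have := LinearMap.congr_fun hr c₀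
      rw [LinearMap.smul_apply, socleHom_apply, hlc₀, map_zero] at this
      exact this.symm
    have hrm : r ∈ m.toIdeal := mem_of_smul_eq_zero m.toIdeal hc₀ (hval c₀) h0
    have h1 : socleHom 𝒜 m e l y = 0 := by
      rw [hr, LinearMap.smul_apply, hval y r hrm]
    rw [socleHom_apply] at h1
    exact hly (he.injective (h1.trans (map_zero e).symm))
  -- `C = R c₀`
  have htop : (⊤ : Submodule R C) ≤ Submodule.span R {c₀} ⊔ m.toIdeal • (⊤ : Submodule R C) :=
    fun y _ => hspan y
  obtain ⟨r, hr1, hrle⟩ := Submodule.exists_sub_one_mem_and_smul_le_of_fg_of_le_sup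
    (I := m.toIdeal) (N := Submodule.span R {c₀}) (N' := ⊤) (P := ⊤)
    (Module.Finite.fg_top) le_rfl htop
  have hrm : r ∉ m.toIdeal := by
    intro h
    have : (1 : R) ∈ m.toIdeal := by
      have := m.toIdeal.sub_mem h hr1
      rwa [sub_sub_cancel] at this
    exact hmax.ne_top ((Ideal.eq_top_iff_one _).mpr this)
  have hPhom : (Submodule.span R {c₀}).IsHomogeneous 𝒞 := by
    have := isHomogeneous_range 𝒜 𝒞
      (φ := LinearMap.toSpanSingleton R C c₀) (j := d) (by
        intro i x hx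
        rw [LinearMap.toSpanSingleton_apply]
        exact SetLike.GradedSMul.smul_mem hx hc₀d)
    rwa [LinearMap.range_toSpanSingleton] at this
  have hsurj : ∀ y : C, y ∈ Submodule.span R {c₀} := by
    intro y
    rw [← sum_support_decompose 𝒞 y]
    refine Submodule.sum_mem _ (fun i _ => ?_)
    have h1 : r • (decompose 𝒞 y i : C) ∈ Submodule.span R {c₀} := by
      apply hrle
      exact Submodule.smul_mem_pointwise_smul _ _ _ Submodule.mem_top
    exact mem_of_smul_mem 𝒜 𝒞 m hm hPhom (decompose 𝒞 y i).2 h1 hrm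
  -- the map
  refine ⟨d, LinearMap.toSpanSingleton R C c₀, ⟨?_, ?_⟩, ?_⟩
  · -- injectivity
    haveI : Nontrivial (C →ₗ[R] E') := ⟨⟨g₁, 0, hg₁⟩⟩
    let ev : (C →ₗ[R] E') →ₗ[R] E' := LinearMap.applyₗ c₀
    have hev : Function.Injective ev := by
      intro g g' hgg
      apply LinearMap.ext
      intro y
      obtain ⟨t, rfl⟩ := Submodule.mem_span_singleton.mp (hsurj y)
      rw [map_smul, map_smul]
      congr 1
    have hevs := surjective_of_injective m.toIdeal e he ev hev
    have hbot : (⊥ : Submodule R C).IsHomogeneous 𝒞 := by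
      intro j x hx
      rw [Submodule.mem_bot] at hx
      rw [hx, decompose_zero]
      exact Submodule.zero_mem _
    have hJhom : (colon (⊥ : Submodule R C) c₀).IsHomogeneous 𝒜 :=
      colon_isHomogeneous 𝒜 𝒞 hbot hc₀d
    rw [injective_iff_map_eq_zero]
    intro x hx
    have hxJ : x ∈ colon (⊥ : Submodule R C) c₀ := by
      rw [mem_colon, Submodule.mem_bot]
      exact hx
    rw [← sum_support_decompose 𝒜 x]
    refine Finset.sum_eq_zero (fun i _ => ?_)
    by_contra hne
    have hxi : (decompose 𝒜 x i : R) ∈ colon (⊥ : Submodule R C) c₀ := hJhom i hxJ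
    rw [mem_colon, Submodule.mem_bot] at hxi
    obtain ⟨z, hz⟩ := exists_smul_ne_zero 𝒜 m hm e he (decompose 𝒜 x i).2 hne
    obtain ⟨g, rfl⟩ := hevs z
    apply hz
    change (decompose 𝒜 x i : R) • g c₀ = 0
    rw [← map_smul, hxi, map_zero]
  · intro y
    obtain ⟨t, rfl⟩ := Submodule.mem_span_singleton.mp (hsurj y)
    exact ⟨t, rfl⟩
  · intro i x hx
    rw [LinearMap.toSpanSingleton_apply]
    exact SetLike.GradedSMul.smul_mem hx hc₀d

end Graded

end Groth.Agent.Lib.Helper24.GorGrE
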