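import Mathlib
import Groth.Agent.Lib.Helper24.BassTop
import Groth.Agent.Lib.Helper24.GorGrE
import Groth.Agent.Lib.Helper24.GorGrD
import Groth.Agent.Lib.Helper85.CanonDual
import Groth.Agent.Lib.Helper85.Matlis
import Groth.Agent.Lib.Helper67.Depth

/-!
# Bass numbers of a canonical module and the type of a ring (helper24)

`type_eq_finrank`: `μ_n(m, R) = dim_k (k ⊗ C)` when `Hom(C, E(R/m)) ≅ H^n_m(R)`;
`bassNum_canon_eq_one`: `μ_n(m, C) = 1`.
-/

set_option autoImplicit false
set_option linter.unusedSectionVars false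
set_option linter.style.haveILetI false

namespace Groth.Agent.Lib.Helper24.BassCanon

open CategoryTheory Abelian IsLocalRing TensorProduct
open Groth.Agent.Lib.Helper24

universe u

section TypeFinrank

variable {R : Type u} [CommRing R] [IsNoetherianRing R] (m : Ideal R) [hmax : m.IsMaximal]
  {E' : Type u} [AddCommGroup E'] [Module R E'] (e : (R ⧸ m) →ₗ[R] E')
  (he : InjHull.IsInjectiveHull e)
  {C : Type u} [AddCommGroup C] [Module R C] [Module.Finite R C]

include he in
/-- the socle of the injective hull `E'` of `R/m` is the image of `R/m` -/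
theorem mem_range_of_socle (y : E') (hy : ∀ r ∈ m, r • y = 0) : y ∈ LinearMap.range e := by
  by_cases hy0 : y = 0
  · rw [hy0]; exact zero_mem _
  have hN : Submodule.span R {y} ≠ ⊥ := by
    intro h
    apply hy0
    have : y ∈ Submodule.span R {y} := Submodule.mem_span_singleton_self y
    rw [h, Submodule.mem_bot] at this
    exact this
  have h1 := GorGrE.e_one_mem_of_ne_bot m e he _ hN
  obtain ⟨t, ht⟩ := Submodule.mem_span_singleton.mp h1
  have htm : t ∉ m := by
    intro htm
    apply GorGrE.e_one_ne_zero m e he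
    rw [← ht, hy t htm]
  obtain ⟨t', u, hu, htu⟩ := GorGrC.exists_mul_add_eq_one m t htm 1
  rw [pow_one] at hu
  refine ⟨Ideal.Quotient.mk m t', ?_⟩
  have h2 : (Ideal.Quotient.mk m t' : R ⧸ m) = t' • (1 : R ⧸ m) := by
    change _ = Ideal.Quotient.mk m (t' * 1)
    rw [mul_one]
  rw [h2, map_smul, ← ht, smul_smul]
  calc (t' * t) • y = (t' * t) • y + u • y := by rw [hy u hu, add_zero]
    _ = y := by rw [← add_smul, htu, one_smul]

theorem mk_one_surjective :
    Function.Surjective (TensorProduct.mk R (R ⧸ m) C 1) := by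
  intro x
  induction x using TensorProduct.induction_on with
  | zero => exact ⟨0, map_zero _⟩
  | tmul q c =>
    obtain ⟨r, rfl⟩ := Ideal.Quotient.mk_surjective q
    refine ⟨r • c, ?_⟩
    rw [TensorProduct.mk_apply, ← TensorProduct.smul_tmul]
    congr 1
    change Ideal.Quotient.mk m (r * 1) = _
    rw [mul_one]
  | add a b ha hb =>
    obtain ⟨a', rfl⟩ := ha
    obtain ⟨b', rfl⟩ := hb
    exact ⟨a' + b', map_add _ _ _⟩

include he in
/-- The type of `R` at `m` is the minimal number of generators of a module `C` with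
`Hom(C, E(R/m)) ≅ H^n_m(R)`. -/
theorem type_eq_finrank (n : ℕ)
    (hvan : ∀ i < n, Subsingleton (LocCoh.H (maximalIdeal (Localization.AtPrime m)) i
      (Localization.AtPrime m)))
    (κ₀ : (C →ₗ[R] E') ≃ₗ[R] LocCoh.H m n R) :
    GrLC.bassNum m R n = (Module.finrank (R ⧸ m) ((R ⧸ m) ⊗[R] C) : ℕ∞) := by
  classical
  letI : Field (R ⧸ m) := Ideal.Quotient.field m
  let bas := Module.finBasis (R ⧸ m) ((R ⧸ m) ⊗[R] C)
  let mk1 : C →ₗ[R] (R ⧸ m) ⊗[R] C := TensorProduct.mk R (R ⧸ m) C 1
  have hmk1 : Function.Surjective mk1 := mk_one_surjective m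
  let fα : Fin (Module.finrank (R ⧸ m) ((R ⧸ m) ⊗[R] C)) → (C →ₗ[R] E') := fun α =>
    e ∘ₗ ((bas.coord α).restrictScalars R) ∘ₗ mk1
  have hfα : ∀ α x, fα α x = e (bas.coord α (mk1 x)) := fun α x => rfl
  have hsm : ∀ (r : R) (q : R ⧸ m), r ∈ m → r • e q = 0 := by
    intro r q hr
    obtain ⟨t, ht⟩ := GorGrE.e_eq_smul m e q
    rw [ht, smul_comm, GorGrE.smul_e_one m e r hr, smul_zero]
  rw [BassTop.bassNum_eq_bassNumLocal_zero m n hvan,
    BassTop.bassNumLocal_zero_localized m (GorGrD.isPowerTorsion_H m n) (fun α => κ₀ (fα α))]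
  · rw [ENat.card_eq_coe_fintype_card, Fintype.card_fin]
  · intro α r hr
    rw [← map_smul]
    have : r • fα α = 0 := by
      ext x
      rw [LinearMap.smul_apply, LinearMap.zero_apply, hfα]
      exact hsm r _ hr
    rw [this, map_zero]
  · intro s r hsum
    have h3 : ∑ α ∈ s, r α • fα α = 0 := by
      apply κ₀.injective
      rw [map_zero, map_sum, ← hsum]
      apply Finset.sum_congr rfl
      intro α _
      rw [map_smul]
    intro β hβ
    obtain ⟨cβ, hcβ⟩ := hmk1 (bas β)
    have h4 := LinearMap.congr_fun h3 cβ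
    rw [LinearMap.sum_apply, LinearMap.zero_apply] at h4
    rw [Finset.sum_eq_single β] at h4
    · rw [LinearMap.smul_apply, hfα, hcβ, Module.Basis.coord_apply, Module.Basis.repr_self,
        Finsupp.single_eq_same] at h4
      exact GorGrE.mem_of_smul_eq_zero m (GorGrE.e_one_ne_zero m e he)
        (fun r' hr' => GorGrE.smul_e_one m e r' hr') h4
    · intro α _ hαβ
      rw [LinearMap.smul_apply, hfα, hcβ, Module.Basis.coord_apply, Module.Basis.repr_self,
        Finsupp.single_eq_of_ne hαβ, map_zero, smul_zero]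
    · intro h; exact absurd hβ h
  · intro x hx
    let f : C →ₗ[R] E' := κ₀.symm x
    have hf : ∀ r ∈ m, r • f = 0 := fun r hr => by
      change r • κ₀.symm x = 0
      rw [← map_smul, hx r hr, map_zero]
    have hmem : ∀ c, f c ∈ LinearMap.range e := fun c =>
      mem_range_of_socle m e he (f c) (fun r hr => by
        rw [← LinearMap.smul_apply, hf r hr, LinearMap.zero_apply])
    let g : C →ₗ[R] R ⧸ m :=
      (LinearEquiv.ofInjective e he.injective).symm.toLinearMap ∘ₗ
        (f.codRestrict (LinearMap.range e) hmem)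
    have hg : ∀ c, e (g c) = f c := by
      intro c
      have := (LinearEquiv.ofInjective e he.injective).apply_symm_apply
        (f.codRestrict (LinearMap.range e) hmem c)
      exact congrArg Subtype.val this
    let g' : (R ⧸ m) ⊗[R] C →ₗ[R ⧸ m] (R ⧸ m) := g.liftBaseChange (R ⧸ m)
    have hg' : ∀ c, g' (mk1 c) = g c := by
      intro c
      change g.liftBaseChange (R ⧸ m) ((1 : R ⧸ m) ⊗ₜ[R] c) = g c
      rw [LinearMap.liftBaseChange_tmul, one_smul]
    have ht : ∀ α, ∃ t : R, Ideal.Quotient.mk m t = g' (bas α) := fun α =>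
      Ideal.Quotient.mk_surjective _
    choose t ht using ht
    have h5 : f = ∑ α, t α • fα α := by
      ext c
      rw [LinearMap.sum_apply, ← hg, ← hg']
      conv_lhs => rw [← bas.sum_repr (mk1 c)]
      rw [map_sum, map_sum]
      apply Finset.sum_congr rfl
      intro α _
      have h7 : g' (bas.repr (mk1 c) α • bas α) = t α • (bas.repr (mk1 c) α) := by
        rw [map_smul, ← ht, smul_eq_mul, mul_comm, Algebra.smul_def, Ideal.Quotient.algebraMap_eq]
      rw [h7, map_smul, LinearMap.smul_apply, hfα, Module.Basis.coord_apply]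
    have h6 : x = ∑ α, t α • κ₀ (fα α) := by
      have := congrArg κ₀ h5
      rw [LinearEquiv.apply_symm_apply, map_sum] at this
      rw [this]
      apply Finset.sum_congr rfl
      intro α _
      rw [map_smul]
    rw [h6]
    apply Submodule.sum_mem
    intro α _
    exact Submodule.smul_mem _ _ (Submodule.subset_span ⟨α, rfl⟩)

end TypeFinrank

section LenOne

variable {A : Type u} [CommRing A] [IsLocalRing A] {E : Type u} [AddCommGroup E] [Module A E]
  [Module.Injective A E] {V : Type u} [AddCommGroup V] [Module A V]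

/-- If `V` is killed by the maximal ideal and `Hom(V, E)` is simple for an injective module `E`,
then `V` is simple. -/
theorem length_eq_one_of_length_hom (hV : ∀ a ∈ maximalIdeal A, ∀ v : V, a • v = 0)
    (hL : Module.length A (V →ₗ[A] E) = 1) : Module.length A V = 1 := by
  rw [Module.length_eq_one_iff] at hL ⊢
  haveI := hL
  haveI : Nontrivial (V →ₗ[A] E) := IsSimpleModule.nontrivial A _
  obtain ⟨φ₀, hφ₀⟩ := exists_ne (0 : V →ₗ[A] E)
  obtain ⟨v₀, hv₀⟩ : ∃ v, φ₀ v ≠ 0 := by
    by_contra hcon
    push Not at hcon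
    exact hφ₀ (LinearMap.ext hcon)
  have hx₀ : ∀ a ∈ maximalIdeal A, a • φ₀ v₀ = 0 := fun a ha => by
    rw [← map_smul, hV a ha, map_zero]
  have hv₀0 : v₀ ≠ 0 := fun h => hv₀ (by rw [h, map_zero])
  have hunit : ∀ a : A, a ∉ maximalIdeal A → IsUnit a := by
    intro a ha
    rwa [mem_maximalIdeal, mem_nonunits_iff, not_not] at ha
  have hkey : ∀ φ : V →ₗ[A] E, φ v₀ = 0 → φ = 0 := by
    intro φ hφ
    let N : Submodule A (V →ₗ[A] E) := LinearMap.ker (LinearMap.applyₗ v₀)
    rcases eq_bot_or_eq_top N with h | h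
    · have h1 : φ ∈ N := hφ
      rw [h, Submodule.mem_bot] at h1
      exact h1
    · exfalso
      have h1 : φ₀ ∈ N := by rw [h]; trivial
      exact hv₀ h1
  have htop : Submodule.span A {v₀} = ⊤ := by
    by_contra hne
    obtain ⟨v₁, hv₁⟩ : ∃ v₁, v₁ ∉ Submodule.span A {v₀} := by
      by_contra hcon
      push Not at hcon
      exact hne (eq_top_iff.mpr fun v _ => hcon v)
    let W := Submodule.span A {v₀}
    let w : V ⧸ W := W.mkQ v₁
    have hw : w ≠ 0 := fun h => hv₁ ((Submodule.Quotient.mk_eq_zero W).mp h)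
    let t : A →ₗ[A] V ⧸ W := LinearMap.toSpanSingleton A _ w
    let t' : A →ₗ[A] E := LinearMap.toSpanSingleton A _ (φ₀ v₀)
    have hle : LinearMap.ker t.rangeRestrict ≤ LinearMap.ker t' := by
      intro a ha
      rw [LinearMap.mem_ker] at ha ⊢
      have ha' : a • w = 0 := by
        have := congrArg Subtype.val ha
        simpa [t] using this
      change a • φ₀ v₀ = 0
      by_cases ham : a ∈ maximalIdeal A
      · exact hx₀ a ham
      · exfalso
        obtain ⟨u, rfl⟩ := hunit a ham
        apply hw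
        have := congrArg (fun y => (↑u⁻¹ : A) • y) ha'
        simpa [smul_smul] using this
    obtain ⟨ψ', hψ'⟩ := Groth.Agent.Lib.Helper85.Canon.exists_factor t.rangeRestrict
      t.surjective_rangeRestrict t' hle
    obtain ⟨χ, hχ⟩ := Module.Injective.extension_property A E (LinearMap.range t) (V ⧸ W)
      (LinearMap.range t).subtype (Submodule.subtype_injective _) ψ'
    have hχw : χ w = φ₀ v₀ := by
      have h1 := LinearMap.congr_fun hχ (t.rangeRestrict 1)
      have h2 := LinearMap.congr_fun hψ' 1
      simp only [LinearMap.comp_apply] at h1 h2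
      rw [h2] at h1
      simpa [t, t'] using h1
    have h3 := hkey (χ ∘ₗ W.mkQ) (by
      rw [LinearMap.comp_apply]
      have : W.mkQ v₀ = 0 := (Submodule.Quotient.mk_eq_zero W).mpr
        (Submodule.mem_span_singleton_self v₀)
      rw [this, map_zero])
    apply hv₀
    rw [← hχw]
    exact LinearMap.congr_fun h3 v₁
  haveI : Nontrivial (Submodule A V) := ⟨⊥, ⊤, fun h => hv₀0 (by
    have : v₀ ∈ (⊤ : Submodule A V) := trivial
    rw [← h, Submodule.mem_bot] at this
    exact this)⟩
  rw [isSimpleModule_iff]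
  refine ⟨fun N => ?_⟩
  by_cases hN : N = ⊥
  · exact Or.inl hN
  · right
    obtain ⟨v, hvN, hv0⟩ := Submodule.exists_mem_ne_zero_of_ne_bot hN
    have hv : v ∈ Submodule.span A {v₀} := by rw [htop]; trivial
    obtain ⟨a, rfl⟩ := Submodule.mem_span_singleton.mp hv
    have ham : a ∉ maximalIdeal A := fun ham => hv0 (hV a ham v₀)
    obtain ⟨u, rfl⟩ := hunit a ham
    have hv₀N : v₀ ∈ N := by
      have := N.smul_mem (↑u⁻¹ : A) hvN
      rwa [smul_smul, Units.inv_mul, one_smul] at this
    rw [eq_top_iff, ← htop, Submodule.span_singleton_le_iff_mem]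
    exact hv₀N

end LenOne

section CanonOne

variable {R : Type u} [CommRing R] [IsNoetherianRing R] (m : Ideal R) [hmax : m.IsMaximal]
  {E' : Type u} [AddCommGroup E'] [Module R E'] [Module.Injective R E']
  {C : Type u} [AddCommGroup C] [Module R C] [Module.Finite R C]

local notation "A" => Localization.AtPrime m

/-- The top Bass number of a module `C` with `Hom(C, E') ≅ H^n_m(R)` (`E'` injective) is one. -/
theorem bassNum_canon_eq_one (n : ℕ) (hnA : ringKrullDim A = n)
    (hvan : ∀ i < n, Subsingleton (LocCoh.H (maximalIdeal A) i A))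
    (κ₀ : (C →ₗ[R] E') ≃ₗ[R] LocCoh.H m n R) :
    GrLC.bassNum m C n = 1 := by
  haveI : Module.FinitePresentation R C := Module.finitePresentation_of_finite R C
  let e1 : LocalizedModule m.primeCompl (C →ₗ[R] E') ≃ₗ[R]
      (LocalizedModule m.primeCompl C →ₗ[A] LocalizedModule m.primeCompl E') :=
    Module.FinitePresentation.linearEquivMapExtendScalars m.primeCompl
  let e2 : LocalizedModule m.primeCompl (C →ₗ[R] E') ≃ₗ[A]
      LocalizedModule m.primeCompl (LocCoh.H m n R) :=
    IsLocalizedModule.mapEquiv m.primeCompl (LocalizedModule.mkLinearMap m.primeCompl _)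
      (LocalizedModule.mkLinearMap m.primeCompl _) A κ₀
  obtain ⟨e3⟩ := GorGrC.exists_equiv_localizedModule m n
  let eK : (LocalizedModule m.primeCompl C →ₗ[A] LocalizedModule m.primeCompl E') ≃ₗ[A]
      LocCoh.H (maximalIdeal A) n A :=
    (LinearEquiv.extendScalarsOfIsLocalization m.primeCompl A e1.symm) ≪≫ₗ e2 ≪≫ₗ e3.symm
  haveI : Module.Injective A (LocalizedModule m.primeCompl E') :=
    Module.injective_of_isLocalizedModule m.primeCompl
      (LocalizedModule.mkLinearMap m.primeCompl E')
  have hcd : LocCoh.CdLE A (maximalIdeal A) n :=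
    Groth.Agent.Lib.Helper92.LC.cdLE_of_ringKrullDim_le (maximalIdeal A) n (le_of_eq hnA)
  haveI : Module.Finite A (ResidueField A) :=
    inferInstanceAs (Module.Finite A (A ⧸ maximalIdeal A))
  obtain ⟨d⟩ := Groth.Agent.Lib.Helper85.Canon.duality (LocalizedModule m.primeCompl C) n hcd hvan
    eK n 0 (add_zero n) (ResidueField A)
  have hlen : Module.length A
      (Ext.{u} (ModuleCat.of A (ResidueField A))
        (ModuleCat.of A (LocalizedModule m.primeCompl C)) n →ₗ[A]
        LocalizedModule m.primeCompl E') = 1 := by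
    rw [← d.length_eq]
    let g := Groth.Agent.Lib.Helper92.LC.γEquiv (maximalIdeal A)
      (ModuleCat.of A (ResidueField A))
    have htop : DRing.torsionSub (maximalIdeal A) (ModuleCat.of A (ResidueField A)) = ⊤ := by
      rw [eq_top_iff]
      intro x _
      refine ⟨1, fun a ha => ?_⟩
      rw [pow_one] at ha
      exact ExtSocle.smul_residue A ha x
    have h1 : Module.length A (LocCoh.H (maximalIdeal A) 0 (ResidueField A)) =
        Module.length A (ResidueField A) := by
      rw [g.length_eq, htop]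
      exact (Submodule.topEquiv (R := A) (M := ResidueField A)).length_eq
    rw [h1]
    exact Module.length_eq_one A (ResidueField A)
  unfold GrLC.bassNum GrLC.bassNumLocal
  exact length_eq_one_of_length_hom (fun a ha v =>
    Groth.Agent.Lib.Helper67.ext_smul_eq_zero_of_mem_annihilator_left v
      (ExtSocle.mem_annihilator_residue A ha)) hlen

end CanonOne

end Groth.Agent.Lib.Helper24.BassCanon
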