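import Mathlib

set_option autoImplicit false

universe u

open TensorProduct IsLocalRing

namespace Groth.Agent.Lib.Helper24.BassRegN1

/-- The `B`-linear quotient map `B ⧸ J → B ⧸ (J ⊔ (z))`. -/
noncomputable def fac (B : Type u) [CommRing B] (J : Ideal B) (z : B) :
    (B ⧸ J) →ₗ[B] (B ⧸ (J ⊔ Ideal.span {z})) :=
  Submodule.mapQ (R := B) (M := B) (M₂ := B) J (J ⊔ Ideal.span {z}) LinearMap.id
    (by
      intro x hx
      exact Submodule.mem_sup_left hx)

lemma fac_mk (B : Type u) [CommRing B] (J : Ideal B) (z : B) (b : B) :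
    fac B J z (Submodule.Quotient.mk b) = Submodule.Quotient.mk b := rfl

lemma fac_surjective (B : Type u) [CommRing B] (J : Ideal B) (z : B) :
    Function.Surjective (fac B J z) := by
  intro y
  obtain ⟨b, rfl⟩ := Submodule.Quotient.mk_surjective _ y
  exact ⟨Submodule.Quotient.mk b, rfl⟩

lemma exists_smul_of_fac_eq_zero (B : Type u) [CommRing B] (J : Ideal B) (z : B)
    (x : B ⧸ J) (hx : fac B J z x = 0) : ∃ c : B ⧸ J, x = z • c := by
  obtain ⟨b, rfl⟩ := Submodule.Quotient.mk_surjective _ x
  rw [fac_mk, Submodule.Quotient.mk_eq_zero] at hx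
  obtain ⟨j, hj, w, hw, rfl⟩ := Submodule.mem_sup.mp hx
  obtain ⟨c, rfl⟩ := Ideal.mem_span_singleton'.mp hw
  refine ⟨Submodule.Quotient.mk c, ?_⟩
  rw [← Submodule.Quotient.mk_smul, Submodule.Quotient.eq]
  simp only [smul_eq_mul]
  have : j + c * z - z * c = j := by ring
  rw [this]
  exact hj

theorem finsupp_quot (B : Type u) [CommRing B] (J : Ideal B) (z : B) (ι : Type u) :
    Nonempty (((ι →₀ (B ⧸ J)) ⧸ (Ideal.span {z} • ⊤ : Submodule B (ι →₀ (B ⧸ J)))) ≃ₗ[B]
      (ι →₀ (B ⧸ (J ⊔ Ideal.span {z})))) := by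
  classical
  let φ : (ι →₀ (B ⧸ J)) →ₗ[B] (ι →₀ (B ⧸ (J ⊔ Ideal.span {z}))) :=
    Finsupp.mapRange.linearMap (fac B J z)
  have hφ : Function.Surjective φ := by
    intro g
    obtain ⟨f, hf⟩ := Finsupp.mapRange_surjective (α := ι) (fac B J z) (map_zero _)
      (fac_surjective B J z) g
    exact ⟨f, hf⟩
  have hker : LinearMap.ker φ = (Ideal.span {z} • ⊤ : Submodule B (ι →₀ (B ⧸ J))) := by
    apply le_antisymm
    · intro f hf
      rw [LinearMap.mem_ker] at hf
      have hval : ∀ i, ∃ c : B ⧸ J, f i = z • c := by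
        intro i
        apply exists_smul_of_fac_eq_zero
        have := DFunLike.congr_fun hf i
        simpa [φ] using this
      choose c hc using hval
      have hf' : f = z • (f.support.sum fun i => Finsupp.single i (c i)) := by
        conv_lhs => rw [← Finsupp.sum_single f]
        rw [Finsupp.sum, Finset.smul_sum]
        apply Finset.sum_congr rfl
        intro i _
        rw [Finsupp.smul_single, ← hc i]
      rw [hf']
      exact Submodule.smul_mem_smul (Ideal.mem_span_singleton_self z) Submodule.mem_top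
    · rw [Submodule.smul_le]
      intro r hr f _
      obtain ⟨a, rfl⟩ := Ideal.mem_span_singleton'.mp hr
      rw [LinearMap.mem_ker, map_smul]
      ext i
      simp only [φ, Finsupp.smul_apply, Finsupp.mapRange.linearMap_apply, Finsupp.mapRange_apply,
        Finsupp.zero_apply]
      obtain ⟨b, hb⟩ := Submodule.Quotient.mk_surjective _ (f i)
      rw [← hb, fac_mk, ← Submodule.Quotient.mk_smul, Submodule.Quotient.mk_eq_zero]
      apply Submodule.mem_sup_right
      rw [smul_eq_mul, mul_assoc]
      exact Ideal.mul_mem_left _ _ (Ideal.mul_mem_right _ _ (Ideal.mem_span_singleton_self z))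
  exact ⟨(Submodule.quotEquivOfEq _ _ hker.symm).trans (φ.quotKerEquivOfSurjective hφ)⟩

end Groth.Agent.Lib.Helper24.BassRegN1
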