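import Groth.Agent.Lib.Helper13.Beil.Defs

set_option autoImplicit false
universe w u u₁ v₁ u₂ v₂
open CategoryTheory CategoryTheory.Limits CategoryTheory.Pretriangulated Opposite
open Groth.Agent.Lib.Helper13.Beil Groth.Agent.Lib.Helper40.Cpt

namespace Groth.Agent.Lib.Helper24.BeilMOD

section SES

variable {A : Type u} [Ring A]

theorem of_ext (P : ObjectProperty (ModuleCat.{u} A))
    (hext : ∀ S : ShortComplex (ModuleCat.{u} A), S.ShortExact → P S.X₁ → P S.X₃ → P S.X₂)
    {X₁ X₂ X₃ : Type u} [AddCommGroup X₁] [Module A X₁] [AddCommGroup X₂] [Module A X₂]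
    [AddCommGroup X₃] [Module A X₃] (f : X₁ →ₗ[A] X₂) (g : X₂ →ₗ[A] X₃)
    (hf : Function.Injective f) (hg : Function.Surjective g) (hex : Function.Exact f g)
    (h1 : P (ModuleCat.of A X₁)) (h3 : P (ModuleCat.of A X₃)) : P (ModuleCat.of A X₂) := by
  let S : ShortComplex (ModuleCat.{u} A) :=
    ShortComplex.mk (ModuleCat.ofHom f) (ModuleCat.ofHom g) (by
      ext x
      simpa using hex.apply_apply_eq_zero x)
  have hS : S.ShortExact := by
    refine ShortComplex.ShortExact.mk' ?_ ?_ ?_
    · rw [ShortComplex.ShortExact.moduleCat_exact_iff_function_exact]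
      exact hex
    · exact (ModuleCat.mono_iff_injective _).mpr hf
    · exact (ModuleCat.epi_iff_surjective _).mpr hg
  exact hext S hS h1 h3

theorem of_cok (P : ObjectProperty (ModuleCat.{u} A))
    (hcok : ∀ S : ShortComplex (ModuleCat.{u} A), S.ShortExact → P S.X₁ → P S.X₂ → P S.X₃)
    {X₁ X₂ X₃ : Type u} [AddCommGroup X₁] [Module A X₁] [AddCommGroup X₂] [Module A X₂]
    [AddCommGroup X₃] [Module A X₃] (f : X₁ →ₗ[A] X₂) (g : X₂ →ₗ[A] X₃)
    (hf : Function.Injective f) (hg : Function.Surjective g) (hex : Function.Exact f g)
    (h1 : P (ModuleCat.of A X₁)) (h2 : P (ModuleCat.of A X₂)) : P (ModuleCat.of A X₃) := by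
  let S : ShortComplex (ModuleCat.{u} A) :=
    ShortComplex.mk (ModuleCat.ofHom f) (ModuleCat.ofHom g) (by
      ext x
      simpa using hex.apply_apply_eq_zero x)
  have hS : S.ShortExact := by
    refine ShortComplex.ShortExact.mk' ?_ ?_ ?_
    · rw [ShortComplex.ShortExact.moduleCat_exact_iff_function_exact]
      exact hex
    · exact (ModuleCat.mono_iff_injective _).mpr hf
    · exact (ModuleCat.epi_iff_surjective _).mpr hg
  exact hcok S hS h1 h2

end SES

section Claim

variable {k : Type u} [Field k] {A : Type u} [Ring A] [Algebra k A] [Module.Finite k A]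

theorem claim (N : ℕ) (e : Fin (N + 1) → A)
    (he_idem : ∀ i, e i * e i = e i)
    (he_sum : ∑ i, e i = 1) (he_tri : ∀ i j, j < i → ∀ a : A, e i * a * e j = 0)
    (he_diag : ∀ i (a : A), ∃ c : k, e i * a * e i = c • e i)
    (P : ObjectProperty (ModuleCat.{u} A))
    (hzero : ∀ M : ModuleCat.{u} A, IsZero M → P M)
    (hext : ∀ S : ShortComplex (ModuleCat.{u} A), S.ShortExact → P S.X₁ → P S.X₃ → P S.X₂)
    (hcok : ∀ S : ShortComplex (ModuleCat.{u} A), S.ShortExact → P S.X₁ → P S.X₂ → P S.X₃)
    (hproj : ∀ i, P (ModuleCat.of A (Submodule.span A ({e i} : Set A)))) :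
    ∀ (j : ℕ) (X : Type u) [AddCommGroup X] [Module k X] [Module A X] [IsScalarTower k A X]
      [Module.Finite k X], (∀ i : Fin (N + 1), j ≤ (i : ℕ) → ∀ x : X, e i • x = 0) →
      P (ModuleCat.of A X) := by
  intro j
  induction j with
  | zero =>
    intro X _ _ _ _ _ hsupp
    have hsub : Subsingleton X := by
      refine ⟨fun x y => ?_⟩
      have h0 : ∀ z : X, z = 0 := by
        intro z
        calc z = (1 : A) • z := (one_smul A z).symm
          _ = (∑ i, e i) • z := by rw [he_sum]
          _ = ∑ i, e i • z := Finset.sum_smul
          _ = 0 := Finset.sum_eq_zero (fun i _ => hsupp i (Nat.zero_le _) z)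
      rw [h0 x, h0 y]
    exact hzero _ (ModuleCat.isZero_of_subsingleton _)
  | succ j ih =>
    by_cases hj : N + 1 ≤ j
    · intro X _ _ _ _ _ _
      apply ih X
      intro i hi
      exact absurd i.isLt (by omega)
    · have hjN : j < N + 1 := by omega
      -- inner strong induction on the dimension
      have key : ∀ (d : ℕ) (X : Type u) [AddCommGroup X] [Module k X] [Module A X]
          [IsScalarTower k A X] [Module.Finite k X], Module.finrank k X = d →
          (∀ i : Fin (N + 1), j + 1 ≤ (i : ℕ) → ∀ x : X, e i • x = 0) →
          P (ModuleCat.of A X) := by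
        intro d
        induction d using Nat.strong_induction_on with
        | _ d ihd =>
          intro X _ _ _ _ _ hd hsupp
          by_cases hall : ∀ x : X, e ⟨j, hjN⟩ • x = 0
          · apply ih X
            intro i hi x
            rcases Nat.eq_or_lt_of_le hi with h | h
            · have : i = ⟨j, hjN⟩ := Fin.ext h.symm
              rw [this]
              exact hall x
            · exact hsupp i h x
          · push_neg at hall
            obtain ⟨m₀, hm₀⟩ := hall
            set ĵ : Fin (N + 1) := ⟨j, hjN⟩ with hĵ
            set q : X := e ĵ • m₀ with hq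
            have heq : e ĵ • q = q := by
              rw [hq, ← mul_smul, he_idem]
            -- the left ideal `A e_ĵ` and the map `x ↦ x • q`
            let L : Submodule A A := Submodule.span A ({e ĵ} : Set A)
            let f : L →ₗ[A] X := (LinearMap.toSpanSingleton A X q).comp L.subtype
            have hf_apply : ∀ x : L, f x = (x : A) • q := fun x => rfl
            let g : L →ₗ[A] LinearMap.range f := f.rangeRestrict
            let K : Submodule A L := LinearMap.ker g
            haveI : Module.Finite k L :=
              Module.Finite.of_injective (L.subtype.restrictScalars k) Subtype.val_injective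
            haveI : Module.Finite k K :=
              Module.Finite.of_injective (K.subtype.restrictScalars k) Subtype.val_injective
            -- `K` is supported below `j`
            have hK : P (ModuleCat.of A K) := by
              apply ih K
              intro i hi x
              have hx : f x.1 = 0 := by
                have h1 : g x.1 = 0 := x.2
                have h2 : ((g x.1 : LinearMap.range f) : X) = 0 := by rw [h1]; rfl
                exact h2
              obtain ⟨a, ha⟩ := Submodule.mem_span_singleton.mp x.1.2
              have ha' : (x.1 : A) = a * e ĵ := by rw [← ha]; rfl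
              have hgoal : e i * (x.1 : A) = 0 := by
                rcases Nat.eq_or_lt_of_le hi with h | h
                · have hi' : i = ĵ := Fin.ext h.symm
                  rw [hi', ha', ← mul_assoc]
                  obtain ⟨c, hc⟩ := he_diag ĵ a
                  have h3 : (e ĵ * a * e ĵ) • q = 0 := by
                    have : (a * e ĵ) • q = 0 := by
                      rw [← ha', ← hf_apply]; exact hx
                    rw [mul_assoc, mul_smul, this, smul_zero]
                  rw [hc, smul_assoc, heq] at h3
                  have hc0 : c = 0 := by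
                    by_contra hne
                    exact hm₀ ((smul_eq_zero.mp h3).resolve_left hne)
                  rw [hc, hc0, zero_smul]
                · rw [ha', ← mul_assoc]
                  exact he_tri i ĵ (Fin.lt_def.mpr h) a
              apply Subtype.ext
              apply Subtype.ext
              simpa using hgoal
            have hL : P (ModuleCat.of A L) := hproj ĵ
            have hI : P (ModuleCat.of A (LinearMap.range f)) :=
              of_cok P hcok K.subtype g Subtype.val_injective f.surjective_rangeRestrict
                (LinearMap.exact_subtype_ker_map g) hK hL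
            -- the quotient has smaller dimension
            have hqI : q ∈ LinearMap.range f :=
              ⟨⟨e ĵ, Submodule.subset_span rfl⟩, by rw [hf_apply]; exact heq⟩
            haveI : Module.Finite k (LinearMap.range f) :=
              Module.Finite.of_injective ((LinearMap.range f).subtype.restrictScalars k)
                Subtype.val_injective
            haveI : Module.Finite k (X ⧸ LinearMap.range f) :=
              Module.Finite.of_surjective ((LinearMap.range f).mkQ.restrictScalars k)
                (Submodule.mkQ_surjective _)
            have hIpos : 0 < Module.finrank k (LinearMap.range f) :=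
              Module.finrank_pos_iff_exists_ne_zero.mpr
                ⟨⟨q, hqI⟩, fun h => hm₀ (congrArg Subtype.val h)⟩
            have hXpos : 0 < Module.finrank k X :=
              Module.finrank_pos_iff_exists_ne_zero.mpr ⟨q, hm₀⟩
            have hlt : Module.finrank k (X ⧸ LinearMap.range f) < d := by
              rw [Submodule.finrank_quotient (R := k) (LinearMap.range f), hd] at *
              omega
            have hQ : P (ModuleCat.of A (X ⧸ LinearMap.range f)) := by
              apply ihd _ hlt (X ⧸ LinearMap.range f) rfl
              intro i hi y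
              obtain ⟨x, rfl⟩ := Submodule.Quotient.mk_surjective _ y
              rw [← Submodule.Quotient.mk_smul, hsupp i hi x, Submodule.Quotient.mk_zero]
            exact of_ext P hext (LinearMap.range f).subtype (LinearMap.range f).mkQ
              Subtype.val_injective (Submodule.mkQ_surjective _)
              (LinearMap.exact_subtype_mkQ _) hI hQ
      intro X _ _ _ _ _ hsupp
      exact key _ X rfl hsupp

end Claim

/-- **MOD** (helper13, S6770): devissage over a finite-dimensional triangular algebra. -/
theorem prop_of_finite {k : Type u} [Field k] {A : Type u} [Ring A] [Algebra k A] [Module.Finite k A] (N : ℕ) (e : Fin (N + 1) → A) (he_idem : ∀ i, e i * e i = e i) (he_orth : ∀ i j, i ≠ j → e i * e j = 0) (he_sum : ∑ i, e i = 1) (he_tri : ∀ i j, j < i → ∀ a : A, e i * a * e j = 0) (he_diag : ∀ i (a : A), ∃ c : k, e i * a * e i = c • e i) (P : ObjectProperty (ModuleCat.{u} A)) (hiso : ∀ M M' : ModuleCat.{u} A, (M ≅ M') → P M → P M') (hzero : ∀ M : ModuleCat.{u} A, IsZero M → P M) (hext : ∀ S : ShortComplex (ModuleCat.{u} A), S.ShortExact → P S.X₁ → P S.X₃ → P S.X₂) (hcok : ∀ S : ShortComplex (ModuleCat.{u}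 A), S.ShortExact → P S.X₁ → P S.X₂ → P S.X₃) (hproj : ∀ i, P (ModuleCat.of A (Submodule.span A ({e i} : Set A)))) (M : ModuleCat.{u} A) (hM : Module.Finite k (RestrictScalars k A M)) : P M := by
  letI : Module k M := Module.compHom M (algebraMap k A)
  haveI : IsScalarTower k A M := ⟨fun c a m => by
    show (c • a) • m = algebraMap k A c • a • m
    rw [Algebra.smul_def, mul_smul]⟩
  haveI : Module.Finite k M := hM
  have h := claim N e he_idem he_sum he_tri he_diag P hzero hext hcok hproj (N + 1)
    M (fun i hi => absurd i.isLt (by omega))
  exact hiso _ _ (Iso.refl _) h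

end Groth.Agent.Lib.Helper24.BeilMOD
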