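import Mathlib
import Groth.Agent.Lib.Helper66.TruncPolyQ
import Groth.Agent.Lib.Helper76.PowEval
import Groth.Agent.Lib.Helper47.AdicFinite

set_option autoImplicit false
universe u v
open TensorProduct IsLocalRing
open Groth.Agent.Lib.Helper66.TruncPolyQ

namespace Groth.Agent.Lib.Helper24.CFFT4

/-- Two ideals with `J ≤ P` and `P ^ N ≤ J` define the same adic completeness
(same proof as `Helper63.RigClosed.isAdicComplete_of_le_of_pow_le`, copied to keep the import
closure small). -/
theorem isAdicComplete_of_le_of_pow_le {R : Type v} [CommRing R] (J P : Ideal R)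
    [IsAdicComplete J R] (hJP : J ≤ P) (N : ℕ) (hN : P ^ N ≤ J) : IsAdicComplete P R := by
  have hK : P ^ (N + 1) ≤ J := le_trans (Ideal.pow_le_pow_right (Nat.le_succ N)) hN
  have hpow : ∀ m : ℕ, (P ^ ((N + 1) * m) • ⊤ : Submodule R R) ≤ J ^ m • ⊤ := by
    intro m
    rw [pow_mul]
    exact Submodule.smul_mono_left (Ideal.pow_right_mono hK m)
  have hpow' : ∀ m : ℕ, (J ^ m • ⊤ : Submodule R R) ≤ P ^ m • ⊤ := fun m =>
    Submodule.smul_mono_left (Ideal.pow_right_mono hJP m)
  have hH : IsHausdorff P R := by
    refine ⟨fun x hx => ?_⟩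
    refine IsHausdorff.haus' (I := J) x (fun m => ?_)
    exact (hx ((N + 1) * m)).mono (hpow m)
  have hP : IsPrecomplete P R := by
    refine ⟨fun f hf => ?_⟩
    obtain ⟨L, hL⟩ := IsPrecomplete.prec' (I := J) (fun m => f ((N + 1) * m))
      (fun {m n} hmn => (hf (Nat.mul_le_mul_left (N + 1) hmn)).mono (hpow m))
    refine ⟨L, fun n => ?_⟩
    have h1 : f n ≡ f ((N + 1) * n) [SMOD (P ^ n • ⊤ : Submodule R R)] :=
      hf (Nat.le_mul_of_pos_left n (Nat.succ_pos N))
    exact h1.trans ((hL n).mono (hpow' n))
  exact { hH, hP with }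

/-- A finite local algebra over a complete Noetherian local ring is complete for its own
maximal ideal. -/
theorem isAdicComplete_maximalIdeal_of_finite (R : Type u) [CommRing R] [IsLocalRing R]
    [IsNoetherianRing R] [IsAdicComplete (maximalIdeal R) R] (A : Type v) [CommRing A]
    [Algebra R A] [Module.Finite R A] [IsLocalRing A] :
    IsAdicComplete (maximalIdeal A) A := by
  haveI : Algebra.IsIntegral R A := Algebra.IsIntegral.of_finite R A
  haveI : IsNoetherianRing A := IsNoetherianRing.of_finite R A
  haveI hc : IsAdicComplete ((maximalIdeal R).map (algebraMap R A)) A :=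
    Groth.Agent.Lib.Helper47.AdicFinite.isAdicComplete_map_of_finite (maximalIdeal R) A
  -- `m_R A ≤ m_A`
  have hcomap : (maximalIdeal A).comap (algebraMap R A) = maximalIdeal R :=
    IsLocalRing.eq_maximalIdeal
      (Ideal.isMaximal_comap_of_isIntegral_of_isMaximal (R := R) (maximalIdeal A))
  have hle : (maximalIdeal R).map (algebraMap R A) ≤ maximalIdeal A := by
    rw [Ideal.map_le_iff_le_comap, hcomap]
  -- `m_A ≤ rad (m_R A)`
  have hrad : maximalIdeal A ≤ ((maximalIdeal R).map (algebraMap R A)).radical := by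
    rw [Ideal.radical_eq_sInf]
    apply le_sInf
    rintro P ⟨hJP, hP⟩
    haveI := hP
    have h1 : maximalIdeal R ≤ P.comap (algebraMap R A) := by
      rw [← Ideal.map_le_iff_le_comap]
      exact hJP
    have h2 : P.comap (algebraMap R A) = maximalIdeal R := by
      have hne : P.comap (algebraMap R A) ≠ ⊤ := (Ideal.IsPrime.comap (algebraMap R A)).ne_top
      exact ((maximalIdeal.isMaximal R).eq_of_le hne h1).symm
    have h3 : P.IsMaximal := by
      apply Ideal.isMaximal_of_isIntegral_of_isMaximal_comap (R := R) P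
      rw [h2]
      exact maximalIdeal.isMaximal R
    rw [IsLocalRing.eq_maximalIdeal h3]
  obtain ⟨N, hN⟩ := Ideal.exists_pow_le_of_le_radical_of_fg hrad
    ((isNoetherianRing_iff_ideal_fg A).mp inferInstance _)
  exact isAdicComplete_of_le_of_pow_le _ _ hle N hN

/-- T4: evaluation of power series over a complete Noetherian local ring `R` at elements of the
maximal ideal of a finite local `R`-algebra. -/
theorem exists_eval (R : Type u) [CommRing R] [IsLocalRing R] [IsNoetherianRing R]
    [IsAdicComplete (maximalIdeal R) R] (A : Type v) [CommRing A] [Algebra R A]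
    [Module.Finite R A] [IsLocalRing A] {r : ℕ} (x : Fin r → A)
    (hx : ∀ i, x i ∈ maximalIdeal A) :
    ∃ ψ : MvPowerSeries (Fin r) R →ₐ[R] A,
      ∀ P : MvPolynomial (Fin r) R, ψ (P : MvPowerSeries (Fin r) R) = MvPolynomial.aeval x P := by
  haveI : IsAdicComplete (maximalIdeal A) A := isAdicComplete_maximalIdeal_of_finite R A
  obtain ⟨f, hf⟩ := Groth.Agent.Lib.Helper76.exists_mvPowerSeries_eval' (Q := R) x
    (maximalIdeal A) hx
  refine ⟨{ f with commutes' := ?_ }, ?_⟩
  · intro c
    have h1 : (algebraMap R (MvPowerSeries (Fin r) R)) c =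
        ((MvPolynomial.C c : MvPolynomial (Fin r) R) : MvPowerSeries (Fin r) R) := by
      rw [MvPolynomial.coe_C]
      rfl
    show f ((algebraMap R (MvPowerSeries (Fin r) R)) c) = algebraMap R A c
    rw [h1, hf, MvPolynomial.aeval_C]
  · intro P
    exact hf P

end Groth.Agent.Lib.Helper24.CFFT4
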