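import Mathlib
import Groth.Agent.Lib.Helper24.GrInjLocA

/-!
# *injectivity from "denominators outside m" (helper24)
Variant of `GrInjLocA.isStarInj_of_injective_localization` with a weaker hypothesis.
-/

set_option autoImplicit false
set_option linter.unusedSectionVars false
set_option linter.style.haveILetI false

namespace Groth.Agent.Lib.Helper24.GrInjDenom

open DirectSum GrLC
open Groth.Agent.Lib.Helper30 Groth.Agent.Lib.Helper8.GrStarLocal Groth.Agent.Lib.Helper24.GrInjLocA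

universe u

variable {ι : Type} [AddCommGroup ι] [DecidableEq ι]
variable {R : Type u} [CommRing R] [IsNoetherianRing R] (𝒜 : ι → AddSubgroup R) [GradedRing 𝒜]
  (m : HomogeneousIdeal 𝒜) (hm : GrLC.IsStarLocal 𝒜 m)
variable [hp : m.toIdeal.IsPrime]
variable {X : Type u} [AddCommGroup X] [Module R X] (𝒳 : ι → AddSubgroup X)
  [DirectSum.Decomposition 𝒳] [SetLike.GradedSMul 𝒜 𝒳]

include hm in
/-- The graded Baer property from common denominators outside `m`. -/
theorem exists_smul_of_deg_of_denominators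
    (hD : ∀ (a : HomogeneousIdeal 𝒜) (h : ↥a.toIdeal →ₗ[R] X), ∃ s : R, s ∉ m.toIdeal ∧
      ∃ x : X, ∀ r : ↥a.toIdeal, s • h r = (r : R) • x)
    (a : HomogeneousIdeal 𝒜) (h : ↥a.toIdeal →ₗ[R] X) (d : ι)
    (hdeg : ∀ (g : ι) (x : ↥a.toIdeal), (x : R) ∈ 𝒜 g → h x ∈ 𝒳 (g + d)) :
    ∃ z ∈ 𝒳 d, ∀ r : ↥a.toIdeal, h r = (r : R) • z := by
  classical
  obtain ⟨s, hsm, x, hsx⟩ := hD a h
  obtain ⟨g₀, hg₀⟩ := exists_decompose_notMem 𝒜 m hsm
  obtain ⟨t, ht, hts⟩ := exists_inv 𝒜 m hm (decompose 𝒜 s g₀).2 hg₀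
  let x₀ : X := (decompose 𝒳 x (g₀ + d) : X)
  have hx₀ : x₀ ∈ 𝒳 (g₀ + d) := (decompose 𝒳 x (g₀ + d)).2
  have hz : t • x₀ ∈ 𝒳 d := by
    have := smul_mem_piece 𝒜 𝒳 ht hx₀
    rwa [neg_add_cancel_left] at this
  refine ⟨t • x₀, hz, ?_⟩
  have hhom : ∀ (i : ι) (r : ↥a.toIdeal), (r : R) ∈ 𝒜 i → h r = (r : R) • (t • x₀) := by
    intro i r hr
    have h1 := decompose_smul_of_mem_right 𝒜 𝒳 (hdeg i r hr) s g₀
    have h2 := decompose_smul_of_mem 𝒜 𝒳 hr x (g₀ + d)
    rw [hsx r] at h1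
    have h3 : g₀ + (i + d) = i + (g₀ + d) := add_left_comm g₀ i d
    rw [h3, h2] at h1
    -- h1 : r • x₀ = s₀ • h r
    calc h r = (t * (decompose 𝒜 s g₀ : R)) • h r := by rw [hts, one_smul]
      _ = t • ((r : R) • x₀) := by rw [mul_smul, ← h1]
      _ = (r : R) • (t • x₀) := smul_comm _ _ _
  intro r
  have hr : (r : R) = ∑ i ∈ (decompose 𝒜 (r : R)).support, (decompose 𝒜 (r : R) i : R) :=
    (DirectSum.sum_support_decompose 𝒜 (r : R)).symm
  have hmem : ∀ i, (decompose 𝒜 (r : R) i : R) ∈ a.toIdeal := fun i => a.isHomogeneous i r.2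
  have hr' : r = ∑ i ∈ (decompose 𝒜 (r : R)).support,
      (⟨(decompose 𝒜 (r : R) i : R), hmem i⟩ : ↥a.toIdeal) := by
    apply Subtype.ext
    rw [Submodule.coe_sum]
    exact hr
  conv_lhs => rw [hr']
  rw [map_sum]
  conv_rhs => rw [hr, Finset.sum_smul]
  apply Finset.sum_congr rfl
  intro i _
  exact hhom i _ (decompose 𝒜 (r : R) i).2

include hm in
/-- If every map from a homogeneous ideal becomes a multiplication after scaling by an element
outside `m`, the module is *injective. -/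
theorem isStarInj_of_denominators
    (hD : ∀ (a : HomogeneousIdeal 𝒜) (h : ↥a.toIdeal →ₗ[R] X), ∃ s : R, s ∉ m.toIdeal ∧
      ∃ x : X, ∀ r : ↥a.toIdeal, s • h r = (r : R) • x) :
    IsStarInj 𝒜 𝒳 := by
  classical
  apply isStarInj_of_forall_isStarEss_surjective 𝒜 𝒳
  intro N f hf
  have hP : (LinearMap.range f).IsHomogeneous N.gr := range_isHomogeneous 𝒳 N.gr f hf.grHom
  have hhom : ∀ (d : ι) (y : N.carrier), y ∈ N.gr d → y ∈ LinearMap.range f := by
    intro d y hy
    let J : HomogeneousIdeal 𝒜 :=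
      ⟨colon (LinearMap.range f) y, colon_isHomogeneous 𝒜 N.gr hP hy⟩
    let fe : X ≃ₗ[R] LinearMap.range f := LinearEquiv.ofInjective f hf.injective
    let h₀ : ↥J.toIdeal →ₗ[R] ↥(LinearMap.range f) :=
      LinearMap.codRestrict (LinearMap.range f)
        ((LinearMap.toSpanSingleton R N.carrier y) ∘ₗ J.toIdeal.subtype)
        (fun r => mem_colon.mp r.2)
    let h : ↥J.toIdeal →ₗ[R] X := fe.symm.toLinearMap ∘ₗ h₀
    have hfh : ∀ r : ↥J.toIdeal, f (h r) = (r : R) • y := by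
      intro r
      have := fe.apply_symm_apply (h₀ r)
      exact congrArg Subtype.val this
    have hdeg : ∀ (g : ι) (r : ↥J.toIdeal), (r : R) ∈ 𝒜 g → h r ∈ 𝒳 (g + d) := by
      intro g r hr
      apply mem_piece_of_map_mem_piece 𝒳 N.gr f hf.grHom hf.injective
      rw [hfh]
      exact smul_mem_piece 𝒜 N.gr hr hy
    obtain ⟨z, hz, hzr⟩ := exists_smul_of_deg_of_denominators 𝒜 m hm 𝒳 hD J h d hdeg
    by_contra hyn
    have hy' : y - f z ≠ 0 := by
      intro h0
      apply hyn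
      rw [sub_eq_zero] at h0
      exact ⟨z, h0.symm⟩
    have hy'd : y - f z ∈ N.gr d := sub_mem hy (hf.grHom d z hz)
    have hQ : (Submodule.span R {y - f z}).IsHomogeneous N.gr :=
      span_singleton_isHomogeneous 𝒜 N.gr hy'd
    have hQ0 : Submodule.span R {y - f z} ≠ ⊥ := by
      intro h0
      apply hy'
      have : y - f z ∈ Submodule.span R {y - f z} := Submodule.mem_span_singleton_self _
      rw [h0, Submodule.mem_bot] at this
      exact this
    have hess := hf.essential _ hQ hQ0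
    obtain ⟨w, hw, hw0⟩ := Submodule.exists_mem_ne_zero_of_ne_bot hess
    obtain ⟨hw1, hw2⟩ := hw
    obtain ⟨r, rfl⟩ := Submodule.mem_span_singleton.mp hw1
    apply hw0
    have hrJ : r ∈ J.toIdeal := by
      change r ∈ colon (LinearMap.range f) y
      rw [mem_colon]
      have : r • y = r • (y - f z) + f (r • z) := by
        rw [smul_sub, map_smul]
        abel
      rw [this]
      exact Submodule.add_mem _ hw2 ⟨r • z, rfl⟩
    have h1 := hfh ⟨r, hrJ⟩
    rw [hzr ⟨r, hrJ⟩] at h1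
    rw [smul_sub, ← h1, map_smul, sub_self]
  intro y
  rw [← LinearMap.mem_range, ← DirectSum.sum_support_decompose N.gr y]
  exact Submodule.sum_mem _ (fun i _ => hhom i _ (decompose N.gr y i).2)


end Groth.Agent.Lib.Helper24.GrInjDenom
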