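import Mathlib
import Groth.Agent.Lib.Helper45.S18639L6
import Groth.Agent.Lib.Helper56.S18639L1
import Groth.Agent.Lib.Helper16.S18639L2
import Groth.Agent.Lib.Helper68.S18639L3
import Groth.Agent.Lib.Helper16.S18639L5
import Groth.Agent.Lib.Helper24.GrInjDenom
import Groth.Agent.Lib.Helper8.GrInjTwRes
import Groth.Agent.Lib.Helper8.GrInjComp
import Groth.Agent.Lib.Helper67.Depth
import Groth.Agent.Lib.Helper30.GradedInj

/-!
# Finite injective dimension of a graded module from its localization at the *maximal ideal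
(helper24, for S18639)
-/

set_option autoImplicit false
set_option linter.unusedSectionVars false
set_option linter.style.haveILetI false

namespace Groth.Agent.Lib.Helper24.CanonInjDim

open CategoryTheory Abelian DirectSum GrLC
open Groth.Agent.Lib.Helper45.S18639L6 Groth.Agent.Lib.Helper56.S18639L1 Groth.Agent.Lib.Helper16.S18639L2
  Groth.Agent.Lib.Helper68.S18639L3 Groth.Agent.Lib.Helper16.S18639L5

universe u

variable {R : Type u} [CommRing R] [IsNoetherianRing R] (𝒜 : ℤ → AddSubgroup R) [GradedRing 𝒜]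
  (m : HomogeneousIdeal 𝒜) (hm : GrLC.IsStarLocal 𝒜 m) [hp : m.toIdeal.IsPrime]
  {C : Type u} [AddCommGroup C] [Module R C] (𝒞 : ℤ → AddSubgroup C)
  [DirectSum.Decomposition 𝒞] [SetLike.GradedSMul 𝒜 𝒞] (E : StarInjRes 𝒜 𝒞)

/-- cocycles of the resolution -/
def Zs (k : ℕ) : Submodule R (E.X k).carrier := LinearMap.ker (E.d k)

theorem d_mem (k : ℕ) (x : (E.X k).carrier) : E.d k x ∈ Zs 𝒜 𝒞 E (k + 1) := by
  have h : E.d k x ∈ LinearMap.range (E.d k) := ⟨x, rfl⟩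
  rw [← E.exact_succ k] at h
  exact h

/-- the differential, corestricted to the next cocycles -/
def gk (k : ℕ) : (E.X k).carrier →ₗ[R] ↥(Zs 𝒜 𝒞 E (k + 1)) :=
  (E.d k).codRestrict (Zs 𝒜 𝒞 E (k + 1)) (d_mem 𝒜 𝒞 E k)

theorem gk_surjective (k : ℕ) : Function.Surjective (gk 𝒜 𝒞 E k) := by
  rintro ⟨y, hy⟩
  have h : y ∈ LinearMap.range (E.d k) := by
    rw [← E.exact_succ k]
    exact hy
  obtain ⟨x, rfl⟩ := h
  exact ⟨x, rfl⟩

theorem exact_k (k : ℕ) : Function.Exact (Zs 𝒜 𝒞 E k).subtype (gk 𝒜 𝒞 E k) := by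
  intro x
  constructor
  · intro hx
    have hx' : E.d k x = 0 := congrArg Subtype.val hx
    exact ⟨⟨x, hx'⟩, rfl⟩
  · rintro ⟨y, rfl⟩
    apply Subtype.ext
    exact y.2

/-- the short exact sequences `0 → Z^k → X^k → Z^{k+1} → 0` -/
theorem ses (k : ℕ) :
    (ShortComplex.mk (ModuleCat.ofHom (Zs 𝒜 𝒞 E k).subtype) (ModuleCat.ofHom (gk 𝒜 𝒞 E k))
      (by ext x; simpa using (exact_k 𝒜 𝒞 E k).apply_apply_eq_zero x)).ShortExact :=
  Groth.Agent.Lib.Helper67.shortExact_of_linearMaps _ _ _ _ _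
    (Submodule.subtype_injective _) (gk_surjective 𝒜 𝒞 E k) (exact_k 𝒜 𝒞 E k)

/-- `C ≃ Z^0` -/
noncomputable def e0 : C ≃ₗ[R] ↥(Zs 𝒜 𝒞 E 0) :=
  (LinearEquiv.ofInjective E.ε E.ε_injective) ≪≫ₗ
    LinearEquiv.ofEq _ _ (E.exact_zero).symm

theorem hX (k : ℕ) : HasInjectiveDimensionLT (ModuleCat.of R (E.X k).carrier) 2 :=
  Groth.Agent.Lib.Helper8.GrInjTwRes.hasInjectiveDimensionLT_of_isStarInj 𝒜 (E.X k).gr (E.starInj k)

/-- `Ext^{j+1}(R/J, X^k) = 0` for homogeneous `J` -/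
theorem ext_X_subsingleton (J : HomogeneousIdeal 𝒜) (k j : ℕ) :
    Subsingleton (Ext.{u} (ModuleCat.of R (R ⧸ J.toIdeal)) (ModuleCat.of R (E.X k).carrier)
      (j + 1)) := by
  rcases Nat.eq_zero_or_pos j with rfl | hj
  · exact ext_one_subsingleton_of_baer J.toIdeal (E.X k).carrier
      (fun h => Groth.Agent.Lib.Helper8.GrInjComp.exists_smul_eq (E.X k).gr (E.starInj k) J h)
  · haveI := hX 𝒜 𝒞 E k
    exact HasInjectiveDimensionLT.subsingleton.{u} (ModuleCat.of R (E.X k).carrier) 2 (j + 1)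
      (by omega) (ModuleCat.of R (R ⧸ J.toIdeal))


local notation "A" => Localization.AtPrime m.toIdeal

/-- transport of the injective dimension bound to the localization of `Z^0` -/
theorem hC0 (n : ℕ)
    (hC : HasInjectiveDimensionLT
      (ModuleCat.of A (LocalizedModule m.toIdeal.primeCompl C)) (n + 1)) :
    HasInjectiveDimensionLT
      (ModuleCat.of A (LocalizedModule m.toIdeal.primeCompl ↥(Zs 𝒜 𝒞 E 0))) (n + 1) := by
  let eL : LocalizedModule m.toIdeal.primeCompl C ≃ₗ[A]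
      LocalizedModule m.toIdeal.primeCompl ↥(Zs 𝒜 𝒞 E 0) :=
    IsLocalizedModule.mapEquiv m.toIdeal.primeCompl
      (LocalizedModule.mkLinearMap m.toIdeal.primeCompl _)
      (LocalizedModule.mkLinearMap m.toIdeal.primeCompl _) A (e0 𝒜 𝒞 E)
  exact hasInjectiveDimensionLT_of_iso eL.toModuleIso (n + 1)

/-- every class in `Ext^{j+1}(R/J, Z^k)` is killed by an element outside `m` when `n ≤ k + j` -/
theorem kill (J : HomogeneousIdeal 𝒜) (n : ℕ)
    (hC : HasInjectiveDimensionLT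
      (ModuleCat.of A (LocalizedModule m.toIdeal.primeCompl C)) (n + 1)) :
    ∀ (k j : ℕ), n ≤ k + j →
      ∀ x : Ext.{u} (ModuleCat.of R (R ⧸ J.toIdeal)) (ModuleCat.of R ↥(Zs 𝒜 𝒞 E k)) (j + 1),
        ∃ s ∈ m.toIdeal.primeCompl, s • x = 0 := by
  intro k
  induction k with
  | zero =>
    intro j hj x
    exact exists_smul_eq_zero_of_localization m.toIdeal (R ⧸ J.toIdeal) ↥(Zs 𝒜 𝒞 E 0) (n + 1)
      (hC0 𝒜 m 𝒞 E n hC) (j + 1) (by omega) x
  | succ k ih =>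
    intro j hj x
    exact ext_step m.toIdeal.primeCompl (ses 𝒜 𝒞 E k) (ModuleCat.of R (R ⧸ J.toIdeal)) j
      (ext_X_subsingleton 𝒜 𝒞 E J k j) (fun y => ih (j + 1) (by omega) y) x

/-- the grading on `Z^n` -/
theorem Zs_isHomogeneous (k : ℕ) : (Zs 𝒜 𝒞 E k).IsHomogeneous (E.X k).gr :=
  Groth.Agent.Lib.Helper30.ker_isHomogeneous (E.X k).gr (E.X (k + 1)).gr (E.d k) (E.d_grHom k)

include hm in
/-- the `n`-th cocycle module is *injective -/
theorem isStarInj_Zs (n : ℕ)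
    (hC : HasInjectiveDimensionLT
      (ModuleCat.of A (LocalizedModule m.toIdeal.primeCompl C)) (n + 1)) :
    IsStarInj 𝒜 (Groth.Agent.Lib.Helper30.gmodSub 𝒜 (E.X n).gr (Zs 𝒜 𝒞 E n)
      (Zs_isHomogeneous 𝒜 𝒞 E n)).gr := by
  apply Groth.Agent.Lib.Helper24.GrInjDenom.isStarInj_of_denominators 𝒜 m hm
  intro a h
  obtain ⟨s, hs, z, hz⟩ := exists_smul_eq_of_ext_one m.toIdeal.primeCompl a.toIdeal
    ↥(Zs 𝒜 𝒞 E n) (fun x => kill 𝒜 m 𝒞 E a n hC n 0 (by omega) x) h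
  exact ⟨s, hs, z, hz⟩

include hm in
/-- finite injective dimension over `R` from finite injective dimension of the localization,
given a *injective resolution -/
theorem main_aux (E' : StarInjRes 𝒜 𝒞) (n : ℕ)
    (hC : HasInjectiveDimensionLT
      (ModuleCat.of A (LocalizedModule m.toIdeal.primeCompl C)) (n + 1)) :
    HasInjectiveDimensionLT (ModuleCat.of R C) (n + 2) := by
  let G : GMod.{u} 𝒜 := Groth.Agent.Lib.Helper30.gmodSub 𝒜 (E'.X n).gr (Zs 𝒜 𝒞 E' n)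
    (Zs_isHomogeneous 𝒜 𝒞 E' n)
  have hG : IsStarInj 𝒜 G.gr := isStarInj_Zs 𝒜 m hm 𝒞 E' n hC
  have hZn' : HasInjectiveDimensionLT (ModuleCat.of R G.carrier) 2 :=
    Groth.Agent.Lib.Helper8.GrInjTwRes.hasInjectiveDimensionLT_of_isStarInj 𝒜 G.gr hG
  have hZn : HasInjectiveDimensionLT (ModuleCat.of R ↥(Zs 𝒜 𝒞 E' n)) 2 := hZn'
  have h0 : HasInjectiveDimensionLT (ModuleCat.of R ↥(Zs 𝒜 𝒞 E' 0)) (n + 2) :=
    hasInjectiveDimensionLT_of_chain (fun k => ModuleCat.of R (E'.X k).carrier)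
      (fun k => ModuleCat.of R ↥(Zs 𝒜 𝒞 E' k))
      (fun k => ModuleCat.ofHom (Zs 𝒜 𝒞 E' k).subtype) (fun k => ModuleCat.ofHom (gk 𝒜 𝒞 E' k))
      (fun k => by ext x; simpa using (exact_k 𝒜 𝒞 E' k).apply_apply_eq_zero x)
      (fun k => ses 𝒜 𝒞 E' k) (fun k => hX 𝒜 𝒞 E' k) n hZn
  exact hasInjectiveDimensionLT_of_iso (e0 𝒜 𝒞 E').symm.toModuleIso (n + 2)

include hm in
/-- finite injective dimension over `R` from finite injective dimension of the localization -/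
theorem main (𝒞' : ℤ → AddSubgroup C) [DirectSum.Decomposition 𝒞'] [SetLike.GradedSMul 𝒜 𝒞']
    (n : ℕ)
    (hC : HasInjectiveDimensionLT
      (ModuleCat.of A (LocalizedModule m.toIdeal.primeCompl C)) (n + 1)) :
    HasInjectiveDimensionLT (ModuleCat.of R C) (n + 2) :=
  main_aux 𝒜 m hm 𝒞' (Groth.Agent.Lib.Helper30.starInjRes 𝒜 𝒞') n hC

end Groth.Agent.Lib.Helper24.CanonInjDim
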