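import Mathlib
import Groth.Prelude.Def_CAlg
import Groth.Agent.Lib.Helper4.GorCM

universe u
set_option autoImplicit false
open CategoryTheory LocCoh IsLocalRing

namespace Groth.Agent.Lib.Helper24.DoubleAnn

variable {A : Type u} [CommRing A]

/-- In a self-injective local ring with a nonzero socle element, an element outside an ideal `J`
is detected by an element of the annihilator of `J`. -/
theorem exists_mem_annihilator_mul_ne_zero [IsLocalRing A] [Module.Injective A A] (s : A)
    (hs : s ≠ 0) (hms : ∀ r ∈ maximalIdeal A, r * s = 0) (J : Ideal A) (x : A) (hx : x ∉ J) :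
    ∃ a ∈ (Submodule.annihilator J : Ideal A), x * a ≠ 0 := by
  set C : Ideal A := J.colon {x} with hC
  have hCm : C ≤ maximalIdeal A := by
    apply IsLocalRing.le_maximalIdeal
    intro htop
    have h1 : (1 : A) ∈ C := htop ▸ Submodule.mem_top
    rw [hC, Submodule.mem_colon_singleton] at h1
    exact hx (by simpa using h1)
  let i : A ⧸ C →ₗ[A] A ⧸ J :=
    Submodule.liftQ C ((Submodule.mkQ J).comp (LinearMap.toSpanSingleton A A x)) (by
      intro r hr
      rw [hC, Submodule.mem_colon_singleton] at hr
      rw [LinearMap.mem_ker, LinearMap.comp_apply, LinearMap.toSpanSingleton_apply,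
        Submodule.mkQ_apply, Submodule.Quotient.mk_eq_zero]
      exact hr)
  have hi : Function.Injective i := by
    rw [← LinearMap.ker_eq_bot, Submodule.ker_liftQ_eq_bot']
    ext r
    rw [LinearMap.mem_ker, LinearMap.comp_apply, LinearMap.toSpanSingleton_apply,
        Submodule.mkQ_apply, Submodule.Quotient.mk_eq_zero, hC, Submodule.mem_colon_singleton]
  let f : A ⧸ C →ₗ[A] A :=
    Submodule.liftQ C (LinearMap.toSpanSingleton A A s) (by
      intro r hr
      rw [LinearMap.mem_ker, LinearMap.toSpanSingleton_apply, smul_eq_mul]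
      exact hms r (hCm hr))
  obtain ⟨h, hh⟩ := Module.Injective.out i hi f
  refine ⟨h (Submodule.Quotient.mk 1), ?_, ?_⟩
  · rw [Submodule.mem_annihilator]
    intro j hj
    rw [smul_eq_mul, mul_comm, ← smul_eq_mul, ← map_smul, ← Submodule.Quotient.mk_smul, smul_eq_mul,
      mul_one, (Submodule.Quotient.mk_eq_zero J).mpr hj, map_zero]
  · have h1 : i (Submodule.Quotient.mk 1) = Submodule.Quotient.mk x := by
      show Submodule.liftQ C _ _ (Submodule.Quotient.mk 1) = _
      rw [Submodule.liftQ_apply, LinearMap.comp_apply, LinearMap.toSpanSingleton_apply, one_smul,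
        Submodule.mkQ_apply]
    have h2 : f (Submodule.Quotient.mk 1) = s := by
      show Submodule.liftQ C _ _ (Submodule.Quotient.mk 1) = _
      rw [Submodule.liftQ_apply, LinearMap.toSpanSingleton_apply, one_smul]
    have h3 : x * h (Submodule.Quotient.mk 1) = h (Submodule.Quotient.mk x) := by
      rw [← smul_eq_mul, ← map_smul, ← Submodule.Quotient.mk_smul, smul_eq_mul, mul_one]
    rw [h3, ← h1, hh, h2]
    exact hs

/-- A nonzero socle element of an artinian local ring. -/
theorem exists_socle [IsLocalRing A] [IsArtinianRing A] :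
    ∃ s : A, s ≠ 0 ∧ ∀ r ∈ maximalIdeal A, r * s = 0 := by
  classical
  have hnil : IsNilpotent (maximalIdeal A) := by
    have := IsArtinianRing.isNilpotent_jacobson_bot (R := A)
    rwa [IsLocalRing.jacobson_eq_maximalIdeal ⊥ bot_ne_top] at this
  have hex : ∃ n, (maximalIdeal A) ^ n = ⊥ := hnil
  have hn0 : Nat.find hex ≠ 0 := by
    intro h0
    have := Nat.find_spec hex
    rw [h0, pow_zero, Ideal.one_eq_top] at this
    exact top_ne_bot this
  obtain ⟨k, hk⟩ := Nat.exists_eq_succ_of_ne_zero hn0
  have hkne : (maximalIdeal A) ^ k ≠ ⊥ := Nat.find_min hex (by omega)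
  obtain ⟨s, hsm, hs0⟩ := Submodule.exists_mem_ne_zero_of_ne_bot hkne
  refine ⟨s, hs0, fun r hr => ?_⟩
  have : r * s ∈ (maximalIdeal A) ^ (k + 1) := by
    rw [pow_succ']
    exact Ideal.mul_mem_mul hr hsm
  rw [← Nat.succ_eq_add_one, ← hk, Nat.find_spec hex] at this
  simpa using this

/-- A zero-dimensional Gorenstein local ring is self-injective. -/
theorem injective_of_gorenstein [LocCoh.IsGorensteinLocalRing A] (hdim : ringKrullDim A = 0) :
    Module.Injective A A := by
  obtain ⟨d, hd, -, hinj⟩ := Groth.Agent.Lib.Helper4.GorCM.gorenstein_dim A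
  have hd0 : d = 0 := by
    rw [hdim] at hd
    exact_mod_cast hd.symm
  subst hd0
  rw [Module.injective_iff_injective_object]
  rw [zero_add] at hinj
  exact injective_iff_hasInjectiveDimensionLT_one.mpr hinj

theorem isArtinianRing_of_dim_zero [IsNoetherianRing A] (hdim : ringKrullDim A = 0) :
    IsArtinianRing A := by
  rw [isArtinianRing_iff_isNoetherianRing_krullDimLE_zero]
  exact ⟨inferInstance, ⟨by
    show ringKrullDim A ≤ _
    rw [hdim]; rfl⟩⟩

/-- Double annihilator detection in a zero-dimensional Gorenstein local ring. -/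
theorem exists_mem_annihilator_mul_ne_zero_of_gorenstein [LocCoh.IsGorensteinLocalRing A]
    (hdim : ringKrullDim A = 0) (J : Ideal A) (x : A) (hx : x ∉ J) :
    ∃ a ∈ (Submodule.annihilator J : Ideal A), x * a ≠ 0 := by
  have := injective_of_gorenstein hdim
  have := isArtinianRing_of_dim_zero hdim
  obtain ⟨s, hs, hms⟩ := exists_socle (A := A)
  exact exists_mem_annihilator_mul_ne_zero s hs hms J x hx

theorem annihilator_annihilator_eq [LocCoh.IsGorensteinLocalRing A]
    (hdim : ringKrullDim A = 0) (J : Ideal A) :
    (Submodule.annihilator (Submodule.annihilator J : Ideal A) : Ideal A) = J := by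
  apply le_antisymm
  · intro x hx
    by_contra hxJ
    obtain ⟨a, ha, hxa⟩ := exists_mem_annihilator_mul_ne_zero_of_gorenstein hdim J x hxJ
    rw [Submodule.mem_annihilator] at hx
    exact hxa (hx a ha)
  · intro x hx
    rw [Submodule.mem_annihilator]
    intro a ha
    rw [Submodule.mem_annihilator] at ha
    rw [smul_eq_mul, mul_comm]
    exact ha x hx

end Groth.Agent.Lib.Helper24.DoubleAnn
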