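import Mathlib
import Groth.Prelude.Def_CAlg
import Groth.Agent.Lib.Helper24.DoubleAnn
import Groth.Agent.Lib.Helper24.Linkage2

universe u
set_option autoImplicit false
open CategoryTheory LocCoh IsLocalRing

namespace Groth.Agent.Lib.Helper24.DoubleAnn

open Groth.Agent.Lib.Helper24.Linkage2

variable {R : Type u} [CommRing R]

theorem le_colon_colon (𝔠 I : Ideal R) :
    I ≤ 𝔠.colon ((𝔠.colon (I : Set R) : Ideal R) : Set R) := by
  intro x hx
  rw [Submodule.mem_colon]
  intro y hy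
  rw [SetLike.mem_coe, Submodule.mem_colon] at hy
  have := hy x hx
  rw [smul_eq_mul] at this ⊢
  rwa [mul_comm]

/-- If `P ⊇ 𝔠` is a prime with `ht P = ht 𝔠 < ∞`, then `P/𝔠` is a minimal prime of `R/𝔠`. -/
theorem height_map_mk_eq_zero [IsNoetherianRing R] (𝔠 P : Ideal R) [P.IsPrime] (h𝔠P : 𝔠 ≤ P)
    (hht : P.height ≤ 𝔠.height) :
    haveI : (P.map (Ideal.Quotient.mk 𝔠)).IsPrime :=
      Ideal.map_isPrime_of_surjective Ideal.Quotient.mk_surjective (by simpa using h𝔠P)
    (P.map (Ideal.Quotient.mk 𝔠)).height = 0 := by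
  have : (P.map (Ideal.Quotient.mk 𝔠)).IsPrime :=
      Ideal.map_isPrime_of_surjective Ideal.Quotient.mk_surjective (by simpa using h𝔠P)
  show (P.map (Ideal.Quotient.mk 𝔠)).height = 0
  rw [Ideal.height_eq_zero_iff]
  refine ⟨⟨inferInstance, bot_le⟩, ?_⟩
  rintro Q' ⟨hQ'prime, -⟩ hle
  set P' := Q'.comap (Ideal.Quotient.mk 𝔠) with hP'
  have : P'.IsPrime := Ideal.comap_isPrime _ _
  have h𝔠P' : 𝔠 ≤ P' := by
    intro r hr
    rw [hP', Ideal.mem_comap, Ideal.Quotient.eq_zero_iff_mem.mpr hr]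
    exact Q'.zero_mem
  have hP'P : P' ≤ P := by
    have := Ideal.comap_mono (f := Ideal.Quotient.mk 𝔠) hle
    rwa [Ideal.comap_map_of_surjective' _ Ideal.Quotient.mk_surjective, Ideal.mk_ker,
      sup_eq_left.mpr h𝔠P] at this
  have hPne : P ≠ ⊤ := Ideal.IsPrime.ne_top'
  have heq : P' = P := by
    exact Ideal.eq_of_le_of_height_le P' hP'P (hht.trans (Ideal.height_mono h𝔠P'))
  rw [← heq, hP', Ideal.map_comap_of_surjective _ Ideal.Quotient.mk_surjective]

/-- Main linkage identity: `𝔠 : (𝔠 : I) = I` when `R/𝔠` is Gorenstein and all associated primes of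
`R/I` have height `ht 𝔠`. -/
theorem colon_colon_eq [IsNoetherianRing R] (𝔠 I : Ideal R) [LocCoh.IsGorensteinRing (R ⧸ 𝔠)]
    (h𝔠I : 𝔠 ≤ I) (hIu : ∀ p ∈ associatedPrimes R (R ⧸ I), p.height ≤ 𝔠.height) :
    𝔠.colon ((𝔠.colon (I : Set R) : Ideal R) : Set R) = I := by
  apply le_antisymm _ (le_colon_colon 𝔠 I)
  intro x hx
  by_contra hxI
  have hx0 : (Submodule.Quotient.mk x : R ⧸ I) ≠ 0 := by
    rwa [Ne, Submodule.Quotient.mk_eq_zero]
  obtain ⟨P, hP, hann⟩ := exists_le_isAssociatedPrime_of_isNoetherianRing R _ hx0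
  have hPprime : P.IsPrime := hP.isPrime
  have hIP : I ≤ P := by
    intro r hr
    apply hann
    rw [Submodule.mem_colon_singleton, Submodule.mem_bot, ← Submodule.Quotient.mk_smul,
      Submodule.Quotient.mk_eq_zero, smul_eq_mul]
    exact Ideal.mul_mem_right _ _ hr
  have h𝔠P : 𝔠 ≤ P := h𝔠I.trans hIP
  have hPht := hIu P hP
  set B := R ⧸ 𝔠
  set Q : Ideal B := P.map (Ideal.Quotient.mk 𝔠) with hQ
  have : Q.IsPrime :=
    Ideal.map_isPrime_of_surjective Ideal.Quotient.mk_surjective (by simpa using h𝔠P)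
  have hQ0 : Q.height = 0 := height_map_mk_eq_zero 𝔠 P h𝔠P hPht
  have hQP : Q.comap (Ideal.Quotient.mk 𝔠) = P := by
    rw [hQ, Ideal.comap_map_of_surjective' _ Ideal.Quotient.mk_surjective, Ideal.mk_ker,
      sup_eq_left.mpr h𝔠P]
  set A := Localization.AtPrime Q
  have : LocCoh.IsGorensteinLocalRing A :=
    LocCoh.IsGorensteinRing.isGorensteinLocalRing_localization Q
  have hdim : ringKrullDim A = 0 := by
    rw [IsLocalization.AtPrime.ringKrullDim_eq_height Q A, hQ0]; rfl
  set Ib : Ideal B := I.map (Ideal.Quotient.mk 𝔠) with hIb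
  set J : Ideal A := Ib.map (algebraMap B A) with hJ
  set xA : A := algebraMap B A (Ideal.Quotient.mk 𝔠 x) with hxA
  by_cases hxJ : xA ∈ J
  · -- then some `t ∉ P` has `t x ∈ I`
    rw [hJ, IsLocalization.mem_map_algebraMap_iff Q.primeCompl] at hxJ
    obtain ⟨⟨⟨i, hi⟩, ⟨s, hs⟩⟩, h⟩ := hxJ
    simp only at h
    rw [hxA, ← map_mul, IsLocalization.eq_iff_exists Q.primeCompl] at h
    obtain ⟨⟨u, hu⟩, h⟩ := h
    simp only at h
    obtain ⟨s, rfl⟩ := Ideal.Quotient.mk_surjective s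
    obtain ⟨u, rfl⟩ := Ideal.Quotient.mk_surjective u
    rw [hIb, Ideal.mem_map_iff_of_surjective _ Ideal.Quotient.mk_surjective] at hi
    obtain ⟨i, hiI, rfl⟩ := hi
    have hsP : s ∉ P := fun hsP => hs (by rw [← hQP] at hsP; exact hsP)
    have huP : u ∉ P := fun huP => hu (by rw [← hQP] at huP; exact huP)
    rw [← map_mul, ← map_mul, ← map_mul, Ideal.Quotient.eq] at h
    have h2 : u * s * x ∈ I := by
      have h3 : u * (x * s) - u * i ∈ I := h𝔠I h
      have h4 : u * i ∈ I := Ideal.mul_mem_left _ _ hiI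
      have := I.add_mem h3 h4
      convert this using 1
      ring
    have h5 : u * s ∈ P := by
      apply hann
      rw [Submodule.mem_colon_singleton, Submodule.mem_bot, ← Submodule.Quotient.mk_smul,
        Submodule.Quotient.mk_eq_zero, smul_eq_mul]
      exact h2
    rcases hPprime.mem_or_mem h5 with h6 | h6
    · exact huP h6
    · exact hsP h6
  · obtain ⟨a, ha, hxa⟩ := exists_mem_annihilator_mul_ne_zero_of_gorenstein hdim J xA hxJ
    apply hxa
    have hIfg : Ib.FG := (isNoetherianRing_iff_ideal_fg B).mp inferInstance Ib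
    rw [hJ, annihilator_map_eq Q.primeCompl A Ib hIfg,
      annihilator_map_mk_eq 𝔠 I _ rfl] at ha
    -- `a ∈ ((𝔠 : I) B) A`, and `x` kills `(𝔠 : I) B`
    have hle : ((𝔠.colon (I : Set R) : Ideal R).map (Ideal.Quotient.mk 𝔠)).map (algebraMap B A) ≤
        (Submodule.annihilator (Ideal.span {xA}) : Ideal A) := by
      rw [Ideal.map_le_iff_le_comap, Ideal.map_le_iff_le_comap]
      intro y hy
      rw [Ideal.mem_comap, Ideal.mem_comap, Submodule.mem_annihilator_span_singleton, hxA,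
        smul_eq_mul, ← map_mul, ← map_mul]
      rw [Submodule.mem_colon] at hx
      have := hx y hy
      rw [smul_eq_mul] at this
      rw [mul_comm, Ideal.Quotient.eq_zero_iff_mem.mpr this, map_zero]
    have := hle ha
    rw [Submodule.mem_annihilator_span_singleton, smul_eq_mul, mul_comm] at this
    exact this

end Groth.Agent.Lib.Helper24.DoubleAnn
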