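import Mathlib
import Groth.Agent.S0543
import Groth.Agent.S14002
import Groth.Agent.Lib.Helper97.Decaying

/-!
# Completion of a flat map of Noetherian rings is flat (general ideals)

Generalisation of helper54's `flat_complMap`: `φ : B' → B` flat, `I' B ≤ I`, and `ψ : B'^ → B^`
any ring map compatible with `φ`.  Then `ψ` is flat.
-/

set_option autoImplicit false
set_option linter.style.haveILetI false
universe u

open TensorProduct

namespace Groth.Agent.Lib.Helper24.ComplFlatG

/-! The following lemmas are copied from an earlier version of `Lib/Helper54/ComplFlat.lean`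
(helper54), which has since been replaced. -/

section LemmaT

variable {B' R M : Type u} [CommRing B'] [CommRing R] [Algebra B' R] [AddCommGroup M]
  [Module B' M] [Module R M] [IsScalarTower B' R M]

theorem tmul_smul_eq_zero_of_mem (𝔟 : Ideal B') (𝔞 : Ideal R)
    (h𝔞 : 𝔟.map (algebraMap B' R) = 𝔞) (c : R) (hc : c ∈ 𝔞) (x : R ⧸ 𝔞) (m : M) :
    x ⊗ₜ[B'] (c • m) = 0 := by
  rw [← h𝔞] at hc
  revert m
  refine Submodule.span_induction (p := fun c _ => ∀ m : M, x ⊗ₜ[B'] (c • m) = 0)
    ?_ ?_ ?_ ?_ hc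
  · rintro _ ⟨β, hβ, rfl⟩ m
    rw [algebraMap_smul, ← TensorProduct.smul_tmul]
    have : β • x = 0 := by
      obtain ⟨y, rfl⟩ := Ideal.Quotient.mk_surjective x
      show Ideal.Quotient.mk 𝔞 (β • y) = 0
      rw [Algebra.smul_def, Ideal.Quotient.eq_zero_iff_mem, ← h𝔞]
      exact Ideal.mul_mem_right _ _ (Ideal.mem_map_of_mem _ hβ)
    rw [this, zero_tmul]
  · intro m; rw [zero_smul, tmul_zero]
  · intro c1 c2 _ _ h1 h2 m
    rw [add_smul, tmul_add, h1, h2, add_zero]
  · intro s c1 _ h1 m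
    rw [smul_eq_mul, mul_comm, mul_smul]
    exact h1 _

/-- compatibility of scalars in `(R ⧸ 𝔞) ⊗[B'] M` when `B' → R ⧸ 𝔞` is surjective and `𝔞 = 𝔟 R`. -/
theorem compatibleSMul_of_surjective (𝔟 : Ideal B') (𝔞 : Ideal R)
    (h𝔞 : 𝔟.map (algebraMap B' R) = 𝔞)
    (hsurj : Function.Surjective (fun b : B' => Ideal.Quotient.mk 𝔞 (algebraMap B' R b))) :
    TensorProduct.CompatibleSMul B' R (R ⧸ 𝔞) M := by
  constructor
  intro r x m
  obtain ⟨b, hb⟩ := hsurj (Ideal.Quotient.mk 𝔞 r)
  have hb' : r - algebraMap B' R b ∈ 𝔞 := by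
    rw [← Ideal.Quotient.eq]; exact hb.symm
  have h1 : r • x = b • x := by
    obtain ⟨y, rfl⟩ := Ideal.Quotient.mk_surjective x
    show Ideal.Quotient.mk 𝔞 (r • y) = Ideal.Quotient.mk 𝔞 (b • y)
    rw [smul_eq_mul, Algebra.smul_def, Ideal.Quotient.eq, ← sub_mul]
    exact Ideal.mul_mem_right _ _ hb'
  have h2 : x ⊗ₜ[B'] (r • m) = x ⊗ₜ[B'] (b • m) := by
    have := tmul_smul_eq_zero_of_mem 𝔟 𝔞 h𝔞 _ hb' x m
    rw [sub_smul, tmul_sub, sub_eq_zero, algebraMap_smul] at this
    exact this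
  rw [h1, h2, TensorProduct.smul_tmul]

end LemmaT

section LemmaT2

variable {B' R M : Type u} [CommRing B'] [CommRing R] [Algebra B' R] [AddCommGroup M]
  [Module B' M] [Module R M] [IsScalarTower B' R M]

/-- **Lemma T**: if `𝔞 = 𝔟 R` and `B' → R ⧸ 𝔞` is surjective, flatness of `M / 𝔟 M` over `B' / 𝔟`
gives flatness of `M / 𝔞 M` over `R / 𝔞` (in tensor form). -/
theorem flat_quotient_tensor (𝔟 : Ideal B') (𝔞 : Ideal R)
    (h𝔞 : 𝔟.map (algebraMap B' R) = 𝔞)
    (hsurj : Function.Surjective (fun b : B' => Ideal.Quotient.mk 𝔞 (algebraMap B' R b)))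
    (hflat : Module.Flat (B' ⧸ 𝔟) ((B' ⧸ 𝔟) ⊗[B'] M)) :
    Module.Flat (R ⧸ 𝔞) ((R ⧸ 𝔞) ⊗[R] M) := by
  have hle : 𝔟 ≤ 𝔞.comap (algebraMap B' R) := by
    rw [← Ideal.map_le_iff_le_comap, h𝔞]
  letI alg : Algebra (B' ⧸ 𝔟) (R ⧸ 𝔞) := (Ideal.quotientMap 𝔞 (algebraMap B' R) hle).toAlgebra
  haveI tower : IsScalarTower B' (B' ⧸ 𝔟) (R ⧸ 𝔞) := IsScalarTower.of_algebraMap_eq (fun b => by
    show algebraMap B' (R ⧸ 𝔞) b = Ideal.quotientMap 𝔞 (algebraMap B' R) hle (Ideal.Quotient.mk 𝔟 b)
    rw [Ideal.quotientMap_mk]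
    rfl)
  haveI := compatibleSMul_of_surjective (M := M) 𝔟 𝔞 h𝔞 hsurj
  have F1 : Module.Flat (R ⧸ 𝔞) ((R ⧸ 𝔞) ⊗[B' ⧸ 𝔟] ((B' ⧸ 𝔟) ⊗[B'] M)) := inferInstance
  let e1 : (R ⧸ 𝔞) ⊗[B' ⧸ 𝔟] ((B' ⧸ 𝔟) ⊗[B'] M) ≃ₗ[R ⧸ 𝔞] (R ⧸ 𝔞) ⊗[B'] M :=
    TensorProduct.AlgebraTensorModule.cancelBaseChange B' (B' ⧸ 𝔟) (R ⧸ 𝔞) (R ⧸ 𝔞) M
  let e2 : (R ⧸ 𝔞) ⊗[B'] M ≃ₗ[R ⧸ 𝔞] (R ⧸ 𝔞) ⊗[R] M :=
    TensorProduct.equivOfCompatibleSMul R B' (R ⧸ 𝔞) (R ⧸ 𝔞) M
  exact Module.Flat.of_linearEquiv (e1.trans e2).symm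

end LemmaT2

section F

variable {B' B : Type u} [CommRing B'] [CommRing B]
  (I' : Ideal B') (I : Ideal B) (φ : B' →+* B)

theorem mem_map_pow_of_evalₐ_eq_zero (hfg : I'.FG) (n : ℕ) (x : AdicCompletion I' B')
    (hx : AdicCompletion.evalₐ I' n x = 0) :
    x ∈ (I' ^ n).map (algebraMap B' (AdicCompletion I' B')) := by
  have h1 : AdicCompletion.eval I' B' n x = 0 := by
    rw [← AdicCompletion.factor_evalₐ_eq_eval I' x (by simp), hx, map_zero]
  have h2 : x ∈ (I' ^ n • ⊤ : Submodule B' (AdicCompletion I' B')) := by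
    rw [AdicCompletion.pow_smul_top_eq_ker_eval hfg]
    exact h1
  rw [Ideal.smul_top_eq_map] at h2
  exact h2

theorem surjective_mk_algebraMap (hfg : I'.FG) (n : ℕ) :
    Function.Surjective (fun b : B' =>
      Ideal.Quotient.mk ((I'.map (algebraMap B' (AdicCompletion I' B'))) ^ n)
        (algebraMap B' (AdicCompletion I' B') b)) := by
  intro y
  obtain ⟨r, rfl⟩ := Ideal.Quotient.mk_surjective y
  obtain ⟨b, hb⟩ := Ideal.Quotient.mk_surjective (AdicCompletion.evalₐ I' n r)
  refine ⟨b, ?_⟩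
  show Ideal.Quotient.mk _ _ = Ideal.Quotient.mk _ _
  rw [Ideal.Quotient.eq, ← Ideal.map_pow]
  apply mem_map_pow_of_evalₐ_eq_zero I' hfg
  rw [map_sub, AdicCompletion.algebraMap_apply, AdicCompletion.evalₐ_of, Algebra.algebraMap_self,
    RingHom.id_apply, hb, sub_self]


theorem flat_of_compat [IsNoetherianRing B'] [IsNoetherianRing B]
    (hφ : φ.Flat) (h : I'.map φ ≤ I)
    (ψ : AdicCompletion I' B' →+* AdicCompletion I B)
    (hψ : ψ.comp (algebraMap B' (AdicCompletion I' B')) =
      (algebraMap B (AdicCompletion I B)).comp φ) :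
    ψ.Flat := by
  show (letI := ψ.toAlgebra; Module.Flat (AdicCompletion I' B') (AdicCompletion I B))
  letI algRS : Algebra (AdicCompletion I' B') (AdicCompletion I B) := ψ.toAlgebra
  letI algB'B : Algebra B' B := φ.toAlgebra
  letI algB'S : Algebra B' (AdicCompletion I B) :=
    ((algebraMap B (AdicCompletion I B)).comp φ).toAlgebra
  haveI t1 : IsScalarTower B' B (AdicCompletion I B) :=
    IsScalarTower.of_algebraMap_eq (fun b => rfl)
  haveI t2 : IsScalarTower B' (AdicCompletion I' B') (AdicCompletion I B) :=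
    IsScalarTower.of_algebraMap_eq (fun b => (RingHom.congr_fun hψ b).symm)
  haveI : IsNoetherianRing (AdicCompletion I' B') := Groth.Agent.S0543.result B' I'
  haveI : IsNoetherianRing (AdicCompletion I B) := Groth.Agent.S0543.result B I
  haveI : Module.Flat B' B := hφ
  haveI : Module.Flat B' (AdicCompletion I B) := Module.Flat.trans B' B (AdicCompletion I B)
  have hfg' : I'.FG := IsNoetherian.noetherian I'
  have hfg : I.FG := IsNoetherian.noetherian I
  have hle : (I'.map (algebraMap B' (AdicCompletion I' B'))).map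
      (algebraMap (AdicCompletion I' B') (AdicCompletion I B)) ≤
      I.map (algebraMap B (AdicCompletion I B)) := by
    have e : (algebraMap (AdicCompletion I' B') (AdicCompletion I B)).comp
        (algebraMap B' (AdicCompletion I' B')) = (algebraMap B (AdicCompletion I B)).comp φ := hψ
    rw [Ideal.map_map, e, ← Ideal.map_map]
    exact Ideal.map_mono h
  haveI hJ : IsAdicComplete (I.map (algebraMap B (AdicCompletion I B))) (AdicCompletion I B) :=
    AdicCompletion.isAdicComplete_self I hfg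
  haveI : IsAdicComplete ((I'.map (algebraMap B' (AdicCompletion I' B'))).map
      (algebraMap (AdicCompletion I' B') (AdicCompletion I B))) (AdicCompletion I B) := by
    rw [IsAdicComplete.map_algebraMap_iff]
    exact Groth.Agent.Lib.Helper97.Decaying.isAdicComplete_of_map_le
      (I'.map (algebraMap B' (AdicCompletion I' B')))
      (I.map (algebraMap B (AdicCompletion I B))) hle (AdicCompletion I B)
  rw [Groth.Agent.S14002.result (AdicCompletion I' B') (AdicCompletion I B)
    (I'.map (algebraMap B' (AdicCompletion I' B')))]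
  intro n hn
  exact flat_quotient_tensor (B' := B') (R := AdicCompletion I' B') (M := AdicCompletion I B)
    (I' ^ n) ((I'.map (algebraMap B' (AdicCompletion I' B'))) ^ n) (Ideal.map_pow _ _ _)
    (surjective_mk_algebraMap I' hfg' n) inferInstance

end F

section desc

variable (R S T : Type u) [CommRing R] [CommRing S] [CommRing T] [Algebra R S] [Algebra S T]
  [Algebra R T] [IsScalarTower R S T]

/-- flatness descends along a faithfully flat map on the right: if `T` is flat over `R` and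
faithfully flat over `S`, then `S` is flat over `R`. -/
theorem flat_of_faithfullyFlat_of_flat [Module.FaithfullyFlat S T] [Module.Flat R T] :
    Module.Flat R S := by
  rw [Module.Flat.iff_lTensor_preserves_injective_linearMap]
  intro N N' _ _ _ _ f hf
  have h1 : Function.Injective (f.lTensor T) :=
    Module.Flat.lTensor_preserves_injective_linearMap f hf
  rw [← LinearMap.baseChange_eq_ltensor (A := S)]
  rw [← Module.FaithfullyFlat.lTensor_injective_iff_injective S T]
  have hcomm : ∀ x : T ⊗[S] (S ⊗[R] N),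
      (TensorProduct.AlgebraTensorModule.cancelBaseChange R S T T N')
        ((f.baseChange S).lTensor T x) =
      f.lTensor T ((TensorProduct.AlgebraTensorModule.cancelBaseChange R S T T N) x) := by
    intro x
    induction x using TensorProduct.induction_on with
    | zero => simp
    | add x y hx hy => simp only [map_add, hx, hy]
    | tmul t y =>
      induction y using TensorProduct.induction_on with
      | zero => simp
      | add y z hy hz => simp only [tmul_add, map_add, hy, hz]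
      | tmul s n => simp
  intro x y hxy
  apply (TensorProduct.AlgebraTensorModule.cancelBaseChange R S T T N).injective
  apply h1
  rw [← hcomm, ← hcomm, hxy]

end desc

end Groth.Agent.Lib.Helper24.ComplFlatG
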