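import Mathlib
import Groth.Agent.Lib.Helper97.Decaying

set_option autoImplicit false
open W4c5adicflatcompl
open scoped TensorProduct

namespace Groth.Agent.Lib.Helper24.DecayingTau

open Groth.Agent.Lib.Helper97.Decaying

variable {A : Type*} [CommRing A] (I : Ideal A) (Z : Type*)

lemma pi_mem_smul_top' {ι : Type*} [Fintype ι] (J : Ideal A) (v : ι → A) (hv : ∀ i, v i ∈ J) :
    v ∈ (J • ⊤ : Submodule A (ι → A)) := by
  classical
  have h : v = ∑ i, v i • (Pi.single i (1 : A) : ι → A) := by
    funext i'
    simp [Finset.sum_apply, Pi.single_apply]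
  rw [h]
  exact Submodule.sum_mem _ fun i _ => Submodule.smul_mem_smul (hv i) Submodule.mem_top

/-- Generalization of helper97's `flat_decaying` argument: if `Φ : A^ι → Q` is any linear map and
`x : ι → decaying I Z A` is such that `Φ` kills all the value vectors `(x i z)_i`, then `x` is a
combination (with decaying coefficients) of finitely many vectors in `ker Φ`. -/
theorem exists_decomp [IsNoetherianRing A] [IsHausdorff I A] {Q : Type*} [AddCommGroup Q] [Module A Q]
    {ι : Type*} [Fintype ι] (Φ : (ι → A) →ₗ[A] Q) (x : ι → decaying I Z A)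
    (hx : ∀ z, Φ (fun i => (x i : Z → A) z) = 0) :
    ∃ (s : ℕ) (k : Fin s → (ι → A)) (y : Fin s → decaying I Z A),
      (∀ j, Φ (k j) = 0) ∧ ∀ i, x i = ∑ j, k j i • y j := by
  classical
  obtain ⟨s, k, hk⟩ := Submodule.fg_iff_exists_fin_generating_family.1
    (IsNoetherian.noetherian (LinearMap.ker Φ))
  obtain ⟨c, hc⟩ := Ideal.exists_pow_inf_eq_pow_smul I (LinearMap.ker Φ)
  let v : Z → (ι → A) := fun z i => (x i : Z → A) z
  have hvK : ∀ z, v z ∈ LinearMap.ker Φ := fun z => hx z
  have htop : ∀ m : ℕ, (I ^ m • ⊤ : Submodule A A) = I ^ m := fun m => by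
    rw [smul_eq_mul, Ideal.mul_top]
  have key : ∀ z, ∃ y : Fin s → A, v z = ∑ j, y j • k j ∧
      ∀ n, v z ∈ (I ^ (n + c) • ⊤ : Submodule A (ι → A)) → ∀ j, y j ∈ I ^ n := by
    intro z
    by_cases hall : ∀ n, v z ∈ (I ^ (n + c) • ⊤ : Submodule A (ι → A))
    · have h0 : v z = 0 := by
        funext i
        apply IsHausdorff.haus ‹IsHausdorff I A›
        intro j
        rw [SModEq.zero]
        have h1 := map_mem_pow_smul_top I _ (LinearMap.proj i : (ι → A) →ₗ[A] A) (j + c) (hall j)
        exact pow_smul_top_mono I A (Nat.le_add_right j c) h1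
      exact ⟨0, by simp [h0], fun n _ j => Submodule.zero_mem _⟩
    · simp only [not_forall] at hall
      have hm₀ := Nat.find_spec hall
      have hmem : v z ∈ I ^ (Nat.find hall - 1) • LinearMap.ker Φ := by
        rcases Nat.eq_zero_or_pos (Nat.find hall) with h0 | hpos
        · rw [h0, Nat.zero_sub, pow_zero, Ideal.one_eq_top, Submodule.top_smul]
          exact hvK z
        · obtain ⟨m₁, hm₁⟩ : ∃ m₁, Nat.find hall = m₁ + 1 :=
            Nat.exists_eq_succ_of_ne_zero hpos.ne'
          have h1 : v z ∈ (I ^ (m₁ + c) • ⊤ : Submodule A (ι → A)) := by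
            by_contra h
            have := Nat.find_min' hall h
            omega
          have h2 : v z ∈ (I ^ (m₁ + c) • ⊤ : Submodule A (ι → A)) ⊓ LinearMap.ker Φ :=
            ⟨h1, hvK z⟩
          rw [hc (m₁ + c) (Nat.le_add_left c m₁), Nat.add_sub_cancel] at h2
          rw [hm₁, Nat.add_sub_cancel]
          exact Submodule.smul_mono le_rfl inf_le_right h2
      rw [← hk, Submodule.mem_ideal_smul_span_iff_exists_sum] at hmem
      obtain ⟨a, ha, hsum⟩ := hmem
      refine ⟨a, ?_, fun n hn j => ?_⟩
      · rw [← hsum]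
        exact Finsupp.sum_fintype _ _ (fun i => zero_smul _ _)
      · have hle : n ≤ Nat.find hall - 1 := by
          by_contra hlt
          apply hm₀
          refine pow_smul_top_mono I _ ?_ hn
          omega
        exact Ideal.pow_le_pow_right hle (ha j)
  choose y hy1 hy2 using key
  have hdec : ∀ j, (fun z => y z j) ∈ decaying I Z A := by
    intro j n
    have hfin : (⋃ i : ι, {z | (x i : Z → A) z ∉ (I ^ (n + c) • ⊤ : Submodule A A)}).Finite :=
      Set.finite_iUnion fun i => (x i).2 (n + c)
    refine hfin.subset ?_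
    intro z hz
    by_contra h
    simp only [Set.mem_iUnion, Set.mem_ofPred_eq, not_exists, not_not] at h
    apply hz
    rw [htop]
    refine hy2 z n (pi_mem_smul_top' _ _ fun i => ?_) j
    have := h i
    rwa [htop] at this
  refine ⟨s, k, fun j => ⟨fun z => y z j, hdec j⟩, fun j => ?_, fun i => ?_⟩
  · have hkj : k j ∈ LinearMap.ker Φ := by
      rw [← hk]; exact Submodule.subset_span ⟨j, rfl⟩
    exact hkj
  · apply Subtype.ext
    funext z
    have h1 := congrFun (hy1 z) i
    simp only [Finset.sum_apply, Pi.smul_apply, smul_eq_mul] at h1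
    rw [Submodule.coe_sum, Finset.sum_apply]
    simp only [Submodule.coe_smul, Pi.smul_apply, smul_eq_mul]
    rw [show (x i : Z → A) z = v z i from rfl, h1]
    exact Finset.sum_congr rfl fun j _ => mul_comm _ _

variable (Q : Type*) [AddCommGroup Q] [Module A Q]

/-- The evaluation pairing `decaying I Z A ⊗ Q → (Z → Q)`, `f ⊗ q ↦ (z ↦ f z • q)`. -/
noncomputable def tau : decaying I Z A ⊗[A] Q →ₗ[A] (Z → Q) :=
  TensorProduct.lift
    { toFun := fun f =>
        { toFun := fun q z => (f : Z → A) z • q
          map_add' := fun q q' => by funext z; exact smul_add _ _ _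
          map_smul' := fun a q => by funext z; exact smul_comm _ _ _ }
      map_add' := fun f g => by
        apply LinearMap.ext; intro q; funext z
        exact add_smul _ _ _
      map_smul' := fun a f => by
        apply LinearMap.ext; intro q; funext z
        exact mul_smul _ _ _ }

@[simp] lemma tau_tmul (f : decaying I Z A) (q : Q) (z : Z) :
    tau I Z Q (f ⊗ₜ q) z = (f : Z → A) z • q := rfl

/-- **Key injectivity**: over a Noetherian `I`-adically separated ring, for EVERY module `Q` the
evaluation pairing `decaying I Z A ⊗ Q → (Z → Q)` is injective. -/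
theorem tau_injective [IsNoetherianRing A] [IsHausdorff I A] :
    Function.Injective (tau I Z Q) := by
  classical
  rw [injective_iff_map_eq_zero]
  intro w hw
  obtain ⟨S, rfl⟩ := TensorProduct.exists_finset w
  rw [← Finset.sum_coe_sort] at hw ⊢
  let x : S → decaying I Z A := fun i => i.1.1
  let q : S → Q := fun i => i.1.2
  let Φ : (S → A) →ₗ[A] Q := ∑ i, (LinearMap.proj i : (S → A) →ₗ[A] A).smulRight (q i)
  have hΦ : ∀ u : S → A, Φ u = ∑ i, u i • q i := by
    intro u
    simp [Φ, LinearMap.sum_apply]
  have hx : ∀ z, Φ (fun i => (x i : Z → A) z) = 0 := by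
    intro z
    rw [hΦ]
    have := congrFun hw z
    rw [map_sum, Finset.sum_apply] at this
    simpa [x, q] using this
  obtain ⟨s, k, y, hk, hxy⟩ := exists_decomp I Z Φ x hx
  have h1 : ∀ i : S, (i.1.1 ⊗ₜ[A] i.1.2 : decaying I Z A ⊗[A] Q) =
      ∑ j, y j ⊗ₜ[A] (k j i • q i) := by
    intro i
    change x i ⊗ₜ[A] q i = _
    rw [hxy i, TensorProduct.sum_tmul]
    refine Finset.sum_congr rfl fun j _ => ?_
    rw [TensorProduct.smul_tmul]
  rw [Finset.sum_congr rfl fun i _ => h1 i, Finset.sum_comm]
  refine Finset.sum_eq_zero fun j _ => ?_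
  rw [← TensorProduct.tmul_sum, ← hΦ, hk j, TensorProduct.tmul_zero]

section consequences

variable [IsNoetherianRing A] [IsHausdorff I A] {M : Type*} [AddCommGroup M] [Module A M]
  (e : M ≃ₗ[A] decaying I Z A)

include e in
/-- A module isomorphic to a module of decaying functions is Mittag-Leffler (tensoring with it
commutes injectively with arbitrary products). -/
theorem piRightHom_injective {ι : Type*} (P : ι → Type*) [∀ i, AddCommGroup (P i)]
    [∀ i, Module A (P i)] :
    Function.Injective (TensorProduct.piRightHom A A M P) := by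
  classical
  let Θ : (∀ i, M ⊗[A] P i) →ₗ[A] (∀ i, Z → P i) :=
    LinearMap.pi fun i => (tau I Z (P i) ∘ₗ e.toLinearMap.rTensor (P i)) ∘ₗ LinearMap.proj i
  let sw : (Z → ∀ i, P i) →ₗ[A] (∀ i, Z → P i) :=
    LinearMap.pi fun i => LinearMap.pi fun z => LinearMap.proj i ∘ₗ LinearMap.proj z
  have hcomm : Θ ∘ₗ TensorProduct.piRightHom A A M P =
      sw ∘ₗ tau I Z (∀ i, P i) ∘ₗ e.toLinearMap.rTensor (∀ i, P i) := by
    apply TensorProduct.ext'
    intro x q
    funext i z
    simp [Θ, sw]
  have hinj : Function.Injective (sw ∘ₗ tau I Z (∀ i, P i) ∘ₗ e.toLinearMap.rTensor (∀ i, P i)) := by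
    have h1 : Function.Injective sw := by
      intro f g hfg
      funext z i
      exact congrFun (congrFun hfg i) z
    have h2 : Function.Injective (e.toLinearMap.rTensor (∀ i, P i)) :=
      (LinearEquiv.rTensor (∀ i, P i) e).injective
    exact h1.comp ((tau_injective I Z _).comp h2)
  intro w w' hww'
  apply hinj
  rw [← hcomm, LinearMap.comp_apply, LinearMap.comp_apply, hww']

include e in
/-- If `j : M → (Z → N)` becomes, after an identification `c : N → A`, the coordinate embedding of
decaying functions, then `j` is universally injective. -/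
theorem rTensor_injective {N : Type*} [AddCommGroup N] [Module A N] (j : M →ₗ[A] (Z → N))
    (c : N →ₗ[A] A) (h : ∀ x z, c (j x z) = (e x : Z → A) z)
    (Q : Type*) [AddCommGroup Q] [Module A Q] :
    Function.Injective (j.rTensor Q) := by
  classical
  let Ψ : (Z → N) ⊗[A] Q →ₗ[A] (Z → Q) :=
    TensorProduct.lift
      { toFun := fun g =>
          { toFun := fun q z => c (g z) • q
            map_add' := fun q q' => by funext z; exact smul_add _ _ _
            map_smul' := fun a q => by funext z; exact smul_comm _ _ _ }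
        map_add' := fun f g => by
          apply LinearMap.ext; intro q; funext z
          simp [add_smul]
        map_smul' := fun a f => by
          apply LinearMap.ext; intro q; funext z
          simp [mul_smul] }
  have hcomm : Ψ ∘ₗ j.rTensor Q = tau I Z Q ∘ₗ e.toLinearMap.rTensor Q := by
    apply TensorProduct.ext'
    intro x q
    funext z
    simp [Ψ, h]
  have hinj : Function.Injective (tau I Z Q ∘ₗ e.toLinearMap.rTensor Q) := by
    have h2 : Function.Injective (e.toLinearMap.rTensor Q) :=
      (LinearEquiv.rTensor Q e).injective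
    exact (tau_injective I Z _).comp h2
  intro w w' hww'
  apply hinj
  rw [← hcomm, LinearMap.comp_apply, LinearMap.comp_apply, hww']

end consequences

end Groth.Agent.Lib.Helper24.DecayingTau
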