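import Mathlib
import Groth.Agent.Lib.Helper97.Decaying
import Groth.Agent.Lib.Helper24.DecayingTau
import Groth.Agent.S0543

set_option autoImplicit false
open W4c5adicflatcompl
open scoped TensorProduct

namespace Groth.Agent.Lib.Helper24.DecayingCompl

open Groth.Agent.Lib.Helper97.Decaying

section density

variable {A : Type*} [CommRing A] (I : Ideal A) {M N : Type*} [AddCommGroup M] [Module A M]
  [AddCommGroup N] [Module A N]

/-- Two linear maps out of an adic completion into a Hausdorff module agree as soon as they agree
on the image of `M`. -/
theorem ext_of_of (hfg : I.FG) [IsHausdorff I N] (φ φ' : AdicCompletion I M →ₗ[A] N)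
    (h : ∀ m, φ (AdicCompletion.of I M m) = φ' (AdicCompletion.of I M m)) : φ = φ' := by
  rw [← sub_eq_zero]
  have hψ : ∀ m, (φ - φ') (AdicCompletion.of I M m) = 0 := fun m => by
    rw [LinearMap.sub_apply, h m, sub_self]
  generalize φ - φ' = ψ at hψ
  apply LinearMap.ext
  intro x
  rw [LinearMap.zero_apply]
  apply IsHausdorff.haus (inferInstance : IsHausdorff I N)
  intro n
  rw [SModEq.zero]
  obtain ⟨t, ht⟩ := exists_sub_of_mem I M hfg x n
  have : ψ x = ψ (x - AdicCompletion.of I M t) := by rw [map_sub, hψ t, sub_zero]
  rw [this]
  exact map_mem_pow_smul_top I _ ψ n ht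

end density

section iso

variable {R : Type*} [CommRing R] [IsNoetherianRing R] (I : Ideal R) (α : Type*)

/-- The map from the free module to decaying functions with values in the completion. -/
noncomputable def theta [DecidableEq α] : (α →₀ R) →ₗ[R] decaying I α (AdicCompletion I R) :=
  Finsupp.lsum R (fun a => LinearMap.toSpanSingleton R _ (single I a (1 : AdicCompletion I R)))

omit [IsNoetherianRing R] in
lemma theta_single [DecidableEq α] (a : α) (r : R) :
    theta I α (Finsupp.single a r) = r • single I a (1 : AdicCompletion I R) := by
  simp [theta]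

omit [IsNoetherianRing R] in
lemma theta_apply [DecidableEq α] (f : α →₀ R) (a : α) :
    ((theta I α f : decaying I α (AdicCompletion I R)) : α → AdicCompletion I R) a =
      AdicCompletion.of I R (f a) := by
  induction f using Finsupp.induction_linear with
  | zero => simp
  | add f g hf hg =>
    rw [map_add, Submodule.coe_add, Pi.add_apply, hf, hg, Finsupp.add_apply, map_add]
  | single b r =>
    rw [theta_single, Submodule.coe_smul, Pi.smul_apply, coe_single, Pi.single_apply,
      Finsupp.single_apply]
    by_cases h : a = b
    · subst h
      rw [if_pos rfl, if_pos rfl]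
      rw [show r = r • (1 : R) by simp, map_smul]
      congr 1
      simp
    · rw [if_neg h, if_neg (Ne.symm h), smul_zero, map_zero]

/-- The isomorphism between the completion of the free module on `α` and the module of decaying
functions `α → R^`, together with the formula for its coordinates. -/
theorem exists_equiv :
    ∃ e : AdicCompletion I (α →₀ R) ≃ₗ[R] decaying I α (AdicCompletion I R),
      ∀ (x : AdicCompletion I (α →₀ R)) (a : α),
        ((e x : decaying I α (AdicCompletion I R)) : α → AdicCompletion I R) a =
          AdicCompletion.map I (Finsupp.lapply a : (α →₀ R) →ₗ[R] R) x := by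
  classical
  have fg : I.FG := IsNoetherian.noetherian I
  have hRh : IsAdicComplete I (AdicCompletion I R) := AdicCompletion.isAdicComplete fg
  have hD : IsAdicComplete I (decaying I α (AdicCompletion I R)) := isAdicComplete_decaying I α _
  have hF : IsAdicComplete I (AdicCompletion I (α →₀ R)) := AdicCompletion.isAdicComplete fg
  let θ := theta I α
  let al : AdicCompletion I (α →₀ R) →ₗ[R] decaying I α (AdicCompletion I R) :=
    (AdicCompletion.ofLinearEquiv I (decaying I α (AdicCompletion I R))).symm.toLinearMap ∘ₗ
      ((AdicCompletion.map I θ).restrictScalars R)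
  have hal : ∀ t : α →₀ R, al (AdicCompletion.of I (α →₀ R) t) = θ t := by
    intro t
    simp only [al, LinearMap.comp_apply, LinearMap.restrictScalars_apply, AdicCompletion.map_of,
      LinearEquiv.coe_coe, AdicCompletion.ofLinearEquiv_symm_of]
  obtain ⟨β, hβ, -⟩ := existsUnique_single I α (AdicCompletion I (α →₀ R))
    (fun a => AdicCompletion.of I (α →₀ R) (Finsupp.single a 1))
  have hθ1 : ∀ a, θ (Finsupp.single a 1) = single I a (1 : AdicCompletion I R) := by
    intro a
    rw [show θ = theta I α from rfl, theta_single, one_smul]
  have hαβ : al ∘ₗ β = LinearMap.id := by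
    apply ext_of_single I α (decaying I α (AdicCompletion I R))
    intro a
    simp only [LinearMap.comp_apply, LinearMap.id_apply, hβ a, hal, hθ1 a]
  have hγ2 : ∀ t : α →₀ R, β (al (AdicCompletion.of I (α →₀ R) t)) =
      AdicCompletion.of I (α →₀ R) t := by
    intro t
    induction t using Finsupp.induction_linear with
    | zero => simp
    | add f g hf hg => rw [map_add, map_add, map_add, hf, hg]
    | single a r =>
      have : Finsupp.single a r = r • Finsupp.single a (1 : R) := by
        rw [Finsupp.smul_single, smul_eq_mul, mul_one]
      rw [this, map_smul, map_smul, map_smul, hal, hθ1, hβ]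
  have hγ3 : β ∘ₗ al = LinearMap.id := by
    apply ext_of_of I fg
    intro t
    simp only [LinearMap.comp_apply, LinearMap.id_apply, hγ2 t]
  refine ⟨LinearEquiv.ofLinearMap al β hαβ hγ3, fun x a => ?_⟩
  let ev : decaying I α (AdicCompletion I R) →ₗ[R] AdicCompletion I R :=
    (LinearMap.proj a).comp (decaying I α (AdicCompletion I R)).subtype
  have hcomp : ev ∘ₗ al =
      (AdicCompletion.map I (Finsupp.lapply a : (α →₀ R) →ₗ[R] R)).restrictScalars R := by
    apply ext_of_of I fg
    intro t
    simp only [LinearMap.comp_apply, LinearMap.restrictScalars_apply, AdicCompletion.map_of, hal]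
    exact theta_apply I α t a
  exact LinearMap.congr_fun hcomp x

end iso

section flat

variable {R : Type*} [CommRing R] [IsNoetherianRing R] (I : Ideal R) (α : Type*)

omit [IsNoetherianRing R] in
lemma mem_pow_smul_top_iff (n : ℕ) (x : AdicCompletion I R) :
    x ∈ (I ^ n • ⊤ : Submodule R (AdicCompletion I R)) ↔
      x ∈ ((I.map (algebraMap R (AdicCompletion I R))) ^ n • ⊤ :
        Submodule (AdicCompletion I R) (AdicCompletion I R)) := by
  rw [Ideal.smul_top_eq_map, Submodule.restrictScalars_mem, smul_eq_mul, Ideal.mul_top,
    Ideal.map_pow]

omit [IsNoetherianRing R] in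
lemma mem_decaying_iff_map (f : α → AdicCompletion I R) :
    f ∈ decaying I α (AdicCompletion I R) ↔
      f ∈ decaying (I.map (algebraMap R (AdicCompletion I R))) α (AdicCompletion I R) := by
  simp only [mem_decaying_iff, mem_pow_smul_top_iff]

/-- The module of decaying functions with values in the completion is flat over a Noetherian
ring. -/
theorem flat_decaying_completion {R : Type u_1} [CommRing R] [IsNoetherianRing R] (I : Ideal R)
    (α : Type*) : Module.Flat R (decaying I α (AdicCompletion I R)) := by
  have fg : I.FG := IsNoetherian.noetherian I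
  have : IsNoetherianRing (AdicCompletion I R) := Groth.Agent.S0543.result R I
  have : IsAdicComplete I (AdicCompletion I R) := AdicCompletion.isAdicComplete fg
  have : IsHausdorff (I.map (algebraMap R (AdicCompletion I R))) (AdicCompletion I R) :=
    IsHausdorff.map_algebraMap_iff.mpr inferInstance
  have h1 : Module.Flat (AdicCompletion I R)
      (decaying (I.map (algebraMap R (AdicCompletion I R))) α (AdicCompletion I R)) :=
    flat_decaying _ α
  have h2 : Module.Flat R
      (decaying (I.map (algebraMap R (AdicCompletion I R))) α (AdicCompletion I R)) :=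
    Module.Flat.trans R (AdicCompletion I R) _
  let e : decaying I α (AdicCompletion I R) ≃ₗ[R]
      decaying (I.map (algebraMap R (AdicCompletion I R))) α (AdicCompletion I R) :=
    { toFun := fun f => ⟨f.1, (mem_decaying_iff_map I α f.1).1 f.2⟩
      map_add' := fun f g => rfl
      map_smul' := fun a f => rfl
      invFun := fun f => ⟨f.1, (mem_decaying_iff_map I α f.1).2 f.2⟩
      left_inv := fun f => rfl
      right_inv := fun f => rfl }
  exact Module.Flat.of_linearEquiv e

end flat

end Groth.Agent.Lib.Helper24.DecayingCompl
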