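import Mathlib
import Groth.Prelude.Def_CAlg
import Groth.Agent.Lib.Helper24.DoubleAnn
import Groth.Agent.Lib.Helper24.Linkage2

universe u
set_option autoImplicit false
set_option linter.unusedSectionVars false
open LocCoh IsLocalRing

namespace Groth.Agent.Lib.Helper24.DegLink

open Groth.Agent.Lib.Helper24.DoubleAnn

section Duality

variable {A : Type u} [CommRing A] [LocCoh.IsGorensteinLocalRing A]

theorem annihilator_anti {I J : Ideal A} (h : I ≤ J) :
    (Submodule.annihilator J : Ideal A) ≤ (Submodule.annihilator I : Ideal A) :=
  Submodule.annihilator_mono h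

/-- the annihilator anti-isomorphism of the ideal lattice of a zero-dimensional Gorenstein local
ring, restricted to `[I, ⊤]`. -/
noncomputable def annIso (hdim : ringKrullDim A = 0) (I : Ideal A) :
    Set.Ici I ≃o (Set.Iic (Submodule.annihilator I : Ideal A))ᵒᵈ where
  toFun K := OrderDual.toDual ⟨(Submodule.annihilator K.1 : Ideal A), annihilator_anti K.2⟩
  invFun L := ⟨(Submodule.annihilator (OrderDual.ofDual L).1 : Ideal A), by
    have h := annihilator_anti (OrderDual.ofDual L).2
    rw [annihilator_annihilator_eq hdim] at h
    exact h⟩
  left_inv K := Subtype.ext (annihilator_annihilator_eq hdim K.1)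
  right_inv L := by
    apply OrderDual.ofDual.injective
    exact Subtype.ext (annihilator_annihilator_eq hdim (OrderDual.ofDual L).1)
  map_rel_iff' := by
    intro K K'
    constructor
    · intro h
      have h1 : (Submodule.annihilator K'.1 : Ideal A) ≤ (Submodule.annihilator K.1 : Ideal A) := h
      have h2 := annihilator_anti h1
      rw [annihilator_annihilator_eq hdim, annihilator_annihilator_eq hdim] at h2
      exact h2
    · intro h
      exact annihilator_anti (show K.1 ≤ K'.1 from h)

theorem length_quot_eq_length_annihilator (hdim : ringKrullDim A = 0) (I : Ideal A) :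
    Module.length A (A ⧸ I) = Module.length A ↥(Submodule.annihilator I : Ideal A) := by
  apply WithBot.coe_injective
  rw [Module.coe_length, Module.coe_length]
  rw [Order.krullDim_eq_of_orderIso (Submodule.comapMkQRelIso I),
    Order.krullDim_eq_of_orderIso (annIso hdim I), Order.krullDim_orderDual,
    Order.krullDim_eq_of_orderIso (Submodule.mapIic (Submodule.annihilator I : Ideal A))]

/-- `ℓ(I) = ℓ(A/Ann I)` -/
theorem length_eq_length_quot_annihilator (hdim : ringKrullDim A = 0) (I : Ideal A) :
    Module.length A ↥I = Module.length A (A ⧸ (Submodule.annihilator I : Ideal A)) := by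
  rw [length_quot_eq_length_annihilator hdim]
  exact (LinearEquiv.ofEq _ _ (annihilator_annihilator_eq hdim I)).symm.length_eq

/-- `ℓ(A/I) + ℓ(A/Ann I) = ℓ(A)` -/
theorem length_quot_add_length_quot_annihilator (hdim : ringKrullDim A = 0) (I : Ideal A) :
    Module.length A (A ⧸ I) + Module.length A (A ⧸ (Submodule.annihilator I : Ideal A)) =
      Module.length A A := by
  rw [← length_eq_length_quot_annihilator hdim, add_comm]
  exact (Module.length_eq_add_of_exact I.subtype I.mkQ Subtype.val_injective
    (Submodule.mkQ_surjective I) (LinearMap.exact_subtype_mkQ I)).symm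

end Duality

end Groth.Agent.Lib.Helper24.DegLink
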