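import Mathlib
import Groth.Prelude.Def_CAlg
import Groth.Agent.Lib.Helper85.GorLCI
import Groth.Agent.Lib.Helper94.CILoc

universe u
set_option autoImplicit false
open CategoryTheory LocCoh IsLocalRing RingTheory.Sequence

namespace Groth.Agent.Lib.Helper24.GorLink

open Groth.Agent.Lib.Helper85.GorRing Groth.Agent.Lib.Helper94.CILoc
  Groth.Agent.Lib.Helper94.CIDim

section CI

variable (K : Type u) [Field K] (m : ℕ)

theorem gorRing_mvPolynomial_field : LocCoh.IsGorensteinRing (MvPolynomial (Fin m) K) := by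
  haveI : LocCoh.IsGorensteinLocalRing K := gor_of_isField K (Field.toIsField K)
  haveI : LocCoh.IsGorensteinRing K := gorRing_of_gorLocal K
  haveI := gorRing_mvPolynomial K (ULift.{u} (Fin m))
  exact gorRing_of_ringEquiv
    (MvPolynomial.renameEquiv K (Equiv.ulift : ULift.{u} (Fin m) ≃ Fin m)).toRingEquiv

/-- dimension of a quotient of a polynomial ring by an ideal of height `c`. -/
theorem ringKrullDim_quot_of_height (c : ℕ) (𝔠 : Ideal (MvPolynomial (Fin m) K))
    (h𝔠c : 𝔠.height = c) :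
    c ≤ m ∧ ringKrullDim (MvPolynomial (Fin m) K ⧸ 𝔠) = ((m - c : ℕ) : WithBot ℕ∞) := by
  set φ : MvPolynomial (Fin m) K →ₐ[K] (MvPolynomial (Fin m) K ⧸ 𝔠) := Ideal.Quotient.mkₐ K 𝔠
    with hφdef
  have hφ : Function.Surjective φ := Ideal.Quotient.mkₐ_surjective K 𝔠
  have hne : 𝔠 ≠ ⊤ := by
    intro h
    rw [h, Ideal.height_top] at h𝔠c
    exact absurd h𝔠c (by simp)
  have hcm : c ≤ m := by
    have h1 := Ideal.height_le_ringKrullDim_of_ne_top hne
    rw [h𝔠c, Groth.Agent.Lib.Helper73.ringKrullDim_mvPolynomial_field] at h1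
    exact_mod_cast h1
  refine ⟨hcm, le_antisymm ?_ ?_⟩
  · apply ringKrullDim_le_of_minimalPrimes
    intro p₀ hp₀
    have hp₀p : p₀.IsPrime := hp₀.1.1
    have h1 := height_comap_add_ringKrullDim_quotient φ hφ p₀
    have hle : 𝔠 ≤ p₀.comap φ.toRingHom := by
      intro r hr
      rw [Ideal.mem_comap]
      have : φ.toRingHom r = 0 := Ideal.Quotient.eq_zero_iff_mem.mpr hr
      rw [this]; exact zero_mem _
    have h2 : (c : ℕ∞) ≤ (p₀.comap φ.toRingHom).height := h𝔠c ▸ Ideal.height_mono hle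
    have hP : (p₀.comap φ.toRingHom).IsPrime := Ideal.comap_isPrime _ _
    obtain ⟨a, ha⟩ := ENat.ne_top_iff_exists.mp
      (Ideal.height_ne_top (I := p₀.comap φ.toRingHom) hP.ne_top)
    have : IsNoetherianRing (MvPolynomial (Fin m) K ⧸ 𝔠) := inferInstance
    obtain ⟨e, he⟩ := Groth.Agent.Lib.Helper73.exists_nat_ringKrullDim_eq K
      ((MvPolynomial (Fin m) K ⧸ 𝔠) ⧸ p₀)
    rw [← ha, he] at h1
    rw [← ha] at h2
    rw [he]
    have h3 : (a + e : ℕ) = m := by exact_mod_cast h1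
    have h4 : c ≤ a := by exact_mod_cast h2
    have : e ≤ m - c := by omega
    exact_mod_cast this
  · obtain ⟨P₀, hP₀p, h𝔠P₀, hP₀c⟩ := Ideal.exists_isPrime_height_eq h𝔠c
    have hp₀ : (P₀.map (Ideal.Quotient.mk 𝔠)).IsPrime :=
      Ideal.map_isPrime_of_surjective Ideal.Quotient.mk_surjective (by simpa using h𝔠P₀)
    have hcomap : (P₀.map (Ideal.Quotient.mk 𝔠)).comap φ.toRingHom = P₀ := by
      show (P₀.map (Ideal.Quotient.mk 𝔠)).comap (Ideal.Quotient.mk 𝔠) = P₀
      rw [Ideal.comap_map_of_surjective' _ Ideal.Quotient.mk_surjective, Ideal.mk_ker,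
        sup_eq_left.mpr h𝔠P₀]
    have h1 := height_comap_add_ringKrullDim_quotient φ hφ (P₀.map (Ideal.Quotient.mk 𝔠))
    rw [hcomap, hP₀c] at h1
    obtain ⟨e, he⟩ := Groth.Agent.Lib.Helper73.exists_nat_ringKrullDim_eq K
      ((MvPolynomial (Fin m) K ⧸ 𝔠) ⧸ (P₀.map (Ideal.Quotient.mk 𝔠)))
    rw [he] at h1
    have h3 : (c + e : ℕ) = m := by exact_mod_cast h1
    have h4 : ringKrullDim ((MvPolynomial (Fin m) K ⧸ 𝔠) ⧸ (P₀.map (Ideal.Quotient.mk 𝔠))) ≤
        ringKrullDim (MvPolynomial (Fin m) K ⧸ 𝔠) :=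
      ringKrullDim_le_of_surjective (Ideal.Quotient.mk _) Ideal.Quotient.mk_surjective
    rw [he] at h4
    refine le_trans ?_ h4
    have : m - c = e := by omega
    rw [this]

/-- A complete intersection in a polynomial ring over a field is Gorenstein. -/
theorem gorRing_quot_span_range (c : ℕ) (g : Fin c → MvPolynomial (Fin m) K)
    (h𝔠c : (Ideal.span (Set.range g)).height = c) :
    LocCoh.IsGorensteinRing (MvPolynomial (Fin m) K ⧸ Ideal.span (Set.range g)) := by
  set 𝔠 := Ideal.span (Set.range g) with h𝔠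
  set φ : MvPolynomial (Fin m) K →ₐ[K] (MvPolynomial (Fin m) K ⧸ 𝔠) := Ideal.Quotient.mkₐ K 𝔠
    with hφdef
  have hφ : Function.Surjective φ := Ideal.Quotient.mkₐ_surjective K 𝔠
  have hker : RingHom.ker φ.toRingHom = Ideal.span (Set.range g) := by
    rw [← h𝔠]
    exact Ideal.Quotient.mkₐ_ker K 𝔠
  obtain ⟨hcm, hdimS⟩ := ringKrullDim_quot_of_height K m c 𝔠 h𝔠c
  haveI := gorRing_mvPolynomial_field K m
  refine { isGorensteinLocalRing_localization := fun q _ => ?_ }
  haveI : LocCoh.IsGorensteinLocalRing (Localization.AtPrime (q.comap φ.toRingHom)) :=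
    LocCoh.IsGorensteinRing.isGorensteinLocalRing_localization _
  obtain ⟨rs, hreg, hspan⟩ := isRegularIdeal_map_ker_of_gci φ hφ c g hker hcm hdimS q
  have hm : ∀ x ∈ rs, x ∈ maximalIdeal (Localization.AtPrime (q.comap φ.toRingHom)) := by
    intro x hx
    apply map_ker_le_maximalIdeal φ.toRingHom hφ _ q rfl
    rw [← hspan]
    exact Ideal.subset_span hx
  have h1 : LocCoh.IsGorensteinLocalRing
      (Localization.AtPrime (q.comap φ.toRingHom) ⧸ Ideal.ofList rs) :=
    Groth.Agent.Lib.Helper85.GorLCI.gor_of_regularSeq_aux rs.length _ _ rs rfl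
      hreg.toIsWeaklyRegular hm (Ideal.Quotient.mk _) Ideal.Quotient.mk_surjective Ideal.mk_ker
  exact gor_of_ringEquiv ((Ideal.quotEquivOfEq hspan).trans
    (quotientEquivLocalization φ.toRingHom hφ (q.comap φ.toRingHom) q rfl))

end CI

end Groth.Agent.Lib.Helper24.GorLink
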