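import Mathlib
import Groth.Prelude.Def_CAlg
import Groth.Agent.Lib.Helper24.DoubleAnn
import Groth.Agent.Lib.Helper24.Linkage2
import Groth.Agent.Lib.Helper85.GorLCI

universe u
set_option autoImplicit false
open CategoryTheory LocCoh IsLocalRing RingTheory.Sequence

namespace Groth.Agent.Lib.Helper24.GorLink

section SelfInj

variable {A : Type u} [CommRing A]

/-- If `A` is self-injective and `0 : (0 : x) = xA`, then `A/(0 : x)` is self-injective. -/
theorem injective_quot_annihilator [Module.Injective A A] (x : A) (K : Ideal A)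
    (hK : K = Submodule.annihilator (Ideal.span {x}))
    (hdd : ∀ a : A, (∀ k ∈ K, k * a = 0) → ∃ a', a = a' * x) :
    Module.Injective (A ⧸ K) (A ⧸ K) := by
  apply Module.Baer.injective
  intro 𝔟 φ
  let μ : (A ⧸ K) →ₗ[A] A := Submodule.liftQ K (LinearMap.toSpanSingleton A A x) (by
    intro k hk
    rw [LinearMap.mem_ker, LinearMap.toSpanSingleton_apply]
    rw [hK, Submodule.mem_annihilator_span_singleton] at hk
    exact hk)
  have hμmk : ∀ r : A, μ (Ideal.Quotient.mk K r) = r * x := by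
    intro r
    show Submodule.liftQ K _ _ (Submodule.Quotient.mk r) = _
    rw [Submodule.liftQ_apply, LinearMap.toSpanSingleton_apply, smul_eq_mul]
  have hμinj : Function.Injective μ := by
    rw [← LinearMap.ker_eq_bot, LinearMap.ker_eq_bot']
    intro c hc
    obtain ⟨r, rfl⟩ := Ideal.Quotient.mk_surjective c
    rw [hμmk] at hc
    rw [Ideal.Quotient.eq_zero_iff_mem, hK, Submodule.mem_annihilator_span_singleton, smul_eq_mul]
    exact hc
  let 𝔟₀ : Ideal A := 𝔟.comap (Ideal.Quotient.mk K)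
  let ψ₀ : 𝔟₀ →ₗ[A] A :=
    { toFun := fun b => μ (φ ⟨Ideal.Quotient.mk K b.1, b.2⟩)
      map_add' := by
        intro b b'
        rw [← map_add, ← map_add]
        congr 2
      map_smul' := by
        intro r b
        rw [RingHom.id_apply, ← map_smul]
        congr 1
        have : (⟨Ideal.Quotient.mk K (r • b : 𝔟₀).1, (r • b : 𝔟₀).2⟩ : 𝔟) =
            (Ideal.Quotient.mk K r) • (⟨Ideal.Quotient.mk K b.1, b.2⟩ : 𝔟) := by
          apply Subtype.ext
          simp
        rw [this, map_smul, smul_eq_mul, Algebra.smul_def]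
        rfl }
  obtain ⟨Ψ, hΨ⟩ := Module.Baer.of_injective (inferInstance : Module.Injective A A) 𝔟₀ ψ₀
  have hΨa : ∀ b : A, Ψ b = b * Ψ 1 := by
    intro b
    rw [← smul_eq_mul, ← map_smul, smul_eq_mul, mul_one]
  obtain ⟨a', ha'⟩ := hdd (Ψ 1) (by
    intro k hk
    have hk0 : Ideal.Quotient.mk K k = 0 := Ideal.Quotient.eq_zero_iff_mem.mpr hk
    have hk𝔟 : k ∈ 𝔟₀ := by
      show Ideal.Quotient.mk K k ∈ 𝔟
      rw [hk0]; exact zero_mem _
    rw [← hΨa, hΨ k hk𝔟]
    show μ (φ ⟨Ideal.Quotient.mk K k, _⟩) = 0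
    have : (⟨Ideal.Quotient.mk K k, hk𝔟⟩ : 𝔟) = 0 := Subtype.ext hk0
    rw [this, map_zero, map_zero])
  refine ⟨LinearMap.toSpanSingleton (A ⧸ K) (A ⧸ K) (Ideal.Quotient.mk K a'), ?_⟩
  intro c hc
  obtain ⟨b, rfl⟩ := Ideal.Quotient.mk_surjective c
  apply hμinj
  rw [LinearMap.toSpanSingleton_apply, smul_eq_mul, ← map_mul, hμmk]
  have hb : b ∈ 𝔟₀ := hc
  have := hΨ b hb
  rw [hΨa, ha'] at this
  rw [mul_assoc, this]
  rfl

end SelfInj


section Lift

open Groth.Agent.Lib.Helper85.GorRing

/-- Gorenstein-ness lifts along quotients by regular sequences. -/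
theorem gor_of_quot_regularSeq_aux (n : ℕ) : ∀ (R R' : Type u) [CommRing R] [CommRing R']
    [IsLocalRing R] [IsNoetherianRing R] (rs : List R), rs.length = n → IsWeaklyRegular R rs →
    (∀ x ∈ rs, x ∈ maximalIdeal R) → ∀ (π : R →+* R'), Function.Surjective π →
    RingHom.ker π = Ideal.ofList rs → LocCoh.IsGorensteinLocalRing R' →
    LocCoh.IsGorensteinLocalRing R := by
  induction n with
  | zero =>
    intro R R' _ _ _ _ rs hlen _ _ π hπ hker hG
    obtain rfl := List.length_eq_zero_iff.mp hlen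
    rw [Ideal.ofList_nil] at hker
    have hinj : Function.Injective π := (RingHom.injective_iff_ker_eq_bot π).mpr hker
    exact gor_of_ringEquiv (RingEquiv.ofBijective π ⟨hinj, hπ⟩).symm
  | succ n ih =>
    intro R R' _ _ _ _ rs hlen hreg hm π hπ hker hG
    obtain ⟨x, rs', rfl⟩ := List.exists_cons_of_length_eq_add_one hlen
    rw [Groth.Agent.Lib.Helper94.RegCancel.isWeaklyRegular_cons_iff_quotient] at hreg
    have hxm : x ∈ maximalIdeal R := hm x (List.mem_cons_self)
    have : IsLocalRing (R ⧸ Ideal.span {x}) :=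
      Groth.Agent.Lib.Helper85.GorFlat.isLocalRing_quot _
        ((Ideal.span_singleton_le_iff_mem _).mpr hxm)
    have hxker : Ideal.span {x} ≤ RingHom.ker π := by
      rw [hker, Ideal.ofList_cons]
      exact le_sup_left
    have h1 : LocCoh.IsGorensteinLocalRing (R ⧸ Ideal.span {x}) := by
      refine ih (R ⧸ Ideal.span {x}) R' (rs'.map (Ideal.Quotient.mk (Ideal.span {x}))) ?_ hreg.2 ?_
        (Ideal.Quotient.lift (Ideal.span {x}) π hxker) ?_ ?_ hG
      · rw [List.length_map]
        simpa using hlen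
      · intro y hy
        obtain ⟨z, hz, rfl⟩ := List.mem_map.mp hy
        exact (Groth.Agent.Lib.Helper85.GorFlat.mk_mem_maximalIdeal_iff (Ideal.span {x})
          ((Ideal.span_singleton_le_iff_mem _).mpr hxm) z).mpr (hm z (List.mem_cons_of_mem _ hz))
      · exact Ideal.Quotient.lift_surjective_of_surjective _ _ hπ
      · rw [Ideal.ker_quotient_lift, hker, Ideal.ofList_cons, Ideal.map_sup, Ideal.map_ofList,
          Ideal.map_span, Set.image_singleton, Ideal.Quotient.eq_zero_iff_mem.mpr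
            (Ideal.mem_span_singleton_self x)]
        simp
    exact (Groth.Agent.Lib.Helper85.GorFlat.gorenstein_quot_iff x hxm hreg.1 _ rfl).mp h1

end Lift


section Core

open Groth.Agent.Lib.Helper24.Linkage Groth.Agent.Lib.Helper24.Linkage2
  Groth.Agent.Lib.Helper24.DoubleAnn Groth.Agent.Lib.Helper85.GorRing

/-- A self-injective noetherian local ring is Gorenstein. -/
theorem gor_of_injective (C : Type u) [CommRing C] [IsLocalRing C] [IsNoetherianRing C]
    [Module.Injective C C] : LocCoh.IsGorensteinLocalRing C :=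
  { exists_hasInjectiveDimensionLT := ⟨1, by
      have : Injective (ModuleCat.of C C) :=
        (Module.injective_iff_injective_object C C).mp inferInstance
      exact injective_iff_hasInjectiveDimensionLT_one.mp this⟩ }

/-- **Core**: `A` Gorenstein local, `A/xA` CM of full dimension, `x ≠ 0`; then `A/(0 : x)` is
Gorenstein. -/
theorem gor_quot_annihilator (A : Type u) [CommRing A] [LocCoh.IsGorensteinLocalRing A] (x : A)
    [LocCoh.IsCohenMacaulayLocalRing (A ⧸ Ideal.span {x})]
    (hdim : ringKrullDim (A ⧸ Ideal.span {x}) = ringKrullDim A)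
    (hne : (Submodule.annihilator (Ideal.span {x}) : Ideal A) ≠ ⊤) :
    LocCoh.IsGorensteinLocalRing (A ⧸ (Submodule.annihilator (Ideal.span {x}) : Ideal A)) := by
  set I : Ideal A := Ideal.span {x} with hI
  set K : Ideal A := Submodule.annihilator I with hK
  have hExt : ExtVanish I A := extVanish_of_gorenstein A I hdim
  obtain ⟨d, hdimA, hdepth, -⟩ := Groth.Agent.Lib.Helper4.GorCM.gorenstein_dim A
  obtain ⟨xs, hlen, hreg, hm⟩ := Groth.Agent.Lib.Helper67.exists_isRegular_of_le_depth
    (R := A) (M := A) d (by rw [hdepth])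
  have hregK : IsWeaklyRegular (A ⧸ K) xs :=
    isWeaklyRegular_quot_annihilator hExt xs hreg.toIsWeaklyRegular
  have hcol := (annihilator_colon xs hreg.toIsWeaklyRegular hExt).1
  have hKm : K ≤ maximalIdeal A := IsLocalRing.le_maximalIdeal hne
  have hxsm : Ideal.ofList xs ≤ maximalIdeal A := by
    rw [Ideal.ofList, Ideal.span_le]
    intro y hy
    exact hm y hy
  -- the Artinian Gorenstein quotient
  have hA'loc : IsLocalRing (A ⧸ Ideal.ofList xs) :=
    Groth.Agent.Lib.Helper85.GorFlat.isLocalRing_quot _ hxsm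
  have hA'gor : LocCoh.IsGorensteinLocalRing (A ⧸ Ideal.ofList xs) :=
    Groth.Agent.Lib.Helper85.GorLCI.gor_of_regularSeq_aux d A (A ⧸ Ideal.ofList xs) xs hlen
      hreg.toIsWeaklyRegular hm (Ideal.Quotient.mk _) Ideal.Quotient.mk_surjective Ideal.mk_ker
  have hA'dim : ringKrullDim (A ⧸ Ideal.ofList xs) = 0 := by
    have h1 := ringKrullDim_add_length_eq_ringKrullDim_of_isRegular xs hreg
    rw [hlen, hdimA] at h1
    obtain ⟨e', he'⟩ := Groth.Agent.Lib.Helper77.FlatDepth.exists_nat_dim (A ⧸ Ideal.ofList xs)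
    rw [he'] at h1 ⊢
    have : (e' + d : ℕ) = d := by exact_mod_cast h1
    have : e' = 0 := by omega
    rw [this]; rfl
  set x' : A ⧸ Ideal.ofList xs := Ideal.Quotient.mk _ x with hx'
  set K' : Ideal (A ⧸ Ideal.ofList xs) := Submodule.annihilator (Ideal.span {x'}) with hK'
  have hinjA' : Module.Injective (A ⧸ Ideal.ofList xs) (A ⧸ Ideal.ofList xs) :=
    injective_of_gorenstein hA'dim
  have hdd : ∀ a : A ⧸ Ideal.ofList xs, (∀ k ∈ K', k * a = 0) → ∃ a', a = a' * x' := by
    intro a ha
    have h1 : a ∈ (Submodule.annihilator K' : Ideal (A ⧸ Ideal.ofList xs)) := by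
      rw [Submodule.mem_annihilator]
      intro k hk
      rw [smul_eq_mul, mul_comm]
      exact ha k hk
    rw [hK', annihilator_annihilator_eq hA'dim, Ideal.mem_span_singleton'] at h1
    obtain ⟨a', ha'⟩ := h1
    exact ⟨a', ha'.symm⟩
  have hCinj : Module.Injective ((A ⧸ Ideal.ofList xs) ⧸ K') ((A ⧸ Ideal.ofList xs) ⧸ K') :=
    injective_quot_annihilator x' K' rfl hdd
  -- `K'` pulls back to `(xs) : I = K + (xs)`
  have hK'mem : ∀ a : A, Ideal.Quotient.mk (Ideal.ofList xs) a ∈ K' ↔
      a ∈ K ⊔ Ideal.ofList xs := by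
    intro a
    rw [hcol, hK', Submodule.mem_annihilator_span_singleton, hx', smul_eq_mul, ← map_mul,
      Ideal.Quotient.eq_zero_iff_mem, Submodule.mem_colon]
    constructor
    · intro h i hi
      rw [SetLike.mem_coe, hI, Ideal.mem_span_singleton'] at hi
      obtain ⟨b, rfl⟩ := hi
      rw [smul_eq_mul]
      have := Ideal.mul_mem_left (Ideal.ofList xs) b h
      convert this using 1
      ring
    · intro h
      have := h x (by rw [SetLike.mem_coe, hI]; exact Ideal.mem_span_singleton_self x)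
      rwa [smul_eq_mul] at this
  have hK'ne : K' ≠ ⊤ := by
    intro htop
    have h1 : Ideal.Quotient.mk (Ideal.ofList xs) 1 ∈ K' := by rw [htop]; trivial
    rw [hK'mem] at h1
    exact (IsLocalRing.maximalIdeal.isMaximal A).ne_top
      ((Ideal.eq_top_iff_one _).mpr (sup_le hKm hxsm h1))
  have hC'loc : IsLocalRing ((A ⧸ Ideal.ofList xs) ⧸ K') :=
    Groth.Agent.Lib.Helper85.GorFlat.isLocalRing_quot _ (IsLocalRing.le_maximalIdeal hK'ne)
  have hC'gor : LocCoh.IsGorensteinLocalRing ((A ⧸ Ideal.ofList xs) ⧸ K') := gor_of_injective _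
  -- the comparison map
  have hCloc : IsLocalRing (A ⧸ K) := Groth.Agent.Lib.Helper85.GorFlat.isLocalRing_quot _ hKm
  have hle : K ≤ RingHom.ker ((Ideal.Quotient.mk K').comp (Ideal.Quotient.mk (Ideal.ofList xs))) := by
    intro k hk
    rw [RingHom.mem_ker, RingHom.comp_apply, Ideal.Quotient.eq_zero_iff_mem, hK'mem]
    exact Ideal.mem_sup_left hk
  let π : (A ⧸ K) →+* ((A ⧸ Ideal.ofList xs) ⧸ K') :=
    Ideal.Quotient.lift K ((Ideal.Quotient.mk K').comp (Ideal.Quotient.mk (Ideal.ofList xs))) hle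
  have hπsurj : Function.Surjective π := by
    apply Ideal.Quotient.lift_surjective_of_surjective
    exact Ideal.Quotient.mk_surjective.comp Ideal.Quotient.mk_surjective
  have hπker : RingHom.ker π = Ideal.ofList (xs.map (Ideal.Quotient.mk K)) := by
    rw [← Ideal.map_ofList]
    ext c
    obtain ⟨a, rfl⟩ := Ideal.Quotient.mk_surjective c
    rw [RingHom.mem_ker]
    show (Ideal.Quotient.mk K') (Ideal.Quotient.mk (Ideal.ofList xs) a) = 0 ↔ _
    rw [Ideal.Quotient.eq_zero_iff_mem, hK'mem,
      Ideal.mem_map_iff_of_surjective _ Ideal.Quotient.mk_surjective]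
    constructor
    · intro h
      obtain ⟨k, hk, y, hy, rfl⟩ := Submodule.mem_sup.mp h
      refine ⟨y, hy, ?_⟩
      rw [map_add, Ideal.Quotient.eq_zero_iff_mem.mpr hk, zero_add]
    · rintro ⟨y, hy, hya⟩
      rw [Ideal.Quotient.eq] at hya
      have : a = y - (y - a) := by ring
      rw [this]
      exact Ideal.sub_mem _ (Ideal.mem_sup_right hy) (Ideal.mem_sup_left hya)
  have hregK' : IsWeaklyRegular (A ⧸ K) (xs.map (Ideal.Quotient.mk K)) := by
    have := (isWeaklyRegular_map_algebraMap_iff (R := A) (S := A ⧸ K) (M := A ⧸ K) xs).mpr hregK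
    exact this
  refine gor_of_quot_regularSeq_aux d (A ⧸ K) _ (xs.map (Ideal.Quotient.mk K)) ?_ hregK' ?_
    π hπsurj hπker hC'gor
  · rw [List.length_map, hlen]
  · intro y hy
    obtain ⟨z, hz, rfl⟩ := List.mem_map.mp hy
    exact (Groth.Agent.Lib.Helper85.GorFlat.mk_mem_maximalIdeal_iff K hKm z).mpr (hm z hz)

end Core

end Groth.Agent.Lib.Helper24.GorLink
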