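import Mathlib
import Groth.Agent.Lib.Helper24.GorLink
import Groth.Agent.Lib.Helper24.GorCI
import Groth.Agent.Lib.Helper24.GrUnmixed2

universe u
set_option autoImplicit false
open CategoryTheory LocCoh IsLocalRing RingTheory.Sequence

namespace Groth.Agent.Lib.Helper24.GorLink

open Groth.Agent.Lib.Helper85.GorRing Groth.Agent.Lib.Helper24.GrUnmixed
  Groth.Agent.Lib.Helper24.Linkage2

section Dim

variable (K : Type u) [Field K] (n : ℕ)

/-- For homogeneous `𝔞` of height `c` with `R/𝔞` CM and a prime `Q ⊇ 𝔞`: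
`c + dim (R/𝔞)_Q = ht Q`. -/
theorem add_ringKrullDim_localization_eq_height (c : ℕ)
    (𝔞 : Ideal (MvPolynomial (Fin (n + 1)) K))
    (h𝔞 : 𝔞.IsHomogeneous (GrSyz.stdGr K (Fin (n + 1))))
    [hCM : LocCoh.IsCohenMacaulayRing (MvPolynomial (Fin (n + 1)) K ⧸ 𝔞)] (h𝔞c : 𝔞.height = c)
    (Q : Ideal (MvPolynomial (Fin (n + 1)) K)) [hQ : Q.IsPrime] (h𝔞Q : 𝔞 ≤ Q)
    [hMp : (Q.map (Ideal.Quotient.mk 𝔞)).IsPrime] :
    ((c : ℕ∞) : WithBot ℕ∞) + ringKrullDim (Localization.AtPrime (Q.map (Ideal.Quotient.mk 𝔞))) =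
      (Q.height : WithBot ℕ∞) := by
  obtain ⟨P, hPmin, hPQ⟩ := Ideal.exists_minimalPrimes_le h𝔞Q
  obtain ⟨P₀, hP₀p, h𝔞P₀, hP₀h⟩ := Ideal.exists_isPrime_height_eq h𝔞c
  have hP₀min : P₀ ∈ 𝔞.minimalPrimes :=
    Ideal.mem_minimalPrimes_of_height_le h𝔞P₀ (by rw [hP₀h, h𝔞c])
  have hPh : P.height = c := by
    rw [height_eq_of_mem_minimalPrimes K n 𝔞 h𝔞 hPmin hP₀min, hP₀h]
  have hCMloc : LocCoh.IsCohenMacaulayLocalRing
      (Localization.AtPrime (Q.map (Ideal.Quotient.mk 𝔞))) :=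
    hCM.isCohenMacaulayLocalRing_localization _
  have key := height_add_ringKrullDim_localization_prime K 𝔞 Q P hPmin hPQ
  rw [hPh] at key
  exact key

end Dim


section Abstract

/-- `B` Gorenstein ring, `B/(fb)` a CM ring of the same local dimensions: then `B/(0 : fb)` is a
Gorenstein ring. -/
theorem gorRing_quot_annihilator (B : Type u) [CommRing B] [hG : LocCoh.IsGorensteinRing B]
    (fb : B) (Ib : Ideal B) (hIb : Ib = Ideal.span {fb})
    (hCM : LocCoh.IsCohenMacaulayRing (B ⧸ Ib))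
    (hdim : ∀ (Qb : Ideal B) [Qb.IsPrime], Ib ≤ Qb → ∀ (qI : Ideal (B ⧸ Ib)) [qI.IsPrime],
      qI.comap (Ideal.Quotient.mk Ib) = Qb → qI.height = Qb.height) :
    LocCoh.IsGorensteinRing (B ⧸ (Submodule.annihilator Ib : Ideal B)) := by
  subst hIb
  refine { isGorensteinLocalRing_localization := ?_ }
  intro q' _
  let Jb : Ideal B := Submodule.annihilator (Ideal.span {fb})
  let Qb : Ideal B := q'.comap (Ideal.Quotient.mk Jb)
  have hQbprime : Qb.IsPrime := Ideal.comap_isPrime _ _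
  let A := Localization.AtPrime Qb
  have hGA : LocCoh.IsGorensteinLocalRing A := hG.isGorensteinLocalRing_localization Qb
  let e := locQuotEquiv B Jb Qb q' rfl
  let x : A := algebraMap B A fb
  have hmap : (Ideal.span {fb}).map (algebraMap B A) = Ideal.span {x} := by
    rw [Ideal.map_span, Set.image_singleton]
  have hann : (Submodule.annihilator (Ideal.span {x}) : Ideal A) = Jb.map (algebraMap B A) := by
    rw [← hmap, annihilator_map_eq Qb.primeCompl A (Ideal.span {fb}) ⟨{fb}, by simp⟩]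
  have hJtop : Jb.map (algebraMap B A) ≠ ⊤ := by
    intro h
    have h1 : Subsingleton (A ⧸ Jb.map (algebraMap B A)) := by
      rw [h]; exact Ideal.Quotient.subsingleton_iff.mpr rfl
    have h2 : Subsingleton (Localization.AtPrime q') := e.toEquiv.subsingleton
    exact not_subsingleton _ h2
  suffices h : LocCoh.IsGorensteinLocalRing (A ⧸ Jb.map (algebraMap B A)) from
    gor_of_ringEquiv e.symm
  by_cases hfQ : fb ∈ Qb
  · have hIQ : Ideal.span {fb} ≤ Qb := (Ideal.span_singleton_le_iff_mem _).mpr hfQ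
    have hqI : (Qb.map (Ideal.Quotient.mk (Ideal.span {fb}))).IsPrime :=
      Ideal.isPrime_map_quotientMk_of_isPrime hIQ
    have hcomap : (Qb.map (Ideal.Quotient.mk (Ideal.span {fb}))).comap
        (Ideal.Quotient.mk (Ideal.span {fb})) = Qb := by
      rw [Ideal.comap_map_of_surjective' _ Ideal.Quotient.mk_surjective, Ideal.mk_ker,
        sup_eq_left.mpr hIQ]
    let eI := locQuotEquiv B (Ideal.span {fb}) Qb (Qb.map (Ideal.Quotient.mk (Ideal.span {fb})))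
      hcomap
    have hCMI : LocCoh.IsCohenMacaulayLocalRing
        (A ⧸ (Ideal.span {fb}).map (algebraMap B A)) :=
      Groth.Agent.Lib.Helper56.isCohenMacaulayLocalRing_of_ringEquiv eI
        (hCM.isCohenMacaulayLocalRing_localization _)
    have hdimI : ringKrullDim (A ⧸ (Ideal.span {fb}).map (algebraMap B A)) = ringKrullDim A := by
      rw [← ringKrullDim_eq_of_ringEquiv eI,
        IsLocalization.AtPrime.ringKrullDim_eq_height
          (Qb.map (Ideal.Quotient.mk (Ideal.span {fb})))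
          (Localization.AtPrime (Qb.map (Ideal.Quotient.mk (Ideal.span {fb})))),
        IsLocalization.AtPrime.ringKrullDim_eq_height Qb A,
        hdim Qb hIQ (Qb.map (Ideal.Quotient.mk (Ideal.span {fb}))) hcomap]
    rw [hmap] at hCMI hdimI
    have := gor_quot_annihilator A x hdimI (by rw [hann]; exact hJtop)
    rw [hann] at this
    exact this
  · have hxunit : IsUnit x := IsLocalization.map_units A (⟨fb, hfQ⟩ : Qb.primeCompl)
    have hJbot : Jb.map (algebraMap B A) = ⊥ := by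
      rw [← hann, eq_bot_iff]
      intro y hy
      rw [Submodule.mem_annihilator_span_singleton, smul_eq_mul] at hy
      rw [Submodule.mem_bot]
      exact (hxunit.mul_left_eq_zero).mp hy
    rw [hJbot]
    exact gor_of_ringEquiv (RingEquiv.quotientBot A).symm

end Abstract


section Gen

theorem height_map_ringEquiv {R S : Type*} [CommRing R] [CommRing S] (e : R ≃+* S)
    (I : Ideal R) : (I.map (e : R →+* S)).height = I.height :=
  RingEquiv.height_map e I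

theorem height_eq_of_add_eq {R : Type u} [CommRing R] [IsNoetherianRing R] (c : ℕ)
    (𝔠 I Q : Ideal R) [hQp : Q.IsPrime] (h𝔠I : 𝔠 ≤ I)
    [hMp1 : (Q.map (Ideal.Quotient.mk 𝔠)).IsPrime] [hMp2 : (Q.map (Ideal.Quotient.mk I)).IsPrime]
    (h1 : ((c : ℕ∞) : WithBot ℕ∞) +
      ringKrullDim (Localization.AtPrime (Q.map (Ideal.Quotient.mk 𝔠))) = (Q.height : WithBot ℕ∞))
    (h2 : ((c : ℕ∞) : WithBot ℕ∞) +
      ringKrullDim (Localization.AtPrime (Q.map (Ideal.Quotient.mk I))) = (Q.height : WithBot ℕ∞))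
    (qI : Ideal ((R ⧸ 𝔠) ⧸ I.map (Ideal.Quotient.mk 𝔠))) [hqIp : qI.IsPrime]
    (hq : qI.comap (Ideal.Quotient.mk (I.map (Ideal.Quotient.mk 𝔠))) =
      Q.map (Ideal.Quotient.mk 𝔠)) :
    qI.height = (Q.map (Ideal.Quotient.mk 𝔠)).height := by
  rw [IsLocalization.AtPrime.ringKrullDim_eq_height (Q.map (Ideal.Quotient.mk 𝔠))
    (Localization.AtPrime (Q.map (Ideal.Quotient.mk 𝔠)))] at h1
  rw [IsLocalization.AtPrime.ringKrullDim_eq_height (Q.map (Ideal.Quotient.mk I))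
    (Localization.AtPrime (Q.map (Ideal.Quotient.mk I)))] at h2
  let e : ((R ⧸ 𝔠) ⧸ I.map (Ideal.Quotient.mk 𝔠)) ≃+* R ⧸ I :=
    DoubleQuot.quotQuotEquivQuotOfLE h𝔠I
  have hqI : qI = (Q.map (Ideal.Quotient.mk 𝔠)).map (Ideal.Quotient.mk _) := by
    rw [← hq, Ideal.map_comap_of_surjective _ Ideal.Quotient.mk_surjective]
  have hqe : qI.map (e : _ →+* R ⧸ I) = Q.map (Ideal.Quotient.mk I) := by
    rw [hqI, Ideal.map_map, Ideal.map_map]
    congr 1
  have hht : (Q.map (Ideal.Quotient.mk I)).height = qI.height := by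
    rw [← hqe]
    exact height_map_ringEquiv e qI
  rw [hht] at h2
  obtain ⟨a, ha⟩ := ENat.ne_top_iff_exists.mp
    (Ideal.height_ne_top (I := Q.map (Ideal.Quotient.mk 𝔠)) hMp1.ne_top)
  obtain ⟨b, hb⟩ := ENat.ne_top_iff_exists.mp (Ideal.height_ne_top (I := qI) hqIp.ne_top)
  obtain ⟨d, hd⟩ := ENat.ne_top_iff_exists.mp (Ideal.height_ne_top (I := Q) hQp.ne_top)
  rw [← ha, ← hd] at h1
  rw [← hb, ← hd] at h2
  rw [← ha, ← hb]
  have h3 : (c + a : ℕ) = d := by exact_mod_cast h1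
  have h4 : (c + b : ℕ) = d := by exact_mod_cast h2
  have : b = a := by omega
  rw [this]

end Gen


section Concrete

variable (K : Type u) [Field K] (n : ℕ)

theorem gorRing_quot_colon_aux (c : ℕ) (𝔠 I : Ideal (MvPolynomial (Fin (n + 1)) K))
    (f : MvPolynomial (Fin (n + 1)) K)
    (h𝔠 : 𝔠.IsHomogeneous (GrSyz.stdGr K (Fin (n + 1))))
    (hI : I.IsHomogeneous (GrSyz.stdGr K (Fin (n + 1))))
    [hG : LocCoh.IsGorensteinRing (MvPolynomial (Fin (n + 1)) K ⧸ 𝔠)]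
    [hCMI : LocCoh.IsCohenMacaulayRing (MvPolynomial (Fin (n + 1)) K ⧸ I)]
    (h𝔠c : 𝔠.height = c) (hIc : I.height = c) (h𝔠I : 𝔠 ≤ I)
    (hIf : I = 𝔠 ⊔ Ideal.span {f}) :
    LocCoh.IsGorensteinRing ((MvPolynomial (Fin (n + 1)) K ⧸ 𝔠) ⧸
      (Submodule.annihilator (I.map (Ideal.Quotient.mk 𝔠)) :
        Ideal (MvPolynomial (Fin (n + 1)) K ⧸ 𝔠))) := by
  have hCM𝔠 : LocCoh.IsCohenMacaulayRing (MvPolynomial (Fin (n + 1)) K ⧸ 𝔠) :=
    isCohenMacaulayRing_of_isGorensteinRing _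
  have hIb : I.map (Ideal.Quotient.mk 𝔠) = Ideal.span {Ideal.Quotient.mk 𝔠 f} := by
    conv_lhs => rw [hIf]
    rw [Ideal.map_sup, Ideal.map_quotient_self, bot_sup_eq, Ideal.map_span, Set.image_singleton]
  have hCMb : LocCoh.IsCohenMacaulayRing
      ((MvPolynomial (Fin (n + 1)) K ⧸ 𝔠) ⧸ I.map (Ideal.Quotient.mk 𝔠)) :=
    Groth.Agent.Lib.Helper56.isCohenMacaulayRing_of_ringEquiv
      (DoubleQuot.quotQuotEquivQuotOfLE h𝔠I).symm hCMI
  refine gorRing_quot_annihilator (MvPolynomial (Fin (n + 1)) K ⧸ 𝔠)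
    (Ideal.Quotient.mk 𝔠 f) (I.map (Ideal.Quotient.mk 𝔠)) hIb hCMb ?_
  intro Qb hQbp hle qI hqIp hq
  have hQp : (Qb.comap (Ideal.Quotient.mk 𝔠)).IsPrime := Ideal.comap_isPrime _ _
  have h𝔠Q : 𝔠 ≤ Qb.comap (Ideal.Quotient.mk 𝔠) := by
    intro r hr
    rw [Ideal.mem_comap, Ideal.Quotient.eq_zero_iff_mem.mpr hr]
    exact zero_mem _
  have hIQ : I ≤ Qb.comap (Ideal.Quotient.mk 𝔠) := by
    rw [← Ideal.map_le_iff_le_comap]
    exact hle
  have hQb : (Qb.comap (Ideal.Quotient.mk 𝔠)).map (Ideal.Quotient.mk 𝔠) = Qb :=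
    Ideal.map_comap_of_surjective _ Ideal.Quotient.mk_surjective _
  have hMp1 : ((Qb.comap (Ideal.Quotient.mk 𝔠)).map (Ideal.Quotient.mk 𝔠)).IsPrime := by
    rw [hQb]; exact hQbp
  have hMp2 : ((Qb.comap (Ideal.Quotient.mk 𝔠)).map (Ideal.Quotient.mk I)).IsPrime :=
    Ideal.map_isPrime_of_surjective Ideal.Quotient.mk_surjective (by simpa using hIQ)
  have h1 := add_ringKrullDim_localization_eq_height K n c 𝔠 h𝔠 h𝔠c
    (Qb.comap (Ideal.Quotient.mk 𝔠)) h𝔠Q
  have h2 := add_ringKrullDim_localization_eq_height K n c I hI hIc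
    (Qb.comap (Ideal.Quotient.mk 𝔠)) hIQ
  have := height_eq_of_add_eq c 𝔠 I (Qb.comap (Ideal.Quotient.mk 𝔠)) h𝔠I h1 h2 qI
    (by rw [hq, hQb])
  rw [this, hQb]

theorem gorRing_quot_colon (c : ℕ) (𝔠 I : Ideal (MvPolynomial (Fin (n + 1)) K))
    (f : MvPolynomial (Fin (n + 1)) K)
    (h𝔠 : 𝔠.IsHomogeneous (GrSyz.stdGr K (Fin (n + 1))))
    (hI : I.IsHomogeneous (GrSyz.stdGr K (Fin (n + 1))))
    [hG : LocCoh.IsGorensteinRing (MvPolynomial (Fin (n + 1)) K ⧸ 𝔠)]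
    [hCMI : LocCoh.IsCohenMacaulayRing (MvPolynomial (Fin (n + 1)) K ⧸ I)]
    (h𝔠c : 𝔠.height = c) (hIc : I.height = c) (h𝔠I : 𝔠 ≤ I)
    (hIf : I = 𝔠 ⊔ Ideal.span {f}) :
    LocCoh.IsGorensteinRing (MvPolynomial (Fin (n + 1)) K ⧸
      𝔠.colon (I : Set (MvPolynomial (Fin (n + 1)) K))) := by
  have hmain := gorRing_quot_colon_aux K n c 𝔠 I f h𝔠 hI h𝔠c hIc h𝔠I hIf
  have hann := annihilator_map_mk_eq 𝔠 I _ rfl
  exact gorRing_of_ringEquiv (R := (MvPolynomial (Fin (n + 1)) K ⧸ 𝔠) ⧸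
      (Submodule.annihilator (I.map (Ideal.Quotient.mk 𝔠)) :
        Ideal (MvPolynomial (Fin (n + 1)) K ⧸ 𝔠)))
    ((Ideal.quotEquivOfEq hann).trans
      (DoubleQuot.quotQuotEquivQuotOfLE (le_colon_self 𝔠 I)))

end Concrete

end Groth.Agent.Lib.Helper24.GorLink
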