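import Mathlib
import Groth.Prelude.Def_CAlg
import Groth.Agent.Lib.Helper24.DegLinkA
import Groth.Agent.Lib.Helper24.ColonColon
import Groth.Agent.Lib.Helper24.GorLinkMain
import Groth.Agent.Lib.Helper90.TorBC2
import Groth.Agent.Lib.Helper90.GradedLocal9

universe u
set_option autoImplicit false
set_option linter.unusedSectionVars false
open LocCoh IsLocalRing

namespace Groth.Agent.Lib.Helper24.DegLink

open Groth.Agent.Lib.Helper24.DoubleAnn Groth.Agent.Lib.Helper24.Linkage2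
  Groth.Agent.Lib.Helper85.GorRing Groth.Agent.Lib.Helper90 Groth.Agent.Lib.Helper90.Assoc
  Groth.Agent.Lib.Helper90.GradedLocal

section QuotQuot

variable {S : Type u} [CommRing S]

theorem length_quot_quot_eq (𝔠 K : Ideal S) (h : 𝔠 ≤ K) :
    Module.length (S ⧸ 𝔠) ((S ⧸ 𝔠) ⧸ K.map (Ideal.Quotient.mk 𝔠)) = Module.length S (S ⧸ K) := by
  rw [← Groth.Agent.Lib.Helper90.TorBC.length_eq_of_smul_surj (R := S) (S := S ⧸ 𝔠)
    (T := (S ⧸ 𝔠) ⧸ K.map (Ideal.Quotient.mk 𝔠))]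
  · exact (DoubleQuot.quotQuotEquivQuotOfLEₐ S h).toLinearEquiv.length_eq
  · intro s
    obtain ⟨r, rfl⟩ := Ideal.Quotient.mk_surjective s
    exact ⟨r, fun t => rfl⟩

theorem length_quot_self_eq (𝔠 : Ideal S) :
    Module.length (S ⧸ 𝔠) (S ⧸ 𝔠) = Module.length S (S ⧸ 𝔠) := by
  rw [← Groth.Agent.Lib.Helper90.TorBC.length_eq_of_smul_surj (R := S) (S := S ⧸ 𝔠)
    (T := (S ⧸ 𝔠))]
  intro s
  obtain ⟨r, rfl⟩ := Ideal.Quotient.mk_surjective s
  exact ⟨r, fun t => rfl⟩

end QuotQuot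

section Loc

variable {R : Type u} [CommRing R] [IsNoetherianRing R]

/-- the commutative square `R → R_q → R_q/𝔠R_q` vs `R → R/𝔠 → R_q/𝔠R_q` on ideals -/
theorem map_map_square (𝔠 K q : Ideal R) [q.IsPrime] :
    (K.map (Ideal.Quotient.mk 𝔠)).map (algebraMap (R ⧸ 𝔠)
      (Localization.AtPrime q ⧸ 𝔠.map (algebraMap R (Localization.AtPrime q)))) =
    (K.map (algebraMap R (Localization.AtPrime q))).map
      (Ideal.Quotient.mk (𝔠.map (algebraMap R (Localization.AtPrime q)))) := by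
  rw [Ideal.map_map, Ideal.map_map]
  congr 1

theorem locLen_add (𝔠 I : Ideal R) (h𝔠I : 𝔠 ≤ I) [hG : LocCoh.IsGorensteinRing (R ⧸ 𝔠)]
    (q : PrimeSpectrum R) (hq : q.asIdeal ∈ 𝔠.minimalPrimes) :
    locLen (R ⧸ 𝔠.colon (I : Set R)) q + locLen (R ⧸ I) q = locLen (R ⧸ 𝔠) q := by
  have h𝔠q : 𝔠 ≤ q.asIdeal := hq.1.2
  have hqbar : (q.asIdeal.map (Ideal.Quotient.mk 𝔠)).IsPrime :=
    Ideal.map_isPrime_of_surjective Ideal.Quotient.mk_surjective (by simpa using h𝔠q)
  have hcomap : (q.asIdeal.map (Ideal.Quotient.mk 𝔠)).comap (Ideal.Quotient.mk 𝔠) = q.asIdeal := by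
    rw [Ideal.comap_map_of_surjective' _ Ideal.Quotient.mk_surjective, Ideal.mk_ker,
      sup_eq_left.mpr h𝔠q]
  let e := locQuotEquiv R 𝔠 q.asIdeal (q.asIdeal.map (Ideal.Quotient.mk 𝔠)) hcomap
  have hGloc : LocCoh.IsGorensteinLocalRing
      (Localization.AtPrime (q.asIdeal.map (Ideal.Quotient.mk 𝔠))) :=
    hG.isGorensteinLocalRing_localization _
  have hGA : LocCoh.IsGorensteinLocalRing
      (Localization.AtPrime q.asIdeal ⧸ 𝔠.map (algebraMap R (Localization.AtPrime q.asIdeal))) :=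
    gor_of_ringEquiv e
  have hht : (q.asIdeal.map (Ideal.Quotient.mk 𝔠)).height = 0 := by
    rw [Ideal.height_eq_zero_iff]
    rw [Ideal.minimalPrimes_eq_comap] at hq
    obtain ⟨Q', hQ'min, hQ'⟩ := hq
    rw [← hQ', Ideal.map_comap_of_surjective _ Ideal.Quotient.mk_surjective]
    exact hQ'min
  have hdim : ringKrullDim
      (Localization.AtPrime q.asIdeal ⧸ 𝔠.map (algebraMap R (Localization.AtPrime q.asIdeal))) =
      0 := by
    rw [← ringKrullDim_eq_of_ringEquiv e,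
      IsLocalization.AtPrime.ringKrullDim_eq_height (q.asIdeal.map (Ideal.Quotient.mk 𝔠))
        (Localization.AtPrime (q.asIdeal.map (Ideal.Quotient.mk 𝔠))), hht]
    rfl
  -- annihilators
  have hann1 := annihilator_map_mk_eq 𝔠 I _ rfl
  have hann2 := annihilator_map_eq (Algebra.algebraMapSubmonoid (R ⧸ 𝔠) q.asIdeal.primeCompl)
    (Localization.AtPrime q.asIdeal ⧸ 𝔠.map (algebraMap R (Localization.AtPrime q.asIdeal)))
    (I.map (Ideal.Quotient.mk 𝔠)) (IsNoetherian.noetherian _)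
  rw [hann1, map_map_square, map_map_square] at hann2
  have hdual := length_quot_add_length_quot_annihilator hdim
    ((I.map (algebraMap R (Localization.AtPrime q.asIdeal))).map
      (Ideal.Quotient.mk (𝔠.map (algebraMap R (Localization.AtPrime q.asIdeal)))))
  rw [hann2] at hdual
  rw [length_quot_quot_eq _ _ (Ideal.map_mono h𝔠I),
    length_quot_quot_eq _ _ (Ideal.map_mono (le_colon_self 𝔠 I)), length_quot_self_eq] at hdual
  rw [locLen_quotient, locLen_quotient, locLen_quotient, add_comm]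
  exact hdual

end Loc

end Groth.Agent.Lib.Helper24.DegLink
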