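import Mathlib
import Groth.Prelude.Def_CAlg
import Groth.Prelude.Def_GrSyz
import Groth.Agent.Lib.Helper24.DegLinkB
import Groth.Agent.Lib.Helper24.GorCI
import Groth.Agent.Lib.Helper8.GrSyzHB
import Groth.Agent.Lib.Helper90.GradedLocal11
import Groth.Agent.Lib.Helper90.GrHilb4

universe u
set_option autoImplicit false
set_option linter.unusedSectionVars false
open LocCoh IsLocalRing MvPolynomial

namespace Groth.Agent.Lib.Helper24.DegLink

open Groth.Agent.Lib.Helper90 Groth.Agent.Lib.Helper90.Assoc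
  Groth.Agent.Lib.Helper90.GradedLocal Groth.Agent.Lib.Helper90.HomogSection

attribute [local instance] MvPolynomial.gradedAlgebra

section Bridge

variable {K : Type u} [Field K] {n : ℕ}

theorem stdGr_natCast_eq (j : ℕ) :
    GrSyz.stdGr K (Fin (n + 1)) (j : ℤ) = homogeneousSubmodule (Fin (n + 1)) K j := by
  ext s
  exact Groth.Agent.Lib.Helper8.GrSyzHB.mem_stdGr_natCast_iff j s

/-- homogeneity for the `ℤ`-indexed standard grading implies homogeneity for Mathlib's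
`ℕ`-grading. -/
theorem isHomogeneous_nat_of_stdGr (𝔞 : Ideal (MvPolynomial (Fin (n + 1)) K))
    (h : 𝔞.IsHomogeneous (GrSyz.stdGr K (Fin (n + 1)))) :
    𝔞.IsHomogeneous (homogeneousSubmodule (Fin (n + 1)) K) := by
  rw [Ideal.IsHomogeneous.iff_exists] at h
  obtain ⟨S, rfl⟩ := h
  apply Ideal.homogeneous_span
  rintro x ⟨⟨y, i, hy⟩, -, rfl⟩
  by_cases hi : i < 0
  · rw [Groth.Agent.Lib.Helper8.GrSyzHilb.stdGr_neg_eq_bot K hi, Submodule.mem_bot] at hy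
    show SetLike.IsHomogeneousElem _ y
    rw [hy]
    exact ⟨0, Submodule.zero_mem _⟩
  · push Not at hi
    obtain ⟨j, rfl⟩ := Int.eq_ofNat_of_zero_le hi
    rw [stdGr_natCast_eq] at hy
    exact ⟨j, hy⟩

theorem finrank_eq_hilb (𝔞 : Ideal (MvPolynomial (Fin (n + 1)) K)) (j : ℕ) :
    ((Module.finrank K ↥(Submodule.map (Ideal.Quotient.mkₐ K 𝔞).toLinearMap
      (GrSyz.stdGr K (Fin (n + 1)) (j : ℤ))) : ℕ) : ℤ) = hilb 𝔞 j := by
  rw [stdGr_natCast_eq, Groth.Agent.Lib.Helper90.GrHilb.finrank_map_mk]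
  rfl

/-- rewriting the Hilbert polynomial hypothesis of the statements in `hilb` form. -/
theorem hilbPoly_of_finrank (𝔞 : Ideal (MvPolynomial (Fin (n + 1)) K)) (p : Polynomial ℚ)
    (hp : ∃ j₀ : ℕ, ∀ j : ℕ, j₀ ≤ j → (Module.finrank K ↥(Submodule.map
      (Ideal.Quotient.mkₐ K 𝔞).toLinearMap (GrSyz.stdGr K (Fin (n + 1)) (j : ℤ))) : ℚ) =
        p.eval (j : ℚ)) :
    ∃ m₀ : ℕ, ∀ j : ℕ, m₀ ≤ j → p.eval (j : ℚ) = ((hilb 𝔞 j : ℤ) : ℚ) := by
  obtain ⟨j₀, hj₀⟩ := hp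
  refine ⟨j₀, fun j hj => ?_⟩
  rw [← hj₀ j hj, ← finrank_eq_hilb]
  push_cast
  rfl

end Bridge

section HP

variable {K : Type u} [Field K] {n : ℕ}

/-- the Hilbert polynomial of a homogeneous ideal of height `c ≤ n` in `K[x_0..x_n]` is nonzero
of degree `n - c`. -/
theorem hilbPoly_natDegree (c : ℕ) (hcn : c ≤ n) (𝔞 : Ideal (MvPolynomial (Fin (n + 1)) K))
    (h𝔞 : 𝔞.IsHomogeneous (homogeneousSubmodule (Fin (n + 1)) K)) (h𝔞c : 𝔞.height = c)
    (P : Polynomial ℚ) (m₀ : ℕ)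
    (hP : ∀ j : ℕ, m₀ ≤ j → P.eval (j : ℚ) = ((hilb 𝔞 j : ℤ) : ℚ)) :
    P ≠ 0 ∧ P.natDegree = n - c := by
  obtain ⟨-, hdim⟩ := Groth.Agent.Lib.Helper24.GorLink.ringKrullDim_quot_of_height K (n + 1) c 𝔞 h𝔞c
  have hne : 𝔞 ≠ ⊤ := by
    rintro rfl
    rw [Ideal.height_top] at h𝔞c
    exact ENat.top_ne_natCast c h𝔞c
  have hP0 : P ≠ 0 := by
    rintro rfl
    have h0 : ∀ j : ℕ, m₀ ≤ j → hilb 𝔞 j = 0 := by
      intro j hj
      have := hP j hj
      rw [Polynomial.eval_zero] at this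
      exact_mod_cast this.symm
    have h1 := ringKrullDim_BB_quot_of_hilb_zero h𝔞 (le_idealOfVars h𝔞 hne) m₀ h0
    rw [ringKrullDim_BB_quot h𝔞, hdim] at h1
    have : (n + 1 - c : ℕ) = 0 := by exact_mod_cast h1
    omega
  refine ⟨hP0, ?_⟩
  have h2 := ringKrullDim_quot_eq h𝔞 hP0 m₀ hP
  rw [hdim] at h2
  have : ((n + 1 - c : ℕ) : WithBot ℕ∞) = ((P.natDegree + 1 : ℕ) : WithBot ℕ∞) := by
    rw [h2]; push_cast; rfl
  have : n + 1 - c = P.natDegree + 1 := by exact_mod_cast this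
  omega

end HP

end Groth.Agent.Lib.Helper24.DegLink
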