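import Mathlib
import Groth.Prelude.Def_CAlg
import Groth.Prelude.Def_GrSyz
import Groth.Agent.Lib.Helper24.DegLinkC
import Groth.Agent.Lib.Helper24.GrUnmixed

universe u
set_option autoImplicit false
set_option linter.unusedSectionVars false
open LocCoh IsLocalRing MvPolynomial

namespace Groth.Agent.Lib.Helper24.DegLink

open Groth.Agent.Lib.Helper90 Groth.Agent.Lib.Helper90.Assoc
  Groth.Agent.Lib.Helper90.GradedLocal Groth.Agent.Lib.Helper90.HomogSection

attribute [local instance] MvPolynomial.gradedAlgebra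

section Colon

open DirectSum

theorem isHomogeneous_colon {ι A σ : Type*} [DecidableEq ι] [AddCancelMonoid ι] [CommRing A]
    [SetLike σ A] [AddSubmonoidClass σ A] (𝒜 : ι → σ) [GradedRing 𝒜] (𝔠 I : Ideal A)
    (h𝔠 : 𝔠.IsHomogeneous 𝒜) (hI : I.IsHomogeneous 𝒜) :
    (𝔠.colon (I : Set A)).IsHomogeneous 𝒜 := by
  classical
  intro i f hf
  rw [Submodule.mem_colon] at hf ⊢
  intro s hs
  rw [← DirectSum.sum_support_decompose 𝒜 s, Finset.smul_sum]
  refine Ideal.sum_mem _ (fun j _ => ?_)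
  have hsj : (decompose 𝒜 s j : A) ∈ I := hI j hs
  have h1 : f * (decompose 𝒜 s j : A) ∈ 𝔠 := hf _ hsj
  have h2 := h𝔠 (i + j) h1
  rw [coe_decompose_mul_add_of_right_mem 𝒜 (Subtype.mem _)] at h2
  exact h2

end Colon


section Fin

open Groth.Agent.Lib.Helper24.DoubleAnn Groth.Agent.Lib.Helper24.Linkage2

variable {R : Type u} [CommRing R] [IsNoetherianRing R]

theorem locLen_ne_top (𝔠 : Ideal R) (q : PrimeSpectrum R) (hq : q.asIdeal ∈ 𝔠.minimalPrimes) :
    locLen (R ⧸ 𝔠) q ≠ ⊤ := by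
  have h𝔠q : 𝔠 ≤ q.asIdeal := hq.1.2
  have hqbar : (q.asIdeal.map (Ideal.Quotient.mk 𝔠)).IsPrime :=
    Ideal.map_isPrime_of_surjective Ideal.Quotient.mk_surjective (by simpa using h𝔠q)
  have hcomap : (q.asIdeal.map (Ideal.Quotient.mk 𝔠)).comap (Ideal.Quotient.mk 𝔠) = q.asIdeal := by
    rw [Ideal.comap_map_of_surjective' _ Ideal.Quotient.mk_surjective, Ideal.mk_ker,
      sup_eq_left.mpr h𝔠q]
  let e := locQuotEquiv R 𝔠 q.asIdeal (q.asIdeal.map (Ideal.Quotient.mk 𝔠)) hcomap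
  have hht : (q.asIdeal.map (Ideal.Quotient.mk 𝔠)).height = 0 := by
    rw [Ideal.height_eq_zero_iff]
    rw [Ideal.minimalPrimes_eq_comap] at hq
    obtain ⟨Q', hQ'min, hQ'⟩ := hq
    rw [← hQ', Ideal.map_comap_of_surjective _ Ideal.Quotient.mk_surjective]
    exact hQ'min
  have hdim : ringKrullDim
      (Localization.AtPrime q.asIdeal ⧸ 𝔠.map (algebraMap R (Localization.AtPrime q.asIdeal))) =
      0 := by
    rw [← ringKrullDim_eq_of_ringEquiv e,
      IsLocalization.AtPrime.ringKrullDim_eq_height (q.asIdeal.map (Ideal.Quotient.mk 𝔠))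
        (Localization.AtPrime (q.asIdeal.map (Ideal.Quotient.mk 𝔠))), hht]
    rfl
  have hart := isArtinianRing_of_dim_zero hdim
  rw [locLen_quotient, ← length_quot_self_eq, Module.length_ne_top_iff,
    isFiniteLength_iff_isNoetherian_isArtinian]
  exact ⟨inferInstance, hart⟩

end Fin

section DF

variable {K : Type u} [Field K] {n : ℕ}

/-- a chosen Hilbert polynomial for every prime (zero if there is none). -/
noncomputable def Qsel (q : PrimeSpectrum (MvPolynomial (Fin (n + 1)) K)) : Polynomial ℚ := by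
  classical exact
  if h : ∃ Q : Polynomial ℚ, ∃ m₁ : ℕ, ∀ j : ℕ, m₁ ≤ j →
      Q.eval (j : ℚ) = ((hilb q.asIdeal j : ℤ) : ℚ) then h.choose else 0

theorem Qsel_spec (q : PrimeSpectrum (MvPolynomial (Fin (n + 1)) K))
    (hq : q.asIdeal.IsHomogeneous (homogeneousSubmodule (Fin (n + 1)) K)) :
    ∃ m₁ : ℕ, ∀ j : ℕ, m₁ ≤ j → (Qsel q).eval (j : ℚ) = ((hilb q.asIdeal j : ℤ) : ℚ) := by
  have hex : ∃ Q : Polynomial ℚ, ∃ m₁ : ℕ, ∀ j : ℕ, m₁ ≤ j →
      Q.eval (j : ℚ) = ((hilb q.asIdeal j : ℤ) : ℚ) := by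
    obtain ⟨Q', -, N, hN⟩ := exists_hilbPoly hq q.isPrime.ne_top
    exact ⟨_, N, hN⟩
  unfold Qsel
  rw [dif_pos hex]
  exact hex.choose_spec

theorem degree_formula_finset (𝔞 : Ideal (MvPolynomial (Fin (n + 1)) K))
    (h𝔞 : 𝔞.IsHomogeneous (homogeneousSubmodule (Fin (n + 1)) K))
    {P : Polynomial ℚ} (hP0 : P ≠ 0) (m₀ : ℕ)
    (hP : ∀ j : ℕ, m₀ ≤ j → P.eval (j : ℚ) = ((hilb 𝔞 j : ℤ) : ℚ))
    (T : Finset (PrimeSpectrum (MvPolynomial (Fin (n + 1)) K)))
    (hT : ∀ q : PrimeSpectrum (MvPolynomial (Fin (n + 1)) K),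
      q ∈ T ↔ q.asIdeal ∈ 𝔞.minimalPrimes) :
    (P.natDegree.factorial : ℚ) * P.leadingCoeff =
      ∑ q ∈ T, if (Qsel q).natDegree = P.natDegree then
        ((Qsel q).natDegree.factorial : ℚ) * (Qsel q).leadingCoeff *
          ((locLen (MvPolynomial (Fin (n + 1)) K ⧸ 𝔞) q).toNat : ℚ)
      else 0 := by
  classical
  let eqv := T.equivFin
  let p : Fin T.card → Ideal (MvPolynomial (Fin (n + 1)) K) := fun i => (eqv.symm i).1.asIdeal
  have hp : ∀ i, (p i).IsPrime := fun i => (eqv.symm i).1.isPrime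
  have hpinj : Function.Injective p := by
    intro i j hij
    apply eqv.symm.injective
    apply Subtype.ext
    exact PrimeSpectrum.ext hij
  have hpmin : ∀ q : Ideal (MvPolynomial (Fin (n + 1)) K),
      q ∈ 𝔞.minimalPrimes ↔ ∃ i, q = p i := by
    intro q
    constructor
    · intro hq
      have hqp : q.IsPrime := hq.1.1
      have hmem : (⟨q, hqp⟩ : PrimeSpectrum _) ∈ T := (hT _).mpr hq
      refine ⟨eqv ⟨_, hmem⟩, ?_⟩
      show q = (eqv.symm (eqv ⟨_, hmem⟩)).1.asIdeal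
      rw [Equiv.symm_apply_apply]
    · rintro ⟨i, rfl⟩
      exact (hT _).mp (eqv.symm i).2
  have hQp : ∀ i, ∃ m₁ : ℕ, ∀ j : ℕ, m₁ ≤ j →
      (Qsel (eqv.symm i).1).eval (j : ℚ) = ((hilb (p i) j : ℤ) : ℚ) := by
    intro i
    apply Qsel_spec
    exact isHomogeneous_of_mem_minimalPrimes h𝔞 ((hpmin _).mpr ⟨i, rfl⟩)
  have key := degree_formula h𝔞 hP0 m₀ hP T.card p hpinj hpmin
    (fun i => Qsel (eqv.symm i).1) hQp
  rw [key]
  rw [← Finset.sum_coe_sort T]
  exact Equiv.sum_comp eqv.symm (fun x : T =>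
    if (Qsel x.1).natDegree = P.natDegree then
        ((Qsel x.1).natDegree.factorial : ℚ) * (Qsel x.1).leadingCoeff *
          ((locLen (MvPolynomial (Fin (n + 1)) K ⧸ 𝔞) x.1).toNat : ℚ)
      else 0)

end DF

end Groth.Agent.Lib.Helper24.DegLink
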