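import Mathlib
import Groth.Prelude.Def_CAlg
import Groth.Prelude.Def_GrSyz
import Groth.Agent.Lib.Helper24.DegLinkD
import Groth.Agent.Lib.Helper24.GrUnmixed

universe u
set_option autoImplicit false
set_option linter.unusedSectionVars false
open LocCoh IsLocalRing MvPolynomial

namespace Groth.Agent.Lib.Helper24.DegLink

open Groth.Agent.Lib.Helper90 Groth.Agent.Lib.Helper90.Assoc
  Groth.Agent.Lib.Helper90.GradedLocal Groth.Agent.Lib.Helper90.HomogSection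

attribute [local instance] MvPolynomial.gradedAlgebra

section W

variable {K : Type u} [Field K] {n : ℕ}

/-- (P3) a homogeneous prime whose Hilbert polynomial is nonzero of degree `n - c` has height `c`. -/
theorem height_eq_of_natDegree (c : ℕ) (hcn : c ≤ n)
    (q : PrimeSpectrum (MvPolynomial (Fin (n + 1)) K))
    (hq : q.asIdeal.IsHomogeneous (homogeneousSubmodule (Fin (n + 1)) K))
    (hQ0 : Qsel q ≠ 0) (hdeg : (Qsel q).natDegree = n - c) : q.asIdeal.height = c := by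
  obtain ⟨m₁, hm₁⟩ := Qsel_spec q hq
  have h1 := ringKrullDim_quot_eq hq hQ0 m₁ hm₁
  have hfin : q.asIdeal.height ≠ ⊤ := Ideal.height_ne_top q.isPrime.ne_top
  obtain ⟨c', hc'⟩ := ENat.ne_top_iff_exists.mp hfin
  obtain ⟨hle, hdim⟩ := Groth.Agent.Lib.Helper24.GorLink.ringKrullDim_quot_of_height K (n + 1) c'
    q.asIdeal hc'.symm
  rw [hdim, hdeg] at h1
  have : ((n + 1 - c' : ℕ) : WithBot ℕ∞) = ((n - c + 1 : ℕ) : WithBot ℕ∞) := by
    rw [h1]; push_cast; rfl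
  have : n + 1 - c' = n - c + 1 := by exact_mod_cast this
  rw [← hc']
  have : c' = c := by omega
  rw [this]

theorem exists_finset_minimalPrimes (𝔞 : Ideal (MvPolynomial (Fin (n + 1)) K)) :
    ∃ T : Finset (PrimeSpectrum (MvPolynomial (Fin (n + 1)) K)),
      ∀ q : PrimeSpectrum (MvPolynomial (Fin (n + 1)) K),
        q ∈ T ↔ q.asIdeal ∈ 𝔞.minimalPrimes := by
  have hfin : (𝔞.minimalPrimes).Finite := Ideal.finite_minimalPrimes_of_isNoetherianRing _ 𝔞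
  have hfin2 : (PrimeSpectrum.asIdeal ⁻¹' 𝔞.minimalPrimes :
      Set (PrimeSpectrum (MvPolynomial (Fin (n + 1)) K))).Finite :=
    hfin.preimage (fun a _ b _ hab => PrimeSpectrum.ext hab)
  exact ⟨hfin2.toFinset, fun q => by simp⟩

/-- **Lemma W**: the degree of `R/𝔞` (with `𝔠 ≤ 𝔞` of the same height `c`, `𝔠` unmixed) as a sum
over the minimal primes of `𝔠`. -/
theorem degree_over_minimalPrimes (c : ℕ) (hcn : c ≤ n)
    (𝔠 𝔞 : Ideal (MvPolynomial (Fin (n + 1)) K))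
    (h𝔠 : 𝔠.IsHomogeneous (homogeneousSubmodule (Fin (n + 1)) K))
    (h𝔞 : 𝔞.IsHomogeneous (homogeneousSubmodule (Fin (n + 1)) K))
    (hmin : ∀ q ∈ 𝔠.minimalPrimes, q.height = c)
    (h𝔠𝔞 : 𝔠 ≤ 𝔞) (h𝔞c : 𝔞.height = c)
    (P : Polynomial ℚ) (m₀ : ℕ)
    (hP : ∀ j : ℕ, m₀ ≤ j → P.eval (j : ℚ) = ((hilb 𝔞 j : ℤ) : ℚ))
    (T : Finset (PrimeSpectrum (MvPolynomial (Fin (n + 1)) K)))
    (hT : ∀ q : PrimeSpectrum (MvPolynomial (Fin (n + 1)) K),
      q ∈ T ↔ q.asIdeal ∈ 𝔠.minimalPrimes) :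
    ((n - c).factorial : ℚ) * P.coeff (n - c) =
      ∑ q ∈ T, ((n - c).factorial : ℚ) * (Qsel q).leadingCoeff *
          ((locLen (MvPolynomial (Fin (n + 1)) K ⧸ 𝔞) q).toNat : ℚ) := by
  classical
  obtain ⟨hP0, hPdeg⟩ := hilbPoly_natDegree c hcn 𝔞 h𝔞 h𝔞c P m₀ hP
  obtain ⟨T', hT'⟩ := exists_finset_minimalPrimes 𝔞
  have key := degree_formula_finset 𝔞 h𝔞 hP0 m₀ hP T' hT'
  rw [hPdeg] at key
  have hlc : P.coeff (n - c) = P.leadingCoeff := by
    rw [Polynomial.leadingCoeff, hPdeg]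
  rw [hlc, key]
  set F : PrimeSpectrum (MvPolynomial (Fin (n + 1)) K) → ℚ := fun q =>
    ((n - c).factorial : ℚ) * (Qsel q).leadingCoeff *
          ((locLen (MvPolynomial (Fin (n + 1)) K ⧸ 𝔞) q).toNat : ℚ) with hF
  have h1 : ∀ q ∈ T', (if (Qsel q).natDegree = n - c then
        ((Qsel q).natDegree.factorial : ℚ) * (Qsel q).leadingCoeff *
          ((locLen (MvPolynomial (Fin (n + 1)) K ⧸ 𝔞) q).toNat : ℚ)
      else 0) = if (Qsel q).natDegree = n - c then F q else 0 := by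
    intro q _
    split_ifs with h
    · rw [hF]; simp only; rw [h]
    · rfl
  rw [Finset.sum_congr rfl h1, ← Finset.sum_filter]
  set A := T'.filter (fun q => (Qsel q).natDegree = n - c) with hA
  have hAB : ∀ q ∈ A ∪ T, q ∉ A → F q = 0 := by
    intro q hq hqA
    have hqT : q ∈ T := by
      rcases Finset.mem_union.mp hq with h | h
      · exact absurd h hqA
      · exact h
    have hqmin : q.asIdeal ∈ 𝔠.minimalPrimes := (hT q).mp hqT
    by_cases hle : 𝔞 ≤ q.asIdeal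
    · exfalso
      apply hqA
      rw [hA, Finset.mem_filter]
      have hqmin' : q.asIdeal ∈ 𝔞.minimalPrimes := by
        refine ⟨⟨q.isPrime, hle⟩, fun p hp hpq => ?_⟩
        exact hqmin.2 ⟨hp.1, h𝔠𝔞.trans hp.2⟩ hpq
      refine ⟨(hT' q).mpr hqmin', ?_⟩
      have hqh := isHomogeneous_of_mem_minimalPrimes h𝔠 hqmin
      obtain ⟨m₁, hm₁⟩ := Qsel_spec q hqh
      exact (hilbPoly_natDegree c hcn q.asIdeal hqh (hmin _ hqmin) (Qsel q) m₁ hm₁).2
    · rw [hF]; simp only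
      rw [locLen_quotient_of_not_le hle]
      simp
  have hBA : ∀ q ∈ A ∪ T, q ∉ T → F q = 0 := by
    intro q hq hqT
    have hqA : q ∈ A := by
      rcases Finset.mem_union.mp hq with h | h
      · exact h
      · exact absurd h hqT
    rw [hA, Finset.mem_filter] at hqA
    obtain ⟨hqT', hdeg⟩ := hqA
    have hqmin' : q.asIdeal ∈ 𝔞.minimalPrimes := (hT' q).mp hqT'
    by_cases hQ0 : Qsel q = 0
    · rw [hF]; simp only
      rw [hQ0, Polynomial.leadingCoeff_zero]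
      simp
    · exfalso
      apply hqT
      rw [hT]
      have hqh := isHomogeneous_of_mem_minimalPrimes h𝔞 hqmin'
      have hqc := height_eq_of_natDegree c hcn q hqh hQ0 hdeg
      obtain ⟨q', hq'min, hq'le⟩ := Ideal.exists_minimalPrimes_le (h𝔠𝔞.trans hqmin'.1.2)
      have hq'p : q'.IsPrime := hq'min.1.1
      have hq'c := hmin q' hq'min
      by_cases heq : q' = q.asIdeal
      · rw [← heq]; exact hq'min
      · exfalso
        have hlt : q' < q.asIdeal := lt_of_le_of_ne hq'le heq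
        have := Ideal.height_strict_mono_of_isPrime hlt
        rw [hq'c, hqc] at this
        exact lt_irrefl _ this
  rw [Finset.sum_subset Finset.subset_union_left hAB,
    Finset.sum_subset Finset.subset_union_right hBA]

end W


section Main

variable {K : Type u} [Field K] {n : ℕ}

open Groth.Agent.Lib.Helper24.Linkage2

/-- **degree under linkage**: `deg J = deg 𝔠 - deg I` for `J = 𝔠 : I`. -/
theorem main (c : ℕ) (hcn : c ≤ n)
    (𝔠 I : Ideal (MvPolynomial (Fin (n + 1)) K))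
    (h𝔠 : 𝔠.IsHomogeneous (GrSyz.stdGr K (Fin (n + 1))))
    (hI : I.IsHomogeneous (GrSyz.stdGr K (Fin (n + 1))))
    [LocCoh.IsGorensteinRing (MvPolynomial (Fin (n + 1)) K ⧸ 𝔠)] (h𝔠c : 𝔠.height = c)
    (hIc : I.height = c) (h𝔠I : 𝔠 ≤ I)
    (p𝔠 pI pJ : Polynomial ℚ)
    (hp𝔠 : ∃ j₀ : ℕ, ∀ j : ℕ, j₀ ≤ j → (Module.finrank K ↥(Submodule.map
      (Ideal.Quotient.mkₐ K (𝔠)).toLinearMap (GrSyz.stdGr K (Fin (n + 1)) (j : ℤ))) : ℚ) =
        p𝔠.eval (j : ℚ))
    (hpI : ∃ j₀ : ℕ, ∀ j : ℕ, j₀ ≤ j → (Module.finrank K ↥(Submodule.map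
      (Ideal.Quotient.mkₐ K (I)).toLinearMap (GrSyz.stdGr K (Fin (n + 1)) (j : ℤ))) : ℚ) =
        pI.eval (j : ℚ))
    (hpJ : ∃ j₀ : ℕ, ∀ j : ℕ, j₀ ≤ j → (Module.finrank K ↥(Submodule.map
      (Ideal.Quotient.mkₐ K (𝔠.colon (I : Set (MvPolynomial (Fin (n + 1)) K)))).toLinearMap
        (GrSyz.stdGr K (Fin (n + 1)) (j : ℤ))) : ℚ) = pJ.eval (j : ℚ)) :
    pJ.coeff (n - c) = p𝔠.coeff (n - c) - pI.coeff (n - c) := by
  classical
  obtain ⟨m𝔠, hm𝔠⟩ := hilbPoly_of_finrank 𝔠 p𝔠 hp𝔠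
  obtain ⟨mI, hmI⟩ := hilbPoly_of_finrank I pI hpI
  obtain ⟨mJ, hmJ⟩ := hilbPoly_of_finrank _ pJ hpJ
  have h𝔠' := isHomogeneous_nat_of_stdGr 𝔠 h𝔠
  have hI' := isHomogeneous_nat_of_stdGr I hI
  have hJ' := isHomogeneous_colon (homogeneousSubmodule (Fin (n + 1)) K) 𝔠 I h𝔠' hI'
  by_cases hI𝔠 : I ≤ 𝔠
  · have hIeq : I = 𝔠 := le_antisymm hI𝔠 h𝔠I
    have hJtop : 𝔠.colon (I : Set (MvPolynomial (Fin (n + 1)) K)) = ⊤ := by
      rw [Submodule.colon_eq_top_iff_subset]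
      exact hI𝔠
    have hpJ0 : pJ = 0 := poly_eq_zero_of_eventually pJ mJ (fun j hj => by
      rw [hmJ j hj, hJtop, hilb_top, Int.cast_zero])
    have hpeq : p𝔠 - pI = 0 := poly_eq_zero_of_eventually _ (max m𝔠 mI) (fun j hj => by
      rw [Polynomial.eval_sub, hm𝔠 j (le_of_max_le_left hj), hmI j (le_of_max_le_right hj), hIeq,
        sub_self])
    rw [hpJ0, Polynomial.coeff_zero, ← Polynomial.coeff_sub, hpeq, Polynomial.coeff_zero]
  · have := Groth.Agent.Lib.Helper24.GrUnmixed.isCohenMacaulayRing_of_isGorensteinRing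
      (MvPolynomial (Fin (n + 1)) K ⧸ 𝔠)
    obtain ⟨hJc, -⟩ := Groth.Agent.Lib.Helper24.GrUnmixed.main K n c 𝔠 I h𝔠 h𝔠c hI𝔠
    have hmin : ∀ q ∈ 𝔠.minimalPrimes, q.height = c := by
      intro q hq
      obtain ⟨P₀, hP₀p, h𝔠P₀, hP₀c⟩ := Ideal.exists_isPrime_height_eq h𝔠c
      have hP₀min : P₀ ∈ 𝔠.minimalPrimes :=
        Ideal.mem_minimalPrimes_of_height_le h𝔠P₀ (by rw [hP₀c, h𝔠c])
      rw [Groth.Agent.Lib.Helper24.GrUnmixed.height_eq_of_mem_minimalPrimes K n 𝔠 h𝔠 hq hP₀min, hP₀c]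
    obtain ⟨T, hT⟩ := exists_finset_minimalPrimes 𝔠
    have W𝔠 := degree_over_minimalPrimes c hcn 𝔠 𝔠 h𝔠' h𝔠' hmin le_rfl h𝔠c p𝔠 m𝔠 hm𝔠 T hT
    have WI := degree_over_minimalPrimes c hcn 𝔠 I h𝔠' hI' hmin h𝔠I hIc pI mI hmI T hT
    have WJ := degree_over_minimalPrimes c hcn 𝔠 _ h𝔠' hJ' hmin (le_colon_self 𝔠 I) hJc pJ mJ
      hmJ T hT
    have hfac : ((n - c).factorial : ℚ) ≠ 0 := by exact_mod_cast (Nat.factorial_ne_zero _)
    have hsum : ((n - c).factorial : ℚ) * pJ.coeff (n - c) +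
        ((n - c).factorial : ℚ) * pI.coeff (n - c) =
        ((n - c).factorial : ℚ) * p𝔠.coeff (n - c) := by
      rw [WJ, WI, W𝔠, ← Finset.sum_add_distrib]
      apply Finset.sum_congr rfl
      intro q hq
      have hqmin := (hT q).mp hq
      have hadd := locLen_add 𝔠 I h𝔠I q hqmin
      have hfin := locLen_ne_top 𝔠 q hqmin
      have hfJ : locLen (MvPolynomial (Fin (n + 1)) K ⧸
          𝔠.colon (I : Set (MvPolynomial (Fin (n + 1)) K))) q ≠ ⊤ := by
        intro h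
        rw [h, top_add] at hadd
        exact hfin hadd.symm
      have hfI : locLen (MvPolynomial (Fin (n + 1)) K ⧸ I) q ≠ ⊤ := by
        intro h
        rw [h, add_top] at hadd
        exact hfin hadd.symm
      rw [← hadd, ENat.toNat_add hfJ hfI]
      push_cast
      ring
    rw [← mul_add] at hsum
    have := mul_left_cancel₀ hfac hsum
    linarith

end Main

end Groth.Agent.Lib.Helper24.DegLink
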