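import Mathlib
import Groth.Prelude.Def_EtGlue

set_option autoImplicit false
universe u v
open TensorProduct

namespace Groth.Agent.Lib.Helper24.EtGlue

variable {R R' : Type u} [CommRing R] [CommRing R'] [Algebra R R'] {f : R}

/-- `Lifts n r' r`: `r` agrees with `r'` modulo `f ^ n`. -/
def Lifts (f : R) (n : ℕ) (r' : R') (r : R) : Prop :=
  algebraMap R R' r - r' ∈ Ideal.map (algebraMap R R') (Ideal.span {f ^ n})

theorem exists_lifts (h : EtGlue.QuotPowBijective R R' f) (n : ℕ) (hn : 0 < n) (r' : R') :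
    ∃ r : R, Lifts f n r' r := by
  obtain ⟨x, hx⟩ := (h n hn).2 (Ideal.Quotient.mk _ r')
  obtain ⟨r, rfl⟩ := Ideal.Quotient.mk_surjective x
  refine ⟨r, ?_⟩
  rw [Ideal.quotientMap_mk] at hx
  exact Ideal.Quotient.eq.mp hx

theorem mem_span_of_lifts_zero (h : EtGlue.QuotPowBijective R R' f) (n : ℕ) (hn : 0 < n) (r : R)
    (hr : algebraMap R R' r ∈ Ideal.map (algebraMap R R') (Ideal.span {f ^ n})) :
    r ∈ Ideal.span {f ^ n} := by
  have h1 : Ideal.quotientMap (Ideal.map (algebraMap R R') (Ideal.span {f ^ n})) (algebraMap R R')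
      Ideal.le_comap_map (Ideal.Quotient.mk _ r) = 0 := by
    rw [Ideal.quotientMap_mk]
    exact Ideal.Quotient.eq_zero_iff_mem.mpr hr
  have h2 := (h n hn).1 (h1.trans (map_zero _).symm)
  exact Ideal.Quotient.eq_zero_iff_mem.mp h2

section bounded

variable {Q : Type v} [AddCommGroup Q] [Module R Q]

theorem smul_eq_of_lifts (h : EtGlue.QuotPowBijective R R' f) (n : ℕ) (hn : 0 < n)
    (hQ : ∀ q : Q, f ^ n • q = 0) {r' : R'} {r₁ r₂ : R} (h₁ : Lifts f n r' r₁) (h₂ : Lifts f n r' r₂)
    (q : Q) : r₁ • q = r₂ • q := by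
  have hmem : r₁ - r₂ ∈ Ideal.span {f ^ n} := by
    apply mem_span_of_lifts_zero h n hn
    have : algebraMap R R' (r₁ - r₂) = (algebraMap R R' r₁ - r') - (algebraMap R R' r₂ - r') := by
      rw [map_sub]; ring
    rw [this]
    exact Ideal.sub_mem _ h₁ h₂
  obtain ⟨c, hc⟩ := Ideal.mem_span_singleton'.mp hmem
  have : (r₁ - r₂) • q = 0 := by
    rw [← hc, mul_smul, hQ, smul_zero]
  rw [sub_smul, sub_eq_zero] at this
  exact this

/-- A retraction of `q ↦ q ⊗ 1` for a module killed by `f ^ n`. -/
theorem exists_retraction (h : EtGlue.QuotPowBijective R R' f) (n : ℕ) (hn : 0 < n)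
    (hQ : ∀ q : Q, f ^ n • q = 0) :
    ∃ g : Q ⊗[R] R' →ₗ[R] Q, ∀ q, g (q ⊗ₜ[R] (1 : R')) = q := by
  classical
  choose lift hlift using exists_lifts h n hn
  have key : ∀ (r' : R') (r : R), Lifts f n r' r → ∀ q : Q, lift r' • q = r • q :=
    fun r' r hr q => smul_eq_of_lifts h n hn hQ (hlift r') hr q
  let B : Q →ₗ[R] R' →ₗ[R] Q := LinearMap.mk₂ R (fun q r' => lift r' • q)
    (fun q₁ q₂ r' => smul_add _ _ _)
    (fun c q r' => smul_comm _ _ _)
    (fun q r₁' r₂' => by
      have : Lifts f n (r₁' + r₂') (lift r₁' + lift r₂') := by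
        unfold Lifts
        have e : algebraMap R R' (lift r₁' + lift r₂') - (r₁' + r₂') =
            (algebraMap R R' (lift r₁') - r₁') + (algebraMap R R' (lift r₂') - r₂') := by
          rw [map_add]; ring
        rw [e]
        exact Ideal.add_mem _ (hlift r₁') (hlift r₂')
      rw [key _ _ this, add_smul])
    (fun c q r' => by
      have : Lifts f n (c • r') (c * lift r') := by
        unfold Lifts
        have e : algebraMap R R' (c * lift r') - c • r' =
            algebraMap R R' c * (algebraMap R R' (lift r') - r') := by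
          rw [map_mul, Algebra.smul_def]; ring
        rw [e]
        exact Ideal.mul_mem_left _ _ (hlift r')
      rw [key _ _ this, mul_smul])
  refine ⟨TensorProduct.lift B, fun q => ?_⟩
  have : Lifts f n (1 : R') (1 : R) := by
    unfold Lifts
    rw [map_one, sub_self]
    exact Ideal.zero_mem _
  simp only [TensorProduct.lift.tmul, B, LinearMap.mk₂_apply]
  rw [key _ _ this, one_smul]

end bounded

section torsion

variable {C : Type v} [AddCommGroup C] [Module R C]

theorem exists_pow_smul_eq_zero_of_fg (hC : ∀ c : C, ∃ n : ℕ, f ^ n • c = 0) (Q : Submodule R C)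
    (hQ : Q.FG) : ∃ n : ℕ, 0 < n ∧ ∀ q : Q, f ^ n • q = 0 := by
  classical
  obtain ⟨s, rfl⟩ := hQ
  choose e he using hC
  refine ⟨s.sup e + 1, Nat.succ_pos _, ?_⟩
  rintro ⟨q, hq⟩
  apply Subtype.ext
  simp only [Submodule.coe_smul, Submodule.coe_zero]
  induction hq using Submodule.span_induction with
  | mem x hx =>
    have hle : e x ≤ s.sup e + 1 := (Finset.le_sup (f := e) hx).trans (Nat.le_succ _)
    obtain ⟨k, hk⟩ := Nat.exists_eq_add_of_le hle
    rw [hk, add_comm, pow_add, mul_smul, he, smul_zero]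
  | zero => exact smul_zero _
  | add x y _ _ hx hy => rw [smul_add, hx, hy, add_zero]
  | smul a x _ hx => rw [smul_comm, hx, smul_zero]

/-- For an `f`-power torsion module, `c ↦ c ⊗ 1` is injective. -/
theorem tmul_one_injective (h : EtGlue.QuotPowBijective R R' f)
    (hC : ∀ c : C, ∃ n : ℕ, f ^ n • c = 0) (c : C) (hc : c ⊗ₜ[R] (1 : R') = 0) : c = 0 := by
  let P : Submodule R C := Submodule.span R {c}
  have hP : P.FG := Submodule.fg_span_singleton c
  let c' : P := ⟨c, Submodule.mem_span_singleton_self c⟩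
  have h0 : LinearMap.rTensor R' P.subtype (c' ⊗ₜ[R] (1 : R')) = 0 := by
    simpa using hc
  obtain ⟨Q, hPQ, hQfg, hQ0⟩ := TensorProduct.eq_zero_of_fg_of_subtype_eq_zero hP h0
  obtain ⟨n, hn, hQn⟩ := exists_pow_smul_eq_zero_of_fg hC Q hQfg
  obtain ⟨g, hg⟩ := exists_retraction (Q := Q) h n hn hQn
  have h1 : g (LinearMap.rTensor R' (Submodule.inclusion hPQ) (c' ⊗ₜ[R] (1 : R'))) = 0 := by
    rw [hQ0, map_zero]
  rw [LinearMap.rTensor_tmul, hg] at h1
  exact congrArg Subtype.val h1

/-- For an `f`-power torsion module, `c ↦ 1 ⊗ c` is injective. -/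
theorem one_tmul_injective (h : EtGlue.QuotPowBijective R R' f)
    (hC : ∀ c : C, ∃ n : ℕ, f ^ n • c = 0) (c : C) (hc : (1 : R') ⊗ₜ[R] c = 0) : c = 0 := by
  apply tmul_one_injective h hC c
  have := congrArg (TensorProduct.comm R R' C) hc
  simpa using this

/-- A module that dies after inverting `f` and after tensoring with `R'` is zero. -/
theorem eq_zero_of_torsion_of_tmul (h : EtGlue.QuotPowBijective R R' f)
    (hC : ∀ c : C, ∃ n : ℕ, f ^ n • c = 0) (hC' : ∀ c : C, (1 : R') ⊗ₜ[R] c = 0) (c : C) : c = 0 :=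
  one_tmul_injective h hC c (hC' c)

/-- Submodule form: if every element of `M` is pushed into `N` by a power of `f`, and
`1 ⊗ m` lies in the image of `R' ⊗ N` for each `m`, then `N = ⊤`. -/
theorem eq_top_of_forall (h : EtGlue.QuotPowBijective R R' f) {M : Type v} [AddCommGroup M]
    [Module R M] (N : Submodule R M) (h1 : ∀ m : M, ∃ n : ℕ, f ^ n • m ∈ N)
    (h2 : ∀ m : M, (1 : R') ⊗ₜ[R] m ∈ LinearMap.range (LinearMap.lTensor R' N.subtype)) :
    N = ⊤ := by
  rw [eq_top_iff]
  intro m _
  have hm : N.mkQ m = 0 := by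
    apply eq_zero_of_torsion_of_tmul (R' := R') h
    · intro c
      obtain ⟨m, rfl⟩ := N.mkQ_surjective c
      obtain ⟨n, hn⟩ := h1 m
      refine ⟨n, ?_⟩
      rw [← map_smul]
      exact (Submodule.Quotient.mk_eq_zero N).mpr hn
    · intro c
      obtain ⟨m, rfl⟩ := N.mkQ_surjective c
      obtain ⟨t, ht⟩ := h2 m
      have : (1 : R') ⊗ₜ[R] N.mkQ m = LinearMap.lTensor R' N.mkQ ((1 : R') ⊗ₜ[R] m) := by
        rw [LinearMap.lTensor_tmul]
      rw [this, ← ht, ← LinearMap.comp_apply, ← LinearMap.lTensor_comp]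
      have : N.mkQ ∘ₗ N.subtype = 0 := by
        ext x; simp
      rw [this, LinearMap.lTensor_zero, LinearMap.zero_apply]
  exact (Submodule.Quotient.mk_eq_zero N).mp hm

end torsion

section baseChange

/-- A base-change-stable property of ring maps passes to `R' ⊗ A → R' ⊗ B`. -/
theorem baseChange_map {P : ∀ {R S : Type u} [CommRing R] [CommRing S], (R →+* S) → Prop}
    (hP : RingHom.IsStableUnderBaseChange @P) (hP' : RingHom.RespectsIso @P)
    {R R' A B : Type u} [CommRing R] [CommRing R'] [CommRing A] [CommRing B] [Algebra R R']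
    [Algebra R A] [Algebra R B] (φ : A →ₐ[R] B) (h : P φ.toRingHom) :
    P (Algebra.TensorProduct.map (AlgHom.id R R') φ).toRingHom := by
  letI : Algebra A B := φ.toRingHom.toAlgebra
  haveI : IsScalarTower R A B := IsScalarTower.of_algebraMap_eq (fun r => (φ.commutes r).symm)
  letI : Algebra (A ⊗[R] R') (B ⊗[R] R') :=
    (Algebra.TensorProduct.map φ (AlgHom.id R R')).toRingHom.toAlgebra
  haveI : IsScalarTower A (A ⊗[R] R') (B ⊗[R] R') := IsScalarTower.of_algebraMap_eq (fun a => by
    rw [RingHom.algebraMap_toAlgebra, Algebra.TensorProduct.algebraMap_apply,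
      Algebra.TensorProduct.algebraMap_apply]
    simp
    rfl)
  have hpo : Algebra.IsPushout A B (A ⊗[R] R') (B ⊗[R] R') :=
    Algebra.IsPushout.tensorProduct_tensorProduct R R' A B (by
      ext x; simp [RingHom.algebraMap_toAlgebra])
  have h1 : P (algebraMap (A ⊗[R] R') (B ⊗[R] R')) := hP A B (A ⊗[R] R') (B ⊗[R] R') h
  have h2 := hP'.1 _ (Algebra.TensorProduct.comm R B R').toRingEquiv
    (hP'.2 _ (Algebra.TensorProduct.comm R R' A).toRingEquiv h1)
  convert h2 using 1
  ext x
  · simp [RingHom.algebraMap_toAlgebra]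
  · simp [RingHom.algebraMap_toAlgebra]

end baseChange

section middle

variable (R R' : Type u) [CommRing R] [CommRing R'] [Algebra R R'] (f : R)

/-- the `R`-linear map `R_f → R'_f`. -/
noncomputable def awayLin :
    Localization.Away f →ₗ[R] Localization.Away (algebraMap R R' f) where
  toFun := Localization.awayMap (algebraMap R R') f
  map_add' := map_add _
  map_smul' r y := by
    simp only [Algebra.smul_def, map_mul, RingHom.id_apply]
    congr 1
    rw [Localization.awayMap, IsLocalization.Away.map, IsLocalization.map_eq,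
      ← IsScalarTower.algebraMap_apply]

noncomputable def alpha : R →ₗ[R] R' × Localization.Away f :=
  (Algebra.linearMap R R').prod (Algebra.linearMap R (Localization.Away f))

noncomputable def beta : R' × Localization.Away f →ₗ[R] Localization.Away (algebraMap R R' f) :=
  ((IsScalarTower.toAlgHom R R' (Localization.Away (algebraMap R R' f))).toLinearMap).coprod
    (-(awayLin R R' f))

variable {R R' f}

theorem exact_alpha_beta (h : EtGlue.IsGlueingPair R R' f) :
    Function.Exact (alpha R R' f) (beta R R' f) := by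
  intro w
  constructor
  · intro hw
    obtain ⟨r, h1, h2⟩ := h.2.2.1 w.1 w.2 (by
      have : algebraMap R' (Localization.Away (algebraMap R R' f)) w.1 -
          Localization.awayMap (algebraMap R R') f w.2 = 0 := by
        simpa [beta, awayLin, sub_eq_add_neg] using hw
      exact sub_eq_zero.mp this)
    exact ⟨r, Prod.ext h1 h2⟩
  · rintro ⟨r, rfl⟩
    simp [alpha, beta, awayLin, Localization.awayMap, IsLocalization.Away.map, IsLocalization.map_eq,
      ← IsScalarTower.algebraMap_apply]

theorem surjective_beta (h : EtGlue.IsGlueingPair R R' f) :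
    Function.Surjective (beta R R' f) := by
  intro z
  obtain ⟨x, y, hxy⟩ := h.2.2.2 z
  refine ⟨(x, y), ?_⟩
  simpa [beta, awayLin, sub_eq_add_neg] using hxy

theorem isUnit_algebraMap_end_tensor {S : Type*} [CommRing S] [Algebra R S] (N : Type*)
    [AddCommGroup N] [Module R N] (r : R) (hr : IsUnit (algebraMap R S r)) :
    IsUnit (algebraMap R (Module.End R (S ⊗[R] N)) r) := by
  rw [Module.End.isUnit_iff]
  obtain ⟨u, hu⟩ := hr
  have hsm : ∀ z : S ⊗[R] N, (algebraMap R (Module.End R (S ⊗[R] N)) r) z = (u : S) • z := by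
    intro z
    rw [Module.algebraMap_end_apply, hu, algebraMap_smul]
  constructor
  · intro z₁ z₂ h12
    rw [hsm, hsm] at h12
    have := congrArg (fun z => ((u⁻¹ : Sˣ) : S) • z) h12
    simpa [smul_smul] using this
  · intro z
    refine ⟨((u⁻¹ : Sˣ) : S) • z, ?_⟩
    rw [hsm, smul_smul, Units.mul_inv, one_smul]

variable (M : Type u) [AddCommGroup M] [Module R M]

/-- Middle exactness of `M → R' ⊗ M ⊕ M_f → (R' ⊗ M)_f` for every module `M`. -/
theorem middle_exact (h : EtGlue.IsGlueingPair R R' f) (x : R' ⊗[R] M)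
    (y : LocalizedModule (Submonoid.powers f) M)
    (hxy : EtGlue.locOfTensor R R' f M x = EtGlue.tensorOfLoc R R' f M y) :
    ∃ m : M, (1 : R') ⊗ₜ[R] m = x ∧ LocalizedModule.mkLinearMap (Submonoid.powers f) M m = y := by
  let Rf := Localization.Away f
  let R'f := Localization.Away (algebraMap R R' f)
  have hunit' : ∀ s : Submonoid.powers f,
      IsUnit (algebraMap R (Module.End R (R'f ⊗[R] M)) s) := by
    rintro ⟨_, n, rfl⟩
    apply isUnit_algebraMap_end_tensor
    rw [map_pow, IsScalarTower.algebraMap_apply R R' R'f]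
    exact (IsLocalization.Away.algebraMap_isUnit _).pow n
  -- the map (R' ⊗ M)_f → R'_f ⊗ M
  let θ : LocalizedModule (Submonoid.powers f) (R' ⊗[R] M) →ₗ[R] R'f ⊗[R] M :=
    IsLocalizedModule.lift (Submonoid.powers f)
      (LocalizedModule.mkLinearMap (Submonoid.powers f) (R' ⊗[R] M))
      ((IsScalarTower.toAlgHom R R' R'f).toLinearMap.rTensor M) hunit'
  let η : LocalizedModule (Submonoid.powers f) M ≃ₗ[Rf] Rf ⊗[R] M :=
    LocalizedModule.equivTensorProduct (Submonoid.powers f) M
  have hθ1 : θ (EtGlue.locOfTensor R R' f M x) =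
      (IsScalarTower.toAlgHom R R' R'f).toLinearMap.rTensor M x :=
    IsLocalizedModule.lift_apply _ _ _ _ _
  have hθ2 : ∀ y : LocalizedModule (Submonoid.powers f) M,
      θ (EtGlue.tensorOfLoc R R' f M y) = (awayLin R R' f).rTensor M (η y) := by
    intro y
    have : θ ∘ₗ EtGlue.tensorOfLoc R R' f M =
        (awayLin R R' f).rTensor M ∘ₗ (η.toLinearMap.restrictScalars R) := by
      apply IsLocalizedModule.ext (Submonoid.powers f)
        (LocalizedModule.mkLinearMap (Submonoid.powers f) M) hunit'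
      ext m
      simp only [LinearMap.coe_comp, Function.comp_apply, LinearMap.coe_restrictScalars,
        LinearEquiv.coe_coe]
      rw [EtGlue.tensorOfLoc, IsLocalizedModule.map_apply]
      rw [IsLocalizedModule.lift_apply]
      rw [LocalizedModule.mkLinearMap_apply, LocalizedModule.equivTensorProduct_apply_mk,
        LinearMap.rTensor_tmul, Localization.mk_one]
      simp [awayLin]
    exact LinearMap.congr_fun this y
  -- the element of (R' × R_f) ⊗ M
  let w : (R' × Rf) ⊗[R] M :=
    (LinearMap.inl R R' Rf).rTensor M x + (LinearMap.inr R R' Rf).rTensor M (η y)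
  have hw : (beta R R' f).rTensor M w = 0 := by
    simp only [w, map_add, ← LinearMap.comp_apply, ← LinearMap.rTensor_comp]
    have e1 : beta R R' f ∘ₗ LinearMap.inl R R' Rf =
        (IsScalarTower.toAlgHom R R' R'f).toLinearMap := by
      ext; simp [beta]; rfl
    have e2 : beta R R' f ∘ₗ LinearMap.inr R R' Rf = -(awayLin R R' f) := by
      ext; simp [beta]
    rw [e1, e2, LinearMap.rTensor_neg, LinearMap.neg_apply, ← hθ1, ← hθ2, hxy, add_neg_cancel]
  obtain ⟨u, hu⟩ := (rTensor_exact M (exact_alpha_beta h) (surjective_beta h) w).mp hw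
  have hu' : ∀ u : R ⊗[R] M, (alpha R R' f).rTensor M u =
      ((1 : R'), (1 : Rf)) ⊗ₜ[R] (TensorProduct.lid R M u) := by
    intro u
    induction u with
    | zero => simp
    | add a b ha hb => simp only [map_add, tmul_add, ha, hb]
    | tmul r m =>
      rw [LinearMap.rTensor_tmul, TensorProduct.lid_tmul, TensorProduct.tmul_smul,
        TensorProduct.smul_tmul']
      congr 1
      simp [alpha, Algebra.smul_def]
      rfl
  rw [hu'] at hu
  refine ⟨TensorProduct.lid R M u, ?_, ?_⟩
  · have h1 := congrArg ((LinearMap.fst R R' Rf).rTensor M) hu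
    simp only [w, map_add, ← LinearMap.comp_apply, ← LinearMap.rTensor_comp] at h1
    have e1 : LinearMap.fst R R' Rf ∘ₗ LinearMap.inl R R' Rf = LinearMap.id := by ext; simp
    have e2 : LinearMap.fst R R' Rf ∘ₗ LinearMap.inr R R' Rf = 0 := by ext; simp
    rw [e1, e2, LinearMap.rTensor_id, LinearMap.rTensor_zero, LinearMap.zero_apply, add_zero,
      LinearMap.id_apply, LinearMap.rTensor_tmul] at h1
    exact h1
  · have h1 := congrArg ((LinearMap.snd R R' Rf).rTensor M) hu
    simp only [w, map_add, ← LinearMap.comp_apply, ← LinearMap.rTensor_comp] at h1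
    have e1 : LinearMap.snd R R' Rf ∘ₗ LinearMap.inl R R' Rf = 0 := by ext; simp
    have e2 : LinearMap.snd R R' Rf ∘ₗ LinearMap.inr R R' Rf = LinearMap.id := by ext; simp
    rw [e1, e2, LinearMap.rTensor_id, LinearMap.rTensor_zero, LinearMap.zero_apply, zero_add,
      LinearMap.id_apply, LinearMap.rTensor_tmul] at h1
    apply η.injective
    rw [← h1, LocalizedModule.mkLinearMap_apply]
    simp only [η]
    rw [LocalizedModule.equivTensorProduct_apply_mk, Localization.mk_one]
    rfl

end middle

end Groth.Agent.Lib.Helper24.EtGlue
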