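import Mathlib
import Groth.Agent.Lib.Helper24.EtGlue

set_option autoImplicit false
universe u v
open TensorProduct

namespace Groth.Agent.Lib.Helper24.EtGlue

variable {R R' : Type u} [CommRing R] [CommRing R'] [Algebra R R'] {f : R}

/-- For a glueing pair, glueability of a module is just injectivity of `M → R' ⊗ M × M_f`. -/
theorem isGlueable_of_forall (h : EtGlue.IsGlueingPair R R' f) (M : Type u) [AddCommGroup M]
    [Module R M]
    (hM : ∀ m : M, (1 : R') ⊗ₜ[R] m = 0 → (∃ n : ℕ, f ^ n • m = 0) → m = 0) :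
    EtGlue.IsGlueable R R' f M := by
  refine ⟨?_, middle_exact M h⟩
  intro a b hab
  have h1 : (1 : R') ⊗ₜ[R] (a - b) = 0 := by
    rw [tmul_sub, sub_eq_zero]; exact congrArg Prod.fst hab
  have h2 : LocalizedModule.mkLinearMap (Submonoid.powers f) M (a - b) = 0 := by
    rw [map_sub, sub_eq_zero]; exact congrArg Prod.snd hab
  obtain ⟨⟨_, k, rfl⟩, hk⟩ := (IsLocalizedModule.eq_zero_iff (Submonoid.powers f) _).mp h2
  exact sub_eq_zero.mp (hM _ h1 ⟨k, hk⟩)

theorem eq_zero_of_isGlueable {M : Type u} [AddCommGroup M] [Module R M]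
    (hM : EtGlue.IsGlueable R R' f M) (m : M) (h1 : (1 : R') ⊗ₜ[R] m = 0) (n : ℕ)
    (h2 : f ^ n • m = 0) : m = 0 := by
  apply hM.1
  refine Prod.ext ?_ ?_
  · simpa using h1
  · simp only [map_zero]
    rw [IsLocalizedModule.eq_zero_iff (Submonoid.powers f)]
    exact ⟨⟨f ^ n, n, rfl⟩, h2⟩

/-- Glueability ascends along flat ring maps. -/
theorem isGlueable_of_flat (h : EtGlue.IsGlueingPair R R' f) {A C : Type u} [CommRing A]
    [Algebra R A] [CommRing C] [Algebra R C] [Algebra A C] [IsScalarTower R A C]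
    [Module.Flat A C] (hA : EtGlue.IsGlueable R R' f A) : EtGlue.IsGlueable R R' f C := by
  apply isGlueable_of_forall h
  rintro c hc ⟨n, hn⟩
  let N := (A ⊗[R] R') × A
  let φ : A →ₗ[A] N :=
    LinearMap.toSpanSingleton A N ((1 : A) ⊗ₜ[R] (1 : R'), algebraMap R A (f ^ n))
  have hφ : Function.Injective φ := by
    rw [injective_iff_map_eq_zero]
    intro a ha
    have ha1 : a ⊗ₜ[R] (1 : R') = 0 := by
      have := congrArg Prod.fst ha
      simpa [φ, N, TensorProduct.smul_tmul'] using this
    have ha2 : f ^ n • a = 0 := by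
      have := congrArg Prod.snd ha
      simpa [φ, N, Algebra.smul_def, mul_comm] using this
    apply eq_zero_of_isGlueable hA a _ n ha2
    have := congrArg (TensorProduct.comm R A R') ha1
    simpa using this
  have hinj := Module.Flat.lTensor_preserves_injective_linearMap (M := C) φ hφ
  have hc1 : c ⊗ₜ[R] (1 : R') = 0 := by
    have := congrArg (TensorProduct.comm R R' C) hc
    simpa using this
  have h1 : c ⊗ₜ[A] (((1 : A) ⊗ₜ[R] (1 : R'), (0 : A)) : N) = 0 := by
    have e1 := congrArg (TensorProduct.AlgebraTensorModule.cancelBaseChange R A A C R').symm hc1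
    rw [TensorProduct.AlgebraTensorModule.cancelBaseChange_symm_tmul, map_zero] at e1
    have e2 := congrArg (LinearMap.lTensor C (LinearMap.inl A (A ⊗[R] R') A)) e1
    simpa using e2
  have h2 : c ⊗ₜ[A] (((0 : A ⊗[R] R'), algebraMap R A (f ^ n)) : N) = 0 := by
    have : (((0 : A ⊗[R] R'), algebraMap R A (f ^ n)) : N) =
        algebraMap R A (f ^ n) • (((0 : A ⊗[R] R'), (1 : A)) : N) := by
      simp [N]
    rw [this, ← TensorProduct.smul_tmul, algebraMap_smul, hn, zero_tmul]
  have h3 : LinearMap.lTensor C φ (c ⊗ₜ[A] (1 : A)) = 0 := by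
    rw [LinearMap.lTensor_tmul]
    have : φ 1 = (((1 : A) ⊗ₜ[R] (1 : R'), (0 : A)) : N) +
        (((0 : A ⊗[R] R'), algebraMap R A (f ^ n)) : N) := by
      simp [φ, N]
    rw [this, tmul_add, h1, h2, add_zero]
  have h4 : c ⊗ₜ[A] (1 : A) = 0 := hinj (h3.trans (map_zero _).symm)
  have := congrArg (TensorProduct.rid A C) h4
  simpa using this

/-- An element which dies in flat neighbourhoods of all maximal ideals is zero. -/
theorem eq_zero_of_forall_flat {B : Type u} [CommRing B] (b : B)
    (H : ∀ (p : Ideal B), p.IsMaximal → ∃ (C : Type u) (_ : CommRing C) (β : B →+* C)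
      (q : Ideal C) (_ : q.IsPrime), β.Flat ∧ q.comap β = p ∧ β b = 0) : b = 0 := by
  apply eq_zero_of_localization
  intro p hp
  obtain ⟨C, _, β, q, hq, hβ, hqp, hb⟩ := H p hp
  subst hqp
  have hℓ : (Localization.localRingHom (q.comap β) q β rfl).Flat :=
    hβ.localRingHom q (q.comap β) rfl
  algebraize [Localization.localRingHom (q.comap β) q β rfl]
  have : IsLocalHom (algebraMap (Localization.AtPrime (q.comap β)) (Localization.AtPrime q)) := by
    rw [RingHom.algebraMap_toAlgebra]
    infer_instance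
  have hff := Module.FaithfullyFlat.of_flat_of_isLocalHom
    (A := Localization.AtPrime (q.comap β)) (B := Localization.AtPrime q)
  have hinj : Function.Injective (Localization.localRingHom (q.comap β) q β rfl) :=
    FaithfulSMul.algebraMap_injective (Localization.AtPrime (q.comap β)) (Localization.AtPrime q)
  apply hinj
  rw [map_zero, Localization.localRingHom_to_map, hb, map_zero]

end Groth.Agent.Lib.Helper24.EtGlue
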