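import Mathlib
import Groth.Prelude.Def_EtGlue
import Groth.Agent.Lib.Helper24.EtGlue

set_option autoImplicit false
universe u v
open TensorProduct

namespace Groth.Agent.Lib.Helper24.EtGlue

section decomp

variable {R R' : Type u} [CommRing R] [CommRing R'] [Algebra R R'] {f : R}

/-- Every element of `R' ⊗ M` is `1 ⊗ m` modulo `f ^ k`. -/
theorem exists_decomp' (hq : EtGlue.QuotPowBijective R R' f) {M : Type v} [AddCommGroup M]
    [Module R M] (k : ℕ) (hk : 0 < k) (t : R' ⊗[R] M) :
    ∃ (m : M) (t₂ : R' ⊗[R] M), t = (1 : R') ⊗ₜ[R] m + f ^ k • t₂ := by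
  induction t with
  | zero => exact ⟨0, 0, by simp⟩
  | tmul r' a =>
    obtain ⟨r, hr⟩ := exists_lifts hq k hk r'
    unfold Lifts at hr
    rw [Ideal.map_span, Set.image_singleton, Ideal.mem_span_singleton'] at hr
    obtain ⟨s', hs'⟩ := hr
    refine ⟨r • a, (-s') ⊗ₜ[R] a, ?_⟩
    have : r' = algebraMap R R' r + (algebraMap R R' (f ^ k)) * (-s') := by
      rw [mul_neg, mul_comm, hs']; ring
    conv_lhs => rw [this]
    rw [TensorProduct.add_tmul, TensorProduct.tmul_smul, TensorProduct.smul_tmul',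
      TensorProduct.smul_tmul', Algebra.smul_def, mul_one, Algebra.smul_def]
  | add x y hx hy =>
    obtain ⟨a₁, t₁, h1⟩ := hx
    obtain ⟨a₂, t₂, h2⟩ := hy
    refine ⟨a₁ + a₂, t₁ + t₂, ?_⟩
    rw [h1, h2, TensorProduct.tmul_add, smul_add]
    abel

theorem smul_tensor_eq_zero {M : Type v} [AddCommGroup M] [Module R M] (c : R)
    (hc : ∀ m : M, c • m = 0) (z : R' ⊗[R] M) : c • z = 0 := by
  induction z with
  | zero => simp
  | tmul r m => rw [← TensorProduct.tmul_smul, hc, tmul_zero]
  | add x y hx hy => rw [smul_add, hx, hy, add_zero]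

end decomp

section rel

variable {R R' : Type u} [CommRing R] [CommRing R'] [Algebra R R'] {f : R}
  {A : Type u} [CommRing A] [Algebra R A]

attribute [local instance] Algebra.TensorProduct.rightAlgebra

theorem algebraMap_right_apply (a : A) : algebraMap A (R' ⊗[R] A) a = (1 : R') ⊗ₜ[R] a := rfl

theorem one_tmul_algebraMap_pow (n : ℕ) (t : R' ⊗[R] A) :
    algebraMap A (R' ⊗[R] A) (algebraMap R A f ^ n) * t = f ^ n • t := by
  rw [algebraMap_right_apply, ← map_pow, Algebra.algebraMap_eq_smul_one, TensorProduct.tmul_smul,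
    ← Algebra.TensorProduct.one_def, smul_mul_assoc, one_mul]


theorem algebraMap_algebraMap_mul (c : R) (t : R' ⊗[R] A) :
    algebraMap A (R' ⊗[R] A) (algebraMap R A c) * t = c • t := by
  rw [algebraMap_right_apply, Algebra.algebraMap_eq_smul_one, TensorProduct.tmul_smul,
    ← Algebra.TensorProduct.one_def, smul_mul_assoc, one_mul]

/-- (1) the quotients modulo powers of `f` agree for `A → R' ⊗ A`. -/
theorem rel_quotPowBijective (hq : EtGlue.QuotPowBijective R R' f) :
    EtGlue.QuotPowBijective A (R' ⊗[R] A) (algebraMap R A f) := by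
  intro n hn
  constructor
  · apply Ideal.quotientMap_injective'
    intro a ha
    rw [Ideal.mem_comap, Ideal.map_span, Set.image_singleton, Ideal.mem_span_singleton'] at ha
    obtain ⟨t, ht⟩ := ha
    rw [mul_comm, one_tmul_algebraMap_pow] at ht
    -- pass to the quotient
    let I : Ideal A := Ideal.span {algebraMap R A f ^ n}
    let π : A →ₗ[R] A ⧸ I := (Ideal.Quotient.mkₐ R I).toLinearMap
    have hπ : ∀ b : A, π b = Ideal.Quotient.mk I b := fun _ => rfl
    have hkill : ∀ q : A ⧸ I, f ^ n • q = 0 := by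
      intro q
      obtain ⟨b, rfl⟩ := Ideal.Quotient.mk_surjective q
      rw [← hπ, ← map_smul, hπ, Ideal.Quotient.eq_zero_iff_mem, Algebra.smul_def, map_pow]
      exact Ideal.mul_mem_right _ _ (Ideal.subset_span rfl)
    have h0 : (1 : R') ⊗ₜ[R] π a = 0 := by
      have e1 : (1 : R') ⊗ₜ[R] π a = LinearMap.lTensor R' π (algebraMap A (R' ⊗[R] A) a) := by
        rw [algebraMap_right_apply, LinearMap.lTensor_tmul]
      rw [e1, ← ht, map_smul]
      exact smul_tensor_eq_zero _ hkill _
    have h1 : π a = 0 :=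
      one_tmul_injective hq (fun c => ⟨n, hkill c⟩) (π a) h0
    rw [hπ, Ideal.Quotient.eq_zero_iff_mem] at h1
    exact h1
  · intro x
    obtain ⟨t, rfl⟩ := Ideal.Quotient.mk_surjective x
    obtain ⟨a, t₂, ht⟩ := exists_decomp' hq n hn t
    refine ⟨Ideal.Quotient.mk _ a, ?_⟩
    rw [Ideal.quotientMap_mk, Ideal.Quotient.eq, ht, algebraMap_right_apply, sub_add_cancel_left,
      neg_mem_iff, ← one_tmul_algebraMap_pow]
    exact Ideal.mul_mem_right _ _ (Ideal.mem_map_of_mem _ (Ideal.subset_span rfl))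

theorem pow_smul_eq_mul (n : ℕ) (a : A) : f ^ n • a = algebraMap R A f ^ n * a := by
  rw [Algebra.smul_def, map_pow]

/-- equality in `Localization.Away f_A` versus `LocalizedModule (powers f) A`. -/
theorem away_eq_iff_mk_eq (a b : A) (n m : ℕ) :
    IsLocalization.mk' (Localization.Away (algebraMap R A f)) a
        (⟨algebraMap R A f ^ n, n, rfl⟩ : Submonoid.powers (algebraMap R A f)) =
      IsLocalization.mk' (Localization.Away (algebraMap R A f)) b
        (⟨algebraMap R A f ^ m, m, rfl⟩ : Submonoid.powers (algebraMap R A f)) ↔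
    LocalizedModule.mk a (⟨f ^ n, n, rfl⟩ : Submonoid.powers f) =
      LocalizedModule.mk b (⟨f ^ m, m, rfl⟩ : Submonoid.powers f) := by
  rw [IsLocalization.mk'_eq_iff_eq, IsLocalization.eq_iff_exists (Submonoid.powers (algebraMap R A f)),
    LocalizedModule.mk_eq]
  constructor
  · rintro ⟨⟨_, k, rfl⟩, hk⟩
    refine ⟨⟨f ^ k, k, rfl⟩, ?_⟩
    simp only [Submonoid.smul_def, pow_smul_eq_mul] at hk ⊢
    linear_combination hk
  · rintro ⟨⟨_, k, rfl⟩, hk⟩
    refine ⟨⟨algebraMap R A f ^ k, k, rfl⟩, ?_⟩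
    simp only [Submonoid.smul_def, pow_smul_eq_mul] at hk ⊢
    linear_combination hk

/-- (2) injectivity of `A → (R' ⊗ A) × A_f`. -/
theorem rel_injective (hA : EtGlue.IsGlueable R R' f A) :
    Function.Injective (fun a : A => (algebraMap A (R' ⊗[R] A) a,
      algebraMap A (Localization.Away (algebraMap R A f)) a)) := by
  intro a b hab
  apply hA.1
  have h1 := congrArg Prod.fst hab
  have h2 := congrArg Prod.snd hab
  simp only at h1 h2
  refine Prod.ext h1 ?_
  rw [IsLocalization.eq_iff_exists (Submonoid.powers (algebraMap R A f))] at h2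
  obtain ⟨⟨_, k, rfl⟩, hk⟩ := h2
  rw [IsLocalizedModule.eq_iff_exists (Submonoid.powers f)]
  refine ⟨⟨f ^ k, k, rfl⟩, ?_⟩
  simp only [Submonoid.smul_def, pow_smul_eq_mul]
  exact hk

theorem algebraMap_eq_mk'_iff (a₀ a : A) (n : ℕ) :
    algebraMap A (Localization.Away (algebraMap R A f)) a₀ =
      IsLocalization.mk' (Localization.Away (algebraMap R A f)) a
        (⟨algebraMap R A f ^ n, n, rfl⟩ : Submonoid.powers (algebraMap R A f)) ↔
    LocalizedModule.mkLinearMap (Submonoid.powers f) A a₀ =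
      LocalizedModule.mk a (⟨f ^ n, n, rfl⟩ : Submonoid.powers f) := by
  rw [IsLocalization.eq_mk'_iff_mul_eq, ← map_mul,
    IsLocalization.eq_iff_exists (Submonoid.powers (algebraMap R A f)),
    LocalizedModule.mkLinearMap_apply, LocalizedModule.mk_eq]
  constructor
  · rintro ⟨⟨_, k, rfl⟩, hk⟩
    refine ⟨⟨f ^ k, k, rfl⟩, ?_⟩
    simp only [Submonoid.smul_def, pow_smul_eq_mul, one_smul] at hk ⊢
    linear_combination hk
  · rintro ⟨⟨_, k, rfl⟩, hk⟩
    refine ⟨⟨algebraMap R A f ^ k, k, rfl⟩, ?_⟩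
    simp only [Submonoid.smul_def, pow_smul_eq_mul, one_smul] at hk ⊢
    linear_combination hk

theorem tensorOfLoc_mk (M : Type u) [AddCommGroup M] [Module R M] (m : M)
    (s : Submonoid.powers f) :
    EtGlue.tensorOfLoc R R' f M (LocalizedModule.mk m s) =
      LocalizedModule.mk ((1 : R') ⊗ₜ[R] m) s := by
  rw [EtGlue.tensorOfLoc, IsLocalizedModule.mk_eq_mk', IsLocalizedModule.map_mk',
    ← IsLocalizedModule.mk_eq_mk']
  rfl

/-- (3) middle exactness for `A → (R' ⊗ A) × A_f → (R' ⊗ A)_f`. -/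
theorem rel_middle (hA : EtGlue.IsGlueable R R' f A) (x : R' ⊗[R] A)
    (y : Localization.Away (algebraMap R A f))
    (hxy : algebraMap (R' ⊗[R] A)
        (Localization.Away (algebraMap A (R' ⊗[R] A) (algebraMap R A f))) x =
      Localization.awayMap (algebraMap A (R' ⊗[R] A)) (algebraMap R A f) y) :
    ∃ a : A, algebraMap A (R' ⊗[R] A) a = x ∧
      algebraMap A (Localization.Away (algebraMap R A f)) a = y := by
  obtain ⟨a, ⟨_, n, rfl⟩, rfl⟩ :=
    IsLocalization.exists_mk'_eq (Submonoid.powers (algebraMap R A f)) y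
  rw [Localization.awayMap, IsLocalization.Away.map, IsLocalization.map_mk',
    IsLocalization.eq_mk'_iff_mul_eq, ← map_mul,
    IsLocalization.eq_iff_exists
      (Submonoid.powers (algebraMap A (R' ⊗[R] A) (algebraMap R A f)))] at hxy
  obtain ⟨⟨_, k, rfl⟩, hk⟩ := hxy
  simp only [← map_pow] at hk
  rw [mul_comm x, algebraMap_algebraMap_mul, algebraMap_algebraMap_mul, algebraMap_algebraMap_mul,
    algebraMap_right_apply] at hk
  have hloc : EtGlue.locOfTensor R R' f A x =
      EtGlue.tensorOfLoc R R' f A (LocalizedModule.mk a (⟨f ^ n, n, rfl⟩ : Submonoid.powers f)) := by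
    rw [tensorOfLoc_mk, LocalizedModule.mkLinearMap_apply, LocalizedModule.mk_eq]
    refine ⟨⟨f ^ k, k, rfl⟩, ?_⟩
    simp only [Submonoid.smul_def, OneMemClass.coe_one, one_smul]
    exact hk
  obtain ⟨a₀, h1, h2⟩ := hA.2 x _ hloc
  exact ⟨a₀, h1, (algebraMap_eq_mk'_iff a₀ a n).mpr h2⟩

theorem tmul_one_eq_one_tmul (c : R) :
    (algebraMap R R' c) ⊗ₜ[R] (1 : A) = (1 : R') ⊗ₜ[R] (algebraMap R A c) := by
  rw [Algebra.algebraMap_eq_smul_one, Algebra.algebraMap_eq_smul_one, TensorProduct.smul_tmul]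

section surj

variable (R R' f A)

/-- the ring map `R'_f → (R' ⊗ A)_f`. -/
noncomputable def rho : Localization.Away (algebraMap R R' f) →+*
    Localization.Away (algebraMap A (R' ⊗[R] A) (algebraMap R A f)) :=
  IsLocalization.Away.lift (algebraMap R R' f)
    (g := (algebraMap (R' ⊗[R] A)
        (Localization.Away (algebraMap A (R' ⊗[R] A) (algebraMap R A f)))).comp
      (Algebra.TensorProduct.includeLeftRingHom : R' →+* R' ⊗[R] A)) (by
    have : (algebraMap R R' f) ⊗ₜ[R] (1 : A) = algebraMap A (R' ⊗[R] A) (algebraMap R A f) := by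
      rw [algebraMap_right_apply, tmul_one_eq_one_tmul]
    simp only [RingHom.comp_apply, Algebra.TensorProduct.includeLeftRingHom_apply, this]
    exact IsLocalization.Away.algebraMap_isUnit _)

theorem rho_algebraMap (c : R') :
    rho R R' f A (algebraMap R' (Localization.Away (algebraMap R R' f)) c) =
      algebraMap (R' ⊗[R] A) _ (c ⊗ₜ[R] (1 : A)) := by
  simp only [rho, IsLocalization.Away.lift_eq]
  rfl

theorem rho_comp :
    (rho R R' f A).comp (Localization.awayMap (algebraMap R R') f) =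
      (Localization.awayMap (algebraMap A (R' ⊗[R] A)) (algebraMap R A f)).comp
        (Localization.awayMap (algebraMap R A) f) := by
  apply IsLocalization.ringHom_ext (Submonoid.powers f)
  ext r
  simp only [RingHom.comp_apply, Localization.awayMap, IsLocalization.Away.map,
    IsLocalization.map_eq, rho_algebraMap]
  rw [tmul_one_eq_one_tmul]
  rfl

end surj

/-- (4) surjectivity of `(R' ⊗ A) × A_f → (R' ⊗ A)_f`. -/
theorem rel_surjective (h : EtGlue.IsGlueingPair R R' f)
    (z : Localization.Away (algebraMap A (R' ⊗[R] A) (algebraMap R A f))) :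
    ∃ (x : R' ⊗[R] A) (y : Localization.Away (algebraMap R A f)),
      algebraMap (R' ⊗[R] A)
          (Localization.Away (algebraMap A (R' ⊗[R] A) (algebraMap R A f))) x -
        Localization.awayMap (algebraMap A (R' ⊗[R] A)) (algebraMap R A f) y = z := by
  obtain ⟨t, ⟨_, n, rfl⟩, rfl⟩ := IsLocalization.exists_mk'_eq
    (Submonoid.powers (algebraMap A (R' ⊗[R] A) (algebraMap R A f))) z
  induction t with
  | zero => exact ⟨0, 0, by simp⟩
  | add t₁ t₂ h₁ h₂ =>
    obtain ⟨x₁, y₁, e₁⟩ := h₁
    obtain ⟨x₂, y₂, e₂⟩ := h₂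
    refine ⟨x₁ + x₂, y₁ + y₂, ?_⟩
    have hadd : ∀ (s : Submonoid.powers (algebraMap A (R' ⊗[R] A) (algebraMap R A f))),
        IsLocalization.mk' (Localization.Away (algebraMap A (R' ⊗[R] A) (algebraMap R A f)))
          (t₁ + t₂) s =
        IsLocalization.mk' _ t₁ s + IsLocalization.mk' _ t₂ s := by
      intro s
      rw [IsLocalization.mk'_eq_mul_mk'_one, map_add, add_mul,
        ← IsLocalization.mk'_eq_mul_mk'_one, ← IsLocalization.mk'_eq_mul_mk'_one]
    rw [hadd, ← e₁, ← e₂, map_add, map_add]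
    ring
  | tmul r' a =>
    obtain ⟨x₀, y₀, h0⟩ := h.2.2.2
      (IsLocalization.mk' (Localization.Away (algebraMap R R' f)) r'
        (⟨algebraMap R R' f ^ n, n, rfl⟩ : Submonoid.powers (algebraMap R R' f)))
    refine ⟨x₀ ⊗ₜ[R] a, Localization.awayMap (algebraMap R A) f y₀ *
      algebraMap A (Localization.Away (algebraMap R A f)) a, ?_⟩
    have e1 : algebraMap (R' ⊗[R] A)
          (Localization.Away (algebraMap A (R' ⊗[R] A) (algebraMap R A f))) (x₀ ⊗ₜ[R] a) =
        rho R R' f A (algebraMap R' _ x₀) * algebraMap (R' ⊗[R] A) _ ((1 : R') ⊗ₜ[R] a) := by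
      rw [rho_algebraMap, ← map_mul, Algebra.TensorProduct.tmul_mul_tmul, mul_one, one_mul]
    have e2 : Localization.awayMap (algebraMap A (R' ⊗[R] A)) (algebraMap R A f)
          (Localization.awayMap (algebraMap R A) f y₀ *
            algebraMap A (Localization.Away (algebraMap R A f)) a) =
        rho R R' f A (Localization.awayMap (algebraMap R R') f y₀) *
          algebraMap (R' ⊗[R] A) _ ((1 : R') ⊗ₜ[R] a) := by
      rw [map_mul, ← RingHom.comp_apply _ (Localization.awayMap (algebraMap R A) f), ← rho_comp,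
        RingHom.comp_apply]
      congr 1
      simp only [Localization.awayMap, IsLocalization.Away.map, IsLocalization.map_eq]
      rfl
    have e3 : IsLocalization.mk' (Localization.Away (algebraMap A (R' ⊗[R] A) (algebraMap R A f)))
          (r' ⊗ₜ[R] a)
          (⟨algebraMap A (R' ⊗[R] A) (algebraMap R A f) ^ n, n, rfl⟩ :
            Submonoid.powers (algebraMap A (R' ⊗[R] A) (algebraMap R A f))) =
        rho R R' f A (IsLocalization.mk' (Localization.Away (algebraMap R R' f)) r'
          (⟨algebraMap R R' f ^ n, n, rfl⟩ : Submonoid.powers (algebraMap R R' f))) *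
          algebraMap (R' ⊗[R] A) _ ((1 : R') ⊗ₜ[R] a) := by
      symm
      rw [IsLocalization.eq_mk'_iff_mul_eq]
      have hsn : algebraMap (R' ⊗[R] A)
            (Localization.Away (algebraMap A (R' ⊗[R] A) (algebraMap R A f)))
            (algebraMap A (R' ⊗[R] A) (algebraMap R A f) ^ n) =
          rho R R' f A (algebraMap R' _ (algebraMap R R' f ^ n)) := by
        rw [rho_algebraMap, algebraMap_right_apply, ← tmul_one_eq_one_tmul,
          Algebra.TensorProduct.tmul_pow, one_pow]
      simp only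
      rw [hsn, mul_right_comm, ← map_mul, IsLocalization.mk'_spec, rho_algebraMap, ← map_mul,
        Algebra.TensorProduct.tmul_mul_tmul, mul_one, one_mul]
    rw [e1, e2]
    erw [e3]
    rw [← sub_mul, ← map_sub, h0]

/-- A glueable algebra over a glueing pair gives a glueing pair `(A → R' ⊗ A, f)`. -/
theorem relPair (h : EtGlue.IsGlueingPair R R' f) (hA : EtGlue.IsGlueable R R' f A) :
    EtGlue.IsGlueingPair A (R' ⊗[R] A) (algebraMap R A f) :=
  ⟨rel_quotPowBijective h.1, rel_injective hA, fun x y hxy => rel_middle hA x y hxy,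
    fun z => rel_surjective h z⟩

end rel

end Groth.Agent.Lib.Helper24.EtGlue
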