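import Mathlib
import Groth.Prelude.Def_EtGlue
import Groth.Agent.Lib.Helper24.EtGlue
import Groth.Agent.Lib.Helper24.EtGlueRel
import Groth.Agent.S2002

set_option autoImplicit false
universe u v
open TensorProduct

namespace Groth.Agent.Lib.Helper24.EtGlue

section pushout

theorem flat_tensor_of_isPushout {A A' B B' : Type*} [CommRing A] [CommRing A'] [CommRing B]
    [CommRing B'] [Algebra A A'] [Algebra A B] [Algebra A' B'] [Algebra B B'] [Algebra A B']
    [IsScalarTower A A' B'] [IsScalarTower A B B'] [hpo : Algebra.IsPushout A A' B B']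
    [Module.Flat A' B'] : Module.Flat A' (A' ⊗[A] B) :=
  Module.Flat.of_linearEquiv hpo.out.equiv

end pushout

section flat

variable {R R' : Type u} [CommRing R] [CommRing R'] [Algebra R R'] {f : R}
  {A B : Type u} [CommRing A] [Algebra R A] [CommRing B] [Algebra R B]

attribute [local instance] Algebra.TensorProduct.rightAlgebra

/-- The square `A → B`, `A → R' ⊗ A`, `R' ⊗ B` is a pushout. -/
theorem isPushout_left (φ : A →ₐ[R] B) :
    letI : Algebra A B := φ.toRingHom.toAlgebra
    letI : Algebra (R' ⊗[R] A) (R' ⊗[R] B) :=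
      (Algebra.TensorProduct.map (AlgHom.id R R') φ).toRingHom.toAlgebra
    letI : Algebra A (R' ⊗[R] B) :=
      ((algebraMap B (R' ⊗[R] B)).comp φ.toRingHom).toAlgebra
    ∃ (_ : IsScalarTower A (R' ⊗[R] A) (R' ⊗[R] B)) (_ : IsScalarTower A B (R' ⊗[R] B)),
      Algebra.IsPushout A (R' ⊗[R] A) B (R' ⊗[R] B) := by
  letI iAB : Algebra A B := φ.toRingHom.toAlgebra
  letI iA'B' : Algebra (R' ⊗[R] A) (R' ⊗[R] B) :=
    (Algebra.TensorProduct.map (AlgHom.id R R') φ).toRingHom.toAlgebra
  letI iAB' : Algebra A (R' ⊗[R] B) :=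
    ((algebraMap B (R' ⊗[R] B)).comp φ.toRingHom).toAlgebra
  haveI t1 : IsScalarTower R A B := IsScalarTower.of_algebraMap_eq (fun r => (φ.commutes r).symm)
  haveI t2 : IsScalarTower A B (R' ⊗[R] B) := IsScalarTower.of_algebraMap_eq (fun _ => rfl)
  haveI t3 : IsScalarTower A (R' ⊗[R] A) (R' ⊗[R] B) :=
    IsScalarTower.of_algebraMap_eq (fun a => by
      show (1 : R') ⊗ₜ[R] φ a = Algebra.TensorProduct.map (AlgHom.id R R') φ ((1 : R') ⊗ₜ[R] a)
      simp)
  haveI t4 : IsScalarTower R (R' ⊗[R] A) (R' ⊗[R] B) :=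
    IsScalarTower.of_algebraMap_eq (fun r => by
      show algebraMap R (R' ⊗[R] B) r =
        Algebra.TensorProduct.map (AlgHom.id R R') φ (algebraMap R (R' ⊗[R] A) r)
      rw [AlgHom.commutes])
  haveI t5 : IsScalarTower R' (R' ⊗[R] A) (R' ⊗[R] B) :=
    IsScalarTower.of_algebraMap_eq (fun r' => by
      show r' ⊗ₜ[R] (1 : B) =
        Algebra.TensorProduct.map (AlgHom.id R R') φ (r' ⊗ₜ[R] (1 : A))
      simp)
  have hpo : Algebra.IsPushout A B (R' ⊗[R] A) (R' ⊗[R] B) :=
    (Algebra.IsPushout.comp_iff R A R' (S' := R' ⊗[R] A) (T := B) (T' := R' ⊗[R] B)).mp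
      inferInstance
  exact ⟨t3, t2, hpo.symm⟩

/-- The localization square is a pushout. -/
theorem isPushout_away (φ : A →+* B) (g : A) :
    letI : Algebra A B := φ.toAlgebra
    letI : Algebra (Localization.Away g) (Localization.Away (φ g)) :=
      (Localization.awayMap φ g).toAlgebra
    ∃ (_ : IsScalarTower A (Localization.Away g) (Localization.Away (φ g))),
      Algebra.IsPushout A (Localization.Away g) B (Localization.Away (φ g)) := by
  letI iAB : Algebra A B := φ.toAlgebra
  letI i2 : Algebra (Localization.Away g) (Localization.Away (φ g)) :=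
    (Localization.awayMap φ g).toAlgebra
  haveI t1 : IsScalarTower A (Localization.Away g) (Localization.Away (φ g)) :=
    IsScalarTower.of_algebraMap_eq (fun a => by
      rw [RingHom.algebraMap_toAlgebra]
      simp only [Localization.awayMap, IsLocalization.Away.map, IsLocalization.map_eq]
      rfl)
  haveI t2 : IsLocalization (Algebra.algebraMapSubmonoid B (Submonoid.powers g))
      (Localization.Away (φ g)) := by
    rw [Algebra.algebraMapSubmonoid, Submonoid.map_powers]
    exact (inferInstance : IsLocalization.Away (φ g) (Localization.Away (φ g)))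
  have hpo : Algebra.IsPushout A B (Localization.Away g) (Localization.Away (φ g)) :=
    Algebra.isPushout_of_isLocalization (Submonoid.powers g) (Localization.Away g) B
      (Localization.Away (φ g))
  exact ⟨t1, hpo.symm⟩

/-- Flatness glues along a glueing pair (relative version). -/
theorem flat_of_glue (hRR' : EtGlue.IsGlueingPair R R' f) (hA : EtGlue.IsGlueable R R' f A)
    (φ : A →ₐ[R] B)
    (h1 : (Localization.awayMap φ.toRingHom (algebraMap R A f)).Flat)
    (h2 : (Algebra.TensorProduct.map (AlgHom.id R R') φ).toRingHom.Flat) :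
    φ.toRingHom.Flat := by
  letI iAB : Algebra A B := φ.toRingHom.toAlgebra
  letI iA'B' : Algebra (R' ⊗[R] A) (R' ⊗[R] B) :=
    (Algebra.TensorProduct.map (AlgHom.id R R') φ).toRingHom.toAlgebra
  letI iAB' : Algebra A (R' ⊗[R] B) :=
    ((algebraMap B (R' ⊗[R] B)).comp φ.toRingHom).toAlgebra
  letI i2 : Algebra (Localization.Away (algebraMap R A f))
      (Localization.Away (φ.toRingHom (algebraMap R A f))) :=
    (Localization.awayMap φ.toRingHom (algebraMap R A f)).toAlgebra
  obtain ⟨t3, t2, hpo⟩ := isPushout_left (R' := R') φ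
  obtain ⟨t1, hpo2⟩ := isPushout_away φ.toRingHom (algebraMap R A f)
  have pair := relPair hRR' hA
  haveI : Module.Flat (R' ⊗[R] A) (R' ⊗[R] B) := h2
  haveI : Module.Flat (Localization.Away (algebraMap R A f))
      (Localization.Away (φ.toRingHom (algebraMap R A f))) := h1
  haveI : Module.Flat (R' ⊗[R] A) ((R' ⊗[R] A) ⊗[A] B) :=
    flat_tensor_of_isPushout (B' := R' ⊗[R] B)
  haveI : Module.Flat (Localization.Away (algebraMap R A f))
      (Localization.Away (algebraMap R A f) ⊗[A] B) :=
    flat_tensor_of_isPushout (B' := Localization.Away (φ.toRingHom (algebraMap R A f)))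
  exact Groth.Agent.S2002.flat_of pair B

end flat

end Groth.Agent.Lib.Helper24.EtGlue
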