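import Mathlib
import Groth.Prelude.Def_EtGlue
import Groth.Agent.Lib.Helper24.EtGlue
import Groth.Agent.Lib.Helper24.EtGlueRel
import Groth.Agent.Lib.Helper24.EtGlueFlat

set_option autoImplicit false
universe u v
open TensorProduct

namespace Groth.Agent.Lib.Helper24.EtGlue

section fg

variable {A : Type u} [CommRing A] (C : Type u) [CommRing C] [Algebra A C]
  {P B : Type u} [CommRing P] [Algebra A P] [CommRing B] [Algebra A B]

/-- The `A`-submodule of `ker π` cut out by an ideal `J₀`. -/
def subKer (π : P →ₐ[A] B) (J₀ : Ideal P) : Submodule A (LinearMap.ker π.toLinearMap) :=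
  Submodule.comap (LinearMap.ker π.toLinearMap).subtype (J₀.restrictScalars A)

theorem mem_subKer (π : P →ₐ[A] B) (J₀ : Ideal P) (j : LinearMap.ker π.toLinearMap) :
    j ∈ subKer π J₀ ↔ (j : P) ∈ J₀ := Iff.rfl

theorem exists_finset_tensor [Module.Flat A B] (π : P →ₐ[A] B) (hπ : Function.Surjective π)
    [Algebra.FinitePresentation C (C ⊗[A] P)] [Algebra.FinitePresentation C (C ⊗[A] B)] :
    ∃ S : Finset P, (∀ s ∈ S, π s = 0) ∧
      ∀ (J₀ : Ideal P), (S : Set P) ⊆ J₀ →
        ∀ j : LinearMap.ker π.toLinearMap, (1 : C) ⊗ₜ[A] j ∈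
          LinearMap.range (LinearMap.lTensor C (subKer π J₀).subtype) := by
  classical
  set J : Submodule A P := LinearMap.ker π.toLinearMap with hJ
  let πC : C ⊗[A] P →ₐ[C] C ⊗[A] B := Algebra.TensorProduct.map (AlgHom.id C C) π
  have hπC_apply : ∀ x, πC x = LinearMap.lTensor C π.toLinearMap x := by
    intro x
    induction x with
    | zero => simp
    | add a b ha hb => simp only [map_add, ha, hb]
    | tmul c p => rfl
  have hπC : Function.Surjective πC := by
    intro y
    obtain ⟨x, hx⟩ := LinearMap.lTensor_surjective C (g := π.toLinearMap) hπ y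
    exact ⟨x, (hπC_apply x).trans hx⟩
  obtain ⟨G, hG⟩ := Algebra.FinitePresentation.ker_fG_of_surjective πC hπC
  have hex : Function.Exact (LinearMap.lTensor C J.subtype) (LinearMap.lTensor C π.toLinearMap) :=
    lTensor_exact C (LinearMap.exact_subtype_ker_map _) hπ
  have hinj : Function.Injective (LinearMap.lTensor C J.subtype) :=
    LinearMap.lTensor_injective_of_exact_of_flat π.toLinearMap hπ J.subtype
      (Submodule.injective_subtype _) (LinearMap.exact_subtype_ker_map _) C
  have hker : ∀ x : C ⊗[A] P, x ∈ RingHom.ker πC.toRingHom ↔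
      x ∈ LinearMap.range (LinearMap.lTensor C J.subtype) := by
    intro x
    rw [RingHom.mem_ker]
    show πC x = 0 ↔ _
    rw [hπC_apply]
    exact hex x
  have hGr : ∀ g ∈ G, ∃ γ : C ⊗[A] J, LinearMap.lTensor C J.subtype γ = g := by
    intro g hg
    have : g ∈ RingHom.ker πC.toRingHom := by rw [← hG]; exact Ideal.subset_span hg
    exact (hker g).mp this
  choose! γ hγ using hGr
  obtain ⟨N', hN'fin, hN'⟩ := TensorProduct.exists_finite_submodule_right_of_setFinite
    (γ '' (G : Set (C ⊗[A] P))) (G.finite_toSet.image γ)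
  obtain ⟨S', hS'⟩ := Module.Finite.iff_fg.mp hN'fin
  refine ⟨S'.image Subtype.val, ?_, ?_⟩
  · intro s hs
    obtain ⟨j, _, rfl⟩ := Finset.mem_image.mp hs
    exact j.2
  · intro J₀ hSJ₀ j
    set N : Submodule A J := subKer π J₀ with hN
    have hN'N : N' ≤ N := by
      rw [← hS', Submodule.span_le]
      intro x hx
      rw [SetLike.mem_coe, hN, mem_subKer]
      exact hSJ₀ (by
        rw [Finset.coe_image]
        exact ⟨x, hx, rfl⟩)
    -- the ideal T
    let ιT : C ⊗[A] N →ₗ[A] C ⊗[A] P := LinearMap.lTensor C (J.subtype ∘ₗ N.subtype)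
    have hmul : ∀ (x : C ⊗[A] P) (τ : C ⊗[A] N), ∃ τ' : C ⊗[A] N, ιT τ' = x * ιT τ := by
      intro x τ
      induction x with
      | zero => exact ⟨0, by simp⟩
      | add x y hx hy =>
        obtain ⟨a, ha⟩ := hx
        obtain ⟨b, hb⟩ := hy
        exact ⟨a + b, by rw [map_add, ha, hb, add_mul]⟩
      | tmul c p =>
        induction τ with
        | zero => exact ⟨0, by simp⟩
        | add a b ha hb =>
          obtain ⟨a', ha'⟩ := ha
          obtain ⟨b', hb'⟩ := hb
          exact ⟨a' + b', by rw [map_add, ha', hb', map_add, mul_add]⟩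
        | tmul c' n =>
          have hpn : p * ((n : J) : P) ∈ J₀ := J₀.mul_mem_left p ((mem_subKer π J₀ n).mp n.2)
          have hpnJ : p * ((n : J) : P) ∈ J := by
            have h0 : π ((n : J) : P) = 0 := LinearMap.mem_ker.mp (n : J).2
            apply LinearMap.mem_ker.mpr
            show π (p * ((n : J) : P)) = 0
            rw [map_mul, h0, mul_zero]
          refine ⟨(c * c') ⊗ₜ[A] ⟨⟨p * ((n : J) : P), hpnJ⟩, hpn⟩, ?_⟩
          simp only [ιT, LinearMap.lTensor_tmul, LinearMap.comp_apply, Submodule.subtype_apply,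
            Algebra.TensorProduct.tmul_mul_tmul]
    let T : Ideal (C ⊗[A] P) :=
      { carrier := LinearMap.range ιT
        add_mem' := fun ha hb => Submodule.add_mem _ ha hb
        zero_mem' := Submodule.zero_mem _
        smul_mem' := by
          rintro x _ ⟨τ, rfl⟩
          obtain ⟨τ', hτ'⟩ := hmul x τ
          exact ⟨τ', hτ'⟩ }
    have hGT : (G : Set (C ⊗[A] P)) ⊆ T := by
      intro g hg
      obtain ⟨τ, hτ⟩ := hN' ⟨g, hg, rfl⟩
      refine ⟨LinearMap.lTensor C (Submodule.inclusion hN'N) τ, ?_⟩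
      rw [← hγ g hg, ← hτ]
      simp only [ιT, ← LinearMap.comp_apply, ← LinearMap.lTensor_comp]
      rfl
    have hkerT : RingHom.ker πC.toRingHom ≤ T := by
      rw [← hG]
      exact Ideal.span_le.mpr hGT
    have hj : LinearMap.lTensor C J.subtype ((1 : C) ⊗ₜ[A] j) ∈ T :=
      hkerT ((hker _).mpr ⟨_, rfl⟩)
    obtain ⟨τ, hτ⟩ := hj
    refine ⟨τ, hinj ?_⟩
    rw [← hτ]
    simp only [ιT, ← LinearMap.comp_apply, ← LinearMap.lTensor_comp]

end fg

section fp

variable {R R' : Type u} [CommRing R] [CommRing R'] [Algebra R R'] {f : R}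
  {A B : Type u} [CommRing A] [Algebra R A] [CommRing B] [Algebra R B]

attribute [local instance] Algebra.TensorProduct.rightAlgebra

theorem fp_tensor_of_isPushout {A A' B B' : Type u} [CommRing A] [CommRing A'] [CommRing B]
    [CommRing B'] [Algebra A A'] [Algebra A B] [Algebra A' B'] [Algebra B B'] [Algebra A B']
    [IsScalarTower A A' B'] [IsScalarTower A B B'] [hpo : Algebra.IsPushout A A' B B']
    [Algebra.FinitePresentation A' B'] : Algebra.FinitePresentation A' (A' ⊗[A] B) :=
  Algebra.FinitePresentation.equiv (Algebra.IsPushout.equiv A A' B B').symm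

/-- Finite presentation glues along a glueing pair, for flat maps of finite type. -/
theorem finitePresentation_of_glue (hRR' : EtGlue.IsGlueingPair R R' f)
    (φ : A →ₐ[R] B) (hflat : φ.toRingHom.Flat) (hft : φ.toRingHom.FiniteType)
    (h1 : (Localization.awayMap φ.toRingHom (algebraMap R A f)).FinitePresentation)
    (h2 : (Algebra.TensorProduct.map (AlgHom.id R R') φ).toRingHom.FinitePresentation) :
    φ.toRingHom.FinitePresentation := by
  classical
  letI iAB : Algebra A B := φ.toRingHom.toAlgebra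
  letI iA'B' : Algebra (R' ⊗[R] A) (R' ⊗[R] B) :=
    (Algebra.TensorProduct.map (AlgHom.id R R') φ).toRingHom.toAlgebra
  letI iAB' : Algebra A (R' ⊗[R] B) :=
    ((algebraMap B (R' ⊗[R] B)).comp φ.toRingHom).toAlgebra
  letI i2 : Algebra (Localization.Away (algebraMap R A f))
      (Localization.Away (φ.toRingHom (algebraMap R A f))) :=
    (Localization.awayMap φ.toRingHom (algebraMap R A f)).toAlgebra
  obtain ⟨t3, t2, hpo⟩ := isPushout_left (R' := R') φ
  obtain ⟨t1, hpo2⟩ := isPushout_away φ.toRingHom (algebraMap R A f)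
  haveI : Module.Flat A B := hflat
  haveI : Algebra.FinitePresentation (R' ⊗[R] A) (R' ⊗[R] B) := h2
  haveI : Algebra.FinitePresentation (Localization.Away (algebraMap R A f))
      (Localization.Away (φ.toRingHom (algebraMap R A f))) := h1
  haveI : Algebra.FinitePresentation (R' ⊗[R] A) ((R' ⊗[R] A) ⊗[A] B) :=
    fp_tensor_of_isPushout (B' := R' ⊗[R] B)
  haveI : Algebra.FinitePresentation (Localization.Away (algebraMap R A f))
      (Localization.Away (algebraMap R A f) ⊗[A] B) :=
    fp_tensor_of_isPushout (B' := Localization.Away (φ.toRingHom (algebraMap R A f)))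
  have hft' : Algebra.FiniteType A B := hft
  obtain ⟨n, π, hπ⟩ := Algebra.FiniteType.iff_quotient_mvPolynomial''.mp hft'
  obtain ⟨S₁, hS₁π, hS₁⟩ := exists_finset_tensor (Localization.Away (algebraMap R A f)) π hπ
  obtain ⟨S₂, hS₂π, hS₂⟩ := exists_finset_tensor (R' ⊗[R] A) π hπ
  let J₀ : Ideal (MvPolynomial (Fin n) A) := Ideal.span ((S₁ ∪ S₂ : Finset _) : Set _)
  have hJ₀ : J₀ ≤ RingHom.ker π.toRingHom := by
    apply Ideal.span_le.mpr
    intro x hx
    rw [Finset.coe_union] at hx
    rcases hx with hx | hx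
    · exact hS₁π x hx
    · exact hS₂π x hx
  have hsub1 : (S₁ : Set (MvPolynomial (Fin n) A)) ⊆ J₀ := fun x hx =>
    Ideal.subset_span (by rw [Finset.coe_union]; exact Or.inl hx)
  have hsub2 : (S₂ : Set (MvPolynomial (Fin n) A)) ⊆ J₀ := fun x hx =>
    Ideal.subset_span (by rw [Finset.coe_union]; exact Or.inr hx)
  have htop : subKer π J₀ = ⊤ := by
    apply eq_top_of_forall (R := A) (R' := R' ⊗[R] A) (f := algebraMap R A f)
      (rel_quotPowBijective hRR'.1) (subKer π J₀)
    · intro m
      obtain ⟨τ, hτ⟩ := hS₁ J₀ hsub1 m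
      have h0 : (1 : Localization.Away (algebraMap R A f)) ⊗ₜ[A] ((subKer π J₀).mkQ m) = 0 := by
        have e1 : (1 : Localization.Away (algebraMap R A f)) ⊗ₜ[A] ((subKer π J₀).mkQ m) =
            LinearMap.lTensor _ (subKer π J₀).mkQ
              ((1 : Localization.Away (algebraMap R A f)) ⊗ₜ[A] m) := by
          rw [LinearMap.lTensor_tmul]
        rw [e1, ← hτ, ← LinearMap.comp_apply, ← LinearMap.lTensor_comp]
        have : (subKer π J₀).mkQ ∘ₗ (subKer π J₀).subtype = 0 := by
          ext x; simp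
        rw [this, LinearMap.lTensor_zero, LinearMap.zero_apply]
      have h1' : TensorProduct.mk A (Localization.Away (algebraMap R A f)) _ 1
          ((subKer π J₀).mkQ m) = 0 := h0
      obtain ⟨⟨_, k, rfl⟩, hk⟩ := (IsLocalizedModule.eq_zero_iff
        (Submonoid.powers (algebraMap R A f)) _).mp h1'
      refine ⟨k, ?_⟩
      rw [Submonoid.smul_def, ← map_smul] at hk
      exact (Submodule.Quotient.mk_eq_zero _).mp hk
    · intro m
      exact hS₂ J₀ hsub2 m
  have hker : RingHom.ker π.toRingHom = J₀ := by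
    apply le_antisymm _ hJ₀
    intro x hx
    have hx' : x ∈ LinearMap.ker π.toLinearMap := hx
    have : (⟨x, hx'⟩ : LinearMap.ker π.toLinearMap) ∈ subKer π J₀ := by rw [htop]; trivial
    exact this
  exact ⟨n, π, hπ, hker ▸ ⟨S₁ ∪ S₂, rfl⟩⟩

end fp

end Groth.Agent.Lib.Helper24.EtGlue
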