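import Mathlib
import Groth.Prelude.Def_DRing2
import Groth.Agent.Lib.Helper68.LeftDerivedLES

set_option autoImplicit false
universe u v' u' v'' u''

open CategoryTheory CategoryTheory.Limits MonoidalCategory TensorProduct

namespace Groth.Agent.Lib.Helper24.TorOne

open Groth.Agent.Lib.Helper68

section general

variable {C : Type u'} [Category.{v'} C] [Abelian C] [HasProjectiveResolutions C]
variable {D : Type u''} [Category.{v''} D] [Abelian D] (F : C ⥤ D) [F.Additive]
  [PreservesFiniteColimits F]

theorem isZero_leftDerived_one {S : ShortComplex C} (hS : S.ShortExact) [Projective S.X₂]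
    (hf : Mono (F.map S.f)) : IsZero ((F.leftDerived 1).obj S.X₃) := by
  have h2 : IsZero ((F.leftDerived 1).obj S.X₂) :=
    Functor.isZero_leftDerived_obj_projective_succ F 0 S.X₂
  have hmono := LeftDerivedLES.mono_δ F hS 0 h2
  have hL0mono : Mono ((F.leftDerived 0).map S.f) := by
    have e := F.leftDerivedZeroIsoSelf
    have hnat : (F.leftDerived 0).map S.f ≫ e.hom.app S.X₂ = e.hom.app S.X₁ ≫ F.map S.f :=
      e.hom.naturality S.f
    have h3 : Mono ((F.leftDerived 0).map S.f ≫ e.hom.app S.X₂) := by
      rw [hnat]
      exact mono_comp _ _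
    exact mono_of_mono _ (e.hom.app S.X₂)
  have hδ0 : LeftDerivedLES.δ F hS 0 = 0 := by
    rw [← cancel_mono ((F.leftDerived 0).map S.f), LeftDerivedLES.δ_map_f, zero_comp]
  rw [IsZero.iff_id_eq_zero, ← cancel_mono (LeftDerivedLES.δ F hS 0), hδ0, comp_zero, comp_zero]

end general

variable {R : Type u} [CommRing R]

theorem tor_one_subsingleton_of_ses (N : Type u) [AddCommGroup N] [Module R N]
    {K P C : Type u} [AddCommGroup K] [Module R K] [AddCommGroup P] [Module R P]
    [AddCommGroup C] [Module R C] [Module.Projective R P]
    (i : K →ₗ[R] P) (p : P →ₗ[R] C) (hi : Function.Injective i) (hp : Function.Surjective p)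
    (hex : Function.Exact i p)
    (hinj : Function.Injective (LinearMap.lTensor N i)) :
    Subsingleton (DRing.Tor R 1 N C) := by
  let S : ShortComplex (ModuleCat.{u} R) :=
    ShortComplex.mk (ModuleCat.ofHom i) (ModuleCat.ofHom p) (by
      ext x
      simpa using hex.apply_apply_eq_zero x)
  have hS : S.ShortExact := by
    refine ShortComplex.ShortExact.mk' ?_ ?_ ?_
    · rw [ShortComplex.ShortExact.moduleCat_exact_iff_function_exact]
      exact hex
    · exact (ModuleCat.mono_iff_injective _).mpr hi
    · exact (ModuleCat.epi_iff_surjective _).mpr hp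
  let F : ModuleCat.{u} R ⥤ ModuleCat.{u} R :=
    (tensoringLeft (ModuleCat.{u} R)).obj (ModuleCat.of R N)
  have : Projective S.X₂ := by
    change Projective (ModuleCat.of R P)
    exact (IsProjective.iff_projective (R := R) (P := P)).mp inferInstance
  have hFmono : Mono (F.map S.f) := by
    rw [ModuleCat.mono_iff_injective]
    exact hinj
  have hFc : PreservesFiniteColimits F := by
    have : PreservesColimitsOfSize.{0, 0} F :=
      (ihom.adjunction (ModuleCat.of R N)).leftAdjoint_preservesColimits
    exact PreservesColimitsOfSize.preservesFiniteColimits F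
  have hz : IsZero ((F.leftDerived 1).obj S.X₃) := isZero_leftDerived_one F hS hFmono
  exact ModuleCat.subsingleton_of_isZero hz

end Groth.Agent.Lib.Helper24.TorOne
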