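import Mathlib
import Groth.Agent.Lib.Helper24.EtGlueRel
import Groth.Agent.Lib.Helper24.TorOne

set_option autoImplicit false
universe u v w
open TensorProduct

namespace Groth.Agent.Lib.Helper24.EtGlue

variable {R R' : Type u} [CommRing R] [CommRing R'] [Algebra R R'] {f : R}

/-- For an `f`-power torsion module, `c ↦ 1 ⊗ c` is surjective. -/
theorem exists_one_tmul (hq : EtGlue.QuotPowBijective R R' f) {C : Type v} [AddCommGroup C]
    [Module R C] (hC : ∀ c : C, ∃ n : ℕ, f ^ n • c = 0) (x : R' ⊗[R] C) :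
    ∃ c : C, (1 : R') ⊗ₜ[R] c = x := by
  induction x with
  | zero => exact ⟨0, by simp⟩
  | add a b ha hb =>
    obtain ⟨c, rfl⟩ := ha
    obtain ⟨d, rfl⟩ := hb
    exact ⟨c + d, by rw [tmul_add]⟩
  | tmul r' c =>
    obtain ⟨n, hn⟩ := hC c
    have hn1 : f ^ (n + 1) • c = 0 := by rw [pow_succ', mul_smul, hn, smul_zero]
    obtain ⟨r, hr⟩ := exists_lifts hq (n + 1) (Nat.succ_pos n) r'
    rw [Lifts, Ideal.map_span, Set.image_singleton, Ideal.mem_span_singleton'] at hr
    obtain ⟨s, hs⟩ := hr
    refine ⟨r • c, ?_⟩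
    have e : r' = r • (1 : R') - f ^ (n + 1) • s := by
      rw [Algebra.smul_def, Algebra.smul_def, mul_one, mul_comm, hs]
      ring
    rw [e, sub_tmul, TensorProduct.smul_tmul, TensorProduct.smul_tmul, hn1, tmul_zero, sub_zero]

/-- For a glueing pair, `R' ⊗ K → R' ⊗ R` is injective for an ideal `K` of `f`-power torsion. -/
theorem lTensor_subtype_injective_of_torsion (h : EtGlue.IsGlueingPair R R' f) (K : Submodule R R)
    (hK : ∀ k ∈ K, ∃ n : ℕ, f ^ n * k = 0) :
    Function.Injective (LinearMap.lTensor R' K.subtype) := by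
  intro x y hxy
  have hK' : ∀ k : K, ∃ n : ℕ, f ^ n • k = 0 := fun k => by
    obtain ⟨n, hn⟩ := hK k k.2
    exact ⟨n, Subtype.ext (by simpa using hn)⟩
  obtain ⟨a, rfl⟩ := exists_one_tmul h.1 hK' x
  obtain ⟨b, rfl⟩ := exists_one_tmul h.1 hK' y
  rw [LinearMap.lTensor_tmul, LinearMap.lTensor_tmul] at hxy
  have h1 := congrArg (TensorProduct.rid R R') hxy
  simp only [TensorProduct.rid_tmul, Submodule.subtype_apply] at h1
  have hz : ∀ k : K, algebraMap R (Localization.Away f) k = 0 := by
    intro k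
    obtain ⟨n, hn⟩ := hK k k.2
    rw [IsLocalization.map_eq_zero_iff (Submonoid.powers f)]
    exact ⟨⟨f ^ n, n, rfl⟩, hn⟩
  have hab : (a : R) = b := by
    apply h.2.1
    refine Prod.ext ?_ ?_
    · simpa [Algebra.smul_def] using h1
    · simp [hz]
  rw [Subtype.ext hab]

section loc

variable {N : Type*} {K : Type*} {P : Type*} {C : Type*} [AddCommGroup N] [Module R N]
  [AddCommGroup K] [Module R K] [AddCommGroup P] [Module R P] [AddCommGroup C] [Module R C]

theorem away_tensor_eq_zero (f : R) (hC : ∀ c : C, ∃ n : ℕ, f ^ n • c = 0)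
    (z : Localization.Away f ⊗[R] C) : z = 0 := by
  induction z with
  | zero => rfl
  | add a b ha hb => rw [ha, hb, add_zero]
  | tmul a c =>
    obtain ⟨n, hn⟩ := hC c
    have hu : IsUnit (algebraMap R (Localization.Away f) (f ^ n)) := by
      rw [map_pow]
      exact (IsLocalization.Away.algebraMap_isUnit f).pow n
    obtain ⟨u, hu⟩ := hu
    have : a = f ^ n • (((u⁻¹ : (Localization.Away f)ˣ) : Localization.Away f) * a) := by
      rw [Algebra.smul_def, ← hu, ← mul_assoc, Units.mul_inv, one_mul]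
    rw [this, TensorProduct.smul_tmul, hn, tmul_zero]

/-- If `C = P / K` is `f`-power torsion, the kernel of `N ⊗ K → N ⊗ P` is `f`-power torsion. -/
theorem exists_pow_smul_eq_zero_of_lTensor_eq_zero (f : R) (i : K →ₗ[R] P) (p : P →ₗ[R] C)
    (hi : Function.Injective i) (hp : Function.Surjective p) (hex : Function.Exact i p)
    (hC : ∀ c : C, ∃ n : ℕ, f ^ n • c = 0) (x : N ⊗[R] K) (hx : LinearMap.lTensor N i x = 0) :
    ∃ n : ℕ, f ^ n • x = 0 := by
  let Rf := Localization.Away f
  have h1 : Function.Bijective (LinearMap.lTensor Rf i) := by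
    refine ⟨Module.Flat.lTensor_preserves_injective_linearMap (M := Rf) i hi, ?_⟩
    intro y
    have hy : LinearMap.lTensor Rf p y = 0 := away_tensor_eq_zero f hC _
    exact (lTensor_exact Rf hex hp y).mp hy
  let e : Rf ⊗[R] K ≃ₗ[R] Rf ⊗[R] P := LinearEquiv.ofBijective (LinearMap.lTensor Rf i) h1
  have h2 : Function.Injective (LinearMap.lTensor N (LinearMap.lTensor Rf i)) := by
    have : LinearMap.lTensor N (LinearMap.lTensor Rf i) = (LinearEquiv.lTensor N e : _ →ₗ[R] _) := by
      rw [LinearEquiv.coe_lTensor]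
      rfl
    rw [this]
    exact (LinearEquiv.lTensor N e).injective
  have h3 : LinearMap.lTensor N (TensorProduct.mk R Rf K 1) x = 0 := by
    apply h2
    rw [map_zero, ← LinearMap.comp_apply, ← LinearMap.lTensor_comp]
    have : LinearMap.lTensor Rf i ∘ₗ TensorProduct.mk R Rf K 1 = TensorProduct.mk R Rf P 1 ∘ₗ i := by
      ext k
      simp
    rw [this, LinearMap.lTensor_comp, LinearMap.comp_apply, hx, map_zero]
  have h4 : ∀ x : N ⊗[R] K,
      TensorProduct.leftComm R N Rf K (LinearMap.lTensor N (TensorProduct.mk R Rf K 1) x) =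
      (1 : Rf) ⊗ₜ[R] x := by
    intro x
    induction x with
    | zero => simp
    | add a b ha hb => rw [map_add, map_add, tmul_add, ha, hb]
    | tmul n k => simp
  have h5 : TensorProduct.mk R Rf (N ⊗[R] K) 1 x = 0 := by
    rw [TensorProduct.mk_apply, ← h4, h3, map_zero]
  obtain ⟨⟨_, n, rfl⟩, hc⟩ := (IsLocalizedModule.eq_zero_iff (Submonoid.powers f)
    (TensorProduct.mk R Rf (N ⊗[R] K) 1)).mp h5
  exact ⟨n, hc⟩

end loc


/-- For a glueing pair and `C` an `f`-power torsion module with a free presentation `P → C`,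
`R' ⊗ K → R' ⊗ P` is injective. -/
theorem lTensor_ker_injective_of_torsion (h : EtGlue.IsGlueingPair R R' f) {C P : Type u}
    [AddCommGroup C] [Module R C] (hC : ∀ c : C, ∃ n : ℕ, f ^ n • c = 0)
    [AddCommGroup P] [Module R P] [Module.Free R P]
    (p : P →ₗ[R] C) (hp : Function.Surjective p) :
    Function.Injective (LinearMap.lTensor R' (LinearMap.ker p).subtype) := by
  classical
  have hex : Function.Exact (LinearMap.ker p).subtype p := LinearMap.exact_subtype_ker_map p
  rw [injective_iff_map_eq_zero]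
  intro x hx
  obtain ⟨n, hn⟩ := exists_pow_smul_eq_zero_of_lTensor_eq_zero f (LinearMap.ker p).subtype p
    (LinearMap.ker p).injective_subtype hp hex hC x hx
  have hxy : EtGlue.locOfTensor R R' f (LinearMap.ker p) x =
      EtGlue.tensorOfLoc R R' f (LinearMap.ker p) 0 := by
    rw [map_zero, EtGlue.locOfTensor, IsLocalizedModule.eq_zero_iff (Submonoid.powers f)]
    exact ⟨⟨f ^ n, n, rfl⟩, hn⟩
  obtain ⟨m, rfl, hm⟩ := middle_exact (LinearMap.ker p) h x 0 hxy
  obtain ⟨⟨_, j, rfl⟩, hj⟩ := (IsLocalizedModule.eq_zero_iff (Submonoid.powers f)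
    (LocalizedModule.mkLinearMap (Submonoid.powers f) (LinearMap.ker p))).mp hm
  have hj' : f ^ j • (m : P) = 0 := by
    have hj2 : f ^ j • m = 0 := hj
    have := congrArg (fun k : LinearMap.ker p => (k : P)) hj2
    simpa using this
  rw [LinearMap.lTensor_tmul, Submodule.subtype_apply] at hx
  let b := Module.Free.chooseBasis R P
  have hm0 : (m : P) = 0 := by
    rw [← Module.Basis.forall_coord_eq_zero_iff b]
    intro c
    apply h.2.1
    refine Prod.ext ?_ ?_
    · have h1 := congrArg
        (fun t => TensorProduct.rid R R' (LinearMap.lTensor R' (b.coord c) t)) hx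
      simpa [Algebra.smul_def] using h1
    · simp only [map_zero]
      rw [IsLocalization.map_eq_zero_iff (Submonoid.powers f)]
      refine ⟨⟨f ^ j, j, rfl⟩, ?_⟩
      have := congrArg (b.coord c) hj'
      simpa using this
  have : m = 0 := Subtype.ext hm0
  rw [this, tmul_zero]

/-- For a glueing pair, `Tor_1^R(R', C) = 0` for every `f`-power torsion module `C`. -/
theorem tor_one_subsingleton_of_torsion (h : EtGlue.IsGlueingPair R R' f) (C : Type u)
    [AddCommGroup C] [Module R C] (hC : ∀ c : C, ∃ n : ℕ, f ^ n • c = 0) :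
    Subsingleton (DRing.Tor R 1 R' C) := by
  classical
  have key : ∀ {P : Type u} [AddCommGroup P] [Module R P] [Module.Free R P]
      (p : P →ₗ[R] C) (hp : Function.Surjective p), Subsingleton (DRing.Tor R 1 R' C) := by
    intro P _ _ _ p hp
    exact TorOne.tor_one_subsingleton_of_ses R' (LinearMap.ker p).subtype p
      (LinearMap.ker p).injective_subtype hp (LinearMap.exact_subtype_ker_map p)
      (lTensor_ker_injective_of_torsion h hC p hp)
  exact key (P := C →₀ R) (Finsupp.linearCombination R (id : C → C))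
    (fun c => ⟨Finsupp.single c 1, by simp⟩)

end Groth.Agent.Lib.Helper24.EtGlue
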