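import Mathlib
import Groth.Prelude.Def_EtGlue
import Groth.Agent.Lib.Helper24.EtGlue
import Groth.Agent.Lib.Helper24.EtGlueRel
import Groth.Agent.Lib.Helper24.EtGlueFlat

set_option autoImplicit false
universe u v
open TensorProduct

namespace Groth.Agent.Lib.Helper24.EtGlue

section unram

variable {R R' : Type u} [CommRing R] [CommRing R'] [Algebra R R'] {f : R}
  {A B : Type u} [CommRing A] [Algebra R A] [CommRing B] [Algebra R B]

attribute [local instance] Algebra.TensorProduct.rightAlgebra

open KaehlerDifferential in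
/-- Being formally unramified glues along a glueing pair. -/
theorem formallyUnramified_of_glue (hRR' : EtGlue.IsGlueingPair R R' f)
    (φ : A →ₐ[R] B)
    (h1 : (Localization.awayMap φ.toRingHom (algebraMap R A f)).FormallyUnramified)
    (h2 : (Algebra.TensorProduct.map (AlgHom.id R R') φ).toRingHom.FormallyUnramified) :
    φ.toRingHom.FormallyUnramified := by
  letI iAB : Algebra A B := φ.toRingHom.toAlgebra
  letI iA'B' : Algebra (R' ⊗[R] A) (R' ⊗[R] B) :=
    (Algebra.TensorProduct.map (AlgHom.id R R') φ).toRingHom.toAlgebra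
  letI iAB' : Algebra A (R' ⊗[R] B) :=
    ((algebraMap B (R' ⊗[R] B)).comp φ.toRingHom).toAlgebra
  letI i2 : Algebra (Localization.Away (algebraMap R A f))
      (Localization.Away (φ.toRingHom (algebraMap R A f))) :=
    (Localization.awayMap φ.toRingHom (algebraMap R A f)).toAlgebra
  obtain ⟨t3, t2, hpo⟩ := isPushout_left (R' := R') φ
  obtain ⟨t1, hpo2⟩ := isPushout_away φ.toRingHom (algebraMap R A f)
  haveI u2 : Algebra.FormallyUnramified (R' ⊗[R] A) (R' ⊗[R] B) := h2
  haveI u1 : Algebra.FormallyUnramified (Localization.Away (algebraMap R A f))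
      (Localization.Away (φ.toRingHom (algebraMap R A f))) := h1
  let e₂ := KaehlerDifferential.tensorKaehlerEquiv A (R' ⊗[R] A) B (R' ⊗[R] B)
  let e₁ := KaehlerDifferential.tensorKaehlerEquiv A (Localization.Away (algebraMap R A f)) B
    (Localization.Away (φ.toRingHom (algebraMap R A f)))
  haveI s2 : Subsingleton ((R' ⊗[R] B) ⊗[B] Ω[B⁄A]) := e₂.toEquiv.subsingleton
  haveI s1 : Subsingleton ((Localization.Away (φ.toRingHom (algebraMap R A f))) ⊗[B] Ω[B⁄A]) :=
    e₁.toEquiv.subsingleton
  have hfB : φ.toRingHom (algebraMap R A f) = algebraMap R B f := φ.commutes f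
  refine ⟨⟨fun ω₁ ω₂ => ?_⟩⟩
  suffices h : ∀ ω : Ω[B⁄A], ω = 0 by rw [h ω₁, h ω₂]
  intro ω
  apply eq_zero_of_torsion_of_tmul (R := B) (R' := R' ⊗[R] B) (f := algebraMap R B f)
    (rel_quotPowBijective (A := B) hRR'.1)
  · intro c
    have h0 : TensorProduct.mk B (Localization.Away (φ.toRingHom (algebraMap R A f))) Ω[B⁄A] 1 c
        = 0 := Subsingleton.elim _ _
    obtain ⟨⟨_, k, rfl⟩, hk⟩ := (IsLocalizedModule.eq_zero_iff
      (Submonoid.powers (φ.toRingHom (algebraMap R A f))) _).mp h0
    refine ⟨k, ?_⟩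
    rw [← hfB]
    exact hk
  · intro c
    exact Subsingleton.elim _ _

end unram

end Groth.Agent.Lib.Helper24.EtGlue
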