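import Mathlib

universe u v
set_option autoImplicit false
set_option linter.unusedSectionVars false

namespace Groth.Agent.Lib.Helper24.ExtRees

open DirectSum

section GradedSub

variable {ι : Type} [DecidableEq ι] [AddMonoid ι] {A : Type u} [CommRing A] {B : Type v} [CommRing B]
  [Algebra A B] (ℬ : ι → Submodule A B) [GradedAlgebra ℬ] (S : Subalgebra A B)

/-- the induced pieces on a subalgebra. -/
def subGrading (i : ι) : AddSubgroup S := (ℬ i).toAddSubgroup.comap S.val.toRingHom.toAddMonoidHom

theorem mem_subGrading {i : ι} {x : S} : x ∈ subGrading ℬ S i ↔ (x : B) ∈ ℬ i := Iff.rfl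

/-- inclusion of pieces. -/
def pieceIncl (i : ι) : subGrading ℬ S i →+ ℬ i where
  toFun x := ⟨(x.1 : B), x.2⟩
  map_zero' := rfl
  map_add' _ _ := rfl

theorem pieceIncl_injective (i : ι) : Function.Injective (pieceIncl ℬ S i) := by
  intro x y h
  apply Subtype.ext
  apply Subtype.ext
  exact congrArg (fun z : ℬ i => (z : B)) h

theorem subtype_comp_coe :
    (S.val.toRingHom.toAddMonoidHom).comp (DirectSum.coeAddMonoidHom (subGrading ℬ S)) =
      (DirectSum.coeAddMonoidHom ℬ).comp (DirectSum.map (pieceIncl ℬ S)) := by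
  apply DirectSum.addHom_ext
  intro i x
  simp only [AddMonoidHom.comp_apply, DirectSum.coeAddMonoidHom_of, DirectSum.map_of]
  rfl

theorem subGrading_isInternal
    (hS : ∀ x ∈ S, ∀ i, (DirectSum.decompose ℬ x i : B) ∈ S) :
    DirectSum.IsInternal (subGrading ℬ S) := by
  classical
  constructor
  · rw [injective_iff_map_eq_zero]
    intro z hz
    have h1 := DFunLike.congr_fun (subtype_comp_coe ℬ S) z
    simp only [AddMonoidHom.comp_apply] at h1
    rw [hz, map_zero] at h1
    have h2 : DirectSum.map (pieceIncl ℬ S) z = 0 := by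
      have hinj := (DirectSum.Decomposition.isInternal ℬ).1
      apply hinj
      rw [map_zero]
      exact h1.symm
    have h3 : Function.Injective (DirectSum.map (pieceIncl ℬ S)) :=
      (DirectSum.map_injective _).mpr (pieceIncl_injective ℬ S)
    apply h3
    rw [h2, map_zero]
  · intro x
    refine ⟨∑ i ∈ (DirectSum.decompose ℬ (x : B)).support,
      DirectSum.of (fun i => subGrading ℬ S i) i
        ⟨⟨(DirectSum.decompose ℬ (x : B) i : B), hS _ x.2 i⟩,
          (DirectSum.decompose ℬ (x : B) i).2⟩, ?_⟩
    apply Subtype.ext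
    rw [map_sum]
    simp only [DirectSum.coeAddMonoidHom_of]
    rw [AddSubmonoidClass.coe_finsetSum]
    exact DirectSum.sum_support_decompose ℬ (x : B)

instance subGrading_gradedMonoid : SetLike.GradedMonoid (subGrading ℬ S) where
  one_mem := SetLike.GradedOne.one_mem (A := ℬ)
  mul_mem _ _ _ _ hx hy := SetLike.GradedMul.mul_mem (A := ℬ) hx hy

/-- the induced graded ring structure on a homogeneous subalgebra. -/
@[instance_reducible]
noncomputable def subGradedRing
    (hS : ∀ x ∈ S, ∀ i, (DirectSum.decompose ℬ x i : B) ∈ S) : GradedRing (subGrading ℬ S) :=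
  { subGrading_gradedMonoid ℬ S with
    toDecomposition := (subGrading_isInternal ℬ S hS).chooseDecomposition }

theorem coe_decompose_subGrading
    (hS : ∀ x ∈ S, ∀ i, (DirectSum.decompose ℬ x i : B) ∈ S) (x : S) (i : ι) :
    letI := subGradedRing ℬ S hS
    ((DirectSum.decompose (subGrading ℬ S) x i : S) : B) = DirectSum.decompose ℬ (x : B) i := by
  let _ := subGradedRing ℬ S hS
  have h1 := DFunLike.congr_fun (subtype_comp_coe ℬ S) (DirectSum.decompose (subGrading ℬ S) x)
  simp only [AddMonoidHom.comp_apply] at h1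
  have h2 : DirectSum.coeAddMonoidHom (subGrading ℬ S) (DirectSum.decompose (subGrading ℬ S) x)
      = x := DirectSum.Decomposition.left_inv x
  rw [h2] at h1
  have h3 : DirectSum.decompose ℬ (x : B) =
      DirectSum.map (pieceIncl ℬ S) (DirectSum.decompose (subGrading ℬ S) x) := by
    apply (DirectSum.decompose ℬ).symm.injective
    rw [Equiv.symm_apply_apply]
    exact h1
  rw [h3, DirectSum.map_apply]
  rfl

end GradedSub

end Groth.Agent.Lib.Helper24.ExtRees
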