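import Mathlib
import Groth.Prelude.Def_CAlg
import Groth.Prelude.Def_W4c2filtblowupsingRees
import Groth.Agent.Lib.Helper24.ExtReesA

universe u
set_option autoImplicit false
set_option linter.unusedSectionVars false

namespace Groth.Agent.Lib.Helper24.ExtRees

open DirectSum LaurentPolynomial FiltBl

section Basic

variable {A : Type u} [CommRing A] (𝓕 : FiltBl.IdealFiltration A)

theorem decompose_grade_coe (f : LaurentPolynomial A) (i : ℤ) :
    (DirectSum.decompose (AddMonoidAlgebra.grade A : ℤ → Submodule A (AddMonoidAlgebra A ℤ)) f i :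
      AddMonoidAlgebra A ℤ) = AddMonoidAlgebra.single i (f.coeff i) := by
  classical
  induction f using AddMonoidAlgebra.induction_linear with
  | zero => simp
  | add x y hx hy =>
    rw [DirectSum.decompose_add, DirectSum.add_apply, Submodule.coe_add, hx, hy,
      AddMonoidAlgebra.coeff_add, Finsupp.add_apply, AddMonoidAlgebra.single_add]
  | single m r =>
    rw [AddMonoidAlgebra.grade.decompose_single]
    by_cases h : m = i
    · subst h
      rw [DirectSum.of_eq_same, AddMonoidAlgebra.coeff_single, Finsupp.single_eq_same]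
    · rw [DirectSum.of_eq_of_ne _ _ _ (Ne.symm h), AddMonoidAlgebra.coeff_single,
        Finsupp.single_apply, if_neg h, AddMonoidAlgebra.single_zero]
      rfl

theorem mem_extRees_iff (f : LaurentPolynomial A) :
    f ∈ 𝓕.extRees ↔ ∀ n : ℤ, f.coeff n ∈ 𝓕.F n.toNat := Iff.rfl

theorem single_mem_extRees (i : ℤ) (a : A) (ha : a ∈ 𝓕.F i.toNat) :
    (AddMonoidAlgebra.single i a : LaurentPolynomial A) ∈ 𝓕.extRees := by
  intro n
  rw [AddMonoidAlgebra.coeff_single]
  by_cases h : i = n
  · subst h
    rw [Finsupp.single_eq_same]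
    exact ha
  · rw [Finsupp.single_eq_of_ne (Ne.symm h)]
    exact Ideal.zero_mem _

theorem extRees_homog : ∀ x ∈ 𝓕.extRees, ∀ i : ℤ,
    (DirectSum.decompose (AddMonoidAlgebra.grade A : ℤ → Submodule A (AddMonoidAlgebra A ℤ)) x i :
      AddMonoidAlgebra A ℤ) ∈ 𝓕.extRees := by
  intro x hx i
  rw [decompose_grade_coe]
  exact single_mem_extRees 𝓕 i _ (hx i)

/-- the `ℤ`-grading of the extended Rees algebra. -/
noncomputable abbrev gr : ℤ → AddSubgroup 𝓕.extRees :=
  subGrading (AddMonoidAlgebra.grade A : ℤ → Submodule A (AddMonoidAlgebra A ℤ)) 𝓕.extRees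

noncomputable instance grGradedRing : GradedRing (gr 𝓕) :=
  subGradedRing _ _ (extRees_homog 𝓕)

theorem coe_decompose_gr (x : 𝓕.extRees) (i : ℤ) :
    ((DirectSum.decompose (gr 𝓕) x i : 𝓕.extRees) : LaurentPolynomial A) =
      AddMonoidAlgebra.single i ((x : LaurentPolynomial A).coeff i) := by
  have h := coe_decompose_subGrading
    (AddMonoidAlgebra.grade A : ℤ → Submodule A (AddMonoidAlgebra A ℤ)) 𝓕.extRees
    (extRees_homog 𝓕) x i
  rw [← decompose_grade_coe]
  exact h

/-- `u` is a nonzerodivisor. -/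
theorem u_regular : IsSMulRegular 𝓕.extRees 𝓕.u := by
  intro x y hxy
  have h : (𝓕.u * x : 𝓕.extRees) = 𝓕.u * y := hxy
  have h2 : (T (-1) : LaurentPolynomial A) * x.1 = T (-1) * y.1 :=
    congrArg (fun z : 𝓕.extRees => z.1) h
  apply Subtype.ext
  exact (LaurentPolynomial.isUnit_T (-1)).mul_left_cancel h2

end Basic

end Groth.Agent.Lib.Helper24.ExtRees
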