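import Mathlib
import Groth.Prelude.Def_CAlg
import Groth.Prelude.Def_W4c2filtblowupsingRees
import Groth.Agent.Lib.Helper24.ExtReesB

universe u
set_option autoImplicit false
set_option linter.unusedSectionVars false

namespace Groth.Agent.Lib.Helper24.ExtRees

open DirectSum LaurentPolynomial FiltBl

section Noeth

variable {A : Type u} [CommRing A] (𝓕 : FiltBl.IdealFiltration A)

theorem toLaurent_mem_extRees (p : Polynomial A) (hp : p ∈ 𝓕.rees) :
    Polynomial.toLaurent p ∈ 𝓕.extRees := by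
  rw [Polynomial.as_sum_support p, map_sum]
  refine Subalgebra.sum_mem _ (fun n _ => ?_)
  rw [Polynomial.toLaurent_C_mul_T, ← LaurentPolynomial.single_eq_C_mul_T]
  apply single_mem_extRees
  rw [Int.toNat_natCast]
  exact hp n

/-- the inclusion of the Rees algebra in the extended Rees algebra. -/
noncomputable def reesToExt : 𝓕.rees →ₐ[A] 𝓕.extRees :=
  AlgHom.codRestrict ((Polynomial.toLaurentAlg).comp 𝓕.rees.val) 𝓕.extRees
    (fun x => by
      rw [AlgHom.comp_apply, Polynomial.toLaurentAlg_apply]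
      exact toLaurent_mem_extRees 𝓕 _ x.2)

theorem coe_reesToExt (x : 𝓕.rees) :
    ((reesToExt 𝓕 x : 𝓕.extRees) : LaurentPolynomial A) = Polynomial.toLaurent (x : Polynomial A) :=
  rfl

theorem monomial_mem_rees (n : ℕ) (a : A) (ha : a ∈ 𝓕.F n) :
    Polynomial.monomial n a ∈ 𝓕.rees := by
  intro m
  rw [Polynomial.coeff_monomial]
  split_ifs with h
  · subst h; exact ha
  · exact Ideal.zero_mem _

theorem coe_u_pow (k : ℕ) : ((𝓕.u ^ k : 𝓕.extRees) : LaurentPolynomial A) = T (-(k : ℤ)) := by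
  rw [SubmonoidClass.coe_pow]
  show (T (-1) : LaurentPolynomial A) ^ k = _
  rw [LaurentPolynomial.T_pow]
  congr 1
  ring

theorem homog_mem_adjoin (s : Set 𝓕.rees) (hs : Algebra.adjoin A s = ⊤) (i : ℤ) (a : A)
    (ha : a ∈ 𝓕.F i.toNat) :
    (⟨AddMonoidAlgebra.single i a, single_mem_extRees 𝓕 i a ha⟩ : 𝓕.extRees) ∈
      Algebra.adjoin A (reesToExt 𝓕 '' s ∪ {𝓕.u}) := by
  by_cases hi : 0 ≤ i
  · obtain ⟨n, rfl⟩ := Int.eq_ofNat_of_zero_le hi
    rw [Int.toNat_natCast] at ha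
    have h1 : (⟨AddMonoidAlgebra.single (n : ℤ) a, single_mem_extRees 𝓕 n a
        (by rw [Int.toNat_natCast]; exact ha)⟩ : 𝓕.extRees) =
        reesToExt 𝓕 ⟨Polynomial.monomial n a, monomial_mem_rees 𝓕 n a ha⟩ := by
      apply Subtype.ext
      rw [coe_reesToExt]
      show AddMonoidAlgebra.single (n : ℤ) a = Polynomial.toLaurent (Polynomial.monomial n a)
      rw [Polynomial.toLaurent_C_mul_T, ← LaurentPolynomial.single_eq_C_mul_T]
    rw [h1]
    have h2 : (⟨Polynomial.monomial n a, monomial_mem_rees 𝓕 n a ha⟩ : 𝓕.rees) ∈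
        Algebra.adjoin A s := by rw [hs]; trivial
    have h3 : reesToExt 𝓕 ⟨Polynomial.monomial n a, monomial_mem_rees 𝓕 n a ha⟩ ∈
        (Algebra.adjoin A s).map (reesToExt 𝓕) := ⟨_, h2, rfl⟩
    rw [AlgHom.map_adjoin] at h3
    exact Algebra.adjoin_mono Set.subset_union_left h3
  · push Not at hi
    obtain ⟨k, hk⟩ : ∃ k : ℕ, i = -(k : ℤ) := ⟨(-i).toNat, by omega⟩
    subst hk
    have h1 : (⟨AddMonoidAlgebra.single (-(k : ℤ)) a, single_mem_extRees 𝓕 _ a ha⟩ : 𝓕.extRees) =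
        a • 𝓕.u ^ k := by
      apply Subtype.ext
      show AddMonoidAlgebra.single (-(k : ℤ)) a = a • ((𝓕.u ^ k : 𝓕.extRees) : LaurentPolynomial A)
      rw [coe_u_pow, LaurentPolynomial.single_eq_C_mul_T, LaurentPolynomial.smul_eq_C_mul]
    rw [h1]
    apply Subalgebra.smul_mem
    apply Subalgebra.pow_mem
    apply Algebra.subset_adjoin
    exact Set.mem_union_right _ rfl

theorem finiteType_extRees (hfg : Algebra.FiniteType A 𝓕.rees) :
    Algebra.FiniteType A 𝓕.extRees := by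
  classical
  obtain ⟨s, hs⟩ := hfg.out
  refine ⟨⟨s.image (reesToExt 𝓕) ∪ {𝓕.u}, ?_⟩⟩
  rw [eq_top_iff]
  intro x _
  rw [Finset.coe_union, Finset.coe_image, Finset.coe_singleton]
  rw [← DirectSum.sum_support_decompose (gr 𝓕) x]
  refine Subalgebra.sum_mem _ (fun i _ => ?_)
  have h1 : (DirectSum.decompose (gr 𝓕) x i : 𝓕.extRees) =
      ⟨AddMonoidAlgebra.single i ((x : LaurentPolynomial A).coeff i),
        single_mem_extRees 𝓕 i _ (x.2 i)⟩ := by
    apply Subtype.ext
    exact coe_decompose_gr 𝓕 x i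
  rw [h1]
  exact homog_mem_adjoin 𝓕 (↑s) hs i _ (x.2 i)

theorem isNoetherianRing_extRees [IsNoetherianRing A] (hfg : Algebra.FiniteType A 𝓕.rees) :
    IsNoetherianRing 𝓕.extRees := by
  have := finiteType_extRees 𝓕 hfg
  exact Algebra.FiniteType.isNoetherianRing A 𝓕.extRees

end Noeth

end Groth.Agent.Lib.Helper24.ExtRees
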