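import Mathlib
import Groth.Prelude.Def_CAlg
import Groth.Prelude.Def_W4c2filtblowupsingRees
import Groth.Agent.Lib.Helper24.ExtReesC
import Groth.Agent.Lib.Helper77.CMQuot

universe u
set_option autoImplicit false
set_option linter.unusedSectionVars false

namespace Groth.Agent.Lib.Helper24.ExtRees

open DirectSum LaurentPolynomial FiltBl IsLocalRing LocCoh

section Homog

variable {A : Type u} [CommRing A] [IsLocalRing A] (𝓕 : FiltBl.IdealFiltration A)

theorem F_one_le_of_iInf (hsep : ⨅ n, 𝓕.F n = ⊥) : 𝓕.F 1 ≤ maximalIdeal A := by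
  apply IsLocalRing.le_maximalIdeal
  intro h1
  have hall : ∀ n : ℕ, 𝓕.F n = ⊤ := by
    intro n
    induction n with
    | zero => exact 𝓕.zero_eq
    | succ n ih =>
      have := 𝓕.mul_le n 1
      rw [ih, h1, Ideal.top_mul] at this
      exact top_le_iff.mp this
  have : (⊤ : Ideal A) = ⊥ := by
    rw [← hsep]
    simp [hall]
  exact top_ne_bot this

theorem sup_span_u_ne_top (hF1 : 𝓕.F 1 ≤ maximalIdeal A) (Q : Ideal 𝓕.extRees)
    (hQ : Q.IsHomogeneous (gr 𝓕)) (hne : Q ≠ ⊤) : Q ⊔ Ideal.span {𝓕.u} ≠ ⊤ := by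
  intro h
  have h1 : (1 : 𝓕.extRees) ∈ Q ⊔ Ideal.span {𝓕.u} := by rw [h]; trivial
  obtain ⟨q, hq, z, hz, hqz⟩ := Submodule.mem_sup.mp h1
  obtain ⟨g, rfl⟩ := Ideal.mem_span_singleton'.mp hz
  have hq0 : (DirectSum.decompose (gr 𝓕) q 0 : 𝓕.extRees) ∈ Q := hQ 0 hq
  have hcoe := coe_decompose_gr 𝓕 q 0
  have hc : (q.1 + g.1 * (T (-1) : LaurentPolynomial A)).coeff 0 =
      (1 : LaurentPolynomial A).coeff 0 := by
    have := congrArg (fun z : 𝓕.extRees => z.1.coeff 0) hqz
    exact this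
  have hT : (T (-1) : LaurentPolynomial A) = AddMonoidAlgebra.single (-1) 1 := rfl
  rw [AddMonoidAlgebra.coeff_add, Finsupp.add_apply, hT, AddMonoidAlgebra.coeff_mul_single_apply,
    mul_one] at hc
  have h1c : (1 : LaurentPolynomial A).coeff 0 = 1 := by
    rw [← LaurentPolynomial.T_zero, LaurentPolynomial.T_apply, if_pos rfl]
  rw [h1c] at hc
  have hb : g.1.coeff (0 + -(-1)) ∈ maximalIdeal A := by
    apply hF1
    have := g.2 (0 + -(-1))
    simpa using this
  have hu : IsUnit (q.1.coeff 0) := by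
    have : q.1.coeff 0 = 1 - g.1.coeff (0 + -(-1)) := by rw [← hc]; ring
    rw [this]
    exact IsLocalRing.isUnit_one_sub_self_of_mem_nonunits _ hb
  obtain ⟨c, hc'⟩ := hu.exists_left_inv
  apply hne
  rw [Ideal.eq_top_iff_one]
  have : (1 : 𝓕.extRees) = algebraMap A 𝓕.extRees c * (DirectSum.decompose (gr 𝓕) q 0 : 𝓕.extRees) := by
    apply Subtype.ext
    show (1 : LaurentPolynomial A) = (algebraMap A (LaurentPolynomial A) c) *
      ((DirectSum.decompose (gr 𝓕) q 0 : 𝓕.extRees) : LaurentPolynomial A)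
    rw [hcoe, ← LaurentPolynomial.C_eq_algebraMap, ← LaurentPolynomial.single_eq_C,
      AddMonoidAlgebra.single_mul_single, zero_add, hc']
    rfl
  rw [this]
  exact Q.mul_mem_left _ hq0

end Homog

section CM

variable (S : Type u) [CommRing S]

/-- a Noetherian local ring is CM if its quotient by a nonzerodivisor `y ∈ m` is. -/
theorem isCM_of_quot_regular [IsNoetherianRing S] [IsLocalRing S] (y : S)
    (hy : y ∈ maximalIdeal S) (hreg : IsSMulRegular S y) (J : Ideal S) (hJ : J = Ideal.span {y})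
    [hq : IsCohenMacaulayLocalRing (S ⧸ J)] : IsCohenMacaulayLocalRing S := by
  subst hJ
  have hloc : IsLocalRing (S ⧸ Ideal.span {y}) := hq.toIsLocalRing
  have h1 := ringKrullDim_quotient_span_singleton_succ_eq_ringKrullDim hreg hy
  have h2 := Groth.Agent.Lib.Helper4.GorCM.depth_quot_add_one S y hy hreg
  obtain ⟨d, hd⟩ := Groth.Agent.Lib.Helper77.FlatDepth.exists_nat_dim S
  obtain ⟨e, he⟩ := Groth.Agent.Lib.Helper77.FlatDepth.exists_nat_depth S
  obtain ⟨d', hd'⟩ := Groth.Agent.Lib.Helper77.FlatDepth.exists_nat_dim (S ⧸ Ideal.span {y})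
  obtain ⟨e', he'⟩ := Groth.Agent.Lib.Helper77.FlatDepth.exists_nat_depth (S ⧸ Ideal.span {y})
  have hcm := (Groth.Agent.Lib.Helper77.FlatDepth.isCM_iff_nat _ d' e' hd' he').mp hq
  rw [Groth.Agent.Lib.Helper77.FlatDepth.isCM_iff_nat _ d e hd he]
  rw [hd, hd'] at h1
  rw [he, he'] at h2
  have h1' : d' + 1 = d := by exact_mod_cast h1
  have h2' : e' + 1 = e := by exact_mod_cast h2
  omega

end CM

end Groth.Agent.Lib.Helper24.ExtRees
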