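import Mathlib
import Groth.Prelude.Def_CAlg
import Groth.Prelude.Def_W4c2filtblowupsingRees
import Groth.Agent.Lib.Helper24.ExtReesD
import Groth.Agent.Lib.Helper24.Linkage2
import Groth.Agent.Lib.Helper52.GrDepthMain
import Groth.Agent.Lib.Helper52.GrDimMain
import Groth.Agent.Lib.Helper56.FibreCM
import Groth.Agent.Lib.Helper56.DepthAss
import Groth.Agent.Lib.Helper11.CMLocalize

universe u
set_option autoImplicit false
set_option linter.unusedSectionVars false

namespace Groth.Agent.Lib.Helper24.ExtRees

open DirectSum LaurentPolynomial FiltBl IsLocalRing LocCoh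

section General

variable {R : Type u} [CommRing R] [IsNoetherianRing R]

/-- CM at a prime containing a nonzerodivisor `u` can be tested modulo `u`. -/
theorem cm_loc_iff_cm_loc_quot (u : R) (hu : IsSMulRegular R u) (P : Ideal R) [P.IsPrime]
    (huP : u ∈ P) (𝔭 : Ideal (R ⧸ Ideal.span {u})) [𝔭.IsPrime]
    (h𝔭 : 𝔭.comap (Ideal.Quotient.mk (Ideal.span {u})) = P) :
    IsCohenMacaulayLocalRing (Localization.AtPrime 𝔭) ↔
      IsCohenMacaulayLocalRing (Localization.AtPrime P) := by
  let e := Groth.Agent.Lib.Helper24.Linkage2.locQuotEquiv R (Ideal.span {u}) P 𝔭 h𝔭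
  have hJ : (Ideal.span {u}).map (algebraMap R (Localization.AtPrime P)) =
      Ideal.span {algebraMap R (Localization.AtPrime P) u} := by
    rw [Ideal.map_span, Set.image_singleton]
  have hmem : algebraMap R (Localization.AtPrime P) u ∈ maximalIdeal (Localization.AtPrime P) :=
    (IsLocalization.AtPrime.to_map_mem_maximal_iff (Localization.AtPrime P) P u).mpr huP
  have hreg : IsSMulRegular (Localization.AtPrime P) (algebraMap R (Localization.AtPrime P) u) :=
    IsSMulRegular.of_flat hu
  constructor
  · intro h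
    have h1 : IsCohenMacaulayLocalRing (Localization.AtPrime P ⧸
        (Ideal.span {u}).map (algebraMap R (Localization.AtPrime P))) :=
      Groth.Agent.Lib.Helper56.isCohenMacaulayLocalRing_of_ringEquiv e h
    exact isCM_of_quot_regular _ _ hmem hreg _ hJ
  · intro h
    have h1 : IsCohenMacaulayLocalRing (Localization.AtPrime P ⧸
        (Ideal.span {u}).map (algebraMap R (Localization.AtPrime P))) :=
      Groth.Agent.Lib.Helper77.CMQuot.isCM_quot_of_regular _ _ hmem hreg _ hJ
    exact Groth.Agent.Lib.Helper56.isCohenMacaulayLocalRing_of_ringEquiv e.symm h1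

/-- CM at the homogeneous core implies CM at the prime (`ℤ`-graded Noetherian ring). -/
theorem cm_of_cm_core (𝒜 : ℤ → AddSubgroup R) [GradedRing 𝒜] (P : Ideal R) [P.IsPrime]
    [hq : (Ideal.homogeneousCore 𝒜 P).toIdeal.IsPrime]
    (h : IsCohenMacaulayLocalRing (Localization.AtPrime (Ideal.homogeneousCore 𝒜 P).toIdeal)) :
    IsCohenMacaulayLocalRing (Localization.AtPrime P) := by
  set Q := (Ideal.homogeneousCore 𝒜 P).toIdeal with hQ
  have hQP : Q ≤ P := Ideal.toIdeal_homogeneousCore_le 𝒜 P
  have hpr : (P.map (Ideal.Quotient.mk Q)).IsPrime :=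
    Ideal.map_isPrime_of_surjective Ideal.Quotient.mk_surjective (by rw [Ideal.mk_ker]; exact hQP)
  have hfin : (P.map (Ideal.Quotient.mk Q)).height ≠ ⊤ := Ideal.height_ne_top hpr.ne_top
  obtain ⟨d, hd⟩ := ENat.ne_top_iff_exists.mp hfin
  have h1 := Groth.Agent.Lib.Helper52.GrDepthMain.depth_localization_eq_add_height_core 𝒜 𝒜 P d
    hd.symm
  have h2 := Groth.Agent.Lib.Helper52.GrDimMain.supportDim_localization_eq_add_height_core 𝒜 𝒜 P d
    hd.symm
  rw [Groth.Agent.Lib.Helper56.depth_localizedModule_self,
    Groth.Agent.Lib.Helper56.depth_localizedModule_self] at h1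
  rw [Groth.Agent.Lib.Helper56.supportDim_localizedModule_self,
    Groth.Agent.Lib.Helper56.supportDim_localizedModule_self] at h2
  have hN : IsNoetherianRing (Localization.AtPrime P) :=
    IsLocalization.isNoetherianRing P.primeCompl _ inferInstance
  refine { supportDim_eq_depth := ?_ }
  rw [h2, h1, h.supportDim_eq_depth]
  push_cast
  rfl

end General

end Groth.Agent.Lib.Helper24.ExtRees
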