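import Mathlib
import Groth.Prelude.Def_CAlg
import Groth.Prelude.Def_W4c2filtblowupsingRees
import Groth.Agent.Lib.Helper24.ExtReesE

universe u
set_option autoImplicit false
set_option linter.unusedSectionVars false

namespace Groth.Agent.Lib.Helper24.ExtRees

open DirectSum LaurentPolynomial FiltBl IsLocalRing LocCoh

section Main

variable {A : Type u} [CommRing A] [IsNoetherianRing A] [IsLocalRing A]
  (𝓕 : FiltBl.IdealFiltration A)

/-- CM at primes containing `u`, from CM of the associated graded ring. -/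
theorem cm_loc_of_cm_gr [IsNoetherianRing 𝓕.extRees] (h : LocCoh.IsCohenMacaulayRing 𝓕.Gr)
    (P : Ideal 𝓕.extRees) [P.IsPrime] (huP : 𝓕.u ∈ P) :
    IsCohenMacaulayLocalRing (Localization.AtPrime P) := by
  have hle : Ideal.span {𝓕.u} ≤ P := (Ideal.span_singleton_le_iff_mem _).mpr huP
  have hpr : (P.map (Ideal.Quotient.mk (Ideal.span {𝓕.u}))).IsPrime :=
    Ideal.map_isPrime_of_surjective Ideal.Quotient.mk_surjective (by rw [Ideal.mk_ker]; exact hle)
  have hcomap : (P.map (Ideal.Quotient.mk (Ideal.span {𝓕.u}))).comap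
      (Ideal.Quotient.mk (Ideal.span {𝓕.u})) = P := by
    rw [Ideal.comap_map_of_surjective' _ Ideal.Quotient.mk_surjective, Ideal.mk_ker,
      sup_eq_left.mpr hle]
  exact (cm_loc_iff_cm_loc_quot 𝓕.u (u_regular 𝓕) P huP _ hcomap).mp
    (h.isCohenMacaulayLocalRing_localization _)

theorem cm_extRees_iff_cm_gr (hsep : ⨅ n, 𝓕.F n = ⊥) (hfg : Algebra.FiniteType A 𝓕.rees) :
    LocCoh.IsCohenMacaulayRing 𝓕.extRees ↔ LocCoh.IsCohenMacaulayRing 𝓕.Gr := by
  have hN : IsNoetherianRing 𝓕.extRees := isNoetherianRing_extRees 𝓕 hfg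
  have hF1 := F_one_le_of_iInf 𝓕 hsep
  constructor
  · intro h
    refine { isCohenMacaulayLocalRing_localization := fun 𝔭 _ => ?_ }
    have hP : (𝔭.comap (Ideal.Quotient.mk (Ideal.span {𝓕.u}))).IsPrime := Ideal.comap_isPrime _ _
    have huP : 𝓕.u ∈ 𝔭.comap (Ideal.Quotient.mk (Ideal.span {𝓕.u})) := by
      rw [Ideal.mem_comap]
      have : Ideal.Quotient.mk (Ideal.span {𝓕.u}) 𝓕.u = 0 :=
        Ideal.Quotient.eq_zero_iff_mem.mpr (Ideal.subset_span rfl)
      rw [this]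
      exact 𝔭.zero_mem
    exact (cm_loc_iff_cm_loc_quot 𝓕.u (u_regular 𝓕) _ huP 𝔭 rfl).mpr
      (h.isCohenMacaulayLocalRing_localization _)
  · intro h
    refine { isCohenMacaulayLocalRing_localization := fun P _ => ?_ }
    by_cases huP : 𝓕.u ∈ P
    · exact cm_loc_of_cm_gr 𝓕 h P huP
    · have hq : (Ideal.homogeneousCore (gr 𝓕) P).toIdeal.IsPrime :=
        Ideal.IsPrime.homogeneousCore ‹_›
      apply cm_of_cm_core (gr 𝓕) P
      have hQne := sup_span_u_ne_top 𝓕 hF1 (Ideal.homogeneousCore (gr 𝓕) P).toIdeal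
        (Ideal.homogeneousCore (gr 𝓕) P).isHomogeneous hq.ne_top
      obtain ⟨𝔑, h𝔑max, hle⟩ := Ideal.exists_le_maximal _ hQne
      have h𝔑p : 𝔑.IsPrime := h𝔑max.isPrime
      have hu𝔑 : 𝓕.u ∈ 𝔑 := hle (Ideal.mem_sup_right (Ideal.subset_span rfl))
      have hCM𝔑 := cm_loc_of_cm_gr 𝓕 h 𝔑 hu𝔑
      exact Groth.Agent.Lib.Helper11.CMLocalize.isCohenMacaulayLocalRing_atPrime_of_le _ 𝔑 _
        (le_sup_left.trans hle)

end Main

end Groth.Agent.Lib.Helper24.ExtRees
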