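import Mathlib
import Groth.Prelude.Def_CAlg
import Groth.Prelude.Def_W4c2filtblowupsingRees
import Groth.Agent.Lib.Helper24.ExtReesF

universe u
set_option autoImplicit false
set_option linter.unusedSectionVars false

namespace Groth.Agent.Lib.Helper24.ExtRees

open DirectSum LaurentPolynomial FiltBl IsLocalRing LocCoh

section Loc

variable {A : Type u} [CommRing A] (𝓕 : FiltBl.IdealFiltration A)

theorem algebraMap_extRees_apply (x : 𝓕.extRees) :
    algebraMap 𝓕.extRees (LaurentPolynomial A) x = x.1 := rfl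

theorem exists_mul_T_mem (z : LaurentPolynomial A) :
    ∃ N : ℕ, z * T (-(N : ℤ)) ∈ 𝓕.extRees := by
  classical
  refine ⟨z.coeff.support.sup (fun m => m.toNat), ?_⟩
  intro k
  have hT : (T (-((z.coeff.support.sup (fun m => m.toNat) : ℕ) : ℤ)) : LaurentPolynomial A) =
      AddMonoidAlgebra.single (-((z.coeff.support.sup (fun m => m.toNat) : ℕ) : ℤ)) 1 := rfl
  rw [hT, AddMonoidAlgebra.coeff_mul_single_apply, mul_one]
  by_cases hk : k ≤ 0
  · have : k.toNat = 0 := Int.toNat_of_nonpos hk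
    rw [this, 𝓕.zero_eq]
    trivial
  · push Not at hk
    have hz : z.coeff (k + - -((z.coeff.support.sup (fun m => m.toNat) : ℕ) : ℤ)) = 0 := by
      by_contra hne
      have hmem : (k + - -((z.coeff.support.sup (fun m => m.toNat) : ℕ) : ℤ)) ∈ z.coeff.support :=
        Finsupp.mem_support_iff.mpr hne
      have hle := Finset.le_sup (f := fun m : ℤ => m.toNat) hmem
      have hle' : (k + - -((z.coeff.support.sup (fun m => m.toNat) : ℕ) : ℤ)).toNat ≤
          z.coeff.support.sup (fun m => m.toNat) := hle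
      omega
    rw [hz]
    exact Ideal.zero_mem _

instance isLocalization_away : IsLocalization.Away 𝓕.u (LaurentPolynomial A) where
  map_units := by
    rintro ⟨y, n, rfl⟩
    show IsUnit (algebraMap 𝓕.extRees (LaurentPolynomial A) (𝓕.u ^ n))
    rw [algebraMap_extRees_apply, coe_u_pow]
    exact LaurentPolynomial.isUnit_T _
  surj := by
    intro z
    obtain ⟨N, hN⟩ := exists_mul_T_mem 𝓕 z
    refine ⟨(⟨z * T (-(N : ℤ)), hN⟩, ⟨𝓕.u ^ N, N, rfl⟩), ?_⟩
    show z * algebraMap 𝓕.extRees (LaurentPolynomial A) (𝓕.u ^ N) = z * T (-(N : ℤ))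
    rw [algebraMap_extRees_apply, coe_u_pow]
  exists_of_eq := by
    intro x y hxy
    refine ⟨1, ?_⟩
    rw [Submonoid.coe_one, one_mul, one_mul]
    exact Subtype.ext hxy

theorem disjoint_powers_u (P : Ideal 𝓕.extRees) [hP : P.IsPrime] (hu : 𝓕.u ∉ P) :
    Disjoint (Submonoid.powers 𝓕.u : Set 𝓕.extRees) (P : Set 𝓕.extRees) := by
  rw [Set.disjoint_left]
  rintro x ⟨n, rfl⟩ hx
  exact hu (hP.mem_of_pow_mem n hx)

theorem map_isPrime_of_u_notMem (P : Ideal 𝓕.extRees) [hP : P.IsPrime] (hu : 𝓕.u ∉ P) :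
    (P.map (algebraMap 𝓕.extRees (LaurentPolynomial A))).IsPrime :=
  IsLocalization.isPrime_of_isPrime_disjoint (Submonoid.powers 𝓕.u) _ P hP
    (disjoint_powers_u 𝓕 P hu)

theorem comap_map_of_u_notMem (P : Ideal 𝓕.extRees) [hP : P.IsPrime] (hu : 𝓕.u ∉ P) :
    (P.map (algebraMap 𝓕.extRees (LaurentPolynomial A))).comap
      (algebraMap 𝓕.extRees (LaurentPolynomial A)) = P :=
  IsLocalization.under_map_of_isPrime_disjoint (Submonoid.powers 𝓕.u) _ hP
    (disjoint_powers_u 𝓕 P hu)

/-- the local ring of `extRees` at the contraction of a prime of `A[T;T⁻¹]`. -/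
noncomputable def locEquiv (𝔓 : Ideal (LaurentPolynomial A)) [𝔓.IsPrime] :
    Localization.AtPrime (𝔓.comap (algebraMap 𝓕.extRees (LaurentPolynomial A))) ≃+*
      Localization.AtPrime 𝔓 := by
  have h2 : IsLocalization.AtPrime (Localization.AtPrime 𝔓)
      (𝔓.comap (algebraMap 𝓕.extRees (LaurentPolynomial A))) :=
    IsLocalization.isLocalization_isLocalization_atPrime_isLocalization
      (Submonoid.powers 𝓕.u) _ 𝔓
  exact (IsLocalization.algEquiv (𝔓.comap (algebraMap 𝓕.extRees (LaurentPolynomial A))).primeCompl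
      (Localization.AtPrime (𝔓.comap (algebraMap 𝓕.extRees (LaurentPolynomial A))))
      (Localization.AtPrime 𝔓)).toRingEquiv

end Loc

end Groth.Agent.Lib.Helper24.ExtRees
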