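import Mathlib
import Groth.Prelude.Def_CAlg
import Groth.Prelude.Def_W4c2filtblowupsingRees
import Groth.Agent.Lib.Helper24.ExtReesG
import Groth.Agent.Lib.Helper52.LaurentCM
import Groth.Agent.Lib.Helper56.CMRing
import Groth.Agent.Lib.Helper77.FlatDepth3
import Groth.Agent.Lib.Helper85.GorFiber
import Groth.Agent.Lib.Helper85.GorAtBC

universe u
set_option autoImplicit false
set_option linter.unusedSectionVars false

namespace Groth.Agent.Lib.Helper24.ExtRees

open DirectSum LaurentPolynomial FiltBl IsLocalRing LocCoh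

section Fibre

variable (A : Type u) [CommRing A]

/-- the fibre of `A → A[T;T⁻¹]` over `q` is `κ(q)[T;T⁻¹]`. -/
noncomputable def fiberEquiv (q : Ideal A) [q.IsPrime] :
    q.Fiber (LaurentPolynomial A) ≃+* LaurentPolynomial q.ResidueField :=
  (AddMonoidAlgebra.scalarTensorEquiv (R := A) (A := q.ResidueField) (M := ℤ)).toRingEquiv

theorem cm_fiber (q : Ideal A) [q.IsPrime] :
    IsCohenMacaulayRing (q.Fiber (LaurentPolynomial A)) := by
  have h1 : IsCohenMacaulayRing (LaurentPolynomial q.ResidueField) :=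
    Groth.Agent.Lib.Helper52.LaurentCM.isCohenMacaulayRing_laurent _
      (Groth.Agent.Lib.Helper56.isCohenMacaulayRing_of_isArtinianRing _)
  exact Groth.Agent.Lib.Helper56.isCohenMacaulayRing_of_ringEquiv (fiberEquiv A q).symm h1

theorem gor_laurent (K : Type u) [Field K] : LocCoh.IsGorensteinRing (LaurentPolynomial K) := by
  have := Groth.Agent.Lib.Helper85.GorAtBC.gorRing_of_field K
  have := Groth.Agent.Lib.Helper85.GorRing.gorRing_polynomial K
  exact Groth.Agent.Lib.Helper85.GorRing.gorRing_localization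
    (Submonoid.powers (Polynomial.X : Polynomial K)) (LaurentPolynomial K)

theorem gor_fiber (q : Ideal A) [q.IsPrime] :
    LocCoh.IsGorensteinRing (q.Fiber (LaurentPolynomial A)) := by
  have := gor_laurent q.ResidueField
  exact Groth.Agent.Lib.Helper85.GorRing.gorRing_of_ringEquiv (fiberEquiv A q).symm

variable [IsNoetherianRing A]

instance isNoetherianRing_laurent : IsNoetherianRing (LaurentPolynomial A) :=
  Groth.Agent.Lib.Helper52.LaurentCM.isNoetherianRing

/-- CM along `A_q → A[T;T⁻¹]_𝔓`. -/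
theorem cm_laurent_loc_iff (𝔓 : Ideal (LaurentPolynomial A)) [𝔓.IsPrime] :
    IsCohenMacaulayLocalRing (Localization.AtPrime 𝔓) ↔
      IsCohenMacaulayLocalRing (Localization.AtPrime (𝔓.comap (algebraMap A (LaurentPolynomial A)))) := by
  obtain ⟨-, -, h3⟩ := Groth.Agent.Lib.Helper77.FlatDepth.loc_formulas A (LaurentPolynomial A) 𝔓
  rw [h3]
  constructor
  · intro h; exact h.1
  · intro h
    exact ⟨h, Groth.Agent.Lib.Helper56.isCM_fibLocRing_of_fiber A (LaurentPolynomial A) 𝔓
      (cm_fiber A _)⟩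

/-- Gorenstein along `A_q → A[T;T⁻¹]_𝔓`. -/
theorem gor_laurent_loc_iff (𝔓 : Ideal (LaurentPolynomial A)) [𝔓.IsPrime] :
    LocCoh.IsGorensteinLocalRing (Localization.AtPrime 𝔓) ↔
      LocCoh.IsGorensteinLocalRing
        (Localization.AtPrime (𝔓.comap (algebraMap A (LaurentPolynomial A)))) := by
  have := gor_fiber A (𝔓.comap (algebraMap A (LaurentPolynomial A)))
  exact Groth.Agent.Lib.Helper85.GorFiber.gor_iff_of_fiber A (LaurentPolynomial A)
    (𝔓.comap (algebraMap A (LaurentPolynomial A))) 𝔓 rfl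

end Fibre

end Groth.Agent.Lib.Helper24.ExtRees

namespace Groth.Agent.Lib.Helper24.ExtRees

open DirectSum LaurentPolynomial FiltBl IsLocalRing LocCoh

section Congr

theorem cm_atPrime_congr {R : Type u} [CommRing R] {P P' : Ideal R} [P.IsPrime] [P'.IsPrime]
    (h : P = P') : IsCohenMacaulayLocalRing (Localization.AtPrime P) ↔
      IsCohenMacaulayLocalRing (Localization.AtPrime P') := by
  subst h; rfl

theorem gor_atPrime_congr {R : Type u} [CommRing R] {P P' : Ideal R} [P.IsPrime] [P'.IsPrime]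
    (h : P = P') : LocCoh.IsGorensteinLocalRing (Localization.AtPrime P) ↔
      LocCoh.IsGorensteinLocalRing (Localization.AtPrime P') := by
  subst h; rfl

end Congr

section KeyK

variable {A : Type u} [CommRing A] [IsNoetherianRing A] (𝓕 : FiltBl.IdealFiltration A)

theorem comap_comap_laurent (𝔓 : Ideal (LaurentPolynomial A)) :
    (𝔓.comap (algebraMap 𝓕.extRees (LaurentPolynomial A))).comap (algebraMap A 𝓕.extRees) =
      𝔓.comap (algebraMap A (LaurentPolynomial A)) := by
  rw [Ideal.comap_comap]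
  rfl

/-- **Key lemma**: away from `u`, the local rings of `extRees` are CM iff those of `A` are. -/
theorem cm_loc_iff_of_u_notMem (P : Ideal 𝓕.extRees) [P.IsPrime] (hu : 𝓕.u ∉ P) :
    IsCohenMacaulayLocalRing (Localization.AtPrime P) ↔
      IsCohenMacaulayLocalRing (Localization.AtPrime (P.comap (algebraMap A 𝓕.extRees))) := by
  have hpr := map_isPrime_of_u_notMem 𝓕 P hu
  have hcomap := comap_map_of_u_notMem 𝓕 P hu
  set 𝔓 := P.map (algebraMap 𝓕.extRees (LaurentPolynomial A)) with h𝔓
  have hq : 𝔓.comap (algebraMap A (LaurentPolynomial A)) = P.comap (algebraMap A 𝓕.extRees) := by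
    rw [← comap_comap_laurent, hcomap]
  rw [← cm_atPrime_congr hcomap, ← cm_atPrime_congr hq, ← cm_laurent_loc_iff A 𝔓]
  constructor
  · intro h
    exact Groth.Agent.Lib.Helper56.isCohenMacaulayLocalRing_of_ringEquiv (locEquiv 𝓕 𝔓) h
  · intro h
    exact Groth.Agent.Lib.Helper56.isCohenMacaulayLocalRing_of_ringEquiv (locEquiv 𝓕 𝔓).symm h

/-- **Key lemma** (Gorenstein form). -/
theorem gor_loc_iff_of_u_notMem (P : Ideal 𝓕.extRees) [P.IsPrime] (hu : 𝓕.u ∉ P) :
    LocCoh.IsGorensteinLocalRing (Localization.AtPrime P) ↔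
      LocCoh.IsGorensteinLocalRing
        (Localization.AtPrime (P.comap (algebraMap A 𝓕.extRees))) := by
  have hpr := map_isPrime_of_u_notMem 𝓕 P hu
  have hcomap := comap_map_of_u_notMem 𝓕 P hu
  set 𝔓 := P.map (algebraMap 𝓕.extRees (LaurentPolynomial A)) with h𝔓
  have hq : 𝔓.comap (algebraMap A (LaurentPolynomial A)) = P.comap (algebraMap A 𝓕.extRees) := by
    rw [← comap_comap_laurent, hcomap]
  rw [← gor_atPrime_congr hcomap, ← gor_atPrime_congr hq, ← gor_laurent_loc_iff A 𝔓]
  constructor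
  · intro h
    exact Groth.Agent.Lib.Helper85.GorRing.gor_of_ringEquiv
      (R := Localization.AtPrime (𝔓.comap (algebraMap 𝓕.extRees (LaurentPolynomial A))))
      (S := Localization.AtPrime 𝔓) (locEquiv 𝓕 𝔓)
  · intro h
    exact Groth.Agent.Lib.Helper85.GorRing.gor_of_ringEquiv
      (R := Localization.AtPrime 𝔓)
      (S := Localization.AtPrime (𝔓.comap (algebraMap 𝓕.extRees (LaurentPolynomial A))))
      (locEquiv 𝓕 𝔓).symm

end KeyK

end Groth.Agent.Lib.Helper24.ExtRees
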