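import Mathlib
import Groth.Prelude.Def_CAlg
import Groth.Prelude.Def_W4c2filtblowupsingRees
import Groth.Agent.Lib.Helper24.ExtReesH

universe u
set_option autoImplicit false
set_option linter.unusedSectionVars false

namespace Groth.Agent.Lib.Helper24.ExtRees

open DirectSum LaurentPolynomial FiltBl IsLocalRing LocCoh

section Surj

variable {R G : Type u} [CommRing R] [IsNoetherianRing R] [CommRing G]

/-- CM at primes of a quotient `G = R/(u)` presented by an abstract surjection. -/
theorem cm_loc_iff_cm_loc_of_surjective (φ : R →+* G) (hφ : Function.Surjective φ) (u : R)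
    (hu : IsSMulRegular R u) (hker : RingHom.ker φ = Ideal.span {u}) (p : Ideal G) [p.IsPrime] :
    IsCohenMacaulayLocalRing (Localization.AtPrime p) ↔
      IsCohenMacaulayLocalRing (Localization.AtPrime (p.comap φ)) := by
  let e : (R ⧸ Ideal.span {u}) ≃+* G :=
    (Ideal.quotEquivOfEq hker.symm).trans (RingHom.quotientKerEquivOfSurjective hφ)
  have he : ∀ x : R, e (Ideal.Quotient.mk _ x) = φ x := fun x => rfl
  have h𝔭 : (p.comap (e : (R ⧸ Ideal.span {u}) →+* G)).comap (Ideal.Quotient.mk (Ideal.span {u})) =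
      p.comap φ := by
    ext x
    rw [Ideal.mem_comap, Ideal.mem_comap, Ideal.mem_comap]
    exact Iff.of_eq (congrArg (· ∈ p) (he x))
  have huP : u ∈ p.comap φ := by
    rw [Ideal.mem_comap]
    have : φ u = 0 := by
      rw [← RingHom.mem_ker, hker]; exact Ideal.subset_span rfl
    rw [this]; exact p.zero_mem
  rw [← cm_loc_iff_cm_loc_quot u hu (p.comap φ) huP _ h𝔭]
  constructor
  · intro h
    exact Groth.Agent.Lib.Helper56.isCohenMacaulayLocalRing_of_ringEquiv
      (Localization.localRingEquiv (p.comap (e : (R ⧸ Ideal.span {u}) →+* G)) p e rfl).symm h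
  · intro h
    exact Groth.Agent.Lib.Helper56.isCohenMacaulayLocalRing_of_ringEquiv
      (Localization.localRingEquiv (p.comap (e : (R ⧸ Ideal.span {u}) →+* G)) p e rfl) h

end Surj

section Main2

variable {A : Type u} [CommRing A] [IsNoetherianRing A] (𝓕 : FiltBl.IdealFiltration A)

theorem coe_gen_mul_u_pow (n : ℕ) (a : A) (x : 𝓕.extRees)
    (hx : (x : LaurentPolynomial A) = C a * T (n : ℤ)) :
    x * 𝓕.u ^ n = algebraMap A 𝓕.extRees a := by
  apply Subtype.ext
  show (x : LaurentPolynomial A) * ((𝓕.u ^ n : 𝓕.extRees) : LaurentPolynomial A) =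
    algebraMap A (LaurentPolynomial A) a
  rw [hx, coe_u_pow, mul_assoc, ← T_add, add_neg_cancel, T_zero, mul_one, C_eq_algebraMap]

theorem cm_off_positive_iff (hfg : Algebra.FiniteType A 𝓕.rees)
    (G : Type u) [CommRing G] (φ : 𝓕.extRees →+* G) (hφ : Function.Surjective φ)
    (hker : RingHom.ker φ = Ideal.span {𝓕.u}) (Rp : Ideal 𝓕.extRees)
    (hRp : Rp = Ideal.span {x : 𝓕.extRees | ∃ n : ℕ, 0 < n ∧ ∃ a ∈ 𝓕.F n,
      (x : LaurentPolynomial A) = LaurentPolynomial.C a * LaurentPolynomial.T (n : ℤ)}) :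
    (∀ (P : Ideal 𝓕.extRees) [P.IsPrime], ¬ Rp ≤ P →
        LocCoh.IsCohenMacaulayLocalRing (Localization.AtPrime P)) ↔
      ((∀ (p : Ideal G) [p.IsPrime], ¬ Ideal.map φ Rp ≤ p →
          LocCoh.IsCohenMacaulayLocalRing (Localization.AtPrime p)) ∧
        (∀ (q : Ideal A) [q.IsPrime], ¬ 𝓕.F 1 ≤ q →
            LocCoh.IsCohenMacaulayLocalRing (Localization.AtPrime q))) := by
  have hN : IsNoetherianRing 𝓕.extRees := isNoetherianRing_extRees 𝓕 hfg
  constructor
  · intro H
    refine ⟨?_, ?_⟩
    · intro p _ hp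
      rw [cm_loc_iff_cm_loc_of_surjective φ hφ 𝓕.u (u_regular 𝓕) hker p]
      apply H
      intro h
      exact hp (Ideal.map_le_iff_le_comap.mpr h)
    · intro q _ hq
      have h𝔓 : (q.map (algebraMap A (LaurentPolynomial A))).IsPrime :=
        Groth.Agent.Lib.Helper52.LaurentCM.map_isPrime q
      set 𝔓 := q.map (algebraMap A (LaurentPolynomial A)) with h𝔓def
      set P := 𝔓.comap (algebraMap 𝓕.extRees (LaurentPolynomial A)) with hPdef
      have hPprime : P.IsPrime := Ideal.comap_isPrime _ _
      have huP : 𝓕.u ∉ P := by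
        intro hu
        rw [hPdef, Ideal.mem_comap] at hu
        have hunit : IsUnit (algebraMap 𝓕.extRees (LaurentPolynomial A) 𝓕.u) :=
          LaurentPolynomial.isUnit_T (-1)
        exact h𝔓.ne_top (Ideal.eq_top_of_isUnit_mem _ hu hunit)
      have hqP : P.comap (algebraMap A 𝓕.extRees) = q := by
        rw [hPdef, comap_comap_laurent, h𝔓def]
        exact Groth.Agent.Lib.Helper52.GrCoact.comap_map_algebraMap q
      have hRpP : ¬ Rp ≤ P := by
        intro hle
        obtain ⟨a, ha1, haq⟩ := SetLike.not_le_iff_exists.mp hq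
        have hmem : (AddMonoidAlgebra.single (1 : ℤ) a : LaurentPolynomial A) ∈ 𝓕.extRees :=
          single_mem_extRees 𝓕 1 a (by simpa using ha1)
        have hx : (⟨AddMonoidAlgebra.single (1 : ℤ) a, hmem⟩ : 𝓕.extRees) ∈ Rp := by
          rw [hRp]
          apply Ideal.subset_span
          refine ⟨1, one_pos, a, ha1, ?_⟩
          show (AddMonoidAlgebra.single (1 : ℤ) a : LaurentPolynomial A) = C a * T ((1 : ℕ) : ℤ)
          rw [LaurentPolynomial.single_eq_C_mul_T]
          rfl
        have hxP := hle hx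
        rw [hPdef, Ideal.mem_comap, h𝔓def,
          Groth.Agent.Lib.Helper52.GrCoact.mem_map_algebraMap_iff] at hxP
        have := hxP 1
        rw [algebraMap_extRees_apply] at this
        simp only [AddMonoidAlgebra.coeff_single, Finsupp.single_eq_same] at this
        exact haq this
      have h1 := H P hRpP
      rw [cm_loc_iff_of_u_notMem 𝓕 P huP] at h1
      exact (cm_atPrime_congr hqP).mp h1
  · rintro ⟨H1, H2⟩ P _ hP
    by_cases huP : 𝓕.u ∈ P
    · have hle : RingHom.ker φ ≤ P := by
        rw [hker]; exact (Ideal.span_singleton_le_iff_mem _).mpr huP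
      have hpr : (P.map φ).IsPrime := Ideal.map_isPrime_of_surjective hφ hle
      have hcomap : (P.map φ).comap φ = P := by
        rw [Ideal.comap_map_of_surjective' _ hφ, sup_eq_left.mpr hle]
      have h1 : ¬ Ideal.map φ Rp ≤ P.map φ := by
        intro h
        apply hP
        have := Ideal.comap_mono (f := φ) h
        rw [hcomap] at this
        exact Ideal.le_comap_map.trans this
      have h2 := H1 (P.map φ) h1
      rw [cm_loc_iff_cm_loc_of_surjective φ hφ 𝓕.u (u_regular 𝓕) hker (P.map φ)] at h2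
      exact (cm_atPrime_congr hcomap).mp h2
    · rw [cm_loc_iff_of_u_notMem 𝓕 P huP]
      apply H2
      intro hF1
      apply hP
      rw [hRp, Ideal.span_le]
      rintro x ⟨n, hn, a, ha, hx⟩
      have h1 := coe_gen_mul_u_pow 𝓕 n a x hx
      have haq : algebraMap A 𝓕.extRees a ∈ P := by
        have : a ∈ P.comap (algebraMap A 𝓕.extRees) := hF1 (𝓕.antitone hn ha)
        exact this
      rw [← h1] at haq
      rcases Ideal.IsPrime.mem_or_mem ‹P.IsPrime› haq with h | h
      · exact h
      · exact absurd (Ideal.IsPrime.mem_of_pow_mem ‹P.IsPrime› n h) huP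

end Main2

end Groth.Agent.Lib.Helper24.ExtRees
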