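import Mathlib
import Groth.Prelude.Def_CAlg
import Groth.Prelude.Def_W4c2filtblowupsingRees
import Groth.Agent.Lib.Helper24.ExtReesI
import Groth.Agent.Lib.Helper85.GorLoc
import Groth.Agent.Lib.Helper85.GorFlat

universe u
set_option autoImplicit false
set_option linter.unusedSectionVars false

namespace Groth.Agent.Lib.Helper24.ExtRees

open DirectSum LaurentPolynomial FiltBl IsLocalRing LocCoh

section GorGeneral

/-- if `R_m` is Gorenstein and `p ≤ m` then `R_p` is Gorenstein -/
theorem gor_atPrime_of_le (R : Type u) [CommRing R] (m : Ideal R) [m.IsPrime]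
    [LocCoh.IsGorensteinLocalRing (Localization.AtPrime m)] (p : Ideal R) [hp : p.IsPrime]
    (hpm : p ≤ m) : LocCoh.IsGorensteinLocalRing (Localization.AtPrime p) := by
  have hdisj : Disjoint (m.primeCompl : Set R) (p : Set R) := by
    rw [Set.disjoint_left]
    intro x hx hxp
    exact hx (hpm hxp)
  have hq : (p.map (algebraMap R (Localization.AtPrime m))).IsPrime :=
    IsLocalization.isPrime_of_isPrime_disjoint m.primeCompl _ p hp hdisj
  have hcomap : (p.map (algebraMap R (Localization.AtPrime m))).comap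
      (algebraMap R (Localization.AtPrime m)) = p :=
    IsLocalization.under_map_of_isPrime_disjoint m.primeCompl _ hp hdisj
  have h1 : LocCoh.IsGorensteinLocalRing
      (Localization.AtPrime (p.map (algebraMap R (Localization.AtPrime m)))) :=
    Groth.Agent.Lib.Helper85.ExtLoc.isGorensteinLocalRing_localization _ _
  have key : ∀ (I : Ideal R) [I.IsPrime],
      I = (p.map (algebraMap R (Localization.AtPrime m))).comap
        (algebraMap R (Localization.AtPrime m)) →
      LocCoh.IsGorensteinLocalRing (Localization.AtPrime I) := by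
    intro I _ hI
    subst hI
    exact Groth.Agent.Lib.Helper85.GorRing.gor_of_ringEquiv
      (R := Localization.AtPrime (p.map (algebraMap R (Localization.AtPrime m))))
      (IsLocalization.localizationLocalizationAtPrimeIsoLocalization m.primeCompl
        (p.map (algebraMap R (Localization.AtPrime m)))).symm.toRingEquiv
  exact key p hcomap.symm

variable {R : Type u} [CommRing R] [IsNoetherianRing R]

/-- Gorenstein at a prime containing a nonzerodivisor `u` can be tested modulo `u`. -/
theorem gor_loc_iff_gor_loc_quot (u : R) (hu : IsSMulRegular R u) (P : Ideal R) [P.IsPrime]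
    (huP : u ∈ P) (𝔭 : Ideal (R ⧸ Ideal.span {u})) [𝔭.IsPrime]
    (h𝔭 : 𝔭.comap (Ideal.Quotient.mk (Ideal.span {u})) = P) :
    LocCoh.IsGorensteinLocalRing (Localization.AtPrime 𝔭) ↔
      LocCoh.IsGorensteinLocalRing (Localization.AtPrime P) := by
  let e := Groth.Agent.Lib.Helper24.Linkage2.locQuotEquiv R (Ideal.span {u}) P 𝔭 h𝔭
  have hJ : (Ideal.span {u}).map (algebraMap R (Localization.AtPrime P)) =
      Ideal.span {algebraMap R (Localization.AtPrime P) u} := by
    rw [Ideal.map_span, Set.image_singleton]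
  have hmem : algebraMap R (Localization.AtPrime P) u ∈ maximalIdeal (Localization.AtPrime P) :=
    (IsLocalization.AtPrime.to_map_mem_maximal_iff (Localization.AtPrime P) P u).mpr huP
  have hreg : IsSMulRegular (Localization.AtPrime P) (algebraMap R (Localization.AtPrime P) u) :=
    IsSMulRegular.of_flat hu
  have hN : IsNoetherianRing (Localization.AtPrime P) :=
    IsLocalization.isNoetherianRing P.primeCompl _ inferInstance
  have hle : (Ideal.span {u}).map (algebraMap R (Localization.AtPrime P)) ≤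
      maximalIdeal (Localization.AtPrime P) := by
    rw [hJ]; exact (Ideal.span_singleton_le_iff_mem _).mpr hmem
  have hloc : IsLocalRing (Localization.AtPrime P ⧸
      (Ideal.span {u}).map (algebraMap R (Localization.AtPrime P))) :=
    Groth.Agent.Lib.Helper85.GorFlat.isLocalRing_quot _ hle
  have hiff := Groth.Agent.Lib.Helper85.GorFlat.gorenstein_quot_iff
    (algebraMap R (Localization.AtPrime P) u) hmem hreg
    ((Ideal.span {u}).map (algebraMap R (Localization.AtPrime P))) hJ
  rw [← hiff]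
  constructor
  · intro h
    exact Groth.Agent.Lib.Helper85.GorRing.gor_of_ringEquiv (R := Localization.AtPrime 𝔭) e
  · intro h
    exact Groth.Agent.Lib.Helper85.GorRing.gor_of_ringEquiv (S := Localization.AtPrime 𝔭) e.symm

end GorGeneral

section GorMain

variable {A : Type u} [CommRing A] [IsNoetherianRing A] [IsLocalRing A]
  (𝓕 : FiltBl.IdealFiltration A)

theorem gor_loc_of_gor_gr [IsNoetherianRing 𝓕.extRees] (h : LocCoh.IsGorensteinRing 𝓕.Gr)
    (P : Ideal 𝓕.extRees) [P.IsPrime] (huP : 𝓕.u ∈ P) :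
    LocCoh.IsGorensteinLocalRing (Localization.AtPrime P) := by
  have hle : Ideal.span {𝓕.u} ≤ P := (Ideal.span_singleton_le_iff_mem _).mpr huP
  have hpr : (P.map (Ideal.Quotient.mk (Ideal.span {𝓕.u}))).IsPrime :=
    Ideal.map_isPrime_of_surjective Ideal.Quotient.mk_surjective (by rw [Ideal.mk_ker]; exact hle)
  have hcomap : (P.map (Ideal.Quotient.mk (Ideal.span {𝓕.u}))).comap
      (Ideal.Quotient.mk (Ideal.span {𝓕.u})) = P := by
    rw [Ideal.comap_map_of_surjective' _ Ideal.Quotient.mk_surjective, Ideal.mk_ker,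
      sup_eq_left.mpr hle]
  exact (gor_loc_iff_gor_loc_quot 𝓕.u (u_regular 𝓕) P huP _ hcomap).mp
    (h.isGorensteinLocalRing_localization _)

theorem algebraMap_mem_gr_zero (a : A) : algebraMap A 𝓕.extRees a ∈ gr 𝓕 0 := by
  rw [mem_subGrading]
  show algebraMap A (LaurentPolynomial A) a ∈ AddMonoidAlgebra.grade A (0 : ℤ)
  rw [← LaurentPolynomial.C_eq_algebraMap, ← LaurentPolynomial.single_eq_C]
  exact AddMonoidAlgebra.single_mem_grade _ _

theorem gor_extRees_iff_gor_gr (hsep : ⨅ n, 𝓕.F n = ⊥) (hfg : Algebra.FiniteType A 𝓕.rees) :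
    LocCoh.IsGorensteinRing 𝓕.extRees ↔ LocCoh.IsGorensteinRing 𝓕.Gr := by
  have hN : IsNoetherianRing 𝓕.extRees := isNoetherianRing_extRees 𝓕 hfg
  have hF1 := F_one_le_of_iInf 𝓕 hsep
  constructor
  · intro h
    refine { isGorensteinLocalRing_localization := fun 𝔭 _ => ?_ }
    have hP : (𝔭.comap (Ideal.Quotient.mk (Ideal.span {𝓕.u}))).IsPrime := Ideal.comap_isPrime _ _
    have huP : 𝓕.u ∈ 𝔭.comap (Ideal.Quotient.mk (Ideal.span {𝓕.u})) := by
      rw [Ideal.mem_comap]
      have : Ideal.Quotient.mk (Ideal.span {𝓕.u}) 𝓕.u = 0 :=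
        Ideal.Quotient.eq_zero_iff_mem.mpr (Ideal.subset_span rfl)
      rw [this]
      exact 𝔭.zero_mem
    exact (gor_loc_iff_gor_loc_quot 𝓕.u (u_regular 𝓕) _ huP 𝔭 rfl).mpr
      (h.isGorensteinLocalRing_localization _)
  · intro h
    refine { isGorensteinLocalRing_localization := fun P _ => ?_ }
    by_cases huP : 𝓕.u ∈ P
    · exact gor_loc_of_gor_gr 𝓕 h P huP
    · have hq : (Ideal.homogeneousCore (gr 𝓕) P).toIdeal.IsPrime :=
        Ideal.IsPrime.homogeneousCore ‹_›
      set Q := (Ideal.homogeneousCore (gr 𝓕) P).toIdeal with hQ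
      have hQP : Q ≤ P := Ideal.toIdeal_homogeneousCore_le (gr 𝓕) P
      have hQne := sup_span_u_ne_top 𝓕 hF1 Q
        (Ideal.homogeneousCore (gr 𝓕) P).isHomogeneous hq.ne_top
      obtain ⟨𝔑, h𝔑max, hle⟩ := Ideal.exists_le_maximal _ hQne
      have h𝔑p : 𝔑.IsPrime := h𝔑max.isPrime
      have hu𝔑 : 𝓕.u ∈ 𝔑 := hle (Ideal.mem_sup_right (Ideal.subset_span rfl))
      have hG𝔑 := gor_loc_of_gor_gr 𝓕 h 𝔑 hu𝔑
      have hGQ : LocCoh.IsGorensteinLocalRing (Localization.AtPrime Q) :=
        gor_atPrime_of_le _ 𝔑 Q (le_sup_left.trans hle)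
      have huQ : 𝓕.u ∉ Q := fun hu => huP (hQP hu)
      have hqq : Q.comap (algebraMap A 𝓕.extRees) = P.comap (algebraMap A 𝓕.extRees) := by
        apply le_antisymm (Ideal.comap_mono hQP)
        intro a ha
        rw [Ideal.mem_comap] at ha ⊢
        exact Ideal.mem_homogeneousCore_of_homogeneous_of_mem
          ⟨0, algebraMap_mem_gr_zero 𝓕 a⟩ ha
      rw [gor_loc_iff_of_u_notMem 𝓕 Q huQ, gor_atPrime_congr hqq] at hGQ
      rw [gor_loc_iff_of_u_notMem 𝓕 P huP]
      exact hGQ

end GorMain

end Groth.Agent.Lib.Helper24.ExtRees
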