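import Mathlib
import Groth.Prelude.Def_CAlg
import Groth.Prelude.Def_W4c2filtblowupsingRees
import Groth.Agent.Lib.Helper24.ExtReesJ
import Groth.Agent.Lib.Helper56.Serre1

universe u
set_option autoImplicit false
set_option linter.unusedSectionVars false

namespace Groth.Agent.Lib.Helper24.ExtRees

open DirectSum LaurentPolynomial FiltBl IsLocalRing LocCoh

section Sk

/-- Serre's condition at a Noetherian local ring, in natural numbers. -/
def SkAt (k : ℕ) (B : Type u) [CommRing B] [IsLocalRing B] : Prop :=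
  ∃ d e : ℕ, ringKrullDim B = d ∧ depth B B = e ∧ min k d ≤ e

theorem cast_min_le_iff (k d e : ℕ) :
    min (k : WithBot ℕ∞) (d : WithBot ℕ∞) ≤ ((e : ℕ∞) : WithBot ℕ∞) ↔ min k d ≤ e := by
  rcases le_total k d with h | h
  · rw [min_eq_left h, min_eq_left (by exact_mod_cast h)]
    exact_mod_cast Iff.rfl
  · rw [min_eq_right h, min_eq_right (by exact_mod_cast h)]
    exact_mod_cast Iff.rfl

theorem skAt_iff (k : ℕ) (B : Type u) [CommRing B] [IsLocalRing B] [IsNoetherianRing B] :
    SkAt k B ↔ min (k : WithBot ℕ∞) (Module.supportDim B B) ≤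
      ((depth B B : ℕ∞) : WithBot ℕ∞) := by
  obtain ⟨d, hd⟩ := Groth.Agent.Lib.Helper77.FlatDepth.exists_nat_dim B
  obtain ⟨e, he⟩ := Groth.Agent.Lib.Helper77.FlatDepth.exists_nat_depth B
  rw [Module.supportDim_self_eq_ringKrullDim, hd, he, cast_min_le_iff]
  constructor
  · rintro ⟨d', e', hd', he', h⟩
    rw [hd] at hd'
    rw [he] at he'
    have hdd : d = d' := by exact_mod_cast hd'
    have hee : e = e' := by exact_mod_cast he'
    subst hdd; subst hee
    exact h
  · intro h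
    exact ⟨d, e, hd, he, h⟩

theorem hasSk_self_iff (k : ℕ) (R : Type u) [CommRing R] [IsNoetherianRing R] :
    HasSk k R R ↔ ∀ (p : Ideal R) [p.IsPrime], SkAt k (Localization.AtPrime p) := by
  unfold HasSk
  refine forall_congr' (fun p => forall_congr' (fun hp => ?_))
  have hN : IsNoetherianRing (Localization.AtPrime p) :=
    IsLocalization.isNoetherianRing p.primeCompl _ inferInstance
  rw [skAt_iff, Groth.Agent.Lib.Helper56.depth_localizedModule_self,
    Groth.Agent.Lib.Helper56.supportDim_localizedModule_self]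

theorem skAt_of_ringEquiv {k : ℕ} {B B' : Type u} [CommRing B] [CommRing B'] [IsLocalRing B]
    [IsLocalRing B'] (e : B ≃+* B') (h : SkAt k B) : SkAt k B' := by
  obtain ⟨d, e', hd, he, hle⟩ := h
  refine ⟨d, e', ?_, ?_, hle⟩
  · rw [← ringKrullDim_eq_of_ringEquiv e, hd]
  · rw [← Groth.Agent.Lib.Helper56.depth_self_of_ringEquiv e, he]

theorem skAt_congr {k : ℕ} {R : Type u} [CommRing R] {P P' : Ideal R} [P.IsPrime] [P'.IsPrime]
    (h : P = P') : SkAt k (Localization.AtPrime P) ↔ SkAt k (Localization.AtPrime P') := by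
  subst h; rfl

/-- `(S_{k+1})` at `B` iff `(S_k)` at `B/(y)` for a nonzerodivisor `y ∈ m`. -/
theorem skAt_succ_iff_quot (k : ℕ) (S : Type u) [CommRing S] [IsNoetherianRing S] [IsLocalRing S]
    (y : S) (hy : y ∈ maximalIdeal S) (hreg : IsSMulRegular S y) (J : Ideal S)
    (hJ : J = Ideal.span {y}) [hloc : IsLocalRing (S ⧸ J)] :
    SkAt (k + 1) S ↔ SkAt k (S ⧸ J) := by
  subst hJ
  have h1 := ringKrullDim_quotient_span_singleton_succ_eq_ringKrullDim hreg hy
  have h2 := Groth.Agent.Lib.Helper4.GorCM.depth_quot_add_one S y hy hreg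
  obtain ⟨d, hd⟩ := Groth.Agent.Lib.Helper77.FlatDepth.exists_nat_dim S
  obtain ⟨e, he⟩ := Groth.Agent.Lib.Helper77.FlatDepth.exists_nat_depth S
  obtain ⟨d', hd'⟩ := Groth.Agent.Lib.Helper77.FlatDepth.exists_nat_dim (S ⧸ Ideal.span {y})
  obtain ⟨e', he'⟩ := Groth.Agent.Lib.Helper77.FlatDepth.exists_nat_depth (S ⧸ Ideal.span {y})
  rw [hd, hd'] at h1
  rw [he, he'] at h2
  have h1' : d' + 1 = d := by exact_mod_cast h1
  have h2' : e' + 1 = e := by exact_mod_cast h2
  constructor
  · rintro ⟨d₁, e₁, hd₁, he₁, hle⟩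
    rw [hd] at hd₁; rw [he] at he₁
    have : d = d₁ := by exact_mod_cast hd₁
    have : e = e₁ := by exact_mod_cast he₁
    refine ⟨d', e', hd', he', ?_⟩
    omega
  · rintro ⟨d₁, e₁, hd₁, he₁, hle⟩
    rw [hd'] at hd₁; rw [he'] at he₁
    have : d' = d₁ := by exact_mod_cast hd₁
    have : e' = e₁ := by exact_mod_cast he₁
    refine ⟨d, e, hd, he, ?_⟩
    omega

end Sk

end Groth.Agent.Lib.Helper24.ExtRees
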