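import Mathlib
import Groth.Prelude.Def_CAlg
import Groth.Prelude.Def_W4c2filtblowupsingRees
import Groth.Agent.Lib.Helper24.ExtReesK

universe u
set_option autoImplicit false
set_option linter.unusedSectionVars false

namespace Groth.Agent.Lib.Helper24.ExtRees

open DirectSum LaurentPolynomial FiltBl IsLocalRing LocCoh

section SkGeneral

variable {R : Type u} [CommRing R] [IsNoetherianRing R]

/-- `(S_{k+1})` at a prime containing a nonzerodivisor `u` iff `(S_k)` at the prime of `R/(u)`. -/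
theorem skAt_loc_succ_iff_skAt_loc_quot (k : ℕ) (u : R) (hu : IsSMulRegular R u) (P : Ideal R)
    [P.IsPrime] (huP : u ∈ P) (𝔭 : Ideal (R ⧸ Ideal.span {u})) [𝔭.IsPrime]
    (h𝔭 : 𝔭.comap (Ideal.Quotient.mk (Ideal.span {u})) = P) :
    SkAt (k + 1) (Localization.AtPrime P) ↔ SkAt k (Localization.AtPrime 𝔭) := by
  let e := Groth.Agent.Lib.Helper24.Linkage2.locQuotEquiv R (Ideal.span {u}) P 𝔭 h𝔭
  have hJ : (Ideal.span {u}).map (algebraMap R (Localization.AtPrime P)) =
      Ideal.span {algebraMap R (Localization.AtPrime P) u} := by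
    rw [Ideal.map_span, Set.image_singleton]
  have hmem : algebraMap R (Localization.AtPrime P) u ∈ maximalIdeal (Localization.AtPrime P) :=
    (IsLocalization.AtPrime.to_map_mem_maximal_iff (Localization.AtPrime P) P u).mpr huP
  have hreg : IsSMulRegular (Localization.AtPrime P) (algebraMap R (Localization.AtPrime P) u) :=
    IsSMulRegular.of_flat hu
  have hN : IsNoetherianRing (Localization.AtPrime P) :=
    IsLocalization.isNoetherianRing P.primeCompl _ inferInstance
  have hle : (Ideal.span {u}).map (algebraMap R (Localization.AtPrime P)) ≤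
      maximalIdeal (Localization.AtPrime P) := by
    rw [hJ]; exact (Ideal.span_singleton_le_iff_mem _).mpr hmem
  have hloc : IsLocalRing (Localization.AtPrime P ⧸
      (Ideal.span {u}).map (algebraMap R (Localization.AtPrime P))) :=
    Groth.Agent.Lib.Helper85.GorFlat.isLocalRing_quot _ hle
  rw [skAt_succ_iff_quot k (Localization.AtPrime P) _ hmem hreg _ hJ]
  exact ⟨fun h => skAt_of_ringEquiv e.symm h, fun h => skAt_of_ringEquiv e h⟩

end SkGeneral

section SkLaurent

variable (A : Type u) [CommRing A] [IsNoetherianRing A]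

theorem skAt_laurent_of_skAt (k : ℕ) (𝔓 : Ideal (LaurentPolynomial A)) [𝔓.IsPrime]
    (h : SkAt k (Localization.AtPrime (𝔓.comap (algebraMap A (LaurentPolynomial A))))) :
    SkAt k (Localization.AtPrime 𝔓) := by
  obtain ⟨h1, h2, h3⟩ := Groth.Agent.Lib.Helper77.FlatDepth.loc_formulas A (LaurentPolynomial A) 𝔓
  have hF : IsCohenMacaulayLocalRing
      (Groth.Agent.Lib.Helper77.FlatDepth.FibLoc A (LaurentPolynomial A) 𝔓) :=
    Groth.Agent.Lib.Helper56.isCM_fibLocRing_of_fiber A (LaurentPolynomial A) 𝔓 (cm_fiber A _)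
  obtain ⟨dF, hdF⟩ := Groth.Agent.Lib.Helper77.FlatDepth.exists_nat_dim
    (Groth.Agent.Lib.Helper77.FlatDepth.FibLoc A (LaurentPolynomial A) 𝔓)
  obtain ⟨eF, heF⟩ := Groth.Agent.Lib.Helper77.FlatDepth.exists_nat_depth
    (Groth.Agent.Lib.Helper77.FlatDepth.FibLoc A (LaurentPolynomial A) 𝔓)
  have hcm := (Groth.Agent.Lib.Helper77.FlatDepth.isCM_iff_nat _ dF eF hdF heF).mp hF
  obtain ⟨d, e, hd, he, hle⟩ := h
  refine ⟨d + dF, e + eF, ?_, ?_, ?_⟩
  · rw [h2, hd, hdF]; push_cast; rfl
  · rw [h1, he, heF]; push_cast; rfl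
  · omega

theorem skAt_of_skAt_laurent_map (k : ℕ) (q : Ideal A) [q.IsPrime]
    [hpr : (q.map (algebraMap A (LaurentPolynomial A))).IsPrime]
    (h : SkAt k (Localization.AtPrime (q.map (algebraMap A (LaurentPolynomial A))))) :
    SkAt k (Localization.AtPrime q) := by
  set 𝔓 := q.map (algebraMap A (LaurentPolynomial A)) with h𝔓
  have hcomap : 𝔓.comap (algebraMap A (LaurentPolynomial A)) = q :=
    Groth.Agent.Lib.Helper52.GrCoact.comap_map_algebraMap q
  obtain ⟨h1, h2, h3⟩ := Groth.Agent.Lib.Helper77.FlatDepth.loc_formulas A (LaurentPolynomial A) 𝔓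
  have hF : IsCohenMacaulayLocalRing
      (Groth.Agent.Lib.Helper77.FlatDepth.FibLoc A (LaurentPolynomial A) 𝔓) :=
    Groth.Agent.Lib.Helper56.isCM_fibLocRing_of_fiber A (LaurentPolynomial A) 𝔓 (cm_fiber A _)
  have hmin : 𝔓 ∈ ((𝔓.comap (algebraMap A (LaurentPolynomial A))).map
      (algebraMap A (LaurentPolynomial A))).minimalPrimes := by
    rw [hcomap, ← h𝔓, Ideal.minimalPrimes_eq_subsingleton_self]
    rfl
  have hdF := Groth.Agent.Lib.Helper77.FlatDepth.dim_fibLoc_eq_zero_of_minimal A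
    (LaurentPolynomial A) 𝔓 hmin
  obtain ⟨eF, heF⟩ := Groth.Agent.Lib.Helper77.FlatDepth.exists_nat_depth
    (Groth.Agent.Lib.Helper77.FlatDepth.FibLoc A (LaurentPolynomial A) 𝔓)
  have hcm := (Groth.Agent.Lib.Helper77.FlatDepth.isCM_iff_nat _ 0 eF (by rw [hdF]; rfl) heF).mp hF
  obtain ⟨d, e, hd, he, hle⟩ := h
  rw [hdF, add_zero] at h2
  rw [heF, ← hcm] at h1
  rw [← skAt_congr hcomap]
  refine ⟨d, e, ?_, ?_, hle⟩
  · rw [← h2, hd]
  · have : depth (Localization.AtPrime 𝔓) (Localization.AtPrime 𝔓) =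
        depth (Localization.AtPrime (𝔓.comap (algebraMap A (LaurentPolynomial A))))
          (Localization.AtPrime (𝔓.comap (algebraMap A (LaurentPolynomial A)))) := by
      rw [h1]; simp
    rw [← this, he]

end SkLaurent

end Groth.Agent.Lib.Helper24.ExtRees
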