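import Mathlib
import Groth.Prelude.Def_CAlg
import Groth.Prelude.Def_W4c2filtblowupsingRees
import Groth.Agent.Lib.Helper24.ExtReesL

universe u
set_option autoImplicit false
set_option linter.unusedSectionVars false

namespace Groth.Agent.Lib.Helper24.ExtRees

open DirectSum LaurentPolynomial FiltBl IsLocalRing LocCoh

section SkMain

variable {A : Type u} [CommRing A] [IsNoetherianRing A] (𝓕 : FiltBl.IdealFiltration A)

theorem skAt_loc_of_u_notMem (k : ℕ) (P : Ideal 𝓕.extRees) [P.IsPrime] (hu : 𝓕.u ∉ P)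
    (h : SkAt k (Localization.AtPrime (P.comap (algebraMap A 𝓕.extRees)))) :
    SkAt k (Localization.AtPrime P) := by
  have hpr := map_isPrime_of_u_notMem 𝓕 P hu
  have hcomap := comap_map_of_u_notMem 𝓕 P hu
  set 𝔓 := P.map (algebraMap 𝓕.extRees (LaurentPolynomial A)) with h𝔓
  have hq : 𝔓.comap (algebraMap A (LaurentPolynomial A)) = P.comap (algebraMap A 𝓕.extRees) := by
    rw [← comap_comap_laurent, hcomap]
  have h1 := skAt_laurent_of_skAt A k 𝔓 ((skAt_congr hq).mpr h)
  have h2 := skAt_of_ringEquiv (B := Localization.AtPrime 𝔓)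
    (B' := Localization.AtPrime (𝔓.comap (algebraMap 𝓕.extRees (LaurentPolynomial A))))
    (locEquiv 𝓕 𝔓).symm h1
  exact (skAt_congr hcomap).mp h2

theorem skAt_of_skAt_contraction (k : ℕ) (q : Ideal A) [q.IsPrime]
    [hpr : (q.map (algebraMap A (LaurentPolynomial A))).IsPrime]
    (h : SkAt k (Localization.AtPrime ((q.map (algebraMap A (LaurentPolynomial A))).comap
      (algebraMap 𝓕.extRees (LaurentPolynomial A))))) :
    SkAt k (Localization.AtPrime q) :=
  skAt_of_skAt_laurent_map A k q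
    (skAt_of_ringEquiv
      (B := Localization.AtPrime ((q.map (algebraMap A (LaurentPolynomial A))).comap
        (algebraMap 𝓕.extRees (LaurentPolynomial A))))
      (B' := Localization.AtPrime (q.map (algebraMap A (LaurentPolynomial A))))
      (locEquiv 𝓕 (q.map (algebraMap A (LaurentPolynomial A)))) h)

theorem s2_extRees_iff (hfg : Algebra.FiniteType A 𝓕.rees) :
    LocCoh.HasSk 2 𝓕.extRees 𝓕.extRees ↔
      (LocCoh.HasSk 1 𝓕.Gr 𝓕.Gr ∧ LocCoh.HasSk 2 A A) := by
  have hN : IsNoetherianRing 𝓕.extRees := isNoetherianRing_extRees 𝓕 hfg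
  rw [hasSk_self_iff, hasSk_self_iff, hasSk_self_iff]
  constructor
  · intro H
    refine ⟨fun 𝔭 _ => ?_, fun q _ => ?_⟩
    · have hP : (𝔭.comap (Ideal.Quotient.mk (Ideal.span {𝓕.u}))).IsPrime :=
        Ideal.comap_isPrime _ _
      have huP : 𝓕.u ∈ 𝔭.comap (Ideal.Quotient.mk (Ideal.span {𝓕.u})) := by
        rw [Ideal.mem_comap]
        have : Ideal.Quotient.mk (Ideal.span {𝓕.u}) 𝓕.u = 0 :=
          Ideal.Quotient.eq_zero_iff_mem.mpr (Ideal.subset_span rfl)
        rw [this]
        exact 𝔭.zero_mem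
      exact (skAt_loc_succ_iff_skAt_loc_quot 1 𝓕.u (u_regular 𝓕) _ huP 𝔭 rfl).mp (H _)
    · have hpr : (q.map (algebraMap A (LaurentPolynomial A))).IsPrime :=
        Groth.Agent.Lib.Helper52.LaurentCM.map_isPrime q
      exact skAt_of_skAt_contraction 𝓕 2 q (H _)
  · rintro ⟨H1, H2⟩ P _
    by_cases huP : 𝓕.u ∈ P
    · have hle : Ideal.span {𝓕.u} ≤ P := (Ideal.span_singleton_le_iff_mem _).mpr huP
      have hpr : (P.map (Ideal.Quotient.mk (Ideal.span {𝓕.u}))).IsPrime :=
        Ideal.map_isPrime_of_surjective Ideal.Quotient.mk_surjective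
          (by rw [Ideal.mk_ker]; exact hle)
      have hcomap : (P.map (Ideal.Quotient.mk (Ideal.span {𝓕.u}))).comap
          (Ideal.Quotient.mk (Ideal.span {𝓕.u})) = P := by
        rw [Ideal.comap_map_of_surjective' _ Ideal.Quotient.mk_surjective, Ideal.mk_ker,
          sup_eq_left.mpr hle]
      exact (skAt_loc_succ_iff_skAt_loc_quot 1 𝓕.u (u_regular 𝓕) P huP _ hcomap).mpr (H1 _)
    · exact skAt_loc_of_u_notMem 𝓕 2 P huP (H2 _)

end SkMain

end Groth.Agent.Lib.Helper24.ExtRees
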