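import Mathlib
import Groth.Agent.Lib.Helper6.LocalFlat

/-!
# Flatness of ideally separated modules via a filtration and finitely many localizations

* `rTensor_injective_of_flat_quotient`: if `(A/J) ⊗ M` is flat over `A/J` then `- ⊗ M` preserves
  injections between `A`-modules killed by `J`.
* `eq_zero_of_forall_torsion`: if `G` (killed by `J`) has no nonzero element which is
  `S i`-torsion for all `i` of a finite family of submonoids, then neither has `G ⊗ M`.
* `flat_of_filtration`: EGA-style criterion (common generalisation of the "normal flatness" and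
  "symbolic powers" flatness criteria).
-/

set_option autoImplicit false
set_option linter.style.haveILetI false
universe u

open TensorProduct

namespace Groth.Agent.Lib.Helper24.IdeallySep

section F0

variable {A : Type u} [CommRing A] (J : Ideal A) (M : Type u) [AddCommGroup M] [Module A M]

/-- If `M / J M` is flat over `A / J`, then `- ⊗ M` preserves injections of `A`-modules killed
by `J`. -/
theorem rTensor_injective_of_flat_quotient [Module.Flat (A ⧸ J) ((A ⧸ J) ⊗[A] M)]
    {G G' : Type*} [AddCommGroup G] [Module A G] [AddCommGroup G'] [Module A G']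
    (f : G →ₗ[A] G') (hf : Function.Injective f)
    (hG : ∀ a ∈ J, ∀ g : G, a • g = 0) (hG' : ∀ a ∈ J, ∀ g : G', a • g = 0) :
    Function.Injective (f.rTensor M) := by
  have hT : Module.IsTorsionBySet A G J := fun g a => hG a.1 a.2 g
  have hT' : Module.IsTorsionBySet A G' J := fun g a => hG' a.1 a.2 g
  letI : Module (A ⧸ J) G := hT.module
  letI : Module (A ⧸ J) G' := hT'.module
  haveI : IsScalarTower A (A ⧸ J) G := hT.isScalarTower
  haveI : IsScalarTower A (A ⧸ J) G' := hT'.isScalarTower
  let f' : G →ₗ[A ⧸ J] G' := LinearMap.extendScalarsOfSurjective Ideal.Quotient.mk_surjective f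
  have h1 : Function.Injective (f'.rTensor ((A ⧸ J) ⊗[A] M)) :=
    Module.Flat.rTensor_preserves_injective_linearMap f' hf
  have nat : ∀ z : G ⊗[A ⧸ J] ((A ⧸ J) ⊗[A] M),
      f.rTensor M (AlgebraTensorModule.cancelBaseChange A (A ⧸ J) (A ⧸ J) G M z) =
        AlgebraTensorModule.cancelBaseChange A (A ⧸ J) (A ⧸ J) G' M
          (f'.rTensor ((A ⧸ J) ⊗[A] M) z) := by
    intro z
    induction z using TensorProduct.induction_on with
    | zero => simp
    | add x y hx hy => simp only [map_add, hx, hy]
    | tmul g w =>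
      induction w using TensorProduct.induction_on with
      | zero => simp
      | add x y hx hy => simp only [tmul_add, map_add, hx, hy]
      | tmul r m =>
        simp only [AlgebraTensorModule.cancelBaseChange_tmul, LinearMap.rTensor_tmul]
        congr 1
        exact (map_smul f' r g)
  intro x y hxy
  have hx := nat ((AlgebraTensorModule.cancelBaseChange A (A ⧸ J) (A ⧸ J) G M).symm x)
  have hy := nat ((AlgebraTensorModule.cancelBaseChange A (A ⧸ J) (A ⧸ J) G M).symm y)
  rw [LinearEquiv.apply_symm_apply] at hx hy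
  rw [hx, hy] at hxy
  have := h1 ((AlgebraTensorModule.cancelBaseChange A (A ⧸ J) (A ⧸ J) G' M).injective hxy)
  exact (AlgebraTensorModule.cancelBaseChange A (A ⧸ J) (A ⧸ J) G M).symm.injective this

end F0

section K

variable {A : Type u} [CommRing A] (J : Ideal A) (M : Type u) [AddCommGroup M] [Module A M]

lemma piLeft_apply {ι : Type*} [Fintype ι] [DecidableEq ι] (P : ι → Type*)
    [∀ i, AddCommGroup (P i)] [∀ i, Module A (P i)] (v : (∀ i, P i) ⊗[A] M) (i : ι) :
    TensorProduct.piLeft A M P v i = (LinearMap.proj (R := A) (φ := P) i).rTensor M v := by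
  induction v using TensorProduct.induction_on with
  | zero => simp
  | add x y hx hy => simp only [map_add, Pi.add_apply, hx, hy]
  | tmul f m => simp

/-- If `G` is killed by `J`, `M / J M` is flat over `A / J` and `G` has no nonzero element which is
`S i`-torsion for every `i`, then the same holds for `G ⊗ M`. -/
theorem eq_zero_of_forall_torsion [Module.Flat (A ⧸ J) ((A ⧸ J) ⊗[A] M)]
    {ι : Type*} [Finite ι] (S : ι → Submonoid A)
    {G : Type*} [AddCommGroup G] [Module A G]
    (hJG : ∀ a ∈ J, ∀ g : G, a • g = 0)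
    (hG : ∀ g : G, (∀ i, ∃ s ∈ S i, s • g = 0) → g = 0)
    (u : G ⊗[A] M) (hu : ∀ i, ∃ s ∈ S i, s • u = 0) : u = 0 := by
  classical
  have := Fintype.ofFinite ι
  let ℓ : G →ₗ[A] (∀ i, LocalizedModule (S i) G) :=
    LinearMap.pi (fun i => LocalizedModule.mkLinearMap (S i) G)
  have hℓ : Function.Injective ℓ := by
    rw [injective_iff_map_eq_zero]
    intro g hg
    refine hG g (fun i => ?_)
    have h1 : LocalizedModule.mkLinearMap (S i) G g = 0 := congrFun hg i
    obtain ⟨s, hs⟩ := (IsLocalizedModule.eq_zero_iff (S i) (LocalizedModule.mkLinearMap (S i) G)).mp h1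
    exact ⟨s.1, s.2, hs⟩
  have hJP : ∀ a ∈ J, ∀ p : (∀ i, LocalizedModule (S i) G), a • p = 0 := by
    intro a ha p
    funext i
    rw [Pi.smul_apply, Pi.zero_apply]
    induction p i using LocalizedModule.induction_on with
    | h g s => rw [LocalizedModule.smul'_mk, hJG a ha, LocalizedModule.zero_mk]
  have hinj := rTensor_injective_of_flat_quotient J M ℓ hℓ hJG hJP
  apply hinj
  rw [map_zero]
  apply (TensorProduct.piLeft A M (fun i => LocalizedModule (S i) G)).injective
  rw [map_zero]
  funext i
  rw [piLeft_apply, Pi.zero_apply, ← LinearMap.comp_apply, ← LinearMap.rTensor_comp]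
  have h2 : (LinearMap.proj (R := A) (φ := fun i => LocalizedModule (S i) G) i) ∘ₗ ℓ =
      LocalizedModule.mkLinearMap (S i) G := by
    ext g
    rfl
  rw [h2]
  obtain ⟨s, hs, hsu⟩ := hu i
  have h3 : (AlgebraTensorModule.rTensor A M (LocalizedModule.mkLinearMap (S i) G)) u = 0 :=
    (IsLocalizedModule.eq_zero_iff (S i)
      (AlgebraTensorModule.rTensor A M (LocalizedModule.mkLinearMap (S i) G))).mpr ⟨⟨s, hs⟩, hsu⟩
  exact h3

end K

section G

variable {A : Type u} [CommRing A]

/-- If `u ∈ N ⊗ M` dies in `N ⊗ S⁻¹M` then it is killed by an element of `S`. -/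
lemma exists_smul_eq_zero_of_lTensor (S : Submonoid A) {N M : Type*} [AddCommGroup N] [Module A N]
    [AddCommGroup M] [Module A M] (u : N ⊗[A] M)
    (h : LinearMap.lTensor N (LocalizedModule.mkLinearMap S M) u = 0) :
    ∃ s ∈ S, s • u = 0 := by
  have h2 : AlgebraTensorModule.rTensor A N (LocalizedModule.mkLinearMap S M)
      (TensorProduct.comm A N M u) = 0 := by
    have h3 : ∀ v : N ⊗[A] M, AlgebraTensorModule.rTensor A N (LocalizedModule.mkLinearMap S M)
        (TensorProduct.comm A N M v) = TensorProduct.comm A N (LocalizedModule S M)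
          (LinearMap.lTensor N (LocalizedModule.mkLinearMap S M) v) := by
      intro v
      induction v using TensorProduct.induction_on with
      | zero => simp
      | add x y hx hy => simp only [map_add, hx, hy]
      | tmul n m => simp
    rw [h3, h, map_zero]
  obtain ⟨s, hs⟩ := (IsLocalizedModule.eq_zero_iff S
    (AlgebraTensorModule.rTensor A N (LocalizedModule.mkLinearMap S M))).mp h2
  refine ⟨s.1, s.2, ?_⟩
  apply (TensorProduct.comm A N M).injective
  rw [map_smul, map_zero]
  exact hs

/-- elements of `𝔞` lying in `I`, as a submodule of `𝔞`. -/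
def cq (I 𝔞 : Ideal A) : Submodule A 𝔞 := Submodule.comap 𝔞.subtype I

theorem range_rTensor_le_smul (M : Type*) [AddCommGroup M] [Module A M] (I : Ideal A)
    {P : Type*} [AddCommGroup P] [Module A P]
    (B : Submodule A P) (n : ℕ) (hB : B ≤ (I ^ n • ⊤ : Submodule A P)) (y : B ⊗[A] M) :
    LinearMap.rTensor M B.subtype y ∈ (I ^ n • ⊤ : Submodule A (P ⊗[A] M)) := by
  induction y using TensorProduct.induction_on with
  | zero => simp
  | add x y hx hy => rw [map_add]; exact add_mem hx hy
  | tmul b m =>
    rw [LinearMap.rTensor_tmul]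
    have h1 : (b : P) ∈ (I ^ n • ⊤ : Submodule A P) := hB b.2
    have h2 : (I ^ n • (⊤ : Submodule A P)).map ((TensorProduct.mk A P M).flip m) ≤
        (I ^ n • ⊤ : Submodule A (P ⊗[A] M)) := by
      rw [Submodule.map_smul'']
      exact Submodule.smul_mono le_rfl le_top
    exact h2 ⟨b, h1, rfl⟩

variable [IsNoetherianRing A] (J : Ideal A) (M : Type u) [AddCommGroup M] [Module A M]

/-- **Flatness via a filtration and finitely many localizations.**  `A` Noetherian, `M` ideally
separated for `J`, `M / J M` flat over `A / J`.  Let `I 0 = ⊤ ⊇ I 1 ⊇ …` be a filtration of `A` by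
ideals with `J * I m ≤ I (m+1)`, cofinal in the `J`-adic topology, and let `S i` be finitely many
submonoids of `A` such that `S i⁻¹ M` is flat over `A` and such that the graded pieces
`I m / I (m+1)` have no nonzero element which is `S i`-torsion for every `i`.  Then `M` is flat. -/
theorem flat_of_filtration
    (hsep : ∀ 𝔞 : Ideal A, IsHausdorff J (↥𝔞 ⊗[A] M))
    [Module.Flat (A ⧸ J) ((A ⧸ J) ⊗[A] M)]
    {ι : Type*} [Finite ι] (S : ι → Submonoid A)
    (hloc : ∀ i, Module.Flat A (LocalizedModule (S i) M))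
    (I : ℕ → Ideal A) (hI0 : I 0 = ⊤)
    (hJI : ∀ m, J * I m ≤ I (m + 1))
    (htop : ∀ n, ∃ m, I m ≤ J ^ n)
    (hb : ∀ m, ∀ x ∈ I m, (∀ i, ∃ s ∈ S i, s * x ∈ I (m + 1)) → x ∈ I (m + 1)) :
    Module.Flat A M := by
  rw [Module.Flat.iff_rTensor_injective']
  intro 𝔞
  rw [injective_iff_map_eq_zero]
  intro t ht
  have tors : ∀ (B : Submodule A 𝔞) (t' : B ⊗[A] M),
      (𝔞.subtype ∘ₗ B.subtype).rTensor M t' = 0 → ∀ i, ∃ s ∈ S i, s • t' = 0 := by
    intro B t' h i
    have hj : Function.Injective (𝔞.subtype ∘ₗ B.subtype) :=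
      𝔞.injective_subtype.comp B.injective_subtype
    have := hloc i
    have hinj := Module.Flat.rTensor_preserves_injective_linearMap
      (M := LocalizedModule (S i) M) _ hj
    have h1 : LinearMap.lTensor B (LocalizedModule.mkLinearMap (S i) M) t' = 0 := by
      apply hinj
      rw [map_zero, ← LinearMap.comp_apply, LinearMap.rTensor_comp_lTensor,
        ← LinearMap.lTensor_comp_rTensor, LinearMap.comp_apply, h, map_zero]
    exact exists_smul_eq_zero_of_lTensor (S i) t' h1
  have ind : ∀ m, t ∈ LinearMap.range ((cq (I m) 𝔞).subtype.rTensor M) := by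
    intro m
    induction m with
    | zero =>
      have h0 : cq (I 0) 𝔞 = ⊤ := by rw [cq, hI0]; exact Submodule.comap_top _
      have hs : Function.Surjective ((cq (I 0) 𝔞).subtype.rTensor M) := by
        apply LinearMap.rTensor_surjective
        intro x
        exact ⟨⟨x, by rw [h0]; trivial⟩, rfl⟩
      exact LinearMap.mem_range.mpr (hs t)
    | succ m ih =>
      obtain ⟨t', rfl⟩ := ih
      let K : Submodule A (cq (I m) 𝔞) :=
        Submodule.comap (cq (I m) 𝔞).subtype (cq (I (m + 1)) 𝔞)
      have hJQ : ∀ a ∈ J, ∀ g : (cq (I m) 𝔞) ⧸ K, a • g = 0 := by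
        intro a ha g
        obtain ⟨x, rfl⟩ := Submodule.Quotient.mk_surjective _ g
        rw [← Submodule.Quotient.mk_smul, Submodule.Quotient.mk_eq_zero]
        have hx : ((x : 𝔞) : A) ∈ I m := x.2
        change a * ((x : 𝔞) : A) ∈ I (m + 1)
        exact hJI m (Ideal.mul_mem_mul ha hx)
      have hQ : ∀ g : (cq (I m) 𝔞) ⧸ K, (∀ i, ∃ s ∈ S i, s • g = 0) → g = 0 := by
        intro g hg
        obtain ⟨x, rfl⟩ := Submodule.Quotient.mk_surjective _ g
        rw [Submodule.Quotient.mk_eq_zero]
        have hx : ((x : 𝔞) : A) ∈ I m := x.2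
        change ((x : 𝔞) : A) ∈ I (m + 1)
        refine hb m _ hx (fun i => ?_)
        obtain ⟨s, hs, h⟩ := hg i
        rw [← Submodule.Quotient.mk_smul, Submodule.Quotient.mk_eq_zero] at h
        exact ⟨s, hs, h⟩
      have ht' : ∀ i, ∃ s ∈ S i, s • t' = 0 :=
        tors _ t' (by rw [LinearMap.rTensor_comp, LinearMap.comp_apply]; exact ht)
      have ht'' : K.mkQ.rTensor M t' = 0 := by
        refine eq_zero_of_forall_torsion J M S hJQ hQ _ (fun i => ?_)
        obtain ⟨s, hs, h⟩ := ht' i
        exact ⟨s, hs, by rw [← map_smul, h, map_zero]⟩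
      obtain ⟨t3, rfl⟩ := (rTensor_exact (M := ↥K) (f := K.subtype) M
        (LinearMap.exact_subtype_mkQ K) (Submodule.mkQ_surjective K) t').mp ht''
      let j : K →ₗ[A] cq (I (m + 1)) 𝔞 :=
        LinearMap.codRestrict _ ((cq (I m) 𝔞).subtype ∘ₗ K.subtype) (fun x => x.2)
      refine ⟨j.rTensor M t3, ?_⟩
      rw [← LinearMap.comp_apply, ← LinearMap.rTensor_comp, ← LinearMap.comp_apply,
        ← LinearMap.rTensor_comp]
      rfl
  obtain ⟨k, hk⟩ := Groth.Agent.Lib.Helper6.LocalFlat.bq_le_smul J 𝔞
  have key : ∀ n : ℕ, t ∈ (J ^ n • ⊤ : Submodule A (𝔞 ⊗[A] M)) := by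
    intro n
    obtain ⟨m, hm⟩ := htop (n + k)
    obtain ⟨y, rfl⟩ := ind m
    refine range_rTensor_le_smul M J (cq (I m) 𝔞) n ?_ y
    intro b hb'
    exact hk n (hm hb')
  exact IsHausdorff.haus (hsep 𝔞) t (fun n => by rw [SModEq.zero]; exact key n)

end G

section aux

variable {A : Type u} [CommRing A]

lemma one_tmul_eq_zero_iff (J : Ideal A) {N : Type*} [AddCommGroup N] [Module A N] (y : N) :
    (1 : A ⧸ J) ⊗ₜ[A] y = 0 ↔ y ∈ (J • ⊤ : Submodule A N) := by
  rw [← (TensorProduct.quotTensorEquivQuotSMul N J).map_eq_zero_iff,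
    TensorProduct.quotTensorEquivQuotSMul_mk_one_tmul, Submodule.Quotient.mk_eq_zero]

lemma mem_smul_top_iff (J I' : Ideal A) (y : I') :
    y ∈ (J • ⊤ : Submodule A I') ↔ (y : A) ∈ J * I' := by
  have h3 : (J • (⊤ : Submodule A I')).map I'.subtype = J * I' := by
    rw [Submodule.map_smul'', Submodule.map_subtype_top]
    rfl
  constructor
  · intro h
    rw [← h3]
    exact ⟨y, h, rfl⟩
  · intro h
    rw [← h3] at h
    obtain ⟨y', hy', e⟩ := h
    have : y' = y := Subtype.ext e
    rw [← this]
    exact hy'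

/-- Over a Noetherian ring, an element of a module which is killed, for every associated prime
`q`, by an element outside `q`, is zero. -/
lemma eq_zero_of_forall_associatedPrimes [IsNoetherianRing A] {N : Type*} [AddCommGroup N]
    [Module A N] (g : N)
    (h : ∀ q : Ideal A, IsAssociatedPrime q N → ∃ s ∉ q, s • g = 0) : g = 0 := by
  by_contra hne
  obtain ⟨P, hP, hle⟩ := exists_le_isAssociatedPrime_of_isNoetherianRing A g hne
  obtain ⟨s, hs, hsg⟩ := h P hP
  apply hs
  apply hle
  rw [Submodule.mem_colon_singleton]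
  simpa using hsg

end aux

end Groth.Agent.Lib.Helper24.IdeallySep
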