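import Mathlib
import Groth.Agent.Lib.Helper24.IdeallySep
import Groth.Agent.Lib.Lead.FlatCrit

/-!
# Descent of flatness along an injective ring map with a nilpotent ideal

`flat_of_injective_of_nilpotent`: let `C → C'` be an injective ring map, `N'` a nilpotent ideal
of `C'`, `J = N' ∩ C`.  If `X / J X` is flat over `C / J` and `C' ⊗ X` is flat over `C'`, then
`X` is flat over `C`.  (No finiteness, no locality.)
-/

set_option autoImplicit false
set_option linter.style.haveILetI false
universe u

open TensorProduct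

namespace Groth.Agent.Lib.Helper24.NilDescent

open Groth.Agent.Lib.Helper24.IdeallySep

section F0

variable {C : Type u} [CommRing C] (J : Ideal C) (C' : Type u) [CommRing C'] [Algebra C C']
  (X : Type u) [AddCommGroup X] [Module C X]

/-- If `X / J X` is flat over `C / J` and `C' ⊗ X` is flat over `C'`, then `- ⊗ X` preserves
injectivity of `C`-linear maps from a module killed by `J` to a `C'`-module. -/
theorem rTensor_injective_of_flat_quotient_of_flat_baseChange
    [Module.Flat (C ⧸ J) ((C ⧸ J) ⊗[C] X)] [Module.Flat C' (C' ⊗[C] X)]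
    {Q Y : Type*} [AddCommGroup Q] [Module C Q] [AddCommGroup Y] [Module C Y] [Module C' Y]
    [IsScalarTower C C' Y]
    (h : Q →ₗ[C] Y) (hh : Function.Injective h) (hQ : ∀ a ∈ J, ∀ q : Q, a • q = 0) :
    Function.Injective (h.rTensor X) := by
  let E : Submodule C' Y := Submodule.span C' (Set.range h)
  have hE : ∀ a ∈ J, ∀ e : E, a • e = 0 := by
    intro a ha e
    apply Subtype.ext
    change a • (e : Y) = 0
    have : ∀ y ∈ E, a • y = 0 := by
      intro y hy
      induction hy using Submodule.span_induction with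
      | mem y hy =>
        obtain ⟨q, rfl⟩ := hy
        rw [← map_smul, hQ a ha, map_zero]
      | zero => rw [smul_zero]
      | add x y _ _ hx hy => rw [smul_add, hx, hy, add_zero]
      | smul c y _ hy => rw [smul_comm, hy, smul_zero]
    exact this e.1 e.2
  let h₀ : Q →ₗ[C] E := LinearMap.codRestrict (E.restrictScalars C) h
    (fun q => Submodule.subset_span ⟨q, rfl⟩)
  have hh₀ : Function.Injective h₀ := fun x y hxy => hh (congrArg Subtype.val hxy)
  have h1 : Function.Injective (h₀.rTensor X) :=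
    rTensor_injective_of_flat_quotient J X h₀ hh₀ hQ hE
  have h2 : Function.Injective ((E.subtype.restrictScalars C).rTensor X) :=
    Groth.Agent.Lib.Lead.FlatCrit.rTensor_injective_of_flat_baseChange (A := C) C' X E.subtype
      E.injective_subtype
  have h3 : h.rTensor X = (E.subtype.restrictScalars C).rTensor X ∘ₗ h₀.rTensor X := by
    rw [← LinearMap.rTensor_comp]
    rfl
  rw [h3]
  exact h2.comp h1

end F0

section D

variable {C C' : Type u} [CommRing C] [CommRing C'] [Algebra C C']

/-- **Descent of flatness along an injective map with nilpotent ideal.** -/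
theorem flat_of_injective_of_nilpotent (hinj : Function.Injective (algebraMap C C'))
    (N' : Ideal C') (n : ℕ) (hN : N' ^ n = ⊥) (X : Type u) [AddCommGroup X] [Module C X]
    [Module.Flat (C ⧸ N'.comap (algebraMap C C')) ((C ⧸ N'.comap (algebraMap C C')) ⊗[C] X)]
    [Module.Flat C' (C' ⊗[C] X)] : Module.Flat C X := by
  set φ := algebraMap C C' with hφ
  set J : Ideal C := N'.comap φ with hJ
  rw [Module.Flat.iff_rTensor_injective']
  intro 𝔞
  rw [injective_iff_map_eq_zero]
  intro t ht
  let I : ℕ → Ideal C := fun j => (N' ^ j).comap φ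
  have hI0 : I 0 = ⊤ := by
    change (N' ^ 0).comap φ = ⊤
    rw [pow_zero, Ideal.one_eq_top, Ideal.comap_top]
  have hIn : ∀ x ∈ I n, x = 0 := by
    intro x hx
    change φ x ∈ N' ^ n at hx
    rw [hN, Ideal.mem_bot] at hx
    exact hinj (by rw [hx, map_zero])
  have ind : ∀ m, t ∈ LinearMap.range ((cq (I m) 𝔞).subtype.rTensor X) := by
    intro m
    induction m with
    | zero =>
      have h0 : cq (I 0) 𝔞 = ⊤ := by rw [cq, hI0]; exact Submodule.comap_top _
      have hs : Function.Surjective ((cq (I 0) 𝔞).subtype.rTensor X) := by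
        apply LinearMap.rTensor_surjective
        intro x
        exact ⟨⟨x, by rw [h0]; trivial⟩, rfl⟩
      exact LinearMap.mem_range.mpr (hs t)
    | succ m ih =>
      obtain ⟨t', rfl⟩ := ih
      let K : Submodule C (cq (I m) 𝔞) :=
        Submodule.comap (cq (I m) 𝔞).subtype (cq (I (m + 1)) 𝔞)
      -- the map to `C' / N'^(m+1)`
      obtain ⟨c, hc⟩ : ∃ c : C →ₗ[C] (C' ⧸ N' ^ (m + 1)),
          ∀ x, c x = Ideal.Quotient.mk (N' ^ (m + 1)) (φ x) :=
        ⟨((Ideal.Quotient.mkₐ C' (N' ^ (m + 1))).toLinearMap.restrictScalars C) ∘ₗ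
          (Algebra.linearMap C C'), fun x => rfl⟩
      let g : (cq (I m) 𝔞) →ₗ[C] (C' ⧸ N' ^ (m + 1)) :=
        c ∘ₗ 𝔞.subtype ∘ₗ (cq (I m) 𝔞).subtype
      have hg : ∀ x : cq (I m) 𝔞, g x = 0 ↔ x ∈ K := by
        intro x
        rw [show g x = c ((x : 𝔞) : C) from rfl, hc, Ideal.Quotient.eq_zero_iff_mem]
        rfl
      have hKg : K ≤ LinearMap.ker g := fun x hx => (hg x).2 hx
      let gbar : ((cq (I m) 𝔞) ⧸ K) →ₗ[C] (C' ⧸ N' ^ (m + 1)) := K.liftQ g hKg
      have hgbar : Function.Injective gbar := by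
        rw [← LinearMap.ker_eq_bot]
        exact Submodule.ker_liftQ_eq_bot _ _ hKg (fun x hx => (hg x).1 hx)
      have hJQ : ∀ a ∈ J, ∀ q : (cq (I m) 𝔞) ⧸ K, a • q = 0 := by
        intro a ha q
        obtain ⟨x, rfl⟩ := Submodule.Quotient.mk_surjective _ q
        rw [← Submodule.Quotient.mk_smul, Submodule.Quotient.mk_eq_zero]
        have hx : φ ((x : 𝔞) : C) ∈ N' ^ m := x.2
        change φ (a * ((x : 𝔞) : C)) ∈ N' ^ (m + 1)
        rw [map_mul, pow_succ']
        exact Ideal.mul_mem_mul ha hx
      have hinj' : Function.Injective (gbar.rTensor X) :=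
        rTensor_injective_of_flat_quotient_of_flat_baseChange J C' X gbar hgbar hJQ
      have ht'' : K.mkQ.rTensor X t' = 0 := by
        apply hinj'
        rw [map_zero, ← LinearMap.comp_apply, ← LinearMap.rTensor_comp]
        have : gbar ∘ₗ K.mkQ = g := Submodule.liftQ_mkQ K g hKg
        rw [this]
        change (c ∘ₗ 𝔞.subtype ∘ₗ (cq (I m) 𝔞).subtype).rTensor X t' = 0
        rw [LinearMap.rTensor_comp, LinearMap.rTensor_comp, LinearMap.comp_apply,
          LinearMap.comp_apply, ht, map_zero]
      obtain ⟨t3, rfl⟩ := (rTensor_exact (M := ↥K) (f := K.subtype) X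
        (LinearMap.exact_subtype_mkQ K) (Submodule.mkQ_surjective K) t').mp ht''
      let j : K →ₗ[C] cq (I (m + 1)) 𝔞 :=
        LinearMap.codRestrict _ ((cq (I m) 𝔞).subtype ∘ₗ K.subtype) (fun x => x.2)
      refine ⟨j.rTensor X t3, ?_⟩
      rw [← LinearMap.comp_apply, ← LinearMap.rTensor_comp, ← LinearMap.comp_apply,
        ← LinearMap.rTensor_comp]
      rfl
  obtain ⟨y, rfl⟩ := ind n
  have hz : (cq (I n) 𝔞).subtype = 0 := by
    ext x
    exact hIn _ x.2
  rw [hz, LinearMap.rTensor_zero, LinearMap.zero_apply]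

end D

end Groth.Agent.Lib.Helper24.NilDescent
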