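import Mathlib
import Groth.Agent.Lib.Helper24.NilDescent

/-!
# Descent of flatness along finite injective maps of Noetherian rings (Stacks 0533)
-/

set_option autoImplicit false
set_option linter.style.haveILetI false
universe u

open TensorProduct

namespace Groth.Agent.Lib.Helper24.FiniteDescent

open Groth.Agent.Lib.Helper24.IdeallySep Groth.Agent.Lib.Helper24.NilDescent

section A

variable {R : Type u} [CommRing R] (M : Type u) [AddCommGroup M] [Module R M]

/-- One filtration step: if `M / I M` is flat over `R / I`, an element of the kernel of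
`𝔞 ⊗ M → M` comes from `(𝔞 ∩ I) ⊗ M`. -/
theorem exists_rTensor_cq_eq (I : Ideal R) [Module.Flat (R ⧸ I) ((R ⧸ I) ⊗[R] M)]
    (𝔞 : Ideal R) (t : 𝔞 ⊗[R] M) (ht : 𝔞.subtype.rTensor M t = 0) :
    ∃ t' : (cq I 𝔞) ⊗[R] M, (cq I 𝔞).subtype.rTensor M t' = t := by
  let c : R →ₗ[R] R ⧸ I := Submodule.mkQ I
  let g : 𝔞 →ₗ[R] R ⧸ I := c ∘ₗ 𝔞.subtype
  have hg : ∀ x : 𝔞, g x = 0 ↔ x ∈ cq I 𝔞 := by
    intro x
    change Submodule.Quotient.mk (x : R) = 0 ↔ _
    rw [Submodule.Quotient.mk_eq_zero]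
    rfl
  have hKg : cq I 𝔞 ≤ LinearMap.ker g := fun x hx => (hg x).2 hx
  let gbar : (𝔞 ⧸ cq I 𝔞) →ₗ[R] R ⧸ I := (cq I 𝔞).liftQ g hKg
  have hgbar : Function.Injective gbar := by
    rw [← LinearMap.ker_eq_bot]
    exact Submodule.ker_liftQ_eq_bot _ _ hKg (fun x hx => (hg x).1 hx)
  have hQ : ∀ a ∈ I, ∀ q : 𝔞 ⧸ cq I 𝔞, a • q = 0 := by
    intro a ha q
    obtain ⟨x, rfl⟩ := Submodule.Quotient.mk_surjective _ q
    rw [← Submodule.Quotient.mk_smul, Submodule.Quotient.mk_eq_zero]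
    change a * (x : R) ∈ I
    exact I.mul_mem_right _ ha
  have hQ' : ∀ a ∈ I, ∀ q : R ⧸ I, a • q = 0 := by
    intro a ha q
    obtain ⟨x, rfl⟩ := Submodule.Quotient.mk_surjective _ q
    rw [← Submodule.Quotient.mk_smul, Submodule.Quotient.mk_eq_zero]
    change a * x ∈ I
    exact I.mul_mem_right _ ha
  have hinj := rTensor_injective_of_flat_quotient I M gbar hgbar hQ hQ'
  have h0 : (cq I 𝔞).mkQ.rTensor M t = 0 := by
    apply hinj
    rw [map_zero, ← LinearMap.comp_apply, ← LinearMap.rTensor_comp]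
    have : gbar ∘ₗ (cq I 𝔞).mkQ = g := Submodule.liftQ_mkQ _ g hKg
    rw [this]
    change (c ∘ₗ 𝔞.subtype).rTensor M t = 0
    rw [LinearMap.rTensor_comp, LinearMap.comp_apply, ht, map_zero]
  exact (rTensor_exact (M := ↥(cq I 𝔞)) (f := (cq I 𝔞).subtype) M
    (LinearMap.exact_subtype_mkQ _) (Submodule.mkQ_surjective _) t).mp h0

/-- Variant of `exists_rTensor_cq_eq` for `I ≤ 𝔞`. -/
theorem exists_rTensor_inclusion_eq (I : Ideal R) [Module.Flat (R ⧸ I) ((R ⧸ I) ⊗[R] M)]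
    (𝔞 : Ideal R) (hI : I ≤ 𝔞) (t : 𝔞 ⊗[R] M) (ht : 𝔞.subtype.rTensor M t = 0) :
    ∃ t' : I ⊗[R] M, (Submodule.inclusion hI).rTensor M t' = t := by
  obtain ⟨t1, rfl⟩ := exists_rTensor_cq_eq M I 𝔞 t ht
  let σ : I →ₗ[R] cq I 𝔞 :=
    LinearMap.codRestrict (cq I 𝔞) (Submodule.inclusion hI) (fun x => x.2)
  have hσ : Function.Surjective σ := by
    intro y
    exact ⟨⟨y.1.1, y.2⟩, rfl⟩
  obtain ⟨t2, rfl⟩ := LinearMap.rTensor_surjective M hσ t1
  refine ⟨t2, ?_⟩
  rw [← LinearMap.comp_apply, ← LinearMap.rTensor_comp]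
  rfl

/-- **Two-ideal lemma**, case `I₁ ⊓ I₂ = ⊥`. -/
theorem flat_of_inf_eq_bot (I₁ I₂ : Ideal R) (h : I₁ ⊓ I₂ = ⊥)
    [Module.Flat (R ⧸ I₁) ((R ⧸ I₁) ⊗[R] M)] [Module.Flat (R ⧸ I₂) ((R ⧸ I₂) ⊗[R] M)] :
    Module.Flat R M := by
  rw [Module.Flat.iff_rTensor_injective']
  intro 𝔞
  rw [injective_iff_map_eq_zero]
  intro t ht
  obtain ⟨t1, rfl⟩ := exists_rTensor_cq_eq M I₁ 𝔞 t ht
  let c : R →ₗ[R] R ⧸ I₂ := Submodule.mkQ I₂
  let g : (cq I₁ 𝔞) →ₗ[R] R ⧸ I₂ := c ∘ₗ 𝔞.subtype ∘ₗ (cq I₁ 𝔞).subtype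
  have hzero : ∀ x : R, x ∈ I₁ → x ∈ I₂ → x = 0 := by
    intro x h1 h2
    have : x ∈ I₁ ⊓ I₂ := ⟨h1, h2⟩
    rw [h] at this
    exact this
  have hg : Function.Injective g := by
    rw [injective_iff_map_eq_zero]
    intro x hx
    change Submodule.Quotient.mk ((x : 𝔞) : R) = 0 at hx
    rw [Submodule.Quotient.mk_eq_zero] at hx
    apply Subtype.ext
    apply Subtype.ext
    exact hzero _ x.2 hx
  have hQ : ∀ a ∈ I₂, ∀ q : cq I₁ 𝔞, a • q = 0 := by
    intro a ha q
    apply Subtype.ext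
    apply Subtype.ext
    change a * ((q : 𝔞) : R) = 0
    exact hzero _ (I₁.mul_mem_left _ q.2) (I₂.mul_mem_right _ ha)
  have hQ' : ∀ a ∈ I₂, ∀ q : R ⧸ I₂, a • q = 0 := by
    intro a ha q
    obtain ⟨x, rfl⟩ := Submodule.Quotient.mk_surjective _ q
    rw [← Submodule.Quotient.mk_smul, Submodule.Quotient.mk_eq_zero]
    change a * x ∈ I₂
    exact I₂.mul_mem_right _ ha
  have hinj := rTensor_injective_of_flat_quotient I₂ M g hg hQ hQ'
  have : t1 = 0 := by
    apply hinj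
    rw [map_zero]
    change (c ∘ₗ 𝔞.subtype ∘ₗ (cq I₁ 𝔞).subtype).rTensor M t1 = 0
    rw [LinearMap.rTensor_comp, LinearMap.rTensor_comp, LinearMap.comp_apply,
      LinearMap.comp_apply, ht, map_zero]
  rw [this, map_zero]

end A

section B

/-- A "trace-like" map: for a finite injective algebra `S` over a Noetherian domain `R` there is
an `R`-linear `ψ : S → R` with `ψ 1 ≠ 0`. -/
theorem exists_linearMap_one_ne_zero (R S : Type u) [CommRing R] [IsDomain R] [IsNoetherianRing R]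
    [CommRing S] [Algebra R S] [Module.Finite R S]
    (hinj : Function.Injective (algebraMap R S)) : ∃ ψ : S →ₗ[R] R, ψ 1 ≠ 0 := by
  let K := FractionRing R
  have hv : ((1 : K) ⊗ₜ[R] (1 : S)) ≠ 0 := by
    have h1 : Function.Injective ((Algebra.linearMap R S).lTensor K) :=
      Module.Flat.lTensor_preserves_injective_linearMap _ hinj
    intro h0
    have h2 : (Algebra.linearMap R S).lTensor K ((1 : K) ⊗ₜ[R] (1 : R)) = 0 := by
      rw [LinearMap.lTensor_tmul, Algebra.linearMap_apply, map_one]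
      exact h0
    have h3 : ((1 : K) ⊗ₜ[R] (1 : R)) = 0 := h1 (h2.trans (map_zero _).symm)
    have h4 := congrArg (TensorProduct.rid R K) h3
    rw [TensorProduct.rid_tmul, one_smul, map_zero] at h4
    exact one_ne_zero h4
  obtain ⟨l, hl⟩ := Module.Projective.exists_dual_ne_zero K hv
  let g : S →ₗ[R] K := (l.restrictScalars R) ∘ₗ (TensorProduct.mk R K S 1)
  haveI : Module.FinitePresentation R S := Module.finitePresentation_of_finite R S
  obtain ⟨h, s, hs⟩ := Module.FinitePresentation.exists_lift_of_isLocalizedModule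
    (nonZeroDivisors R) (Algebra.linearMap R K) g
  refine ⟨h, fun h0 => ?_⟩
  have h5 := LinearMap.congr_fun hs 1
  rw [LinearMap.comp_apply, h0, map_zero, LinearMap.smul_apply] at h5
  have h6 : g 1 = l ((1 : K) ⊗ₜ[R] (1 : S)) := rfl
  rw [h6] at h5
  have h7 : (s : R) • l ((1 : K) ⊗ₜ[R] (1 : S)) = 0 := h5.symm
  rw [Algebra.smul_def, mul_eq_zero] at h7
  rcases h7 with h7 | h7
  · have : (s : R) = 0 := (IsFractionRing.injective R K) (by rw [h7, map_zero])
    exact nonZeroDivisors.coe_ne_zero s this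
  · exact hl h7

variable {R S : Type u} [CommRing R] [CommRing S] [Algebra R S]
  (M : Type u) [AddCommGroup M] [Module R M]

/-- If `S ⊗ M` is `S`-flat and `ψ : S → R` is `R`-linear, then `ψ 1` kills the kernel of
`𝔟 ⊗ M → M` for every ideal `𝔟`. -/
theorem smul_eq_zero_of_rTensor_subtype_eq_zero [Module.Flat S (S ⊗[R] M)] (ψ : S →ₗ[R] R)
    (𝔟 : Ideal R) (t : 𝔟 ⊗[R] M) (ht : 𝔟.subtype.rTensor M t = 0) : ψ 1 • t = 0 := by
  set φ := algebraMap R S with hφ
  let 𝔟S : Ideal S := 𝔟.map φ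
  let i : 𝔟 →ₗ[R] 𝔟S := LinearMap.codRestrict (𝔟S.restrictScalars R)
    ((Algebra.linearMap R S) ∘ₗ 𝔟.subtype) (fun x => Ideal.mem_map_of_mem _ x.2)
  have hψ : ∀ x : 𝔟S, ψ (x : S) ∈ 𝔟 := by
    intro x
    have hx : (x : S) ∈ (𝔟 • ⊤ : Submodule R S) := by
      rw [Ideal.smul_top_eq_map]
      exact x.2
    exact Submodule.smul_induction_on (p := fun y => ψ y ∈ 𝔟) hx
      (fun r hr n _ => by
        change ψ (r • n) ∈ 𝔟
        rw [map_smul]
        exact 𝔟.mul_mem_right _ hr)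
      (fun x y hx hy => by
        change ψ (x + y) ∈ 𝔟
        rw [map_add]
        exact add_mem hx hy)
  let ψ' : 𝔟S →ₗ[R] 𝔟 :=
    LinearMap.codRestrict 𝔟 (ψ ∘ₗ (𝔟S.subtype.restrictScalars R)) hψ
  have hcomp : ψ' ∘ₗ i = ψ 1 • LinearMap.id := by
    ext x
    change ψ (φ (x : R)) = ψ 1 * (x : R)
    rw [Algebra.algebraMap_eq_smul_one, map_smul, smul_eq_mul, mul_comm]
  have h1 : i.rTensor M t = 0 := by
    have hinj : Function.Injective ((𝔟S.subtype.restrictScalars R).rTensor M) :=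
      Groth.Agent.Lib.Lead.FlatCrit.rTensor_injective_of_flat_baseChange (A := R) S M 𝔟S.subtype
        𝔟S.injective_subtype
    apply hinj
    rw [map_zero, ← LinearMap.comp_apply, ← LinearMap.rTensor_comp]
    have : (𝔟S.subtype.restrictScalars R) ∘ₗ i = (Algebra.linearMap R S) ∘ₗ 𝔟.subtype := rfl
    rw [this, LinearMap.rTensor_comp, LinearMap.comp_apply, ht, map_zero]
  have h2 : (ψ' ∘ₗ i).rTensor M t = 0 := by
    rw [LinearMap.rTensor_comp, LinearMap.comp_apply, h1, map_zero]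
  rw [hcomp, LinearMap.rTensor_smul, LinearMap.rTensor_id, LinearMap.smul_apply,
    LinearMap.id_apply] at h2
  exact h2

end B

section C

variable {R S : Type u} [CommRing R] [IsDomain R] [CommRing S] [Algebra R S]
  (M : Type u) [AddCommGroup M] [Module R M]

/-- The domain case. -/
theorem flat_of_domain [Module.Flat S (S ⊗[R] M)] (ψ : S →ₗ[R] R) (hψ : ψ 1 ≠ 0)
    (IH : ∀ I : Ideal R, I ≠ ⊥ → Module.Flat (R ⧸ I) ((R ⧸ I) ⊗[R] M)) : Module.Flat R M := by
  rw [Module.Flat.iff_rTensor_injective']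
  intro 𝔞
  rw [injective_iff_map_eq_zero]
  intro t ht
  set d := ψ 1 with hd
  by_cases h𝔞 : 𝔞 = ⊥
  · have hx : ∀ x : 𝔞, x = 0 := by
      intro x
      apply Subtype.ext
      exact Ideal.mem_bot.mp (le_of_eq h𝔞 x.2)
    have h0 : ∀ z : 𝔞 ⊗[R] M, z = 0 := by
      intro z
      induction z using TensorProduct.induction_on with
      | zero => rfl
      | tmul x m => rw [hx x, zero_tmul]
      | add x y hx' hy' => rw [hx', hy', add_zero]
    exact h0 t
  · set I : Ideal R := Ideal.span {d} * 𝔞 with hI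
    have hI𝔞 : I ≤ 𝔞 := Ideal.mul_le_right
    have hIne : I ≠ ⊥ := by
      obtain ⟨x, hx, hx0⟩ := Submodule.exists_mem_ne_zero_of_ne_bot h𝔞
      intro h
      have : d * x ∈ I := Ideal.mul_mem_mul (Ideal.mem_span_singleton_self d) hx
      rw [h, Ideal.mem_bot] at this
      exact (mul_ne_zero hψ hx0) this
    haveI := IH I hIne
    obtain ⟨t2, rfl⟩ := exists_rTensor_inclusion_eq M I 𝔞 hI𝔞 t ht
    -- multiplication by `d` as an isomorphism `𝔞 ≃ I`
    let ν : 𝔞 →ₗ[R] I := LinearMap.codRestrict I (d • 𝔞.subtype)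
      (fun x => Ideal.mul_mem_mul (Ideal.mem_span_singleton_self d) x.2)
    have hνinj : Function.Injective ν := by
      intro x y hxy
      have : d * (x : R) = d * (y : R) := congrArg Subtype.val hxy
      exact Subtype.ext (mul_left_cancel₀ hψ this)
    have hνsurj : Function.Surjective ν := by
      intro y
      obtain ⟨z, hz, hzy⟩ := Ideal.mem_span_singleton_mul.mp y.2
      exact ⟨⟨z, hz⟩, Subtype.ext hzy⟩
    let e : 𝔞 ≃ₗ[R] I := LinearEquiv.ofBijective ν ⟨hνinj, hνsurj⟩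
    have heinj : Function.Injective (ν.rTensor M) := (e.rTensor M).injective
    obtain ⟨t1, rfl⟩ := LinearMap.rTensor_surjective M hνsurj t2
    have hcomp : (Submodule.inclusion hI𝔞) ∘ₗ ν = d • LinearMap.id := by
      ext x
      rfl
    have hsub : I.subtype = 𝔞.subtype ∘ₗ (Submodule.inclusion hI𝔞) := rfl
    have h3 : I.subtype.rTensor M (ν.rTensor M t1) = 0 := by
      rw [hsub, LinearMap.rTensor_comp, LinearMap.comp_apply]
      exact ht
    have h4 : d • (ν.rTensor M t1) = 0 :=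
      smul_eq_zero_of_rTensor_subtype_eq_zero M ψ I _ h3
    have h5 : d • t1 = 0 := by
      apply heinj
      rw [map_smul, h4, map_zero]
    rw [← LinearMap.comp_apply, ← LinearMap.rTensor_comp, hcomp, LinearMap.rTensor_smul,
      LinearMap.rTensor_id, LinearMap.smul_apply, LinearMap.id_apply, h5]

end C

section D

variable {R S : Type u} [CommRing R] [IsNoetherianRing R] [CommRing S] [IsNoetherianRing S]
  [Algebra R S] [Module.Finite R S] (M : Type u) [AddCommGroup M] [Module R M]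

omit [IsNoetherianRing S] in
/-- Artin–Rees: for `I` an ideal there is `n` with `R ∩ I^n S ⊆ I`. -/
theorem exists_comap_map_pow_le (hinj : Function.Injective (algebraMap R S)) (I : Ideal R) :
    ∃ n : ℕ, ((I ^ n).map (algebraMap R S)).comap (algebraMap R S) ≤ I := by
  set φ := algebraMap R S with hφ
  obtain ⟨k, hk⟩ := Ideal.exists_pow_inf_eq_pow_smul I
    (LinearMap.range (Algebra.linearMap R S))
  refine ⟨1 + k, ?_⟩
  intro a ha
  rw [Ideal.mem_comap] at ha
  have h1 : φ a ∈ (I ^ (1 + k) • ⊤ : Submodule R S) := by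
    rw [Ideal.smul_top_eq_map]
    exact ha
  have h2 : φ a ∈ (I ^ (1 + k) • ⊤ ⊓ LinearMap.range (Algebra.linearMap R S) :
      Submodule R S) := ⟨h1, ⟨a, rfl⟩⟩
  rw [hk (1 + k) (Nat.le_add_left k 1), Nat.add_sub_cancel] at h2
  have h3 : φ a ∈ (I ^ 1 • LinearMap.range (Algebra.linearMap R S) : Submodule R S) :=
    Submodule.smul_mono le_rfl inf_le_right h2
  rw [← Submodule.map_top, ← Submodule.map_smul''] at h3
  obtain ⟨b, hb, hba⟩ := h3
  have hb' : b ∈ I := by
    rw [smul_eq_mul, Ideal.mul_top, pow_one] at hb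
    exact hb
  have : b = a := hinj hba
  rw [← this]
  exact hb'

/-- The inductive step of Stacks 0533. -/
theorem flat_of_forall_comap_ne_bot (hinj : Function.Injective (algebraMap R S))
    [Module.Flat S (S ⊗[R] M)]
    (IH : ∀ q : Ideal S, q.comap (algebraMap R S) ≠ ⊥ →
      Module.Flat (R ⧸ q.comap (algebraMap R S)) ((R ⧸ q.comap (algebraMap R S)) ⊗[R] M)) :
    Module.Flat R M := by
  set φ := algebraMap R S with hφ
  by_cases hred : IsReduced R
  · by_cases hzd : ∃ a b : R, a ≠ 0 ∧ b ≠ 0 ∧ a * b = 0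
    · -- reduced, with zero divisors: two-ideal lemma
      obtain ⟨a, b, ha, hb, hab⟩ := hzd
      set q₁ : Ideal S := Submodule.annihilator (Ideal.span {φ a}) with hq₁
      set q₂ : Ideal S := Submodule.annihilator q₁ with hq₂
      have hb1 : b ∈ q₁.comap φ := by
        rw [Ideal.mem_comap, hq₁, Ideal.span, Submodule.mem_annihilator_span_singleton,
          smul_eq_mul, ← map_mul, mul_comm, hab, map_zero]
      have ha2 : a ∈ q₂.comap φ := by
        rw [Ideal.mem_comap, hq₂, Submodule.mem_annihilator]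
        intro s hs
        rw [hq₁, Ideal.span, Submodule.mem_annihilator_span_singleton, smul_eq_mul] at hs
        rw [smul_eq_mul, mul_comm, hs]
      have h1 : q₁.comap φ ≠ ⊥ := by
        intro h
        rw [h, Ideal.mem_bot] at hb1
        exact hb hb1
      have h2 : q₂.comap φ ≠ ⊥ := by
        intro h
        rw [h, Ideal.mem_bot] at ha2
        exact ha ha2
      have h12 : q₁.comap φ ⊓ q₂.comap φ = ⊥ := by
        rw [eq_bot_iff]
        rintro x ⟨hx1, hx2⟩
        rw [Ideal.mem_bot]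
        rw [SetLike.mem_coe, Ideal.mem_comap] at hx1 hx2
        rw [hq₂, Submodule.mem_annihilator] at hx2
        have h3 := hx2 _ hx1
        rw [smul_eq_mul, ← map_mul] at h3
        have h4 : x * x = 0 := hinj (by rw [h3, map_zero])
        have h5 : IsNilpotent x := ⟨2, by rw [sq]; exact h4⟩
        exact h5.eq_zero
      haveI := IH q₁ h1
      haveI := IH q₂ h2
      exact flat_of_inf_eq_bot M _ _ h12
    · -- domain case
      rcases subsingleton_or_nontrivial R with hsub | hnon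
      · haveI : Subsingleton M := Module.subsingleton R M
        infer_instance
      · haveI : NoZeroDivisors R := by
          constructor
          intro a b hab
          by_contra hcon
          rw [not_or] at hcon
          exact hzd ⟨a, b, hcon.1, hcon.2, hab⟩
        haveI : IsDomain R := NoZeroDivisors.to_isDomain R
        obtain ⟨ψ, hψ⟩ := exists_linearMap_one_ne_zero R S hinj
        refine flat_of_domain M ψ hψ (fun I hI => ?_)
        obtain ⟨n, hn⟩ := exists_comap_map_pow_le hinj I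
        have hne : ((I ^ n).map φ).comap φ ≠ ⊥ := by
          intro h
          have h1 : I ^ n ≤ ((I ^ n).map φ).comap φ := Ideal.le_comap_map
          rw [h, le_bot_iff] at h1
          have hpow : I ^ n ≠ ⊥ := by
            rw [← Ideal.zero_eq_bot]
            exact pow_ne_zero n (by rwa [Ideal.zero_eq_bot])
          exact hpow h1
        haveI := IH _ hne
        letI algCD : Algebra (R ⧸ ((I ^ n).map φ).comap φ) (R ⧸ I) :=
          (Ideal.Quotient.factor hn).toAlgebra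
        haveI t2 : IsScalarTower R (R ⧸ ((I ^ n).map φ).comap φ) (R ⧸ I) :=
          IsScalarTower.of_algebraMap_eq (fun a => rfl)
        have hF4 : Module.Flat (R ⧸ I)
            ((R ⧸ I) ⊗[R ⧸ ((I ^ n).map φ).comap φ] ((R ⧸ ((I ^ n).map φ).comap φ) ⊗[R] M)) :=
          inferInstance
        exact Module.Flat.of_linearEquiv
          (TensorProduct.AlgebraTensorModule.cancelBaseChange R (R ⧸ ((I ^ n).map φ).comap φ)
            (R ⧸ I) (R ⧸ I) M).symm
  · -- non-reduced case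
    obtain ⟨n, hn⟩ := IsNoetherianRing.isNilpotent_nilradical S
    have hne : (nilradical S).comap φ ≠ ⊥ := by
      intro h
      apply hred
      constructor
      intro x hx
      have : x ∈ (nilradical S).comap φ := by
        rw [Ideal.mem_comap, mem_nilradical]
        exact hx.map φ
      rw [h, Ideal.mem_bot] at this
      exact this
    haveI := IH _ hne
    exact flat_of_injective_of_nilpotent hinj (nilradical S) n hn M

end D

section E

variable (R₀ S₀ : Type u) [CommRing R₀] [IsNoetherianRing R₀] [CommRing S₀] [IsNoetherianRing S₀]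
  [Algebra R₀ S₀] [Module.Finite R₀ S₀] (M₀ : Type u) [AddCommGroup M₀] [Module R₀ M₀]

/-- Noetherian induction: for a finite map `R₀ → S₀` of Noetherian rings and `M₀` with `S₀ ⊗ M₀`
flat over `S₀`, `M₀ / (q ∩ R₀) M₀` is flat over `R₀ / (q ∩ R₀)` for every ideal `q` of `S₀`. -/
theorem flat_quotient_comap [Module.Flat S₀ (S₀ ⊗[R₀] M₀)] (q : Ideal S₀) :
    Module.Flat (R₀ ⧸ q.comap (algebraMap R₀ S₀)) ((R₀ ⧸ q.comap (algebraMap R₀ S₀)) ⊗[R₀] M₀) := by
  set φ := algebraMap R₀ S₀ with hφ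
  suffices H : ∀ I : Ideal R₀, ∀ q : Ideal S₀, q.comap φ = I →
      Module.Flat (R₀ ⧸ q.comap φ) ((R₀ ⧸ q.comap φ) ⊗[R₀] M₀) from H _ q rfl
  intro I
  induction I using WellFoundedGT.induction with
  | ind I IH =>
    intro q hq
    subst hq
    -- the rings `R = R₀ / (q ∩ R₀) ⊆ S = S₀ / q`
    have hinj : Function.Injective (algebraMap (R₀ ⧸ q.comap φ) (S₀ ⧸ q)) :=
      Ideal.algebraMap_quotient_injective
    haveI t0 : IsScalarTower R₀ (R₀ ⧸ q.comap φ) (S₀ ⧸ q) :=
      IsScalarTower.of_algebraMap_eq (fun a => rfl)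
    haveI fin0 : Module.Finite R₀ (S₀ ⧸ q) :=
      Module.Finite.of_surjective (Ideal.Quotient.mkₐ R₀ q).toLinearMap
        (Ideal.Quotient.mkₐ_surjective R₀ q)
    haveI fin1 : Module.Finite (R₀ ⧸ q.comap φ) (S₀ ⧸ q) :=
      Module.Finite.of_restrictScalars_finite R₀ _ _
    -- flatness of `S ⊗_R (R ⊗ M₀)`
    have hF1 : Module.Flat (S₀ ⧸ q) ((S₀ ⧸ q) ⊗[S₀] (S₀ ⊗[R₀] M₀)) := inferInstance
    have hF2 : Module.Flat (S₀ ⧸ q) ((S₀ ⧸ q) ⊗[R₀] M₀) :=
      Module.Flat.of_linearEquiv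
        (TensorProduct.AlgebraTensorModule.cancelBaseChange R₀ S₀ (S₀ ⧸ q) (S₀ ⧸ q) M₀).symm
    haveI hF3 : Module.Flat (S₀ ⧸ q)
        ((S₀ ⧸ q) ⊗[R₀ ⧸ q.comap φ] ((R₀ ⧸ q.comap φ) ⊗[R₀] M₀)) :=
      Module.Flat.of_linearEquiv
        (TensorProduct.AlgebraTensorModule.cancelBaseChange R₀ (R₀ ⧸ q.comap φ) (S₀ ⧸ q)
          (S₀ ⧸ q) M₀)
    refine flat_of_forall_comap_ne_bot ((R₀ ⧸ q.comap φ) ⊗[R₀] M₀) hinj (fun qbar hqbar => ?_)
    -- the ideal `q' ⊇ q` of `S₀` corresponding to `qbar`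
    set q' : Ideal S₀ := qbar.comap (Ideal.Quotient.mk q) with hq'
    set J : Ideal (R₀ ⧸ q.comap φ) := qbar.comap (algebraMap (R₀ ⧸ q.comap φ) (S₀ ⧸ q)) with hJ
    have hmem : ∀ x : R₀, x ∈ q'.comap φ ↔ Ideal.Quotient.mk (q.comap φ) x ∈ J := fun x => Iff.rfl
    have hlt : q.comap φ < q'.comap φ := by
      refine lt_of_le_of_ne ?_ ?_
      · refine Ideal.comap_mono ?_
        intro s hs
        rw [hq', Ideal.mem_comap, Ideal.Quotient.eq_zero_iff_mem.mpr hs]
        exact zero_mem _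
      · intro h
        apply hqbar
        rw [eq_bot_iff]
        intro xbar hx
        obtain ⟨x, rfl⟩ := Ideal.Quotient.mk_surjective xbar
        rw [Ideal.mem_bot, Ideal.Quotient.eq_zero_iff_mem, h, hmem]
        exact hx
    haveI hF' := IH _ hlt q' rfl
    -- base change to `D = R / J`
    have hkill : ∀ a ∈ q'.comap φ,
        algebraMap R₀ ((R₀ ⧸ q.comap φ) ⧸ J) a = 0 := by
      intro a ha
      change Ideal.Quotient.mk J (Ideal.Quotient.mk (q.comap φ) a) = 0
      rw [Ideal.Quotient.eq_zero_iff_mem]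
      exact (hmem a).1 ha
    letI algD : Algebra (R₀ ⧸ q'.comap φ) ((R₀ ⧸ q.comap φ) ⧸ J) :=
      (Ideal.Quotient.lift (q'.comap φ) (algebraMap R₀ ((R₀ ⧸ q.comap φ) ⧸ J)) hkill).toAlgebra
    haveI t2 : IsScalarTower R₀ (R₀ ⧸ q'.comap φ) ((R₀ ⧸ q.comap φ) ⧸ J) :=
      IsScalarTower.of_algebraMap_eq (fun a => rfl)
    have hG1 : Module.Flat ((R₀ ⧸ q.comap φ) ⧸ J)
        (((R₀ ⧸ q.comap φ) ⧸ J) ⊗[R₀ ⧸ q'.comap φ] ((R₀ ⧸ q'.comap φ) ⊗[R₀] M₀)) := inferInstance
    have hG2 : Module.Flat ((R₀ ⧸ q.comap φ) ⧸ J) (((R₀ ⧸ q.comap φ) ⧸ J) ⊗[R₀] M₀) :=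
      Module.Flat.of_linearEquiv
        (TensorProduct.AlgebraTensorModule.cancelBaseChange R₀ (R₀ ⧸ q'.comap φ)
          ((R₀ ⧸ q.comap φ) ⧸ J) ((R₀ ⧸ q.comap φ) ⧸ J) M₀).symm
    exact Module.Flat.of_linearEquiv
      (TensorProduct.AlgebraTensorModule.cancelBaseChange R₀ (R₀ ⧸ q.comap φ)
        ((R₀ ⧸ q.comap φ) ⧸ J) ((R₀ ⧸ q.comap φ) ⧸ J) M₀)

/-- **Stacks 0533.** Flatness descends along a finite injective map of Noetherian rings. -/
theorem flat_of_finite_injective (hinj : Function.Injective (algebraMap R₀ S₀))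
    [Module.Flat S₀ (S₀ ⊗[R₀] M₀)] : Module.Flat R₀ M₀ := by
  have h := flat_quotient_comap R₀ S₀ M₀ ⊥
  set J : Ideal R₀ := (⊥ : Ideal S₀).comap (algebraMap R₀ S₀) with hJ
  have hJ0 : ∀ a ∈ J, (RingHom.id R₀) a = 0 := by
    intro a ha
    rw [hJ, Ideal.mem_comap, Ideal.mem_bot] at ha
    exact hinj (by rw [RingHom.id_apply, ha, map_zero])
  letI alg : Algebra (R₀ ⧸ J) R₀ := (Ideal.Quotient.lift J (RingHom.id R₀) hJ0).toAlgebra
  haveI t : IsScalarTower R₀ (R₀ ⧸ J) R₀ := IsScalarTower.of_algebraMap_eq (fun a => rfl)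
  have h1 : Module.Flat R₀ (R₀ ⊗[R₀ ⧸ J] ((R₀ ⧸ J) ⊗[R₀] M₀)) := inferInstance
  have h2 : Module.Flat R₀ (R₀ ⊗[R₀] M₀) :=
    Module.Flat.of_linearEquiv
      (TensorProduct.AlgebraTensorModule.cancelBaseChange R₀ (R₀ ⧸ J) R₀ R₀ M₀).symm
  exact Module.Flat.of_linearEquiv (TensorProduct.lid R₀ M₀).symm

end E

end Groth.Agent.Lib.Helper24.FiniteDescent
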