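import Mathlib

/-!
# Flatness in commutative squares (helper24)

* `flat_tensor_of_flat` : `M` an `S`-module flat over `R`, `S'` a flat `S`-algebra
  ⟹ `S' ⊗[S] M` is flat over `R`.
* `rTensor_map_injective` : if `I ⊗[R] N → R ⊗[R] N` is injective and `N` is an `R'`-module
  (compatibly) then `I R' ⊗[R'] N → R' ⊗[R'] N` is injective.
-/

open TensorProduct

namespace Groth.Agent.Lib.Helper24.FlatSquare

section IdealMap

variable {R R' : Type*} [CommRing R] [CommRing R'] [Algebra R R']
  (N : Type*) [AddCommGroup N] [Module R N] [Module R' N] [IsScalarTower R R' N]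
  (I : Ideal R)

/-- The natural map `I ⊗[R] N → I R' ⊗[R'] N`. -/
noncomputable def theta : I ⊗[R] N →ₗ[R] ↥(I.map (algebraMap R R')) ⊗[R'] N :=
  (TensorProduct.mapOfCompatibleSMul R' R R ↥(I.map (algebraMap R R')) N) ∘ₗ
    (LinearMap.rTensor N (Algebra.idealMap R' I))

@[simp]
theorem theta_tmul (a : I) (x : N) :
    theta N I (a ⊗ₜ[R] x) = (Algebra.idealMap R' I a) ⊗ₜ[R'] x := rfl

theorem theta_surjective : Function.Surjective (theta (R' := R') N I) := by
  have key : ∀ (r : R') (hr : r ∈ Submodule.span R' (algebraMap R R' '' I)), ∀ x : N,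
      ((⟨r, hr⟩ : ↥(I.map (algebraMap R R'))) ⊗ₜ[R'] x) ∈ LinearMap.range (theta (R' := R') N I) := by
    intro r hr
    refine Submodule.span_induction
      (p := fun r hr => ∀ x : N, ((⟨r, hr⟩ : ↥(I.map (algebraMap R R'))) ⊗ₜ[R'] x) ∈
        LinearMap.range (theta (R' := R') N I)) ?_ ?_ ?_ ?_ hr
    · rintro _ ⟨a, ha, rfl⟩ x
      exact ⟨(⟨a, ha⟩ : I) ⊗ₜ[R] x, rfl⟩
    · intro x
      have : ((⟨0, Submodule.zero_mem _⟩ : ↥(I.map (algebraMap R R'))) ⊗ₜ[R'] x) = 0 :=
        TensorProduct.zero_tmul _ _
      rw [this]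
      exact Submodule.zero_mem _
    · intro y z hy hz ihy ihz x
      have : ((⟨y + z, Submodule.add_mem _ hy hz⟩ : ↥(I.map (algebraMap R R'))) ⊗ₜ[R'] x) =
          (⟨y, hy⟩ : ↥(I.map (algebraMap R R'))) ⊗ₜ[R'] x +
            (⟨z, hz⟩ : ↥(I.map (algebraMap R R'))) ⊗ₜ[R'] x := by
        rw [← TensorProduct.add_tmul]; rfl
      rw [this]
      exact Submodule.add_mem _ (ihy x) (ihz x)
    · intro c y hy ihy x
      have : ((⟨c • y, Submodule.smul_mem _ c hy⟩ : ↥(I.map (algebraMap R R'))) ⊗ₜ[R'] x) =
          (⟨y, hy⟩ : ↥(I.map (algebraMap R R'))) ⊗ₜ[R'] (c • x) := by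
        rw [← TensorProduct.smul_tmul]; rfl
      rw [this]
      exact ihy (c • x)
  intro y
  induction y with
  | zero => exact ⟨0, map_zero _⟩
  | add a b ha hb =>
    obtain ⟨a', rfl⟩ := ha
    obtain ⟨b', rfl⟩ := hb
    exact ⟨a' + b', map_add _ _ _⟩
  | tmul r x =>
    obtain ⟨r, hr⟩ := r
    exact key r hr x

theorem lid_rTensor_theta (z : I ⊗[R] N) :
    TensorProduct.lid R' N
      (LinearMap.rTensor N (I.map (algebraMap R R')).subtype (theta (R' := R') N I z)) =
    TensorProduct.lid R N (LinearMap.rTensor N I.subtype z) := by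
  induction z with
  | zero => simp
  | add a b ha hb => simp only [map_add, ha, hb]
  | tmul a x =>
    rw [theta_tmul, LinearMap.rTensor_tmul, LinearMap.rTensor_tmul, TensorProduct.lid_tmul,
      TensorProduct.lid_tmul, Submodule.subtype_apply, Submodule.subtype_apply,
      Algebra.idealMap_apply_coe, algebraMap_smul]

/-- Injectivity of `I ⊗[R] N → R ⊗[R] N` implies injectivity of `I R' ⊗[R'] N → R' ⊗[R'] N`. -/
theorem rTensor_map_injective
    (h : Function.Injective (LinearMap.rTensor N I.subtype)) :
    Function.Injective (LinearMap.rTensor N (I.map (algebraMap R R')).subtype) := by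
  rw [injective_iff_map_eq_zero]
  intro y hy
  obtain ⟨z, rfl⟩ := theta_surjective N I y
  have h1 := lid_rTensor_theta (R' := R') N I z
  rw [hy, map_zero] at h1
  have h2 : LinearMap.rTensor N I.subtype z = 0 :=
    (TensorProduct.lid R N).injective (by rw [← h1, map_zero])
  have h3 : z = 0 := h (by rw [h2, map_zero])
  rw [h3, map_zero]

end IdealMap

section Tensor

variable {R S S' : Type*} [CommRing R] [CommRing S] [CommRing S'] [Algebra R S] [Algebra S S']
  [Algebra R S'] [IsScalarTower R S S']
  (M : Type*) [AddCommGroup M] [Module S M] [Module R M] [IsScalarTower R S M]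

open TensorProduct.AlgebraTensorModule in
/-- If `M` is an `S`-module which is flat over `R` and `S'` is a flat `S`-algebra then
`S' ⊗[S] M` is flat over `R`. -/
theorem flat_tensor_of_flat [Module.Flat S S'] [Module.Flat R M] :
    Module.Flat R (S' ⊗[S] M) := by
  rw [Module.Flat.iff_lTensor_injective']
  intro I
  have hcomm : ∀ z : (S' ⊗[S] M) ⊗[R] I,
      (assoc R S S' S' M R) (LinearMap.lTensor (S' ⊗[S] M) I.subtype z) =
        LinearMap.lTensor S' (AlgebraTensorModule.lTensor S M I.subtype)
          (assoc R S S' S' M I z) := by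
    intro z
    induction z with
    | zero => simp
    | add a b ha hb => simp only [map_add, ha, hb]
    | tmul w a =>
      induction w with
      | zero => simp
      | add w₁ w₂ h₁ h₂ =>
        rw [TensorProduct.add_tmul, map_add, map_add, map_add, map_add, h₁, h₂]
      | tmul s m =>
        rw [LinearMap.lTensor_tmul, assoc_tmul, assoc_tmul, LinearMap.lTensor_tmul,
          AlgebraTensorModule.lTensor_tmul]
  have hg : Function.Injective (AlgebraTensorModule.lTensor S M (I.subtype)) :=
    Module.Flat.lTensor_preserves_injective_linearMap (M := M) I.subtype Subtype.val_injective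
  have hg' : Function.Injective
      (LinearMap.lTensor S' (AlgebraTensorModule.lTensor S M (I.subtype))) :=
    Module.Flat.lTensor_preserves_injective_linearMap (M := S') _ hg
  rw [injective_iff_map_eq_zero]
  intro z hz
  have h1 := hcomm z
  rw [hz, map_zero] at h1
  have h2 : assoc R S S' S' M I z = 0 := hg' (by rw [← h1, map_zero])
  exact (assoc R S S' S' M I).injective (by rw [h2, map_zero])

end Tensor

end Groth.Agent.Lib.Helper24.FlatSquare
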