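import Mathlib
import Groth.Agent.Lib.Helper24.ArtinDescent
import Groth.Agent.Lib.Helper24.LocalCritPow

/-!
# Flatness descends along a map inducing the adic topology (EGA 0_III 10.2-style)
-/

set_option autoImplicit false
set_option linter.style.haveILetI false
universe u

open TensorProduct

namespace Groth.Agent.Lib.Helper24.FlatTopology

variable (A B A' : Type u) [CommRing A] [CommRing B] [CommRing A'] [IsLocalRing A]
  [Algebra A B] [Algebra A A']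

/-- one truncation: flatness of `B / 𝔪^n B` over `A / 𝔪^n`. -/
theorem flat_quotient_pow (r' : Ideal A')
    (hrad : r'.comap (algebraMap A A') = IsLocalRing.maximalIdeal A)
    (hB' : Module.Flat A' (A' ⊗[A] B)) (n N : ℕ) (hn : 0 < n)
    (hN : (r' ^ N).comap (algebraMap A A') ≤ (IsLocalRing.maximalIdeal A) ^ n) :
    Module.Flat (A ⧸ (IsLocalRing.maximalIdeal A) ^ n)
      ((A ⧸ (IsLocalRing.maximalIdeal A) ^ n) ⊗[A] B) := by
  set m := IsLocalRing.maximalIdeal A with hm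
  set φ := algebraMap A A' with hφ
  set 𝔞 : Ideal A := (r' ^ N).comap φ with h𝔞
  have h𝔞m : 𝔞 ≤ m := hN.trans (Ideal.pow_le_self hn.ne')
  have h𝔞top : 𝔞 ≠ ⊤ := fun h => (IsLocalRing.maximalIdeal.isMaximal A).ne_top
    (top_le_iff.1 (h ▸ h𝔞m))
  have hmN : m ^ N ≤ 𝔞 := by
    rw [h𝔞, ← Ideal.map_le_iff_le_comap, Ideal.map_pow]
    refine Ideal.pow_right_mono ?_ N
    rw [Ideal.map_le_iff_le_comap, hrad]
  -- the local ring `C = A / 𝔞`
  haveI : Nontrivial (A ⧸ 𝔞) := Ideal.Quotient.nontrivial_iff.2 h𝔞top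
  haveI : IsLocalRing (A ⧸ 𝔞) :=
    IsLocalRing.of_surjective' (Ideal.Quotient.mk 𝔞) Ideal.Quotient.mk_surjective
  have hmaxle : IsLocalRing.maximalIdeal (A ⧸ 𝔞) ≤ m.map (Ideal.Quotient.mk 𝔞) := by
    intro x hx
    obtain ⟨a, rfl⟩ := Ideal.Quotient.mk_surjective x
    refine Ideal.mem_map_of_mem _ ?_
    rw [hm, IsLocalRing.mem_maximalIdeal]
    intro hu
    exact (IsLocalRing.mem_maximalIdeal _).1 hx (hu.map _)
  have hnil : IsLocalRing.maximalIdeal (A ⧸ 𝔞) ^ N = ⊥ := by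
    rw [eq_bot_iff]
    refine (Ideal.pow_right_mono hmaxle N).trans ?_
    rw [← Ideal.map_pow]
    refine (Ideal.map_mono hmN).trans ?_
    rw [Ideal.map_quotient_self]
  -- the ring `C' = A' / r'^N`
  letI algCC' : Algebra (A ⧸ 𝔞) (A' ⧸ r' ^ N) :=
    (Ideal.quotientMap (r' ^ N) φ le_rfl).toAlgebra
  have hinj : Function.Injective (algebraMap (A ⧸ 𝔞) (A' ⧸ r' ^ N)) :=
    Ideal.quotientMap_injective
  haveI t1 : IsScalarTower A (A ⧸ 𝔞) (A' ⧸ r' ^ N) :=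
    IsScalarTower.of_algebraMap_eq (fun a => rfl)
  -- flatness of `C' ⊗_C (C ⊗_A B)`
  haveI : Module.Flat A' (A' ⊗[A] B) := hB'
  have hF1 : Module.Flat (A' ⧸ r' ^ N) ((A' ⧸ r' ^ N) ⊗[A'] (A' ⊗[A] B)) := inferInstance
  have hF2 : Module.Flat (A' ⧸ r' ^ N) ((A' ⧸ r' ^ N) ⊗[A] B) :=
    Module.Flat.of_linearEquiv
      (TensorProduct.AlgebraTensorModule.cancelBaseChange A A' (A' ⧸ r' ^ N) (A' ⧸ r' ^ N) B).symm
  haveI hF3 : Module.Flat (A' ⧸ r' ^ N) ((A' ⧸ r' ^ N) ⊗[A ⧸ 𝔞] ((A ⧸ 𝔞) ⊗[A] B)) :=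
    Module.Flat.of_linearEquiv
      (TensorProduct.AlgebraTensorModule.cancelBaseChange A (A ⧸ 𝔞) (A' ⧸ r' ^ N)
        (A' ⧸ r' ^ N) B)
  have hX : Module.Flat (A ⧸ 𝔞) ((A ⧸ 𝔞) ⊗[A] B) :=
    Groth.Agent.Lib.Helper24.ArtinDescent.flat_of_flat_baseChange_of_injective N hnil hinj _
  -- pass to `A / 𝔪^n`
  letI algCD : Algebra (A ⧸ 𝔞) (A ⧸ m ^ n) := (Ideal.Quotient.factor hN).toAlgebra
  haveI t2 : IsScalarTower A (A ⧸ 𝔞) (A ⧸ m ^ n) :=
    IsScalarTower.of_algebraMap_eq (fun a => rfl)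
  have hF4 : Module.Flat (A ⧸ m ^ n) ((A ⧸ m ^ n) ⊗[A ⧸ 𝔞] ((A ⧸ 𝔞) ⊗[A] B)) := inferInstance
  exact Module.Flat.of_linearEquiv
    (TensorProduct.AlgebraTensorModule.cancelBaseChange A (A ⧸ 𝔞) (A ⧸ m ^ n) (A ⧸ m ^ n) B).symm

end Groth.Agent.Lib.Helper24.FlatTopology
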