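import Mathlib
import Groth.Prelude.Def_FlatMod2
import Groth.Prelude.Def_Omega3
import Groth.Agent.Lib.Helper48.SumConormal1

/-!
# A basis of the sections of the free module `O_X^c` over any open (helper24, for helper94)
-/

set_option autoImplicit false
universe u
open CategoryTheory CategoryTheory.Limits AlgebraicGeometry TopologicalSpace Opposite

namespace Groth.Agent.Lib.Helper24.FreeModBasis

variable (X : Scheme.{u}) (c : ℕ)

local notation "F" => (fun _ : Fin c => Coh.structureModule X)

/-- the `k`-th coordinate projection of the free module -/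
noncomputable def proj (k : Fin c) : FlatMod.freeMod X c ⟶ Coh.structureModule X :=
  haveI : HasFiniteBiproducts X.Modules := Abelian.hasFiniteBiproducts
  haveI : HasBiproduct F := HasBiproductsOfShape.has_biproduct F
  (biproduct.isoCoproduct F).inv ≫ biproduct.π F k

theorem ι_proj (j k : Fin c) :
    Sigma.ι F j ≫ proj X c k = if j = k then 𝟙 _ else 0 := by
  have : HasFiniteBiproducts X.Modules := Abelian.hasFiniteBiproducts
  have : HasBiproduct F := HasBiproductsOfShape.has_biproduct F
  have h2 : biproduct.ι F j ≫ (biproduct.isoCoproduct F).hom = Sigma.ι F j := by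
    rw [biproduct.isoCoproduct_hom, biproduct.ι_desc]
  unfold proj
  rw [← h2, Category.assoc, Iso.hom_inv_id_assoc, biproduct.ι_π]
  split_ifs with h
  · subst h; rfl
  · rfl

/-- the standard sections -/
noncomputable def v (V : X.Opens) (k : Fin c) : Γ(FlatMod.freeMod X c, V) :=
  (Sigma.ι F k).app V (OmegaSh.strSect X V 1)

theorem proj_v (V : X.Opens) (j k : Fin c) :
    (proj X c k).app V (v X c V j) = if j = k then OmegaSh.strSect X V 1 else 0 := by
  have h := congrArg (fun m => (Scheme.Modules.Hom.app m V) (OmegaSh.strSect X V 1)) (ι_proj X c j k)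
  simp only at h
  split_ifs with hjk
  · rw [if_pos hjk] at h
    exact h
  · rw [if_neg hjk] at h
    exact h

theorem smul_one' (V : X.Opens) (r : Γ(X, V)) :
    r • OmegaSh.strSect X V 1 = OmegaSh.strSect X V r :=
  mul_one r

theorem exists_basis_freeMod (V : X.Opens) :
    ∃ b : Module.Basis (Fin c) Γ(X, V) Γ(FlatMod.freeMod X c, V),
      ∀ k, b k = (Limits.Sigma.ι (fun _ : Fin c => Coh.structureModule X) k).app V
        (OmegaSh.strSect X V 1) := by
  classical
  have hli : LinearIndependent Γ(X, V) (v X c V) := by
    rw [Fintype.linearIndependent_iff]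
    intro g hg k
    have h1 := congrArg (fun x => (proj X c k).app V x) hg
    simp only [map_sum, Scheme.Modules.Hom.app_smul, map_zero] at h1
    have h2 : ∀ j, (proj X c k).app V (v X c V j) =
        if j = k then OmegaSh.strSect X V 1 else 0 := fun j => proj_v X c V j k
    simp only [h2, smul_ite, smul_zero, Finset.sum_ite_eq', Finset.mem_univ, if_true] at h1
    have h3 : g k • OmegaSh.strSect X V 1 = OmegaSh.strSect X V (g k) := smul_one' X V (g k)
    rw [h3] at h1
    exact h1
  have hsp : ⊤ ≤ Submodule.span Γ(X, V) (Set.range (v X c V)) := by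
    intro x _
    obtain ⟨y, hy⟩ := Groth.Agent.Lib.Helper48.SumConormal.sigma_decomp F V x
    rw [hy]
    refine Submodule.sum_mem _ fun l _ => ?_
    have h3 : y l = (OmegaSh.fnSect X V (y l)) • OmegaSh.strSect X V 1 :=
      (smul_one' X V (OmegaSh.fnSect X V (y l))).symm
    rw [h3]
    have h4 : (Sigma.ι F l).app V ((OmegaSh.fnSect X V (y l)) • OmegaSh.strSect X V 1) =
        (OmegaSh.fnSect X V (y l)) • v X c V l :=
      Scheme.Modules.Hom.app_smul _ _ _
    rw [h4]
    exact Submodule.smul_mem _ _ (Submodule.subset_span ⟨l, rfl⟩)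
  refine ⟨Module.Basis.mk hli hsp, fun k => ?_⟩
  rw [Module.Basis.mk_apply]
  rfl

end Groth.Agent.Lib.Helper24.FreeModBasis
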