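import Mathlib

set_option autoImplicit false
set_option linter.unusedSectionVars false

namespace Groth.Agent.Lib.Helper24.GLoc

open DirectSum

universe u

variable {A : Type u} [CommRing A] (𝒜 : ℕ → AddSubgroup A) [GradedRing 𝒜]
variable {m : ℕ} (hm : 0 < m) {f : A} (hf : f ∈ 𝒜 m)

local notation "S" => Localization.Away f

include hm hf in
/-- the degree `i` piece of `A_f` -/
def awayPiece (i : ℤ) : AddSubgroup (Localization.Away f) where
  carrier := {s | ∃ (k n : ℕ) (a : A), a ∈ 𝒜 n ∧ (n : ℤ) = i + k * m ∧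
    s * algebraMap A (Localization.Away f) (f ^ k) = algebraMap A (Localization.Away f) a}
  zero_mem' := by
    refine ⟨i.natAbs, (i + i.natAbs * m).toNat, 0, zero_mem _, ?_, by simp⟩
    apply Int.toNat_of_nonneg
    have h1 : (1 : ℤ) ≤ m := by exact_mod_cast hm
    have h2 : (0 : ℤ) ≤ i.natAbs := by positivity
    have h3 : -i ≤ i.natAbs := by
      rcases le_total 0 i with h | h
      · have := Int.natAbs_of_nonneg h; omega
      · have := Int.ofNat_natAbs_of_nonpos h; omega
    nlinarith
  add_mem' := by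
    rintro s s' ⟨k, n, a, ha, hn, hs⟩ ⟨k', n', a', ha', hn', hs'⟩
    refine ⟨k + k', n + k' * m, a * f ^ k' + a' * f ^ k, ?_, ?_, ?_⟩
    · apply add_mem
      · have := SetLike.mul_mem_graded ha (SetLike.pow_mem_graded k' hf)
        simpa [smul_eq_mul] using this
      · have h1 := SetLike.mul_mem_graded ha' (SetLike.pow_mem_graded k hf)
        have h2 : n' + k • m = n + k' * m := by
          have : ((n' + k * m : ℕ) : ℤ) = ((n + k' * m : ℕ) : ℤ) := by push_cast; linarith
          simpa [smul_eq_mul] using (by exact_mod_cast this : n' + k * m = n + k' * m)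
        rwa [h2] at h1
    · push_cast; linarith
    · rw [add_mul, pow_add, map_mul, map_add, map_mul, map_mul, ← hs, ← hs']
      ring
  neg_mem' := by
    rintro s ⟨k, n, a, ha, hn, hs⟩
    exact ⟨k, n, -a, neg_mem ha, hn, by rw [neg_mul, hs, map_neg]⟩

theorem mem_awayPiece {i : ℤ} {s : Localization.Away f} :
    s ∈ awayPiece 𝒜 hm hf i ↔ ∃ (k n : ℕ) (a : A), a ∈ 𝒜 n ∧ (n : ℤ) = i + k * m ∧
      s * algebraMap A (Localization.Away f) (f ^ k) = algebraMap A (Localization.Away f) a :=
  Iff.rfl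

theorem algebraMap_mem {n : ℕ} {a : A} (ha : a ∈ 𝒜 n) :
    algebraMap A (Localization.Away f) a ∈ awayPiece 𝒜 hm hf (n : ℤ) :=
  ⟨0, n, a, ha, by simp, by simp⟩

instance gradedMonoid : SetLike.GradedMonoid (awayPiece 𝒜 hm hf) where
  one_mem := ⟨0, 0, 1, SetLike.GradedOne.one_mem, by simp, by simp⟩
  mul_mem := by
    rintro i j s s' ⟨k, n, a, ha, hn, hs⟩ ⟨k', n', a', ha', hn', hs'⟩
    refine ⟨k + k', n + n', a * a', SetLike.mul_mem_graded ha ha', by push_cast; linarith, ?_⟩
    rw [pow_add, map_mul, map_mul, ← hs, ← hs']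
    ring

end Groth.Agent.Lib.Helper24.GLoc
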