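import Mathlib
import Groth.Agent.Lib.Helper24.GLocA

set_option autoImplicit false
set_option linter.unusedSectionVars false

namespace Groth.Agent.Lib.Helper24.GLoc

open DirectSum

universe u

variable {A : Type u} [CommRing A] (𝒜 : ℕ → AddSubgroup A) [GradedRing 𝒜]
variable {m : ℕ} (hm : 0 < m) {f : A} (hf : f ∈ 𝒜 m)

theorem of_congr {i j : ℤ} (h : i = j) (x : awayPiece 𝒜 hm hf i) (y : awayPiece 𝒜 hm hf j)
    (hxy : (x : Localization.Away f) = y) :
    DirectSum.of (fun i => awayPiece 𝒜 hm hf i) i x =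
      DirectSum.of (fun i => awayPiece 𝒜 hm hf i) j y := by
  subst h
  congr 1
  exact Subtype.ext hxy

/-- component maps -/
noncomputable def compMap (n : ℕ) : 𝒜 n →+ ⨁ i, awayPiece 𝒜 hm hf i :=
  (DirectSum.of (fun i => awayPiece 𝒜 hm hf i) (n : ℤ)).comp
    (((algebraMap A (Localization.Away f)).toAddMonoidHom.comp (𝒜 n).subtype).codRestrict
      (awayPiece 𝒜 hm hf n) (fun a => algebraMap_mem 𝒜 hm hf a.2))

theorem compMap_apply (n : ℕ) (a : 𝒜 n) :
    compMap 𝒜 hm hf n a = DirectSum.of (fun i => awayPiece 𝒜 hm hf i) (n : ℤ)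
      ⟨algebraMap A (Localization.Away f) a, algebraMap_mem 𝒜 hm hf a.2⟩ := rfl

/-- the decomposition map on `A` -/
noncomputable def gMap : A →+* ⨁ i, awayPiece 𝒜 hm hf i :=
  (DirectSum.toSemiring (compMap 𝒜 hm hf)
    (by
      rw [compMap_apply]
      exact of_congr 𝒜 hm hf Nat.cast_zero _ _ (map_one _))
    (by
      intro i j ai aj
      rw [compMap_apply, compMap_apply, compMap_apply, DirectSum.of_mul_of]
      exact of_congr 𝒜 hm hf (Nat.cast_add i j) _ _ (map_mul _ _ _))).comp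
    (decomposeRingEquiv 𝒜).toRingHom

theorem gMap_of_mem {n : ℕ} {a : A} (ha : a ∈ 𝒜 n) :
    gMap 𝒜 hm hf a = DirectSum.of (fun i => awayPiece 𝒜 hm hf i) (n : ℤ)
      ⟨algebraMap A (Localization.Away f) a, algebraMap_mem 𝒜 hm hf ha⟩ := by
  unfold gMap
  rw [RingHom.comp_apply]
  change DirectSum.toSemiring _ _ _ (decompose 𝒜 a) = _
  rw [decompose_of_mem 𝒜 ha, DirectSum.toSemiring_of]
  rfl

theorem invSelf_mem : (IsLocalization.Away.invSelf f : Localization.Away f) ∈
    awayPiece 𝒜 hm hf (-(m : ℤ)) := by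
  refine ⟨1, 0, 1, SetLike.GradedOne.one_mem, by simp, ?_⟩
  rw [pow_one, map_one, mul_comm]
  exact IsLocalization.Away.mul_invSelf f

theorem isUnit_gMap : IsUnit (gMap 𝒜 hm hf f) := by
  rw [gMap_of_mem 𝒜 hm hf hf]
  refine IsUnit.of_mul_eq_one
    (DirectSum.of (fun i => awayPiece 𝒜 hm hf i) (-(m : ℤ)) ⟨_, invSelf_mem 𝒜 hm hf⟩) ?_
  rw [DirectSum.of_mul_of]
  exact of_congr 𝒜 hm hf (add_neg_cancel _) _ _ (IsLocalization.Away.mul_invSelf f)

/-- the decomposition ring hom -/
noncomputable def decomp : Localization.Away f →+* ⨁ i, awayPiece 𝒜 hm hf i :=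
  IsLocalization.Away.lift f (isUnit_gMap 𝒜 hm hf)

theorem decomp_algebraMap (a : A) :
    decomp 𝒜 hm hf (algebraMap A (Localization.Away f) a) = gMap 𝒜 hm hf a := by
  unfold decomp
  rw [IsLocalization.Away.lift_eq]

theorem coe_decomp (s : Localization.Away f) :
    DirectSum.coeRingHom (awayPiece 𝒜 hm hf) (decomp 𝒜 hm hf s) = s := by
  classical
  have : (DirectSum.coeRingHom (awayPiece 𝒜 hm hf)).comp (decomp 𝒜 hm hf) =
      RingHom.id (Localization.Away f) := by
    apply IsLocalization.ringHom_ext (Submonoid.powers f)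
    refine RingHom.ext fun a => ?_
    simp only [RingHom.comp_apply, RingHom.id_apply]
    rw [decomp_algebraMap]
    induction a using DirectSum.Decomposition.inductionOn 𝒜 with
    | zero => simp
    | @homogeneous i a =>
      rw [gMap_of_mem 𝒜 hm hf a.2, DirectSum.coeRingHom_of]
    | add a b ha hb => rw [map_add, map_add, map_add, ha, hb]
  exact RingHom.congr_fun this s

theorem decomp_coe (x : ⨁ i, awayPiece 𝒜 hm hf i) :
    decomp 𝒜 hm hf (DirectSum.coeRingHom (awayPiece 𝒜 hm hf) x) = x := by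
  classical
  induction x using DirectSum.induction_on with
  | zero => simp
  | of i x =>
    rw [DirectSum.coeRingHom_of]
    obtain ⟨s, k, n, a, ha, hn, hs⟩ := x
    have hfk : f ^ k ∈ 𝒜 (k • m) := SetLike.pow_mem_graded k hf
    have hunit : IsUnit (gMap 𝒜 hm hf (f ^ k)) := by
      rw [map_pow]; exact (isUnit_gMap 𝒜 hm hf).pow k
    have h1 : decomp 𝒜 hm hf s * gMap 𝒜 hm hf (f ^ k) = gMap 𝒜 hm hf a := by
      rw [← decomp_algebraMap, ← map_mul, hs, decomp_algebraMap]
    have h2 : DirectSum.of (fun i => awayPiece 𝒜 hm hf i) i ⟨s, k, n, a, ha, hn, hs⟩ *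
        gMap 𝒜 hm hf (f ^ k) = gMap 𝒜 hm hf a := by
      rw [gMap_of_mem 𝒜 hm hf hfk, gMap_of_mem 𝒜 hm hf ha, DirectSum.of_mul_of]
      refine of_congr 𝒜 hm hf ?_ _ _ hs
      rw [hn]; simp [smul_eq_mul]
    exact hunit.mul_right_cancel (h1.trans h2.symm)
  | add x y hx hy => rw [map_add, map_add, hx, hy]

noncomputable instance decomposition : DirectSum.Decomposition (awayPiece 𝒜 hm hf) where
  decompose' := decomp 𝒜 hm hf
  left_inv := coe_decomp 𝒜 hm hf
  right_inv := decomp_coe 𝒜 hm hf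

/-- the `ℤ`-grading on `A_f` -/
noncomputable instance gradedRing : GradedRing (awayPiece 𝒜 hm hf) where
  toGradedMonoid := gradedMonoid 𝒜 hm hf
  toDecomposition := decomposition 𝒜 hm hf

end Groth.Agent.Lib.Helper24.GLoc
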