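import Mathlib
import Groth.Prelude.Def_CAlg
import Groth.Agent.Lib.Helper24.GrUnitA

set_option autoImplicit false
set_option linter.unusedSectionVars false

namespace Groth.Agent.Lib.Helper24.GZ

open DirectSum

universe u

variable {D T : Type u} [CommRing D] [CommRing T] (ι : D →+* T)
  (𝒯 : ℤ → AddSubgroup T)

/-- `ι` identifies `D` with the degree-zero part of the `ℤ`-graded ring `T`. -/
structure IsGradeZero : Prop where
  inj : Function.Injective ι
  range : ∀ t, t ∈ 𝒯 0 ↔ ∃ a, ι a = t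

variable {ι 𝒯} [GradedRing 𝒯]

theorem IsGradeZero.map_mem (h : IsGradeZero ι 𝒯) (a : D) : ι a ∈ 𝒯 0 := (h.range _).2 ⟨a, rfl⟩

theorem IsGradeZero.exists_proj (h : IsGradeZero ι 𝒯) (t : T) :
    ∃ a : D, ι a = (decompose 𝒯 t 0 : T) := (h.range _).1 (SetLike.coe_mem _)

/-- contraction of an extended ideal -/
theorem IsGradeZero.mem_of_map_mem (h : IsGradeZero ι 𝒯) (I : Ideal D) {a : D}
    (ha : ι a ∈ I.map ι) : a ∈ I := by
  classical
  have key : ∀ x ∈ I.map ι, ∀ c : T, ∃ b ∈ I, ι b = (decompose 𝒯 (c * x) 0 : T) := by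
    intro x hx
    refine Submodule.span_induction (p := fun x _ => ∀ c : T, ∃ b ∈ I, ι b = (decompose 𝒯 (c * x) 0 : T))
      ?_ ?_ ?_ ?_ hx
    · rintro _ ⟨i, hi, rfl⟩ c
      obtain ⟨b, hb⟩ := h.exists_proj c
      refine ⟨b * i, I.mul_mem_left _ hi, ?_⟩
      have := coe_decompose_mul_add_of_right_mem 𝒯 (i := 0) (a := c) (h.map_mem i)
      rw [add_zero] at this
      rw [this, map_mul, hb]
    · intro c
      exact ⟨0, I.zero_mem, by simp⟩
    · intro x y _ _ hx hy c
      obtain ⟨b, hb, hb'⟩ := hx c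
      obtain ⟨b2, hb2, hb2'⟩ := hy c
      refine ⟨b + b2, I.add_mem hb hb2, ?_⟩
      rw [map_add, hb', hb2', mul_add, decompose_add]
      rfl
    · intro r x _ hx c
      obtain ⟨b, hb, hb'⟩ := hx (c * r)
      refine ⟨b, hb, ?_⟩
      rw [hb', smul_eq_mul, mul_assoc]
  obtain ⟨b, hb, hb'⟩ := key _ ha 1
  rw [one_mul, decompose_of_mem_same 𝒯 (h.map_mem a)] at hb'
  rwa [← h.inj hb']

theorem IsGradeZero.comap_map (h : IsGradeZero ι 𝒯) (I : Ideal D) : (I.map ι).comap ι = I :=
  le_antisymm (fun _ ha => h.mem_of_map_mem I ha) Ideal.le_comap_map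

theorem IsGradeZero.isNoetherianRing (h : IsGradeZero ι 𝒯) [IsNoetherianRing T] :
    IsNoetherianRing D := by
  rw [isNoetherianRing_iff, isNoetherian_iff']
  have hs : StrictMono (fun I : Ideal D => I.map ι) := by
    intro I J hIJ
    refine lt_of_le_of_ne (Ideal.map_mono hIJ.le) ?_
    intro heq
    have : I = J := by rw [← h.comap_map I, ← h.comap_map J]; exact congrArg _ heq
    exact hIJ.ne this
  exact hs.wellFoundedGT

end Groth.Agent.Lib.Helper24.GZ
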