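import Mathlib
import Groth.Prelude.Def_CAlg
import Groth.Agent.Lib.Helper24.GrUnitA
import Groth.Agent.Lib.Helper24.GZA

set_option autoImplicit false
set_option linter.unusedSectionVars false

namespace Groth.Agent.Lib.Helper24.GZ

open DirectSum

universe u

variable {D T : Type u} [CommRing D] [CommRing T] {ι : D →+* T}
  {𝒯 : ℤ → AddSubgroup T} [GradedRing 𝒯]

/-- the key "minimal primes contract to minimal primes" property -/
theorem IsGradeZero.exists_mul_pow_eq_zero (h : IsGradeZero ι 𝒯) (u : Tˣ) (d : ℕ) (hd : 0 < d)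
    (hu : (u : T) ∈ 𝒯 d) (P : Ideal T) (hP : P ∈ minimalPrimes T) (y : D) (hy : ι y ∈ P) :
    ∃ z : D, ι z ∉ P ∧ ∃ m : ℕ, z * y ^ m = 0 := by
  classical
  haveI hPprime : P.IsPrime := hP.1.1
  have hrad := IsLocalization.AtPrime.radical_map_of_mem_minimalPrimes
    (A := Localization.AtPrime P) P (⊥ : Ideal T) hP
  have h1 : algebraMap T (Localization.AtPrime P) (ι y) ∈
      ((⊥ : Ideal T).map (algebraMap T (Localization.AtPrime P))).radical := by
    rw [hrad]; exact Ideal.mem_map_of_mem _ hy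
  obtain ⟨m, hm⟩ := h1
  rw [Ideal.map_bot, Ideal.mem_bot, ← map_pow,
    IsLocalization.map_eq_zero_iff P.primeCompl (Localization.AtPrime P)] at hm
  obtain ⟨⟨g, hg⟩, hgm⟩ := hm
  simp only at hgm
  have hym : (ι y) ^ m ∈ 𝒯 0 := by rw [← map_pow]; exact h.map_mem _
  have hcomp : ∀ i, (decompose 𝒯 g i : T) * (ι y) ^ m = 0 := by
    intro i
    have := coe_decompose_mul_add_of_right_mem 𝒯 (i := i) (a := g) hym
    rw [add_zero, hgm, decompose_zero] at this
    rw [← this]; rfl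
  have hex : ∃ i, (decompose 𝒯 g i : T) ∉ P := by
    by_contra hcon
    push Not at hcon
    apply hg
    rw [← sum_support_decompose 𝒯 g]
    exact Ideal.sum_mem _ (fun i _ => hcon i)
  obtain ⟨j, hj⟩ := hex
  set s : T := (decompose 𝒯 g j : T) with hs
  have hsj : s ∈ 𝒯 j := (decompose 𝒯 g j).2
  have hsy : s * (ι y) ^ m = 0 := hcomp j
  -- z0 = u^(-j) * s^d ∈ 𝒯 0
  have h1 : s ^ d ∈ 𝒯 ((d : ℤ) * j) := by
    have := SetLike.pow_mem_graded d hsj
    simpa [nsmul_eq_mul] using this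
  have h2 : ((u ^ (-j) : Tˣ) : T) ∈ 𝒯 (-j * (d : ℤ)) := GrUnit.zpow_mem 𝒯 u hu (-j)
  have h3 : ((u ^ (-j) : Tˣ) : T) * s ^ d ∈ 𝒯 0 := by
    have := SetLike.mul_mem_graded h2 h1
    have e : -j * (d : ℤ) + (d : ℤ) * j = 0 := by ring
    rwa [e] at this
  obtain ⟨z, hz⟩ := (h.range _).1 h3
  refine ⟨z, ?_, m, ?_⟩
  · rw [hz]
    intro hmem
    rcases hPprime.mem_or_mem hmem with h' | h'
    · exact hPprime.ne_top (P.eq_top_of_isUnit_mem h' (Units.isUnit _))
    · exact hj (hPprime.mem_of_pow_mem d h')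
  · apply h.inj
    rw [map_mul, map_pow, hz, map_zero]
    obtain ⟨d', rfl⟩ : ∃ d', d = d' + 1 := Nat.exists_eq_succ_of_ne_zero hd.ne'
    rw [pow_succ, mul_assoc, mul_assoc, hsy, mul_zero, mul_zero]

/-- a non-minimal prime of `D` contains a `T`-regular element -/
theorem IsGradeZero.exists_regular (h : IsGradeZero ι 𝒯) (u : Tˣ) (d : ℕ) (hd : 0 < d)
    (hu : (u : T) ∈ 𝒯 d) [IsNoetherianRing T]
    (H1 : ∀ P ∈ associatedPrimes T T, P ∈ minimalPrimes T)
    (q : Ideal D) [hq : q.IsPrime] (hmin : q ∉ minimalPrimes D) :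
    ∃ y ∈ q, IsSMulRegular T (ι y) := by
  by_contra hcon
  push Not at hcon
  have hsub : (q : Set D) ⊆ ⋃ P ∈ associatedPrimes T T, ((P.comap ι : Ideal D) : Set D) := by
    intro y hy
    have hnr := hcon y hy
    have : ι y ∈ ⋃ p ∈ associatedPrimes T T, (p : Set T) := by
      rw [biUnion_associatedPrimes_eq_compl_regular]
      exact hnr
    simpa using this
  obtain ⟨P, hP, hqP⟩ := (Ideal.subset_union_prime_finite (associatedPrimes.finite T T)
    (f := fun P : Ideal T => P.comap ι) 0 0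
    (fun P hP _ _ => by haveI := hP.isPrime; exact Ideal.IsPrime.comap ι)).1 hsub
  have hPmin := H1 P hP
  haveI := hP.isPrime
  have hq'min : P.comap ι ∈ minimalPrimes D := by
    refine ⟨⟨Ideal.IsPrime.comap ι, bot_le⟩, ?_⟩
    rintro q0 ⟨hq0, -⟩ hle y hy
    obtain ⟨z, hz, m, hzm⟩ := h.exists_mul_pow_eq_zero u d hd hu P hPmin y hy
    have : z * y ^ m ∈ q0 := by rw [hzm]; exact q0.zero_mem
    rcases hq0.mem_or_mem this with h' | h'
    · exact absurd (hle h') hz
    · exact hq0.mem_of_pow_mem m h'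
  have : q = P.comap ι := le_antisymm hqP (hq'min.2 ⟨hq, bot_le⟩ hqP)
  exact hmin (this ▸ hq'min)

end Groth.Agent.Lib.Helper24.GZ
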