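import Mathlib
import Groth.Prelude.Def_CAlg
import Groth.Agent.Lib.Helper24.GZB
import Groth.Agent.Lib.Helper24.ExtReesE
import Groth.Agent.Lib.Helper52.GrQuot
import Groth.Agent.Lib.Helper11.CMUnmixed
import Groth.Agent.Lib.Helper77.FlatDepth4

set_option autoImplicit false
set_option linter.unusedSectionVars false
set_option linter.style.haveILetI false

namespace Groth.Agent.Lib.Helper24.GZ

open DirectSum LocCoh Groth.Agent.Lib.Helper52.GrQuot

universe u

/-- quotient of a CM ring by a regular element is CM -/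
theorem isCM_quot (T : Type u) [CommRing T] [IsCohenMacaulayRing T] (t : T)
    (ht : IsSMulRegular T t) : IsCohenMacaulayRing (T ⧸ Ideal.span {t}) := by
  refine { isCohenMacaulayLocalRing_localization := ?_ }
  intro 𝔭 _
  have hmem : t ∈ 𝔭.comap (Ideal.Quotient.mk (Ideal.span {t})) := by
    rw [Ideal.mem_comap, Ideal.Quotient.eq_zero_iff_mem.2 (Ideal.mem_span_singleton_self t)]
    exact 𝔭.zero_mem
  have := Groth.Agent.Lib.Helper24.ExtRees.cm_loc_iff_cm_loc_quot t ht
    (𝔭.comap (Ideal.Quotient.mk (Ideal.span {t}))) hmem 𝔭 rfl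
  exact this.mpr (IsCohenMacaulayRing.isCohenMacaulayLocalRing_localization _)

variable {D T : Type u} [CommRing D] [CommRing T] {ι : D →+* T}
  {𝒯 : ℤ → AddSubgroup T} [GradedRing 𝒯]

theorem IsGradeZero.span_isHomogeneous (h : IsGradeZero ι 𝒯) (y : D) :
    (Ideal.span {ι y}).IsHomogeneous 𝒯 :=
  Ideal.homogeneous_span 𝒯 _ (by rintro _ rfl; exact ⟨0, h.map_mem y⟩)

variable (ι) in
/-- the induced map on quotients -/
def quotMap (y : D) : D ⧸ Ideal.span {y} →+* T ⧸ Ideal.span {ι y} :=
  Ideal.quotientMap _ ι (by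
    rw [Ideal.span_singleton_le_iff_mem, Ideal.mem_comap]
    exact Ideal.mem_span_singleton_self _)

theorem quotMap_mk (y a : D) : quotMap ι y (Ideal.Quotient.mk _ a) = Ideal.Quotient.mk _ (ι a) := by
  simp [quotMap]

theorem IsGradeZero.quot (h : IsGradeZero ι 𝒯) (y : D) :
    IsGradeZero (quotMap ι y) (quotGrading 𝒯 (Ideal.span {ι y})) where
  inj := by
    apply Ideal.quotientMap_injective'
    have : Ideal.span {ι y} = (Ideal.span {y}).map ι := by
      rw [Ideal.map_span, Set.image_singleton]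
    rw [this, h.comap_map]
  range := by
    intro t'
    constructor
    · intro ht
      obtain ⟨t, ht0, rfl⟩ := exists_of_mem_quotGrading 𝒯 _ ht
      obtain ⟨a, rfl⟩ := (h.range t).1 ht0
      exact ⟨Ideal.Quotient.mk _ a, quotMap_mk y a⟩
    · rintro ⟨a', rfl⟩
      obtain ⟨a, rfl⟩ := Ideal.Quotient.mk_surjective a'
      rw [quotMap_mk]
      exact mk_mem_quotGrading 𝒯 _ (h.map_mem a)

end Groth.Agent.Lib.Helper24.GZ
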