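import Mathlib
import Groth.Prelude.Def_CAlg
import Groth.Agent.Lib.Helper24.GZC

set_option autoImplicit false
set_option linter.unusedSectionVars false
set_option linter.style.haveILetI false

namespace Groth.Agent.Lib.Helper24.GZ

open DirectSum LocCoh Groth.Agent.Lib.Helper52.GrQuot

universe u

theorem dim_quot_congr {S : Type u} [CommRing S] (I J : Ideal S) (h : I = J) :
    ringKrullDim (S ⧸ I) = ringKrullDim (S ⧸ J) := by subst h; rfl

theorem main_aux (n : ℕ) : ∀ (D T : Type u) [CommRing D] [CommRing T] (ι : D →+* T)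
    (𝒯 : ℤ → AddSubgroup T) [GradedRing 𝒯] (_ : IsGradeZero ι 𝒯) (u : Tˣ) (d : ℕ) (_ : 0 < d)
    (_ : (u : T) ∈ 𝒯 d) [IsCohenMacaulayRing T] (q : Ideal D) [q.IsPrime],
    ringKrullDim (Localization.AtPrime q) ≤ n →
      IsCohenMacaulayLocalRing (Localization.AtPrime q) := by
  induction n with
  | zero =>
    intro D T _ _ ι 𝒯 _ h u d hd hu _ q _ hdim
    haveI : IsNoetherianRing D := h.isNoetherianRing
    apply Groth.Agent.Lib.Helper77.FlatDepth.isCM_of_dim_zero
    exact le_antisymm (by exact_mod_cast hdim) ringKrullDim_nonneg_of_nontrivial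
  | succ n ih =>
    intro D T _ _ ι 𝒯 _ h u d hd hu _ q _ hdim
    haveI : IsNoetherianRing D := h.isNoetherianRing
    by_cases hmin : q ∈ minimalPrimes D
    · apply Groth.Agent.Lib.Helper77.FlatDepth.isCM_of_dim_zero
      rw [IsLocalization.AtPrime.ringKrullDim_eq_height q, Ideal.height_eq_zero_iff.2 hmin]
      rfl
    · obtain ⟨y, hyq, hreg⟩ := h.exists_regular u d hd hu
        (fun P hP => Groth.Agent.Lib.Helper11.CMUnmixed.mem_minimalPrimes_of_mem_associatedPrimes T hP)
        q hmin
      have hregD : IsSMulRegular D y := by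
        rw [isSMulRegular_iff_right_eq_zero_of_smul]
        intro b hb
        apply h.inj
        rw [map_zero]
        apply hreg.right_eq_zero_of_smul
        rw [smul_eq_mul, ← map_mul, ← smul_eq_mul, hb, map_zero]
      -- the quotient setting
      set K : Ideal D := Ideal.span {y} with hK
      have hKq : K ≤ q := (Ideal.span_singleton_le_iff_mem _).2 hyq
      set q' : Ideal (D ⧸ K) := q.map (Ideal.Quotient.mk K) with hq'
      haveI hq'prime : q'.IsPrime :=
        Ideal.map_isPrime_of_surjective Ideal.Quotient.mk_surjective (by rwa [Ideal.mk_ker])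
      have hcomap : q'.comap (Ideal.Quotient.mk K) = q := by
        rw [hq', Ideal.comap_map_of_surjective _ Ideal.Quotient.mk_surjective,
          ← RingHom.ker_eq_comap_bot, Ideal.mk_ker]
        exact sup_eq_left.2 hKq
      letI : GradedRing (quotGrading 𝒯 (Ideal.span {ι y})) :=
        quotGradedRing 𝒯 (h.span_isHomogeneous y)
      haveI : IsCohenMacaulayRing (T ⧸ Ideal.span {ι y}) := isCM_quot T (ι y) hreg
      let u' : (T ⧸ Ideal.span {ι y})ˣ := Units.map (Ideal.Quotient.mk (Ideal.span {ι y}) : T →* _) u
      have hu' : (u' : T ⧸ Ideal.span {ι y}) ∈ quotGrading 𝒯 (Ideal.span {ι y}) (d : ℤ) :=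
        mk_mem_quotGrading 𝒯 _ hu
      -- dimension
      have hdim' : ringKrullDim (Localization.AtPrime q') ≤ n := by
        let e := Groth.Agent.Lib.Helper24.Linkage2.locQuotEquiv D K q q' hcomap
        have hJ : K.map (algebraMap D (Localization.AtPrime q)) =
            Ideal.span {algebraMap D (Localization.AtPrime q) y} := by
          rw [hK, Ideal.map_span, Set.image_singleton]
        have hmem : algebraMap D (Localization.AtPrime q) y ∈
            IsLocalRing.maximalIdeal (Localization.AtPrime q) :=
          (IsLocalization.AtPrime.to_map_mem_maximal_iff (Localization.AtPrime q) q y).mpr hyq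
        have hreg' : IsSMulRegular (Localization.AtPrime q)
            (algebraMap D (Localization.AtPrime q) y) := IsSMulRegular.of_flat hregD
        have h1 := ringKrullDim_quotient_span_singleton_succ_eq_ringKrullDim hreg' hmem
        have h2 : ringKrullDim (Localization.AtPrime q') =
            ringKrullDim (Localization.AtPrime q ⧸
              Ideal.span {algebraMap D (Localization.AtPrime q) y}) := by
          rw [ringKrullDim_eq_of_ringEquiv e]
          exact dim_quot_congr _ _ hJ
        obtain ⟨k, hk⟩ := Groth.Agent.Lib.Helper77.FlatDepth.exists_nat_dim (Localization.AtPrime q')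
        rw [← h2, hk] at h1
        rw [← h1] at hdim
        rw [hk]
        have : (k : WithBot ℕ∞) + 1 ≤ ((n + 1 : ℕ) : WithBot ℕ∞) := hdim
        have : k + 1 ≤ n + 1 := by exact_mod_cast this
        exact_mod_cast (by omega : k ≤ n)
      have hcm' : IsCohenMacaulayLocalRing (Localization.AtPrime q') :=
        ih (D ⧸ K) (T ⧸ Ideal.span {ι y}) (quotMap ι y) (quotGrading 𝒯 (Ideal.span {ι y}))
          (h.quot y) u' d hd hu' q' hdim'
      exact (Groth.Agent.Lib.Helper24.ExtRees.cm_loc_iff_cm_loc_quot y hregD q hyq q' hcomap).mp hcm'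

/-- **Main theorem**: the degree-zero part of a `ℤ`-graded Cohen–Macaulay ring with a homogeneous
unit of positive degree is Cohen–Macaulay. -/
theorem isCohenMacaulayRing_of_isGradeZero {D T : Type u} [CommRing D] [CommRing T] (ι : D →+* T)
    (𝒯 : ℤ → AddSubgroup T) [GradedRing 𝒯] (h : IsGradeZero ι 𝒯) (u : Tˣ) (d : ℕ) (hd : 0 < d)
    (hu : (u : T) ∈ 𝒯 d) [IsCohenMacaulayRing T] : IsCohenMacaulayRing D := by
  haveI : IsNoetherianRing D := h.isNoetherianRing
  refine { isCohenMacaulayLocalRing_localization := ?_ }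
  intro q _
  obtain ⟨k, hk⟩ := Groth.Agent.Lib.Helper77.FlatDepth.exists_nat_dim (Localization.AtPrime q)
  exact main_aux k D T ι 𝒯 h u d hd hu q hk.le

end Groth.Agent.Lib.Helper24.GZ
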