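import Mathlib
import Groth.Prelude.Def_CAlg
import Groth.Agent.Lib.Helper24.GLocB
import Groth.Agent.Lib.Helper24.GZD
import Groth.Agent.Lib.Helper56.CMRing

set_option autoImplicit false
set_option linter.unusedSectionVars false

namespace Groth.Agent.Lib.Helper24.GLoc

open DirectSum HomogeneousLocalization

universe u

variable {A : Type u} [CommRing A] (𝒜 : ℕ → AddSubgroup A) [GradedRing 𝒜]
variable {m : ℕ} (hm : 0 < m) {f : A} (hf : f ∈ 𝒜 m)

theorem isGradeZero : GZ.IsGradeZero (algebraMap (Away 𝒜 f) (Localization.Away f))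
    (awayPiece 𝒜 hm hf) where
  inj := by
    intro a b hab
    rw [HomogeneousLocalization.algebraMap_apply, HomogeneousLocalization.algebraMap_apply] at hab
    exact val_injective _ hab
  range := by
    intro t
    constructor
    · rintro ⟨k, n, a, ha, hn, hs⟩
      have hnk : n = k • m := by
        have : (n : ℤ) = ((k * m : ℕ) : ℤ) := by push_cast; linarith
        simpa [smul_eq_mul] using (by exact_mod_cast this : n = k * m)
      subst hnk
      refine ⟨Away.mk 𝒜 hf k a ha, ?_⟩
      rw [HomogeneousLocalization.algebraMap_apply, Away.val_mk, Localization.mk_eq_mk', eq_comm,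
        IsLocalization.eq_mk'_iff_mul_eq]
      exact hs
    · rintro ⟨y, rfl⟩
      obtain ⟨k, a, ha, rfl⟩ := Away.mk_surjective 𝒜 hf y
      refine ⟨k, k • m, a, ha, by simp [smul_eq_mul], ?_⟩
      rw [HomogeneousLocalization.algebraMap_apply, Away.val_mk, Localization.mk_eq_mk']
      exact IsLocalization.mk'_spec _ a (⟨f ^ k, k, rfl⟩ : Submonoid.powers f)

include hm hf in
/-- the degree-zero localization `A_(f)` of a Cohen–Macaulay graded ring at a homogeneous element of
positive degree is Cohen–Macaulay. -/
theorem isCohenMacaulayRing_away [LocCoh.IsCohenMacaulayRing A] :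
    LocCoh.IsCohenMacaulayRing (Away 𝒜 f) := by
  have : LocCoh.IsCohenMacaulayRing (Localization.Away f) :=
    Groth.Agent.Lib.Helper56.isCohenMacaulayRing_of_isLocalization (Submonoid.powers f) _
      inferInstance
  let u : (Localization.Away f)ˣ :=
    (IsLocalization.map_units (Localization.Away f) (⟨f, 1, pow_one f⟩ : Submonoid.powers f)).unit
  have hu : (u : Localization.Away f) ∈ awayPiece 𝒜 hm hf (m : ℤ) := algebraMap_mem 𝒜 hm hf hf
  exact GZ.isCohenMacaulayRing_of_isGradeZero _ (awayPiece 𝒜 hm hf) (isGradeZero 𝒜 hm hf) u m hm hu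

end Groth.Agent.Lib.Helper24.GLoc
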