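import Mathlib
import Groth.Prelude.Def_CAlg
import Groth.Agent.Lib.Helper24.GZA
import Groth.Agent.Lib.Helper24.GrUnitD
import Groth.Agent.Lib.Helper85.GorRing

set_option autoImplicit false
set_option linter.unusedSectionVars false
set_option linter.style.haveILetI false

namespace Groth.Agent.Lib.Helper24.GZ

open DirectSum LocCoh

universe u

variable {D T : Type u} [CommRing D] [CommRing T] {ι : D →+* T}
  {𝒯 : ℤ → AddSubgroup T} [GradedRing 𝒯]

theorem sub_sigma_mem (u : Tˣ) (x : T) :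
    x - GrUnit.sigma 𝒯 1 u x ∈ Ideal.span {(u : T) - 1} := by
  classical
  induction x using DirectSum.Decomposition.inductionOn 𝒯 with
  | zero => simp
  | @homogeneous i m =>
    have hm' : (m : T) ∈ 𝒯 (i * ((1 : ℕ) : ℤ)) := by
      rw [Nat.cast_one, mul_one]; exact m.2
    rw [GrUnit.sigma_of_mem_mul 𝒯 1 u one_pos hm']
    have : (m : T) - ((u ^ (-i) : Tˣ) : T) * m = -((((u ^ (-i) : Tˣ) : T) - 1) * m) := by ring
    rw [this]
    apply Ideal.neg_mem_iff _ |>.2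
    exact Ideal.mul_mem_right _ _ (GrUnit.zpow_sub_one_mem u (-i))
  | add a b ha hb =>
    rw [map_add]
    have : a + b - (GrUnit.sigma 𝒯 1 u a + GrUnit.sigma 𝒯 1 u b) =
        (a - GrUnit.sigma 𝒯 1 u a) + (b - GrUnit.sigma 𝒯 1 u b) := by ring
    rw [this]; exact add_mem ha hb

theorem sigma_of_mem_zero (u : Tˣ) {x : T} (hx : x ∈ 𝒯 0) : GrUnit.sigma 𝒯 1 u x = x := by
  have hx' : x ∈ 𝒯 ((0 : ℤ) * ((1 : ℕ) : ℤ)) := by rw [zero_mul]; exact hx
  rw [GrUnit.sigma_of_mem_mul 𝒯 1 u one_pos hx']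
  simp

/-- with a homogeneous unit of degree one, `D ≃ T/(u-1)` -/
theorem IsGradeZero.bijective_of_deg_one (h : IsGradeZero ι 𝒯) (u : Tˣ) (hu : (u : T) ∈ 𝒯 1) :
    Function.Bijective ((Ideal.Quotient.mk (Ideal.span {(u : T) - 1})).comp ι) := by
  have hu' : (u : T) ∈ 𝒯 ((1 : ℕ) : ℤ) := by rwa [Nat.cast_one]
  constructor
  · rw [injective_iff_map_eq_zero]
    intro a ha
    rw [RingHom.comp_apply, Ideal.Quotient.eq_zero_iff_mem, Ideal.mem_span_singleton'] at ha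
    obtain ⟨s, hs⟩ := ha
    have h1 : GrUnit.sigma 𝒯 1 u (ι a) = 0 := by
      rw [← hs, mul_comm]
      exact GrUnit.sigma_sub_one_mul 𝒯 1 u hu' one_pos s
    rw [sigma_of_mem_zero u (h.map_mem a)] at h1
    exact h.inj (by rw [h1, map_zero])
  · intro x'
    obtain ⟨x, rfl⟩ := Ideal.Quotient.mk_surjective x'
    obtain ⟨a, ha⟩ := (h.range _).1 (GrUnit.sigma_mem_zero 𝒯 1 u hu' x)
    refine ⟨a, ?_⟩
    rw [RingHom.comp_apply, ha, eq_comm, Ideal.Quotient.eq]
    exact sub_sigma_mem u x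

theorem isSMulRegular_sub_one (u : Tˣ) (hu : (u : T) ∈ 𝒯 1) : IsSMulRegular T ((u : T) - 1) := by
  have hu' : (u : T) ∈ 𝒯 ((1 : ℕ) : ℤ) := by rwa [Nat.cast_one]
  rw [isSMulRegular_iff_right_eq_zero_of_smul]
  intro y hy
  have := GrUnit.mem_of_sub_one_mul_mem 𝒯 1 u one_pos hu' ⊥ (Ideal.IsHomogeneous.bot 𝒯)
    (y := y) (by rw [Ideal.mem_bot]; exact hy)
  simpa using this

/-- **Gorenstein descent**: the degree-zero part of a `ℤ`-graded Gorenstein ring with a homogeneous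
unit of degree one is Gorenstein. -/
theorem isGorensteinRing_of_isGradeZero (ι : D →+* T) (𝒯 : ℤ → AddSubgroup T) [GradedRing 𝒯]
    (h : IsGradeZero ι 𝒯) (u : Tˣ) (hu : (u : T) ∈ 𝒯 1) [IsGorensteinRing T] :
    IsGorensteinRing D := by
  haveI : IsGorensteinRing (T ⧸ Ideal.span {(u : T) - 1}) :=
    Groth.Agent.Lib.Helper85.GorRing.gorRing_quot _ (isSMulRegular_sub_one u hu)
  exact Groth.Agent.Lib.Helper85.GorRing.gorRing_of_ringEquiv
    (RingEquiv.ofBijective _ (h.bijective_of_deg_one u hu)).symm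

end Groth.Agent.Lib.Helper24.GZ
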