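import Mathlib
import Groth.Prelude.Def_CAlg
import Groth.Agent.Lib.Helper67.CM
import Groth.Agent.Lib.Helper24.GorLink

universe u
set_option autoImplicit false
set_option linter.unusedSectionVars false
open LocCoh IsLocalRing RingTheory.Sequence
open scoped Pointwise

namespace Groth.Agent.Lib.Helper24.GeoLink

open Groth.Agent.Lib.Helper67

section TwoIdeal

variable {A : Type u} [CommRing A] (I J : Ideal A)

/-- the diagonal map `A/(I ∩ J) → A/I × A/J` -/
noncomputable def diagMap : (A ⧸ (I ⊓ J)) →ₗ[A] (A ⧸ I) × (A ⧸ J) :=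
  LinearMap.prod (Submodule.factor inf_le_left) (Submodule.factor inf_le_right)

/-- the difference map `A/I × A/J → A/(I + J)` -/
noncomputable def diffMap : (A ⧸ I) × (A ⧸ J) →ₗ[A] A ⧸ (I ⊔ J) :=
  LinearMap.coprod (Submodule.factor le_sup_left) (-(Submodule.factor le_sup_right))

theorem diagMap_mk (a : A) : diagMap I J (Submodule.Quotient.mk a) =
    (Submodule.Quotient.mk a, Submodule.Quotient.mk a) := rfl

theorem diffMap_mk (a b : A) : diffMap I J (Submodule.Quotient.mk a, Submodule.Quotient.mk b) =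
    Submodule.Quotient.mk (a - b) := by
  simp only [diffMap, LinearMap.coprod_apply, LinearMap.neg_apply]
  have h1 : Submodule.factor (le_sup_left : I ≤ I ⊔ J) (Submodule.Quotient.mk a) =
      Submodule.Quotient.mk a := rfl
  have h2 : Submodule.factor (le_sup_right : J ≤ I ⊔ J) (Submodule.Quotient.mk b) =
      Submodule.Quotient.mk b := rfl
  rw [h1, h2, Submodule.Quotient.mk_sub, sub_eq_add_neg]

theorem diagMap_injective : Function.Injective (diagMap I J) := by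
  rw [← LinearMap.ker_eq_bot, LinearMap.ker_eq_bot']
  intro x hx
  obtain ⟨a, rfl⟩ := Submodule.Quotient.mk_surjective _ x
  rw [diagMap_mk, Prod.mk_eq_zero, Submodule.Quotient.mk_eq_zero, Submodule.Quotient.mk_eq_zero]
    at hx
  rw [Submodule.Quotient.mk_eq_zero]
  exact ⟨hx.1, hx.2⟩

theorem diffMap_surjective : Function.Surjective (diffMap I J) := by
  intro z
  obtain ⟨a, rfl⟩ := Submodule.Quotient.mk_surjective _ z
  refine ⟨(Submodule.Quotient.mk a, Submodule.Quotient.mk 0), ?_⟩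
  rw [diffMap_mk, sub_zero]

theorem exact_diagMap_diffMap : Function.Exact (diagMap I J) (diffMap I J) := by
  intro z
  obtain ⟨u, v⟩ := z
  obtain ⟨a, rfl⟩ := Submodule.Quotient.mk_surjective _ u
  obtain ⟨b, rfl⟩ := Submodule.Quotient.mk_surjective _ v
  rw [diffMap_mk, Submodule.Quotient.mk_eq_zero]
  constructor
  · intro h
    obtain ⟨i, hi, j, hj, hij⟩ := Submodule.mem_sup.mp h
    refine ⟨Submodule.Quotient.mk (a - i), ?_⟩
    rw [diagMap_mk, Prod.mk.injEq]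
    constructor
    · rw [Submodule.Quotient.eq]
      simpa using I.neg_mem hi
    · rw [Submodule.Quotient.eq]
      have : a - i - b = j := by
        have : a - i - b = (a - b) - i := by ring
        rw [this, ← hij]; ring
      rw [this]; exact hj
  · rintro ⟨w, hw⟩
    obtain ⟨c, rfl⟩ := Submodule.Quotient.mk_surjective _ w
    rw [diagMap_mk, Prod.mk.injEq, Submodule.Quotient.eq, Submodule.Quotient.eq] at hw
    have : a - b = -(c - a) + (c - b) := by ring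
    rw [this]
    exact Submodule.add_mem_sup (I.neg_mem hw.1) hw.2

variable [IsNoetherianRing A] (m : Ideal A)

theorem idealDepth_prod_ge :
    min (idealDepth m (A ⧸ I)) (idealDepth m (A ⧸ J)) ≤ idealDepth m ((A ⧸ I) × (A ⧸ J)) :=
  idealDepth_mid_ge m (A ⧸ I) ((A ⧸ I) × (A ⧸ J)) (A ⧸ J) (LinearMap.inl A _ _)
    (LinearMap.snd A _ _) LinearMap.inl_injective LinearMap.snd_surjective
    Function.Exact.inl_snd

theorem idealDepth_quot_sup_ge :
    min (min (idealDepth m (A ⧸ I)) (idealDepth m (A ⧸ J))) (idealDepth m (A ⧸ (I ⊓ J)) - 1) ≤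
      idealDepth m (A ⧸ (I ⊔ J)) := by
  refine le_trans ?_ (idealDepth_right_ge m (A ⧸ (I ⊓ J)) ((A ⧸ I) × (A ⧸ J)) (A ⧸ (I ⊔ J))
    (diagMap I J) (diffMap I J) (diagMap_injective I J) (diffMap_surjective I J)
    (exact_diagMap_diffMap I J))
  exact min_le_min (idealDepth_prod_ge I J m) le_rfl

theorem idealDepth_quot_inf_ge :
    min (min (idealDepth m (A ⧸ I)) (idealDepth m (A ⧸ J))) (idealDepth m (A ⧸ (I ⊔ J)) + 1) ≤
      idealDepth m (A ⧸ (I ⊓ J)) := by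
  refine le_trans ?_ (idealDepth_left_ge m (A ⧸ (I ⊓ J)) ((A ⧸ I) × (A ⧸ J)) (A ⧸ (I ⊔ J))
    (diagMap I J) (diffMap I J) (diagMap_injective I J) (diffMap_surjective I J)
    (exact_diagMap_diffMap I J))
  exact min_le_min (idealDepth_prod_ge I J m) le_rfl

end TwoIdeal

section Local

variable {A : Type u} [CommRing A]

theorem smul_top_eq_map_span (I : Ideal A) (b : A) :
    (b • (⊤ : Submodule A (A ⧸ I))) = Submodule.map I.mkQ (Ideal.span {b}) := by
  ext z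
  rw [Submodule.mem_smul_pointwise_iff_exists, Submodule.mem_map]
  constructor
  · rintro ⟨w, -, rfl⟩
    obtain ⟨c, rfl⟩ := Submodule.Quotient.mk_surjective _ w
    exact ⟨b * c, Ideal.mul_mem_right _ _ (Ideal.mem_span_singleton_self b), rfl⟩
  · rintro ⟨t, ht, rfl⟩
    obtain ⟨c, rfl⟩ := Ideal.mem_span_singleton'.mp ht
    exact ⟨Submodule.Quotient.mk c, trivial, by rw [mul_comm]; rfl⟩

/-- `(A/I)/b(A/I) ≃ A/(I + (b))` -/
noncomputable def quotSMulTopEquiv (I : Ideal A) (b : A) :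
    QuotSMulTop b (A ⧸ I) ≃ₗ[A] A ⧸ (I ⊔ Ideal.span {b}) :=
  (Submodule.quotEquivOfEq _ _ (smul_top_eq_map_span I b)).trans
    (Submodule.quotientQuotientEquivQuotientSup I (Ideal.span {b}))

variable [IsNoetherianRing A] [IsLocalRing A]

theorem depth_quot_sup_span_add_one (I : Ideal A) (b : A) (hb : b ∈ maximalIdeal A) (hI : I ≠ ⊤)
    (hreg : IsSMulRegular (A ⧸ I) b) :
    LocCoh.depth A (A ⧸ (I ⊔ Ideal.span {b})) + 1 = LocCoh.depth A (A ⧸ I) := by
  have hnt : Nontrivial (A ⧸ I) := Ideal.Quotient.nontrivial_iff.mpr hI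
  have hIM : maximalIdeal A • (⊤ : Submodule A (A ⧸ I)) ≠ ⊤ := maximalIdeal_smul_top_ne_top (A ⧸ I)
  unfold LocCoh.depth
  rw [← idealDepth_quotSMulTop_add_one (maximalIdeal A) (A ⧸ I) hIM b hb hreg]
  congr 1
  exact (idealDepth_congr _ (quotSMulTopEquiv I b)).symm

theorem depth_quot_of_CM (𝔞 : Ideal A) [hCM : LocCoh.IsCohenMacaulayLocalRing (A ⧸ 𝔞)] (d : ℕ)
    (hdim : ringKrullDim (A ⧸ 𝔞) = d) : LocCoh.depth A (A ⧸ 𝔞) = d := by
  rw [← Groth.Agent.Lib.Helper64.DepthQuot.depth_quotient A 𝔞]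
  have h2 := hCM.supportDim_eq_depth
  rw [Module.supportDim_self_eq_ringKrullDim, hdim] at h2
  have h3 : ((d : ℕ∞) : WithBot ℕ∞) = ((LocCoh.depth (A ⧸ 𝔞) (A ⧸ 𝔞) : ℕ∞) : WithBot ℕ∞) := h2
  exact (WithBot.coe_injective h3).symm

theorem mem_minimalPrimes_of_mem_ass (𝔞 : Ideal A) (d : ℕ) (hdimA : ringKrullDim A = d)
    (hdepth : LocCoh.depth A (A ⧸ 𝔞) = d) (P : Ideal A)
    (hP : P ∈ associatedPrimes A (A ⧸ 𝔞)) : P ∈ minimalPrimes A := by
  have hPp : P.IsPrime := IsAssociatedPrime.isPrime hP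
  have h1 := depth_le_ringKrullDim_quotient_of_mem_associatedPrimes (R := A) (A ⧸ 𝔞) hP
  rw [hdepth] at h1
  obtain ⟨P', hP'min, hP'P⟩ := Ideal.exists_minimalPrimes_le (bot_le : (⊥ : Ideal A) ≤ P)
  rcases eq_or_lt_of_le hP'P with h | h
  · rw [← h]; exact hP'min
  · exfalso
    have hP'p : P'.IsPrime := hP'min.1.1
    have h2 := ringKrullDim_quotient_succ_le_of_lt h
    have h3 : ringKrullDim (A ⧸ P') ≤ ringKrullDim A :=
      ringKrullDim_le_of_surjective _ Ideal.Quotient.mk_surjective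
    rw [hdimA] at h3
    have h4 : ((d : ℕ∞) : WithBot ℕ∞) + 1 ≤ ((d : ℕ∞) : WithBot ℕ∞) :=
      le_trans (le_trans (by gcongr) h2) h3
    have h5 : ((d + 1 : ℕ) : WithBot ℕ∞) ≤ ((d : ℕ) : WithBot ℕ∞) := by exact_mod_cast h4
    have : d + 1 ≤ d := by exact_mod_cast h5
    omega

/-- simultaneous prime avoidance for two quotients -/
theorem exists_regular_of_not_le (𝔞 𝔟 𝔠 : Ideal A) (h𝔞 : 𝔞 ≠ ⊤)
    (h1 : ∀ P ∈ associatedPrimes A (A ⧸ 𝔞), ¬ 𝔠 ≤ P)
    (h2 : ∀ P ∈ associatedPrimes A (A ⧸ 𝔟), ¬ 𝔠 ≤ P) :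
    ∃ y ∈ 𝔠, IsSMulRegular (A ⧸ 𝔞) y ∧ IsSMulRegular (A ⧸ 𝔟) y := by
  by_contra hcon
  push Not at hcon
  have hnt : Nontrivial (A ⧸ 𝔞) := Ideal.Quotient.nontrivial_iff.mpr h𝔞
  obtain ⟨P0, hP0⟩ := associatedPrimes.nonempty A (A ⧸ 𝔞)
  have hfin : (associatedPrimes A (A ⧸ 𝔞) ∪ associatedPrimes A (A ⧸ 𝔟)).Finite :=
    (associatedPrimes.finite A _).union (associatedPrimes.finite A _)
  have hsub : ((𝔠 : Ideal A) : Set A) ⊆
      ⋃ P ∈ (associatedPrimes A (A ⧸ 𝔞) ∪ associatedPrimes A (A ⧸ 𝔟)), (P : Set A) := by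
    intro y hy
    by_cases hy1 : IsSMulRegular (A ⧸ 𝔞) y
    · have hy2 : y ∈ {r : A | IsSMulRegular (A ⧸ 𝔟) r}ᶜ := hcon y hy hy1
      rw [← biUnion_associatedPrimes_eq_compl_regular] at hy2
      obtain ⟨P, hP, hyP⟩ := Set.mem_iUnion₂.mp hy2
      exact Set.mem_iUnion₂.mpr ⟨P, Or.inr hP, hyP⟩
    · have hy2 : y ∈ {r : A | IsSMulRegular (A ⧸ 𝔞) r}ᶜ := hy1
      rw [← biUnion_associatedPrimes_eq_compl_regular] at hy2
      obtain ⟨P, hP, hyP⟩ := Set.mem_iUnion₂.mp hy2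
      exact Set.mem_iUnion₂.mpr ⟨P, Or.inl hP, hyP⟩
  obtain ⟨P, hP, hle⟩ := (Ideal.subset_union_prime_finite hfin P0 P0 (fun P hP _ _ => by
    rcases hP with hP | hP
    · exact IsAssociatedPrime.isPrime hP
    · exact IsAssociatedPrime.isPrime hP)).mp hsub
  rcases hP with hP | hP
  · exact h1 P hP hle
  · exact h2 P hP hle

end Local

end Groth.Agent.Lib.Helper24.GeoLink
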