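import Mathlib
import Groth.Prelude.Def_CAlg
import Groth.Agent.Lib.Helper24.GeoLinkA

universe u
set_option autoImplicit false
set_option linter.unusedSectionVars false
open LocCoh IsLocalRing RingTheory.Sequence
open scoped Pointwise

namespace Groth.Agent.Lib.Helper24.GeoLink

open Groth.Agent.Lib.Helper67 Groth.Agent.Lib.Helper24.GorLink Groth.Agent.Lib.Helper85.GorRing

section Core

/-- a Noetherian local ring with `depth ≥ dim(ambient bound)` is CM -/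
theorem isCM_quot_of_le_depth {A : Type u} [CommRing A] [IsNoetherianRing A] [IsLocalRing A]
    (𝔧 : Ideal A) (h𝔧 : 𝔧 ≤ maximalIdeal A) (e : ℕ) (hdim : ringKrullDim (A ⧸ 𝔧) ≤ e)
    (hdep : (e : ℕ∞) ≤ LocCoh.depth A (A ⧸ 𝔧)) :
    LocCoh.IsCohenMacaulayLocalRing (A ⧸ 𝔧) ∧ ringKrullDim (A ⧸ 𝔧) = e := by
  have hloc : IsLocalRing (A ⧸ 𝔧) := Groth.Agent.Lib.Helper85.GorFlat.isLocalRing_quot _ h𝔧
  rw [← Groth.Agent.Lib.Helper64.DepthQuot.depth_quotient A 𝔧] at hdep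
  have h3 := depth_le_supportDim (R := A ⧸ 𝔧) (A ⧸ 𝔧)
  rw [Module.supportDim_self_eq_ringKrullDim] at h3
  have h4 : ((e : ℕ∞) : WithBot ℕ∞) ≤ ((LocCoh.depth (A ⧸ 𝔧) (A ⧸ 𝔧) : ℕ∞) : WithBot ℕ∞) :=
    WithBot.coe_le_coe.mpr hdep
  have h5 : ringKrullDim (A ⧸ 𝔧) = e := le_antisymm hdim (h4.trans h3)
  refine ⟨{ supportDim_eq_depth := ?_ }, h5⟩
  rw [Module.supportDim_self_eq_ringKrullDim]
  exact le_antisymm (h5.le.trans h4) h3

theorem gor_quot_sup (A : Type u) [CommRing A] [hG : LocCoh.IsGorensteinLocalRing A]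
    (𝔞 𝔟 : Ideal A) (hinf : 𝔞 ⊓ 𝔟 = ⊥)
    [hCM𝔞 : LocCoh.IsCohenMacaulayLocalRing (A ⧸ 𝔞)]
    [hCM𝔟 : LocCoh.IsCohenMacaulayLocalRing (A ⧸ 𝔟)]
    (hdim𝔞 : ringKrullDim (A ⧸ 𝔞) = ringKrullDim A)
    (hdim𝔟 : ringKrullDim (A ⧸ 𝔟) = ringKrullDim A)
    (hne : 𝔞 ⊔ 𝔟 ≠ ⊤) (hmin : ∀ P ∈ minimalPrimes A, ¬ 𝔞 ⊔ 𝔟 ≤ P) :
    LocCoh.IsGorensteinLocalRing (A ⧸ (𝔞 ⊔ 𝔟)) ∧
      ringKrullDim (A ⧸ (𝔞 ⊔ 𝔟)) + 1 = ringKrullDim A := by
  obtain ⟨d, hdimA, hdepthA, -⟩ := Groth.Agent.Lib.Helper4.GorCM.gorenstein_dim A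
  have h𝔞top : 𝔞 ≠ ⊤ := fun h => hne (by rw [h, top_sup_eq])
  have h𝔟top : 𝔟 ≠ ⊤ := fun h => hne (by rw [h, sup_top_eq])
  have hm : 𝔞 ⊔ 𝔟 ≤ maximalIdeal A := IsLocalRing.le_maximalIdeal hne
  have hdep𝔞 : LocCoh.depth A (A ⧸ 𝔞) = d := depth_quot_of_CM 𝔞 d (by rw [hdim𝔞, hdimA])
  have hdep𝔟 : LocCoh.depth A (A ⧸ 𝔟) = d := depth_quot_of_CM 𝔟 d (by rw [hdim𝔟, hdimA])
  obtain ⟨y, hy, hy𝔞, hy𝔟⟩ := exists_regular_of_not_le 𝔞 𝔟 (𝔞 ⊔ 𝔟) h𝔞top
    (fun P hP => hmin P (mem_minimalPrimes_of_mem_ass 𝔞 d hdimA hdep𝔞 P hP))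
    (fun P hP => hmin P (mem_minimalPrimes_of_mem_ass 𝔟 d hdimA hdep𝔟 P hP))
  obtain ⟨a, ha, b, hb, hab⟩ := Submodule.mem_sup.mp hy
  have hym : y ∈ maximalIdeal A := hm hy
  have ham : a ∈ maximalIdeal A := hm (Ideal.mem_sup_left ha)
  have hbm : b ∈ maximalIdeal A := hm (Ideal.mem_sup_right hb)
  have hmul0 : ∀ α ∈ 𝔞, ∀ β ∈ 𝔟, α * β = 0 := by
    intro α hα β hβ
    have : α * β ∈ 𝔞 ⊓ 𝔟 := ⟨Ideal.mul_mem_right _ _ hα, Ideal.mul_mem_left _ _ hβ⟩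
    rwa [hinf, Ideal.mem_bot] at this
  have hreg𝔟 : ∀ z : A, z * y ∈ 𝔟 → z ∈ 𝔟 := by
    intro z hz
    have h1 : y • (Ideal.Quotient.mk 𝔟 z) = y • (0 : A ⧸ 𝔟) := by
      rw [smul_zero]
      show Ideal.Quotient.mk 𝔟 (y * z) = 0
      rw [Ideal.Quotient.eq_zero_iff_mem, mul_comm]; exact hz
    exact Ideal.Quotient.eq_zero_iff_mem.mp (hy𝔟 h1)
  have hreg𝔞 : ∀ z : A, z * y ∈ 𝔞 → z ∈ 𝔞 := by
    intro z hz
    have h1 : y • (Ideal.Quotient.mk 𝔞 z) = y • (0 : A ⧸ 𝔞) := by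
      rw [smul_zero]
      show Ideal.Quotient.mk 𝔞 (y * z) = 0
      rw [Ideal.Quotient.eq_zero_iff_mem, mul_comm]; exact hz
    exact Ideal.Quotient.eq_zero_iff_mem.mp (hy𝔞 h1)
  have hF1 : ∀ z : A, z * a ∈ 𝔟 → z ∈ 𝔟 := by
    intro z hz
    apply hreg𝔟
    rw [← hab, mul_add]
    exact 𝔟.add_mem hz (Ideal.mul_mem_left _ _ hb)
  have hF2 : ∀ z : A, z * b ∈ 𝔞 → z ∈ 𝔞 := by
    intro z hz
    apply hreg𝔞
    rw [← hab, mul_add]
    exact 𝔞.add_mem (Ideal.mul_mem_left _ _ ha) hz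
  have hyreg : IsSMulRegular A y := by
    rw [isSMulRegular_iff_right_eq_zero_of_smul]
    intro z hz
    rw [smul_eq_mul, mul_comm] at hz
    have h1 : z ∈ 𝔞 := hreg𝔞 z (by rw [hz]; exact zero_mem _)
    have h2 : z ∈ 𝔟 := hreg𝔟 z (by rw [hz]; exact zero_mem _)
    have : z ∈ 𝔞 ⊓ 𝔟 := ⟨h1, h2⟩
    rwa [hinf, Ideal.mem_bot] at this
  have hbreg : IsSMulRegular (A ⧸ 𝔞) b := by
    rw [isSMulRegular_iff_right_eq_zero_of_smul]
    intro z hz
    obtain ⟨z, rfl⟩ := Ideal.Quotient.mk_surjective z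
    have hz' : Ideal.Quotient.mk 𝔞 (b * z) = 0 := hz
    rw [Ideal.Quotient.eq_zero_iff_mem, mul_comm] at hz'
    exact Ideal.Quotient.eq_zero_iff_mem.mpr (hF2 z hz')
  have hareg : IsSMulRegular (A ⧸ 𝔟) a := by
    rw [isSMulRegular_iff_right_eq_zero_of_smul]
    intro z hz
    obtain ⟨z, rfl⟩ := Ideal.Quotient.mk_surjective z
    have hz' : Ideal.Quotient.mk 𝔟 (a * z) = 0 := hz
    rw [Ideal.Quotient.eq_zero_iff_mem, mul_comm] at hz'
    exact Ideal.Quotient.eq_zero_iff_mem.mpr (hF1 z hz')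
  -- dimension of `A/(y)`
  have hdimB : ringKrullDim (A ⧸ Ideal.span {y}) + 1 = ringKrullDim A :=
    ringKrullDim_quotient_span_singleton_succ_eq_ringKrullDim hyreg hym
  have hspan_m : Ideal.span {y} ≤ maximalIdeal A := (Ideal.span_singleton_le_iff_mem _).mpr hym
  have hBloc : IsLocalRing (A ⧸ Ideal.span {y}) :=
    Groth.Agent.Lib.Helper85.GorFlat.isLocalRing_quot _ hspan_m
  obtain ⟨e, he⟩ := Groth.Agent.Lib.Helper77.FlatDepth.exists_nat_dim (A ⧸ Ideal.span {y})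
  have hde : d = e + 1 := by
    rw [he, hdimA] at hdimB
    have : ((e + 1 : ℕ) : WithBot ℕ∞) = ((d : ℕ) : WithBot ℕ∞) := by exact_mod_cast hdimB
    have : e + 1 = d := by exact_mod_cast this
    omega
  -- depth of `T = A/(𝔞 + 𝔟)`
  have hdepT : (e : ℕ∞) ≤ LocCoh.depth A (A ⧸ (𝔞 ⊔ 𝔟)) := by
    have h := idealDepth_quot_sup_ge 𝔞 𝔟 (maximalIdeal A)
    have h0 : idealDepth (maximalIdeal A) (A ⧸ (𝔞 ⊓ 𝔟)) = d := by
      rw [← hdepthA]
      exact idealDepth_congr _ ((Submodule.quotEquivOfEq _ _ hinf).trans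
        (Submodule.quotEquivOfEqBot ⊥ rfl))
    unfold LocCoh.depth at hdep𝔞 hdep𝔟 ⊢
    rw [hdep𝔞, hdep𝔟, h0, min_self, hde] at h
    refine le_trans ?_ h
    apply le_min
    · exact_mod_cast Nat.le_succ e
    · have h1 : (((e + 1 : ℕ) : ℕ∞)) - 1 = ((e + 1 - 1 : ℕ) : ℕ∞) := by push_cast; rfl
      rw [h1]; simp
  -- `T` is CM of dimension `e`
  have hTdim_le : ringKrullDim (A ⧸ (𝔞 ⊔ 𝔟)) ≤ e := by
    rw [← he]
    exact ringKrullDim_quotient_le_of_le ((Ideal.span_singleton_le_iff_mem _).mpr hy)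
  obtain ⟨hTCM, hTdim⟩ := isCM_quot_of_le_depth (𝔞 ⊔ 𝔟) hm e hTdim_le hdepT
  refine ⟨?_, by rw [hTdim, hdimA, hde]; rfl⟩
  -- depth of `A/(a, b)`
  have hI𝔧 : (𝔞 ⊔ Ideal.span {b}) ⊓ (𝔟 ⊔ Ideal.span {a}) = Ideal.span {y} ⊔ Ideal.span {a} := by
    apply le_antisymm
    · rintro z ⟨hz1, hz2⟩
      obtain ⟨α, hα, t, ht, rfl⟩ := Submodule.mem_sup.mp hz1
      obtain ⟨β, hβ, s, hs, hst⟩ := Submodule.mem_sup.mp hz2
      obtain ⟨r, rfl⟩ := Ideal.mem_span_singleton'.mp ht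
      obtain ⟨s, rfl⟩ := Ideal.mem_span_singleton'.mp hs
      have h1 : α - s * a = β - r * b := by
        have : β + s * a = α + r * b := hst
        linear_combination -this
      have h2 : α - s * a ∈ 𝔞 ⊓ 𝔟 := by
        refine ⟨𝔞.sub_mem hα (Ideal.mul_mem_left _ _ ha), ?_⟩
        rw [h1]
        exact 𝔟.sub_mem hβ (Ideal.mul_mem_left _ _ hb)
      rw [hinf, Ideal.mem_bot] at h2
      have h3 : α + r * b = r * y + (s - r) * a := by
        rw [← hab]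
        linear_combination h2
      rw [h3]
      exact Submodule.add_mem_sup (Ideal.mul_mem_left _ _ (Ideal.mem_span_singleton_self y))
        (Ideal.mul_mem_left _ _ (Ideal.mem_span_singleton_self a))
    · apply sup_le
      · rw [Ideal.span_singleton_le_iff_mem]
        refine ⟨?_, ?_⟩
        · rw [← hab]
          exact Submodule.add_mem_sup ha (Ideal.mem_span_singleton_self b)
        · rw [← hab, add_comm]
          exact Submodule.add_mem_sup hb (Ideal.mem_span_singleton_self a)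
      · rw [Ideal.span_singleton_le_iff_mem]
        exact ⟨Ideal.mem_sup_left ha, Ideal.mem_sup_right (Ideal.mem_span_singleton_self a)⟩
  have hIsup : (𝔞 ⊔ Ideal.span {b}) ⊔ (𝔟 ⊔ Ideal.span {a}) = 𝔞 ⊔ 𝔟 := by
    apply le_antisymm
    · refine sup_le (sup_le le_sup_left ?_) (sup_le le_sup_right ?_)
      · rw [Ideal.span_singleton_le_iff_mem]; exact Ideal.mem_sup_right hb
      · rw [Ideal.span_singleton_le_iff_mem]; exact Ideal.mem_sup_left ha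
    · exact sup_le (le_sup_left.trans le_sup_left) (le_sup_left.trans le_sup_right)
  have hdep1 : LocCoh.depth A (A ⧸ (𝔞 ⊔ Ideal.span {b})) = e := by
    have h := depth_quot_sup_span_add_one 𝔞 b hbm h𝔞top hbreg
    rw [hdep𝔞, hde] at h
    push_cast at h
    exact (ENat.add_left_injective_of_ne_top (by simp)) h
  have hdep2 : LocCoh.depth A (A ⧸ (𝔟 ⊔ Ideal.span {a})) = e := by
    have h := depth_quot_sup_span_add_one 𝔟 a ham h𝔟top hareg
    rw [hdep𝔟, hde] at h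
    push_cast at h
    exact (ENat.add_left_injective_of_ne_top (by simp)) h
  have hdep𝔧 : (e : ℕ∞) ≤ LocCoh.depth A (A ⧸ (Ideal.span {y} ⊔ Ideal.span {a})) := by
    have h := idealDepth_quot_inf_ge (𝔞 ⊔ Ideal.span {b}) (𝔟 ⊔ Ideal.span {a}) (maximalIdeal A)
    have h0 : idealDepth (maximalIdeal A)
        (A ⧸ ((𝔞 ⊔ Ideal.span {b}) ⊔ (𝔟 ⊔ Ideal.span {a}))) =
        idealDepth (maximalIdeal A) (A ⧸ (𝔞 ⊔ 𝔟)) :=
      idealDepth_congr _ (Submodule.quotEquivOfEq _ _ hIsup)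
    have h1 : idealDepth (maximalIdeal A)
        (A ⧸ ((𝔞 ⊔ Ideal.span {b}) ⊓ (𝔟 ⊔ Ideal.span {a}))) =
        idealDepth (maximalIdeal A) (A ⧸ (Ideal.span {y} ⊔ Ideal.span {a})) :=
      idealDepth_congr _ (Submodule.quotEquivOfEq _ _ hI𝔧)
    unfold LocCoh.depth at hdep1 hdep2 hdepT ⊢
    rw [hdep1, hdep2, h0, h1, min_self] at h
    refine le_trans ?_ h
    exact le_min le_rfl (hdepT.trans le_self_add)
  -- `A/(y, a)` is CM of dimension `e`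
  have h𝔧m : Ideal.span {y} ⊔ Ideal.span {a} ≤ maximalIdeal A :=
    sup_le hspan_m ((Ideal.span_singleton_le_iff_mem _).mpr ham)
  have h𝔧dim_le : ringKrullDim (A ⧸ (Ideal.span {y} ⊔ Ideal.span {a})) ≤ e := by
    rw [← he]
    exact ringKrullDim_quotient_le_of_le le_sup_left
  obtain ⟨h𝔧CM, h𝔧dim⟩ := isCM_quot_of_le_depth _ h𝔧m e h𝔧dim_le hdep𝔧
  -- the Gorenstein ring `B = A/(y)` and `x = ā`
  have hBgor : LocCoh.IsGorensteinLocalRing (A ⧸ Ideal.span {y}) :=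
    Groth.Agent.Lib.Helper85.GorLCI.gor_of_regularSeq_aux 1 A (A ⧸ Ideal.span {y}) [y] rfl
      ((isWeaklyRegular_singleton_iff A y).mpr hyreg) (by simpa using hym)
      (Ideal.Quotient.mk _) Ideal.Quotient.mk_surjective
      (by rw [Ideal.mk_ker, Ideal.ofList_singleton])
  set x : A ⧸ Ideal.span {y} := Ideal.Quotient.mk _ a with hx
  have hmapx : (Ideal.span {a}).map (Ideal.Quotient.mk (Ideal.span {y})) = Ideal.span {x} := by
    rw [Ideal.map_span, Set.image_singleton]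
  let eC : ((A ⧸ Ideal.span {y}) ⧸ Ideal.span {x}) ≃+* A ⧸ (Ideal.span {y} ⊔ Ideal.span {a}) :=
    (Ideal.quotEquivOfEq hmapx.symm).trans
      (DoubleQuot.quotQuotEquivQuotSup (Ideal.span {y}) (Ideal.span {a}))
  have hCCM : LocCoh.IsCohenMacaulayLocalRing ((A ⧸ Ideal.span {y}) ⧸ Ideal.span {x}) :=
    Groth.Agent.Lib.Helper56.isCohenMacaulayLocalRing_of_ringEquiv eC.symm h𝔧CM
  have hCdim : ringKrullDim ((A ⧸ Ideal.span {y}) ⧸ Ideal.span {x}) =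
      ringKrullDim (A ⧸ Ideal.span {y}) := by
    rw [ringKrullDim_eq_of_ringEquiv eC, h𝔧dim, he]
  -- the annihilator of `x`
  have hann_mem : ∀ z : A, Ideal.Quotient.mk (Ideal.span {y}) z ∈
      (Submodule.annihilator (Ideal.span {x}) : Ideal (A ⧸ Ideal.span {y})) ↔ z ∈ 𝔞 ⊔ 𝔟 := by
    intro z
    rw [Submodule.mem_annihilator_span_singleton, hx, smul_eq_mul, ← map_mul,
      Ideal.Quotient.eq_zero_iff_mem, Ideal.mem_span_singleton']
    constructor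
    · rintro ⟨w, hw⟩
      have h1 : (z - w) * a = w * b := by
        rw [← hab] at hw
        linear_combination -hw
      have h2 : w * b ∈ 𝔞 ⊓ 𝔟 := by
        refine ⟨?_, Ideal.mul_mem_left _ _ hb⟩
        rw [← h1]; exact Ideal.mul_mem_left _ _ ha
      rw [hinf, Ideal.mem_bot] at h2
      have h3 : w ∈ 𝔞 := hF2 w (by rw [h2]; exact zero_mem _)
      have h4 : z - w ∈ 𝔟 := hF1 (z - w) (by rw [h1, h2]; exact zero_mem _)
      have : z = w + (z - w) := by ring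
      rw [this]
      exact Submodule.add_mem_sup h3 h4
    · intro hz
      obtain ⟨α, hα, β, hβ, rfl⟩ := Submodule.mem_sup.mp hz
      refine ⟨α, ?_⟩
      have h1 : α * b = 0 := hmul0 α hα b hb
      have h2 : a * β = 0 := hmul0 a ha β hβ
      rw [← hab]
      linear_combination h1 - h2
  have hann_eq : (Submodule.annihilator (Ideal.span {x}) : Ideal (A ⧸ Ideal.span {y})) =
      (𝔞 ⊔ 𝔟).map (Ideal.Quotient.mk (Ideal.span {y})) := by
    ext z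
    obtain ⟨z, rfl⟩ := Ideal.Quotient.mk_surjective z
    rw [hann_mem, Ideal.mem_map_iff_of_surjective _ Ideal.Quotient.mk_surjective]
    constructor
    · intro hz
      exact ⟨z, hz, rfl⟩
    · rintro ⟨z', hz', hzz'⟩
      rw [Ideal.Quotient.eq] at hzz'
      have : z = z' - (z' - z) := by ring
      rw [this]
      exact Ideal.sub_mem _ hz' ((Ideal.span_singleton_le_iff_mem _).mpr hy hzz')
  have hann_ne : (Submodule.annihilator (Ideal.span {x}) : Ideal (A ⧸ Ideal.span {y})) ≠ ⊤ := by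
    intro htop
    have h1 : Ideal.Quotient.mk (Ideal.span {y}) 1 ∈
        (Submodule.annihilator (Ideal.span {x}) : Ideal (A ⧸ Ideal.span {y})) := by
      rw [htop]; trivial
    rw [hann_mem] at h1
    exact hne ((Ideal.eq_top_iff_one _).mpr h1)
  have hfinal := gor_quot_annihilator (A ⧸ Ideal.span {y}) x hCdim hann_ne
  rw [hann_eq] at hfinal
  exact gor_of_ringEquiv (R := (A ⧸ Ideal.span {y}) ⧸
      (𝔞 ⊔ 𝔟).map (Ideal.Quotient.mk (Ideal.span {y})))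
    (DoubleQuot.quotQuotEquivQuotOfLE ((Ideal.span_singleton_le_iff_mem _).mpr hy))

end Core

end Groth.Agent.Lib.Helper24.GeoLink
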