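import Mathlib
import Groth.Prelude.Def_CAlg
import Groth.Agent.Lib.Helper24.GeoLinkB
import Groth.Agent.Lib.Helper24.GorLinkMain

universe u
set_option autoImplicit false
set_option linter.unusedSectionVars false
open LocCoh IsLocalRing RingTheory.Sequence
open scoped Pointwise

namespace Groth.Agent.Lib.Helper24.GeoLink

open Groth.Agent.Lib.Helper67 Groth.Agent.Lib.Helper24.GorLink Groth.Agent.Lib.Helper85.GorRing
  Groth.Agent.Lib.Helper24.Linkage2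

section Abstract

/-- localizing a CM quotient of the right local dimensions -/
theorem cm_dim_loc_quot (B : Type u) [CommRing B] (I : Ideal B)
    (hCM : LocCoh.IsCohenMacaulayRing (B ⧸ I)) (Qb : Ideal B) [Qb.IsPrime] (hIQ : I ≤ Qb)
    (hdim : ∀ (q : Ideal (B ⧸ I)) [q.IsPrime], q.comap (Ideal.Quotient.mk I) = Qb →
      q.height = Qb.height) :
    LocCoh.IsCohenMacaulayLocalRing
      (Localization.AtPrime Qb ⧸ I.map (algebraMap B (Localization.AtPrime Qb))) ∧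
    ringKrullDim (Localization.AtPrime Qb ⧸ I.map (algebraMap B (Localization.AtPrime Qb))) =
      ringKrullDim (Localization.AtPrime Qb) := by
  have hqI : (Qb.map (Ideal.Quotient.mk I)).IsPrime :=
    Ideal.isPrime_map_quotientMk_of_isPrime hIQ
  have hcomap : (Qb.map (Ideal.Quotient.mk I)).comap (Ideal.Quotient.mk I) = Qb := by
    rw [Ideal.comap_map_of_surjective' _ Ideal.Quotient.mk_surjective, Ideal.mk_ker,
      sup_eq_left.mpr hIQ]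
  let eI := locQuotEquiv B I Qb (Qb.map (Ideal.Quotient.mk I)) hcomap
  refine ⟨Groth.Agent.Lib.Helper56.isCohenMacaulayLocalRing_of_ringEquiv eI
      (hCM.isCohenMacaulayLocalRing_localization _), ?_⟩
  rw [← ringKrullDim_eq_of_ringEquiv eI,
    IsLocalization.AtPrime.ringKrullDim_eq_height (Qb.map (Ideal.Quotient.mk I))
      (Localization.AtPrime (Qb.map (Ideal.Quotient.mk I))),
    IsLocalization.AtPrime.ringKrullDim_eq_height Qb (Localization.AtPrime Qb),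
    hdim (Qb.map (Ideal.Quotient.mk I)) hcomap]

theorem gorRing_quot_sup_aux (B : Type u) [CommRing B] [hG : LocCoh.IsGorensteinRing B]
    (𝔞 𝔟 : Ideal B) (hinf : 𝔞 ⊓ 𝔟 = ⊥)
    (hCM𝔞 : LocCoh.IsCohenMacaulayRing (B ⧸ 𝔞)) (hCM𝔟 : LocCoh.IsCohenMacaulayRing (B ⧸ 𝔟))
    (hdim𝔞 : ∀ (Qb : Ideal B) [Qb.IsPrime], 𝔞 ≤ Qb → ∀ (q : Ideal (B ⧸ 𝔞)) [q.IsPrime],
      q.comap (Ideal.Quotient.mk 𝔞) = Qb → q.height = Qb.height)
    (hdim𝔟 : ∀ (Qb : Ideal B) [Qb.IsPrime], 𝔟 ≤ Qb → ∀ (q : Ideal (B ⧸ 𝔟)) [q.IsPrime],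
      q.comap (Ideal.Quotient.mk 𝔟) = Qb → q.height = Qb.height)
    (hmin : ∀ P ∈ minimalPrimes B, ¬ 𝔞 ⊔ 𝔟 ≤ P)
    (q' : Ideal (B ⧸ (𝔞 ⊔ 𝔟))) [q'.IsPrime] :
    LocCoh.IsGorensteinLocalRing (Localization.AtPrime q') ∧
      q'.height + 1 = (q'.comap (Ideal.Quotient.mk (𝔞 ⊔ 𝔟))).height := by
  let Qb : Ideal B := q'.comap (Ideal.Quotient.mk (𝔞 ⊔ 𝔟))
  have hQbprime : Qb.IsPrime := Ideal.comap_isPrime _ _
  let A := Localization.AtPrime Qb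
  have hGA : LocCoh.IsGorensteinLocalRing A := hG.isGorensteinLocalRing_localization Qb
  let e := locQuotEquiv B (𝔞 ⊔ 𝔟) Qb q' rfl
  have hsupQ : 𝔞 ⊔ 𝔟 ≤ Qb := by
    intro r hr
    show Ideal.Quotient.mk (𝔞 ⊔ 𝔟) r ∈ q'
    rw [Ideal.Quotient.eq_zero_iff_mem.mpr hr]
    exact zero_mem _
  have h𝔞Q : 𝔞 ≤ Qb := le_sup_left.trans hsupQ
  have h𝔟Q : 𝔟 ≤ Qb := le_sup_right.trans hsupQ
  have hmapsup : (𝔞 ⊔ 𝔟).map (algebraMap B A) = 𝔞.map (algebraMap B A) ⊔ 𝔟.map (algebraMap B A) :=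
    Ideal.map_sup _ _ _
  have hinf' : 𝔞.map (algebraMap B A) ⊓ 𝔟.map (algebraMap B A) = ⊥ := by
    rw [← IsLocalization.map_inf Qb.primeCompl A, hinf, Ideal.map_bot]
  obtain ⟨hCM1, hdim1⟩ := cm_dim_loc_quot B 𝔞 hCM𝔞 Qb h𝔞Q (fun q _ hq => hdim𝔞 Qb h𝔞Q q hq)
  obtain ⟨hCM2, hdim2⟩ := cm_dim_loc_quot B 𝔟 hCM𝔟 Qb h𝔟Q (fun q _ hq => hdim𝔟 Qb h𝔟Q q hq)
  have hne' : 𝔞.map (algebraMap B A) ⊔ 𝔟.map (algebraMap B A) ≠ ⊤ := by
    rw [← hmapsup]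
    intro h
    have h1 : Subsingleton (A ⧸ (𝔞 ⊔ 𝔟).map (algebraMap B A)) := by
      rw [h]; exact Ideal.Quotient.subsingleton_iff.mpr rfl
    have h2 : Subsingleton (Localization.AtPrime q') := e.toEquiv.subsingleton
    exact not_subsingleton _ h2
  have hmin' : ∀ P ∈ minimalPrimes A, ¬ 𝔞.map (algebraMap B A) ⊔ 𝔟.map (algebraMap B A) ≤ P := by
    intro P hP hle
    have h1 : P ∈ ((⊥ : Ideal B).map (algebraMap B A)).minimalPrimes := by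
      rw [Ideal.map_bot]; exact hP
    rw [IsLocalization.minimalPrimes_map Qb.primeCompl A] at h1
    refine hmin _ h1 ?_
    rw [← hmapsup, Ideal.map_le_iff_le_comap] at hle
    exact hle
  obtain ⟨hgor, hdimT⟩ := gor_quot_sup A (𝔞.map (algebraMap B A)) (𝔟.map (algebraMap B A)) hinf'
    hdim1 hdim2 hne' hmin'
  rw [← hmapsup] at hgor hdimT
  refine ⟨gor_of_ringEquiv e.symm, ?_⟩
  rw [← ringKrullDim_eq_of_ringEquiv e,
    IsLocalization.AtPrime.ringKrullDim_eq_height q' (Localization.AtPrime q'),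
    IsLocalization.AtPrime.ringKrullDim_eq_height Qb A] at hdimT
  exact_mod_cast hdimT

theorem gorRing_quot_sup_aux' (B : Type u) [CommRing B] [hG : LocCoh.IsGorensteinRing B]
    (𝔞 𝔟 : Ideal B) (hinf : 𝔞 ⊓ 𝔟 = ⊥)
    (hCM𝔞 : LocCoh.IsCohenMacaulayRing (B ⧸ 𝔞)) (hCM𝔟 : LocCoh.IsCohenMacaulayRing (B ⧸ 𝔟))
    (hdim𝔞 : ∀ (Qb : Ideal B) [Qb.IsPrime], 𝔞 ≤ Qb → ∀ (q : Ideal (B ⧸ 𝔞)) [q.IsPrime],
      q.comap (Ideal.Quotient.mk 𝔞) = Qb → q.height = Qb.height)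
    (hdim𝔟 : ∀ (Qb : Ideal B) [Qb.IsPrime], 𝔟 ≤ Qb → ∀ (q : Ideal (B ⧸ 𝔟)) [q.IsPrime],
      q.comap (Ideal.Quotient.mk 𝔟) = Qb → q.height = Qb.height)
    (hmin : ∀ P ∈ minimalPrimes B, ¬ 𝔞 ⊔ 𝔟 ≤ P)
    (𝔰 : Ideal B) (h𝔰 : 𝔰 = 𝔞 ⊔ 𝔟)
    (q' : Ideal (B ⧸ 𝔰)) [q'.IsPrime] :
    LocCoh.IsGorensteinLocalRing (Localization.AtPrime q') ∧
      q'.height + 1 = (q'.comap (Ideal.Quotient.mk 𝔰)).height := by
  subst h𝔰
  exact gorRing_quot_sup_aux B 𝔞 𝔟 hinf hCM𝔞 hCM𝔟 hdim𝔞 hdim𝔟 hmin q'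

end Abstract

end Groth.Agent.Lib.Helper24.GeoLink
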