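import Mathlib
import Groth.Prelude.Def_CAlg
import Groth.Prelude.Def_GrSyz
import Groth.Agent.Lib.Helper24.GeoLinkC

universe u
set_option autoImplicit false
set_option linter.unusedSectionVars false
open LocCoh IsLocalRing RingTheory.Sequence MvPolynomial
open scoped Pointwise

namespace Groth.Agent.Lib.Helper24.GeoLink

open Groth.Agent.Lib.Helper67 Groth.Agent.Lib.Helper24.GorLink Groth.Agent.Lib.Helper85.GorRing
  Groth.Agent.Lib.Helper24.Linkage2 Groth.Agent.Lib.Helper24.GrUnmixed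

section Gen

variable {R : Type u} [CommRing R]

theorem height_inf_eq (c : ℕ∞) (I₁ I₂ : Ideal R) (h₁ : I₁.height = c) (h₂ : I₂.height = c) :
    (I₁ ⊓ I₂).height = c := by
  apply le_antisymm
  · rw [← h₁]; exact Ideal.height_mono inf_le_left
  · rw [Ideal.height_eq_inf_minimalPrimes]
    apply le_iInf₂
    intro P hP
    have hPp : P.IsPrime := hP.1.1
    rcases (Ideal.IsPrime.inf_le hPp).mp hP.1.2 with h | h
    · rw [← h₁]; exact Ideal.height_mono h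
    · rw [← h₂]; exact Ideal.height_mono h

theorem map_mk_inf_eq_bot (I₁ I₂ : Ideal R) :
    I₁.map (Ideal.Quotient.mk (I₁ ⊓ I₂)) ⊓ I₂.map (Ideal.Quotient.mk (I₁ ⊓ I₂)) = ⊥ := by
  rw [eq_bot_iff]
  rintro x ⟨hx1, hx2⟩
  obtain ⟨r, rfl⟩ := Ideal.Quotient.mk_surjective x
  rw [SetLike.mem_coe, Ideal.mem_quotient_iff_mem_sup, sup_eq_left.mpr inf_le_left] at hx1
  rw [SetLike.mem_coe, Ideal.mem_quotient_iff_mem_sup, sup_eq_left.mpr inf_le_right] at hx2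
  rw [Ideal.mem_bot, Ideal.Quotient.eq_zero_iff_mem]
  exact ⟨hx1, hx2⟩

/-- a minimal prime of `R/(I₁ ∩ I₂)` containing the images of `I₁` and `I₂` gives a common minimal
prime -/
theorem not_le_of_disjoint (I₁ I₂ : Ideal R) (hdisj : Disjoint I₁.minimalPrimes I₂.minimalPrimes)
    (P : Ideal (R ⧸ (I₁ ⊓ I₂))) (hP : P ∈ minimalPrimes (R ⧸ (I₁ ⊓ I₂))) :
    ¬ I₁.map (Ideal.Quotient.mk (I₁ ⊓ I₂)) ⊔ I₂.map (Ideal.Quotient.mk (I₁ ⊓ I₂)) ≤ P := by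
  intro hle
  have hP' : P.comap (Ideal.Quotient.mk (I₁ ⊓ I₂)) ∈ (I₁ ⊓ I₂).minimalPrimes := by
    rw [Ideal.minimalPrimes_eq_comap]
    exact ⟨P, hP, rfl⟩
  have h1 : I₁ ≤ P.comap (Ideal.Quotient.mk (I₁ ⊓ I₂)) :=
    Ideal.map_le_iff_le_comap.mp (le_sup_left.trans hle)
  have h2 : I₂ ≤ P.comap (Ideal.Quotient.mk (I₁ ⊓ I₂)) :=
    Ideal.map_le_iff_le_comap.mp (le_sup_right.trans hle)
  have hm1 : P.comap (Ideal.Quotient.mk (I₁ ⊓ I₂)) ∈ I₁.minimalPrimes := by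
    refine ⟨⟨hP'.1.1, h1⟩, ?_⟩
    rintro Q ⟨hQp, hQ⟩ hQP
    exact hP'.2 ⟨hQp, inf_le_left.trans hQ⟩ hQP
  have hm2 : P.comap (Ideal.Quotient.mk (I₁ ⊓ I₂)) ∈ I₂.minimalPrimes := by
    refine ⟨⟨hP'.1.1, h2⟩, ?_⟩
    rintro Q ⟨hQp, hQ⟩ hQP
    exact hP'.2 ⟨hQp, inf_le_right.trans hQ⟩ hQP
  exact Set.disjoint_left.mp hdisj hm1 hm2

end Gen

section Concrete

variable (K : Type u) [Field K] (n : ℕ)

end Concrete

section GenDim

theorem hdimgen_abs {R : Type u} [CommRing R] [IsNoetherianRing R] (c : ℕ) (𝔠 I : Ideal R)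
    (h𝔠I : 𝔠 ≤ I)
    (H𝔠 : ∀ (Q : Ideal R) [Q.IsPrime], 𝔠 ≤ Q → ∀ [(Q.map (Ideal.Quotient.mk 𝔠)).IsPrime],
      ((c : ℕ∞) : WithBot ℕ∞) + ringKrullDim (Localization.AtPrime (Q.map (Ideal.Quotient.mk 𝔠))) =
        (Q.height : WithBot ℕ∞))
    (HI : ∀ (Q : Ideal R) [Q.IsPrime], I ≤ Q → ∀ [(Q.map (Ideal.Quotient.mk I)).IsPrime],
      ((c : ℕ∞) : WithBot ℕ∞) + ringKrullDim (Localization.AtPrime (Q.map (Ideal.Quotient.mk I))) =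
        (Q.height : WithBot ℕ∞))
    (Qb : Ideal (R ⧸ 𝔠)) [hQbp : Qb.IsPrime]
    (hle : I.map (Ideal.Quotient.mk 𝔠) ≤ Qb)
    (qI : Ideal ((R ⧸ 𝔠) ⧸ I.map (Ideal.Quotient.mk 𝔠))) [hqIp : qI.IsPrime]
    (hq : qI.comap (Ideal.Quotient.mk (I.map (Ideal.Quotient.mk 𝔠))) = Qb) :
    qI.height = Qb.height := by
  have hQp : (Qb.comap (Ideal.Quotient.mk 𝔠)).IsPrime := Ideal.comap_isPrime _ _
  have h𝔠Q : 𝔠 ≤ Qb.comap (Ideal.Quotient.mk 𝔠) := by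
    intro r hr
    rw [Ideal.mem_comap, Ideal.Quotient.eq_zero_iff_mem.mpr hr]
    exact zero_mem _
  have hIQ : I ≤ Qb.comap (Ideal.Quotient.mk 𝔠) := by
    rw [← Ideal.map_le_iff_le_comap]
    exact hle
  have hQb : (Qb.comap (Ideal.Quotient.mk 𝔠)).map (Ideal.Quotient.mk 𝔠) = Qb :=
    Ideal.map_comap_of_surjective _ Ideal.Quotient.mk_surjective _
  have hMp1 : ((Qb.comap (Ideal.Quotient.mk 𝔠)).map (Ideal.Quotient.mk 𝔠)).IsPrime := by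
    rw [hQb]; exact hQbp
  have hMp2 : ((Qb.comap (Ideal.Quotient.mk 𝔠)).map (Ideal.Quotient.mk I)).IsPrime :=
    Ideal.map_isPrime_of_surjective Ideal.Quotient.mk_surjective (by simpa using hIQ)
  have h1 := H𝔠 (Qb.comap (Ideal.Quotient.mk 𝔠)) h𝔠Q
  have h2 := HI (Qb.comap (Ideal.Quotient.mk 𝔠)) hIQ
  have := height_eq_of_add_eq c 𝔠 I (Qb.comap (Ideal.Quotient.mk 𝔠)) h𝔠I h1 h2 qI
    (by rw [hq, hQb])
  rw [this, hQb]

theorem height_sup_abs {R : Type u} [CommRing R] [IsNoetherianRing R] (c h : ℕ) (𝔠 J m : Ideal R)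
    [hm : m.IsPrime] (h𝔠J : 𝔠 ≤ J) (hJm : J ≤ m)
    [hMp1 : (m.map (Ideal.Quotient.mk 𝔠)).IsPrime] [hMp2 : (m.map (Ideal.Quotient.mk J)).IsPrime]
    (e1 : ((c : ℕ∞) : WithBot ℕ∞) +
      ringKrullDim (Localization.AtPrime (m.map (Ideal.Quotient.mk 𝔠))) = (m.height : WithBot ℕ∞))
    (e2 : ((h : ℕ∞) : WithBot ℕ∞) +
      ringKrullDim (Localization.AtPrime (m.map (Ideal.Quotient.mk J))) = (m.height : WithBot ℕ∞))
    (key : ∀ (q' : Ideal ((R ⧸ 𝔠) ⧸ J.map (Ideal.Quotient.mk 𝔠))) [q'.IsPrime],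
      q'.height + 1 = (q'.comap (Ideal.Quotient.mk (J.map (Ideal.Quotient.mk 𝔠)))).height) :
    h = c + 1 := by
  rw [IsLocalization.AtPrime.ringKrullDim_eq_height (m.map (Ideal.Quotient.mk 𝔠))
    (Localization.AtPrime (m.map (Ideal.Quotient.mk 𝔠)))] at e1
  rw [IsLocalization.AtPrime.ringKrullDim_eq_height (m.map (Ideal.Quotient.mk J))
    (Localization.AtPrime (m.map (Ideal.Quotient.mk J)))] at e2
  have hle : J.map (Ideal.Quotient.mk 𝔠) ≤ m.map (Ideal.Quotient.mk 𝔠) := Ideal.map_mono hJm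
  set q' : Ideal ((R ⧸ 𝔠) ⧸ J.map (Ideal.Quotient.mk 𝔠)) :=
    (m.map (Ideal.Quotient.mk 𝔠)).map (Ideal.Quotient.mk (J.map (Ideal.Quotient.mk 𝔠))) with hq'
  have hq'p : q'.IsPrime :=
    Ideal.map_isPrime_of_surjective Ideal.Quotient.mk_surjective (by simpa using hle)
  have hcomap : q'.comap (Ideal.Quotient.mk (J.map (Ideal.Quotient.mk 𝔠))) =
      m.map (Ideal.Quotient.mk 𝔠) := by
    rw [hq', Ideal.comap_map_of_surjective' _ Ideal.Quotient.mk_surjective, Ideal.mk_ker,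
      sup_eq_left.mpr hle]
  have hk := key q'
  rw [hcomap] at hk
  let e : ((R ⧸ 𝔠) ⧸ J.map (Ideal.Quotient.mk 𝔠)) ≃+* R ⧸ J :=
    DoubleQuot.quotQuotEquivQuotOfLE h𝔠J
  have hqe : q'.map (e : _ →+* R ⧸ J) = m.map (Ideal.Quotient.mk J) := by
    rw [hq', Ideal.map_map, Ideal.map_map]
    congr 1
  have hht : (m.map (Ideal.Quotient.mk J)).height = q'.height := by
    rw [← hqe]
    exact height_map_ringEquiv e q'
  rw [hht] at e2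
  obtain ⟨a, ha⟩ := ENat.ne_top_iff_exists.mp
    (Ideal.height_ne_top (I := m.map (Ideal.Quotient.mk 𝔠)) hMp1.ne_top)
  obtain ⟨b, hb⟩ := ENat.ne_top_iff_exists.mp (Ideal.height_ne_top (I := q') hq'p.ne_top)
  obtain ⟨d, hd⟩ := ENat.ne_top_iff_exists.mp (Ideal.height_ne_top (I := m) hm.ne_top)
  rw [← ha, ← hd] at e1
  rw [← hb, ← hd] at e2
  rw [← ha, ← hb] at hk
  have h3 : (c + a : ℕ) = d := by exact_mod_cast e1
  have h4 : (h + b : ℕ) = d := by exact_mod_cast e2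
  have h5 : (b + 1 : ℕ) = a := by exact_mod_cast hk
  omega

end GenDim

section Concrete

variable (K : Type u) [Field K] (n : ℕ)

theorem main (c : ℕ) (I₁ I₂ : Ideal (MvPolynomial (Fin (n + 1)) K))
    (hI₁ : I₁.IsHomogeneous (GrSyz.stdGr K (Fin (n + 1))))
    (hI₂ : I₂.IsHomogeneous (GrSyz.stdGr K (Fin (n + 1))))
    [hCM1 : LocCoh.IsCohenMacaulayRing (MvPolynomial (Fin (n + 1)) K ⧸ I₁)]
    [hCM2 : LocCoh.IsCohenMacaulayRing (MvPolynomial (Fin (n + 1)) K ⧸ I₂)]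
    (h₁ : I₁.height = c) (h₂ : I₂.height = c)
    (hdisj : Disjoint I₁.minimalPrimes I₂.minimalPrimes)
    [hG : LocCoh.IsGorensteinRing (MvPolynomial (Fin (n + 1)) K ⧸ (I₁ ⊓ I₂))] :
    (I₁ ⊔ I₂).height = c + 1 ∧
      LocCoh.IsGorensteinRing (MvPolynomial (Fin (n + 1)) K ⧸ (I₁ ⊔ I₂)) := by
  have h𝔠hom : (I₁ ⊓ I₂).IsHomogeneous (GrSyz.stdGr K (Fin (n + 1))) := hI₁.inf hI₂
  have hJhom : (I₁ ⊔ I₂).IsHomogeneous (GrSyz.stdGr K (Fin (n + 1))) := hI₁.sup hI₂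
  have h𝔠c : (I₁ ⊓ I₂).height = c := height_inf_eq c I₁ I₂ h₁ h₂
  have hCM𝔠 : LocCoh.IsCohenMacaulayRing (MvPolynomial (Fin (n + 1)) K ⧸ (I₁ ⊓ I₂)) :=
    isCohenMacaulayRing_of_isGorensteinRing _
  have hinf := map_mk_inf_eq_bot I₁ I₂
  have hCM𝔞 : LocCoh.IsCohenMacaulayRing
      ((MvPolynomial (Fin (n + 1)) K ⧸ (I₁ ⊓ I₂)) ⧸ I₁.map (Ideal.Quotient.mk (I₁ ⊓ I₂))) :=
    Groth.Agent.Lib.Helper56.isCohenMacaulayRing_of_ringEquiv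
      (DoubleQuot.quotQuotEquivQuotOfLE (inf_le_left : I₁ ⊓ I₂ ≤ I₁)).symm hCM1
  have hCM𝔟 : LocCoh.IsCohenMacaulayRing
      ((MvPolynomial (Fin (n + 1)) K ⧸ (I₁ ⊓ I₂)) ⧸ I₂.map (Ideal.Quotient.mk (I₁ ⊓ I₂))) :=
    Groth.Agent.Lib.Helper56.isCohenMacaulayRing_of_ringEquiv
      (DoubleQuot.quotQuotEquivQuotOfLE (inf_le_right : I₁ ⊓ I₂ ≤ I₂)).symm hCM2
  have hmin := not_le_of_disjoint I₁ I₂ hdisj
  have hsup : (I₁ ⊔ I₂).map (Ideal.Quotient.mk (I₁ ⊓ I₂)) =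
      I₁.map (Ideal.Quotient.mk (I₁ ⊓ I₂)) ⊔ I₂.map (Ideal.Quotient.mk (I₁ ⊓ I₂)) :=
    Ideal.map_sup _ _ _
  have key := gorRing_quot_sup_aux' (MvPolynomial (Fin (n + 1)) K ⧸ (I₁ ⊓ I₂))
    (I₁.map (Ideal.Quotient.mk (I₁ ⊓ I₂))) (I₂.map (Ideal.Quotient.mk (I₁ ⊓ I₂))) hinf hCM𝔞 hCM𝔟
    (fun Qb _ hle q _ hq => hdimgen_abs c (I₁ ⊓ I₂) I₁ inf_le_left
      (fun Q _ h𝔠Q _ => add_ringKrullDim_localization_eq_height K n c (I₁ ⊓ I₂) h𝔠hom h𝔠c Q h𝔠Q)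
      (fun Q _ hIQ _ => add_ringKrullDim_localization_eq_height K n c I₁ hI₁ h₁ Q hIQ)
      Qb hle q hq)
    (fun Qb _ hle q _ hq => hdimgen_abs c (I₁ ⊓ I₂) I₂ inf_le_right
      (fun Q _ h𝔠Q _ => add_ringKrullDim_localization_eq_height K n c (I₁ ⊓ I₂) h𝔠hom h𝔠c Q h𝔠Q)
      (fun Q _ hIQ _ => add_ringKrullDim_localization_eq_height K n c I₂ hI₂ h₂ Q hIQ)
      Qb hle q hq)
    hmin ((I₁ ⊔ I₂).map (Ideal.Quotient.mk (I₁ ⊓ I₂))) hsup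
  have h𝔠J : I₁ ⊓ I₂ ≤ I₁ ⊔ I₂ := inf_le_left.trans le_sup_left
  have hGbig : LocCoh.IsGorensteinRing ((MvPolynomial (Fin (n + 1)) K ⧸ (I₁ ⊓ I₂)) ⧸
      (I₁ ⊔ I₂).map (Ideal.Quotient.mk (I₁ ⊓ I₂))) :=
    { isGorensteinLocalRing_localization := fun q' _ => (key q').1 }
  have hGJ : LocCoh.IsGorensteinRing (MvPolynomial (Fin (n + 1)) K ⧸ (I₁ ⊔ I₂)) :=
    gorRing_of_ringEquiv (DoubleQuot.quotQuotEquivQuotOfLE h𝔠J)
  refine ⟨?_, hGJ⟩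
  -- the height
  have hmmax : (RingHom.ker (constantCoeff : MvPolynomial (Fin (n + 1)) K →+* K)).IsMaximal :=
    RingHom.ker_isMaximal_of_surjective _ (fun a => ⟨C a, constantCoeff_C _ a⟩)
  have hmprime : (RingHom.ker (constantCoeff : MvPolynomial (Fin (n + 1)) K →+* K)).IsPrime :=
    hmmax.isPrime
  have hI₁ne : I₁ ≠ ⊤ := by
    rintro rfl
    rw [Ideal.height_top] at h₁
    exact ENat.top_ne_natCast c h₁
  have hI₂ne : I₂ ≠ ⊤ := by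
    rintro rfl
    rw [Ideal.height_top] at h₂
    exact ENat.top_ne_natCast c h₂
  have hJm : I₁ ⊔ I₂ ≤ RingHom.ker (constantCoeff : MvPolynomial (Fin (n + 1)) K →+* K) :=
    sup_le (le_ker_constantCoeff I₁ hI₁ hI₁ne) (le_ker_constantCoeff I₂ hI₂ hI₂ne)
  have hJne : I₁ ⊔ I₂ ≠ ⊤ := fun h => hmprime.ne_top (top_le_iff.mp (h ▸ hJm))
  obtain ⟨h, hh⟩ := ENat.ne_top_iff_exists.mp (Ideal.height_ne_top hJne)
  have hCMJ : LocCoh.IsCohenMacaulayRing (MvPolynomial (Fin (n + 1)) K ⧸ (I₁ ⊔ I₂)) :=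
    isCohenMacaulayRing_of_isGorensteinRing _
  have hMp1 : ((RingHom.ker (constantCoeff : MvPolynomial (Fin (n + 1)) K →+* K)).map
      (Ideal.Quotient.mk (I₁ ⊓ I₂))).IsPrime :=
    Ideal.map_isPrime_of_surjective Ideal.Quotient.mk_surjective (by simpa using h𝔠J.trans hJm)
  have hMp2 : ((RingHom.ker (constantCoeff : MvPolynomial (Fin (n + 1)) K →+* K)).map
      (Ideal.Quotient.mk (I₁ ⊔ I₂))).IsPrime :=
    Ideal.map_isPrime_of_surjective Ideal.Quotient.mk_surjective (by simpa using hJm)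
  have e1 := add_ringKrullDim_localization_eq_height K n c (I₁ ⊓ I₂) h𝔠hom h𝔠c
    (RingHom.ker (constantCoeff : MvPolynomial (Fin (n + 1)) K →+* K)) (h𝔠J.trans hJm)
  have e2 := add_ringKrullDim_localization_eq_height K n h (I₁ ⊔ I₂) hJhom hh.symm
    (RingHom.ker (constantCoeff : MvPolynomial (Fin (n + 1)) K →+* K)) hJm
  have := height_sup_abs c h (I₁ ⊓ I₂) (I₁ ⊔ I₂)
    (RingHom.ker (constantCoeff : MvPolynomial (Fin (n + 1)) K →+* K)) h𝔠J hJm e1 e2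
    (fun q' _ => (key q').2)
  rw [← hh, this]
  rfl

end Concrete

end Groth.Agent.Lib.Helper24.GeoLink
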