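import Mathlib
import Groth.Agent.Lib.Helper52.LaurentCM
import Groth.Agent.Lib.Helper85.GorRing

/-!
# Group algebras `A[ι]` of a free abelian group of finite rank are Gorenstein over a Gorenstein ring
(helper24; Gorenstein analogue of `Helper52.LaurentCM`)
-/

set_option linter.unusedSectionVars false

namespace Groth.Agent.Lib.Helper24.GorGrA

open AddMonoidAlgebra LocCoh
open Groth.Agent.Lib.Helper85.GorRing

universe u

theorem gorRing_laurent (A : Type u) [CommRing A] [IsGorensteinRing A] :
    IsGorensteinRing (LaurentPolynomial A) := by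
  haveI := gorRing_polynomial A
  exact gorRing_localization (Submonoid.powers (Polynomial.X : Polynomial A)) (LaurentPolynomial A)

theorem gorRing_fin (n : ℕ) : ∀ (A : Type u) [CommRing A] [IsGorensteinRing A],
    IsGorensteinRing A[Fin n → ℤ] := by
  induction n with
  | zero =>
    intro A _ h
    exact gorRing_of_ringEquiv (AddMonoidAlgebra.uniqueRingEquiv (R := A) (M := Fin 0 → ℤ)).symm
  | succ n ih =>
    intro A _ h
    haveI := ih A
    haveI h1 : IsGorensteinRing (LaurentPolynomial A[Fin n → ℤ]) := gorRing_laurent _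
    let e1 : A[Fin (n + 1) → ℤ] ≃+* A[ℤ × (Fin n → ℤ)] :=
      AddMonoidAlgebra.mapDomainRingEquiv A (Fin.consLinearEquiv ℤ (fun _ : Fin (n + 1) => ℤ)).symm.toAddEquiv
    let e2 : A[ℤ × (Fin n → ℤ)] ≃+* A[Fin n → ℤ][ℤ] := AddMonoidAlgebra.curryRingEquiv
    exact gorRing_of_ringEquiv (R := A[Fin n → ℤ][ℤ]) (e1.trans e2).symm

theorem gorRing_free {ι : Type} [AddCommGroup ι] [Module.Free ℤ ι] [Module.Finite ℤ ι]
    (A : Type u) [CommRing A] [IsGorensteinRing A] : IsGorensteinRing A[ι] := by
  haveI h1 := gorRing_fin (Module.finrank ℤ ι) A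
  let e : ι ≃+ (Fin (Module.finrank ℤ ι) → ℤ) := (Module.finBasis ℤ ι).equivFun.toAddEquiv
  exact gorRing_of_ringEquiv (AddMonoidAlgebra.mapDomainRingEquiv A e).symm

theorem gorRing_field {ι : Type} [AddCommGroup ι] [Module.Free ℤ ι] [Module.Finite ℤ ι]
    (K : Type u) [Field K] : IsGorensteinRing K[ι] := by
  haveI : IsGorensteinLocalRing K := gor_of_isField K (Field.toIsField K)
  haveI : IsGorensteinRing K := gorRing_of_gorLocal K
  exact gorRing_free K

end Groth.Agent.Lib.Helper24.GorGrA
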