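import Mathlib
import Groth.Agent.Lib.Helper24.GorGrA
import Groth.Agent.Lib.Helper52.GrDepthMain
import Groth.Agent.Lib.Helper85.GorRing
import Groth.Agent.Lib.Helper85.GorFlat
import Groth.Agent.Lib.Helper24.ExtReesJ
import Groth.Agent.Lib.Helper8.GrStarLocal

/-!
# Gorenstein property of a graded ring at `p` and at `p*` (helper24)

Gorenstein analogue of helper52's coaction trick: `R_p` is Gorenstein iff `R_{p*}` is.
-/

set_option linter.unusedSectionVars false
set_option linter.style.haveILetI false

namespace Groth.Agent.Lib.Helper24.GorGrB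

open AddMonoidAlgebra LocCoh IsLocalRing TensorProduct
open Groth.Agent.Lib.Helper52.GrCoact Groth.Agent.Lib.Helper52.GrQuot
  Groth.Agent.Lib.Helper52.LaurentCM Groth.Agent.Lib.Helper52.GrDepthMain
  Groth.Agent.Lib.Helper85.GorRing

universe u

section Generic
variable {R T : Type u} [CommRing R] [CommRing T] [Algebra R T] [IsNoetherianRing R]
  [IsNoetherianRing T] [Module.Flat R T] (p : Ideal R) [p.IsPrime] (P : Ideal T) [P.IsPrime]
  [P.LiesOver p]

/-- Gorenstein along a flat ring map, localized, with an abstract model of the fibre. -/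
theorem gor_localization_iff (F : Type u) [CommRing F] [IsLocalRing F] [IsNoetherianRing F]
    (π : Localization.AtPrime P →+* F) (hπ : Function.Surjective π)
    (hker : RingHom.ker π = p.map (algebraMap R (Localization.AtPrime P))) :
    IsGorensteinLocalRing (Localization.AtPrime P) ↔
      IsGorensteinLocalRing (Localization.AtPrime p) ∧ IsGorensteinLocalRing F := by
  let _ := Localization.AtPrime.algebraOfLiesOver p P
  have hloc : IsLocalHom (algebraMap (Localization.AtPrime p) (Localization.AtPrime P)) :=
    Localization.isLocalHom_localRingHom p P (algebraMap R T) Ideal.LiesOver.over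
  have hI : (maximalIdeal (Localization.AtPrime p)).map
      (algebraMap (Localization.AtPrime p) (Localization.AtPrime P)) =
      p.map (algebraMap R (Localization.AtPrime P)) := by
    rw [← Localization.AtPrime.map_eq_maximalIdeal, Ideal.map_map,
      ← IsScalarTower.algebraMap_eq]
  exact gor_iff_fibre (Localization.AtPrime p) (Localization.AtPrime P) F π hπ (by rw [hker, hI])

/-- If `P = pT` the fibre is a field. -/
theorem gor_localization_iff_of_eq_map (hP : P = p.map (algebraMap R T)) :
    IsGorensteinLocalRing (Localization.AtPrime P) ↔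
      IsGorensteinLocalRing (Localization.AtPrime p) := by
  have hI : p.map (algebraMap R (Localization.AtPrime P)) =
      maximalIdeal (Localization.AtPrime P) := by
    rw [← Localization.AtPrime.map_eq_maximalIdeal (I := P),
      IsScalarTower.algebraMap_eq R T (Localization.AtPrime P), ← Ideal.map_map, ← hP]
  have h := gor_localization_iff p P (ResidueField (Localization.AtPrime P))
    (residue _) (residue_surjective) (by rw [ker_residue, hI])
  rw [h]
  constructor
  · exact fun h => h.1
  · intro h1
    exact ⟨h1, gor_of_isField _ (Field.toIsField _)⟩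

end Generic

section CoreField
open Groth.Agent.Lib.Helper52.GrCoreCM
variable {ι : Type} [AddCommGroup ι] [DecidableEq ι] [Module.Free ℤ ι] [Module.Finite ℤ ι]
  {D : Type u} [CommRing D] [IsDomain D] [IsNoetherianRing D]
  (𝒟 : ι → AddSubgroup D) [GradedRing 𝒟] (p : Ideal D) [p.IsPrime]
  (hp : ∀ x : D, SetLike.IsHomogeneousElem 𝒟 x → x ∈ p → x = 0)

include hp in
/-- For a graded Noetherian domain `D` and a prime `p` containing no nonzero homogeneous element,
`D[ι]_{pD[ι]}` is a Gorenstein local ring (it is a localization of `Frac(D)[ι]`). -/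
theorem isGorensteinLocalRing_F :
    IsGorensteinLocalRing
      (Localization.AtPrime (Ideal.map (algebraMap D (AddMonoidAlgebra D ι)) p)) := by
  let _ := (Psi 𝒟 p hp).toAlgebra
  haveI hloc := isLocalization_Psi 𝒟 p hp
  haveI : IsGorensteinRing (AddMonoidAlgebra (FractionRing D) ι) :=
    Groth.Agent.Lib.Helper24.GorGrA.gorRing_field (FractionRing D)
  exact gorRing_atPrime (AddMonoidAlgebra (FractionRing D) ι)
    ((maximalIdeal (Localization.AtPrime (Ideal.map (algebraMap D (AddMonoidAlgebra D ι)) p))).comap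
      (Psi 𝒟 p hp)) _

end CoreField

section Graded
open Groth.Agent.Lib.Helper52.GrDepthQuot

theorem mapRingHom_surjective {ι : Type} [AddCommGroup ι] {A A' : Type u} [CommRing A] [CommRing A']
    (f : A →+* A') (hf : Function.Surjective f) : Function.Surjective (mapRingHom ι f) := by
  intro y
  induction y using AddMonoidAlgebra.induction_linear with
  | zero => exact ⟨0, map_zero _⟩
  | add a b ha hb =>
    obtain ⟨x, rfl⟩ := ha
    obtain ⟨y, rfl⟩ := hb
    exact ⟨x + y, map_add _ _ _⟩
  | single g a' =>
    obtain ⟨a, rfl⟩ := hf a'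
    exact ⟨single g a, mapRingHom_single _ _ _⟩

variable {ι : Type} [AddCommGroup ι] [DecidableEq ι] [Module.Free ℤ ι] [Module.Finite ℤ ι]
  {R : Type u} [CommRing R] [IsNoetherianRing R] (𝒜 : ι → AddSubgroup R) [GradedRing 𝒜]
  (p : Ideal R) [p.IsPrime] [hq : (Ideal.homogeneousCore 𝒜 p).toIdeal.IsPrime]

local notation "T" => AddMonoidAlgebra R ι
local notation "q" => HomogeneousIdeal.toIdeal (Ideal.homogeneousCore 𝒜 p)
local notation "P" => Ideal.map (algebraMap R T) p
local notation "B" => Localization.AtPrime (Ideal.map (algebraMap R T) p)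
local notation "D" => R ⧸ HomogeneousIdeal.toIdeal (Ideal.homogeneousCore 𝒜 p)
local notation "pbar" => Ideal.map (Ideal.Quotient.mk (HomogeneousIdeal.toIdeal (Ideal.homogeneousCore 𝒜 p))) p

theorem comap_mapRingHom_map (hqp : q ≤ p) :
    (Ideal.map (algebraMap D (AddMonoidAlgebra D ι)) pbar).comap
      (mapRingHom ι (Ideal.Quotient.mk q)) = P := by
  ext x
  rw [Ideal.mem_comap, mem_map_algebraMap_iff, mem_map_algebraMap_iff]
  constructor
  · intro h g
    have := h g
    rw [coeff_mapRingHom] at this
    exact (Ideal.mem_quotient_iff_mem hqp).mp this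
  · intro h g
    rw [coeff_mapRingHom]
    exact Ideal.mem_map_of_mem _ (h g)

/-- **`R_p` is Gorenstein iff `R_{p*}` is Gorenstein** (graded Noetherian ring, `ℤ^r`-grading). -/
theorem gor_atPrime_iff_core :
    IsGorensteinLocalRing (Localization.AtPrime p) ↔
      IsGorensteinLocalRing (Localization.AtPrime q) := by
  have hqp : q ≤ p := Ideal.toIdeal_homogeneousCore_le 𝒜 p
  haveI hpr : (pbar).IsPrime := map_mk_isPrime p (q) hqp
  letI := quotGradedRing 𝒜 (Ideal.homogeneousCore 𝒜 p).isHomogeneous
  haveI hdom : IsDomain D := Ideal.Quotient.isDomain (q)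
  have h1 : IsGorensteinLocalRing B ↔ IsGorensteinLocalRing (Localization.AtPrime p) :=
    gor_localization_iff_of_eq_map p (P) rfl
  have hF : IsGorensteinLocalRing
      (Localization.AtPrime (Ideal.map (algebraMap D (AddMonoidAlgebra D ι)) pbar)) :=
    isGorensteinLocalRing_F (quotGrading 𝒜 (q)) (pbar) (eq_zero_of_homogeneous_of_mem_map 𝒜 p)
  have hπ₀ : Function.Surjective (mapRingHom ι (Ideal.Quotient.mk (q))) :=
    mapRingHom_surjective _ Ideal.Quotient.mk_surjective
  obtain ⟨φ, hφ, hker, -⟩ := exists_loc_surjective (mapRingHom ι (Ideal.Quotient.mk (q))) hπ₀ (P)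
    (Ideal.map (algebraMap D (AddMonoidAlgebra D ι)) pbar) (comap_mapRingHom_map 𝒜 p hqp)
  have hker' : RingHom.ker φ = (qco 𝒜 p).map (algebraMap (Rco 𝒜) B) := by
    rw [hker, map_qco_eq, ← map_algebraMap_eq_ker, Ideal.map_map, ← IsScalarTower.algebraMap_eq]
  have h2 := gor_localization_iff (R := Rco 𝒜) (qco 𝒜 p) (P) _ φ hφ hker'
  rw [← h1, h2]
  exact ⟨fun h => h.1, fun h => ⟨h, hF⟩⟩

end Graded

section StarLocal

variable {R : Type u} [CommRing R] [IsNoetherianRing R] (𝒜 : ℤ → AddSubgroup R) [GradedRing 𝒜]

/-- A Noetherian `ℤ`-graded *local ring `(R, m)` with `R_m` Gorenstein is a Gorenstein ring. -/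
theorem gorRing_of_starLocal (m : HomogeneousIdeal 𝒜) (hm : GrLC.IsStarLocal 𝒜 m)
    [m.toIdeal.IsPrime] [IsGorensteinLocalRing (Localization.AtPrime m.toIdeal)] :
    IsGorensteinRing R := by
  refine { isGorensteinLocalRing_localization := fun p hp => ?_ }
  haveI hq : (Ideal.homogeneousCore 𝒜 p).toIdeal.IsPrime := hp.homogeneousCore
  rw [gor_atPrime_iff_core 𝒜 p]
  have hle : Ideal.homogeneousCore 𝒜 p ≤ m :=
    Groth.Agent.Lib.Helper8.GrStarLocal.le_of_isStarLocal 𝒜 m hm _ hq.ne_top
  exact Groth.Agent.Lib.Helper24.ExtRees.gor_atPrime_of_le R m.toIdeal _ hle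

end StarLocal

end Groth.Agent.Lib.Helper24.GorGrB
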