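import Mathlib
import Groth.Agent.Lib.Helper8.GrVer

/-!
# Veronese submodules of injective graded modules (helper24)

`baer_ver`: let `Y` be a graded module over the graded ring `R`, injective as an `R`-module, and
let `R' → R` be a Veronese-type subring (`R'_j ≅ R_{e j}`).  If `Y` satisfies the nondegeneracy
condition "`verProj (s • u) = 0` for all `s` implies `u = 0`", then the Veronese submodule
`Y' = ⊕_j Y_{e j}` is an injective `R'`-module.
-/

set_option autoImplicit false
set_option linter.unusedSectionVars false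

namespace Groth.Agent.Lib.Helper24.GorGrF

open DirectSum
open Groth.Agent.Lib.Helper30 Groth.Agent.Lib.Helper8.GrVer

universe u

section Add

variable {ι κ : Type} [DecidableEq ι] (e : κ → ι)
variable {Y : Type u} [AddCommGroup Y] (𝒴 : ι → AddSubgroup Y) [DirectSum.Decomposition 𝒴]

theorem verProj_of_mem_of_notMem {i : ι} {y : Y} (hy : y ∈ 𝒴 i) (hi : i ∉ Set.range e) :
    verProj e 𝒴 y = 0 := by
  classical
  apply ext_decompose 𝒴
  intro j
  rw [decompose_verProj, decompose_zero, DirectSum.zero_apply, ZeroMemClass.coe_zero]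
  split_ifs with h
  · have hne : i ≠ j := fun h' => hi (h' ▸ h)
    rw [decompose_of_mem_ne 𝒴 hy hne]
  · rfl

end Add

section Ring

variable {ι κ : Type} [AddCommGroup ι] [DecidableEq ι] [AddCommGroup κ] [DecidableEq κ]
  (e : κ →+ ι)
variable {R : Type u} [CommRing R] (𝒜 : ι → AddSubgroup R) [GradedRing 𝒜]
variable {Y : Type u} [AddCommGroup Y] [Module R Y] (𝒴 : ι → AddSubgroup Y)
  [DirectSum.Decomposition 𝒴] [SetLike.GradedSMul 𝒜 𝒴]

/-- `verProj (t • y) = verProj t • y` for `y` in the Veronese subgroup. -/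
theorem verProj_smul_of_mem_verSub (t : R) {y : Y} (hy : y ∈ verSub e 𝒴) :
    verProj e 𝒴 (t • y) = verProj e 𝒜 t • y := by
  classical
  revert t
  refine verSub_induction e 𝒴
    (P := fun y => ∀ t : R, verProj e 𝒴 (t • y) = verProj e 𝒜 t • y) ?_ ?_ ?_ hy
  · intro t
    simp
  · intro x y hx hy t
    rw [smul_add, map_add, hx, hy, smul_add]
  · intro k y hy t
    induction t using DirectSum.Decomposition.inductionOn 𝒜 with
    | zero => simp
    | @homogeneous i s =>
      have hsy : (s : R) • y ∈ 𝒴 (i + e k) := smul_mem_piece 𝒜 𝒴 s.2 hy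
      by_cases hi : i ∈ Set.range e
      · obtain ⟨j, rfl⟩ := hi
        have hsy' : (s : R) • y ∈ 𝒴 (e (j + k)) := by
          rw [map_add]
          exact hsy
        rw [verProj_of_mem e 𝒜 s.2, verProj_of_mem e 𝒴 hsy']
      · have hi' : i + e k ∉ Set.range e := by
          rintro ⟨j, hj⟩
          apply hi
          exact ⟨j - k, by rw [map_sub, hj]; abel⟩
        rw [verProj_of_mem_of_notMem e 𝒜 s.2 hi, verProj_of_mem_of_notMem e 𝒴 hsy hi', zero_smul]
    | add s s' hs hs' =>
      rw [add_smul, map_add, hs, hs', map_add, add_smul]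

variable {R' : Type u} [CommRing R'] (𝒜' : κ → AddSubgroup R') [GradedRing 𝒜'] (φ : R' →+* R)
  (hdeg : ∀ j : κ, (𝒜' j).map (φ : R' →+ R) = 𝒜 (e j)) (hφ : Function.Injective φ)
variable {Y' : Type u} [AddCommGroup Y'] [Module R' Y'] (J : Y' →ₛₗ[φ] Y)
  (hJ : Function.Injective J) (hJmem : ∀ x, J x ∈ verSub e 𝒴)
  (hJsurj : ∀ y ∈ verSub e 𝒴, ∃ x, J x = y)

include hdeg hφ hJ hJmem hJsurj in
/-- The Veronese submodule of an injective graded module satisfying the nondegeneracy condition
is injective over the Veronese subring. -/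
theorem baer_ver (hB : Module.Baer R Y)
    (hND : ∀ u : Y, (∀ s : R, verProj e 𝒴 (s • u) = 0) → u = 0) : Module.Baer R' Y' := by
  classical
  intro 𝔞 f
  let π : (𝔞 →₀ R) →ₗ[R] R := Finsupp.linearCombination R (fun w : 𝔞 => φ (w : R'))
  let ψ : (𝔞 →₀ R) →ₗ[R] Y := Finsupp.linearCombination R (fun w : 𝔞 => J (f w))
  have hker : LinearMap.ker π ≤ LinearMap.ker ψ := by
    intro s hs
    rw [LinearMap.mem_ker] at hs ⊢
    apply hND
    intro t
    choose c' hc' using fun w : 𝔞 => exists_φ_eq_verProj e 𝒜 𝒜' φ hdeg (t * s w)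
    have h1 : verProj e 𝒴 (t • ψ s) = J (f (∑ w ∈ s.support, c' w • w)) := by
      change verProj e 𝒴 (t • Finsupp.linearCombination R (fun w : 𝔞 => J (f w)) s) = _
      rw [Finsupp.linearCombination_apply, Finsupp.sum, Finset.smul_sum, map_sum, map_sum,
        map_sum]
      apply Finset.sum_congr rfl
      intro w _
      rw [smul_smul, verProj_smul_of_mem_verSub e 𝒜 𝒴 _ (hJmem _), ← hc' w, map_smul,
        map_smulₛₗ]
    have h2 : (∑ w ∈ s.support, c' w • w : 𝔞) = 0 := by
      apply Subtype.ext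
      apply hφ
      have h3 : verProj e 𝒜 (t * π s) = 0 := by rw [hs, mul_zero, map_zero]
      rw [ZeroMemClass.coe_zero, map_zero, ← h3]
      change _ = verProj e 𝒜 (t * Finsupp.linearCombination R (fun w : 𝔞 => φ (w : R')) s)
      rw [Finsupp.linearCombination_apply, Finsupp.sum, Finset.mul_sum, map_sum,
        AddSubmonoidClass.coe_finsetSum, map_sum]
      apply Finset.sum_congr rfl
      intro w _
      rw [smul_eq_mul, ← mul_assoc, mul_comm _ (φ (w : R')), ← smul_eq_mul,
        verProj_smul_φ e 𝒜 𝒜 𝒜' φ hdeg (w : R') (t * s w), ← hc' w, smul_eq_mul,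
        Submodule.coe_smul, smul_eq_mul, map_mul, mul_comm]
    rw [h1, h2, map_zero, map_zero]
  let i : ((𝔞 →₀ R) ⧸ LinearMap.ker π) →ₗ[R] R := (LinearMap.ker π).liftQ π le_rfl
  have hi : Function.Injective i := by
    rw [← LinearMap.ker_eq_bot]
    exact Submodule.ker_liftQ_eq_bot _ _ _ le_rfl
  let g₀ : ((𝔞 →₀ R) ⧸ LinearMap.ker π) →ₗ[R] Y := (LinearMap.ker π).liftQ ψ hker
  obtain ⟨g, hg⟩ := hB.extension_property i hi g₀
  obtain ⟨h', hh'⟩ := hJsurj (verProj e 𝒴 (g 1)) (verProj_mem e 𝒴 _)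
  refine ⟨LinearMap.toSpanSingleton R' Y' h', ?_⟩
  intro x hx
  apply hJ
  have h4 : g (φ x) = J (f ⟨x, hx⟩) := by
    have h5 : i (Submodule.Quotient.mk (Finsupp.single (⟨x, hx⟩ : 𝔞) (1 : R))) = φ x := by
      change π (Finsupp.single (⟨x, hx⟩ : 𝔞) (1 : R)) = φ x
      change Finsupp.linearCombination R (fun w : 𝔞 => φ (w : R')) _ = _
      rw [Finsupp.linearCombination_single, one_smul]
    have h6 : g₀ (Submodule.Quotient.mk (Finsupp.single (⟨x, hx⟩ : 𝔞) (1 : R))) =
        J (f ⟨x, hx⟩) := by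
      change ψ (Finsupp.single (⟨x, hx⟩ : 𝔞) (1 : R)) = _
      change Finsupp.linearCombination R (fun w : 𝔞 => J (f w)) _ = _
      rw [Finsupp.linearCombination_single, one_smul]
    rw [← h5, ← h6, ← hg]
    rfl
  have h7 : g (φ x) = φ x • g 1 := by
    rw [← map_smul, smul_eq_mul, mul_one]
  rw [LinearMap.toSpanSingleton_apply, map_smulₛₗ, hh', ← verProj_smul_φ e 𝒜 𝒴 𝒜' φ hdeg, ← h7,
    h4]
  exact hJmem _

end Ring

end Groth.Agent.Lib.Helper24.GorGrF
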