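import Mathlib
import Groth.Agent.Lib.Helper30.GradedEss

/-!
# Top-degree nondegeneracy for graded torsion modules with cyclic socle (helper24)

Let `R` be a non-negatively `ℤ`-graded ring whose irrelevant ideal `m = R_+` is maximal, and `H`
a graded `R`-module which is `m`-power torsion, vanishes in degrees `> a`, is nonzero in degree
`a`, and whose socle is cyclic.  Then for every nonzero homogeneous `h ∈ H_d` there is
`s ∈ R_{a-d}` with `s • h ≠ 0`.
-/

set_option autoImplicit false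
set_option linter.unusedSectionVars false

namespace Groth.Agent.Lib.Helper24.GorGrG

open DirectSum
open Groth.Agent.Lib.Helper30

universe u

variable {R : Type u} [CommRing R] (𝒜 : ℤ → AddSubgroup R) [GradedRing 𝒜]
  (hpos : ∀ n : ℤ, n < 0 → 𝒜 n = ⊥) (m : HomogeneousIdeal 𝒜)
  (hmsp : m.toIdeal = Ideal.span (⋃ n ∈ Set.Ioi (0 : ℤ), (𝒜 n : Set R)))
variable {H : Type u} [AddCommGroup H] [Module R H] (ℋ : ℤ → AddSubgroup H)
  [DirectSum.Decomposition ℋ] [SetLike.GradedSMul 𝒜 ℋ]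

include hmsp in
/-- To check that `m` kills an element it suffices to test on homogeneous elements of positive
degree. -/
theorem smul_eq_zero_of_homogeneous {x : H}
    (hx : ∀ c : ℤ, 0 < c → ∀ t ∈ 𝒜 c, t • x = 0) : ∀ r ∈ m.toIdeal, r • x = 0 := by
  intro r hr
  rw [hmsp] at hr
  induction hr using Submodule.span_induction with
  | mem t ht =>
    simp only [Set.mem_iUnion, Set.mem_Ioi, SetLike.mem_coe, exists_prop] at ht
    obtain ⟨c, hc, htc⟩ := ht
    exact hx c hc t htc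
  | zero => exact zero_smul _ _
  | add r r' _ _ h h' => rw [add_smul, h, h', add_zero]
  | smul r' r _ h => rw [smul_eq_mul, mul_smul, h, smul_zero]

variable (a : ℤ) (hatop : ∀ t, a < t → ℋ t = ⊥)

include hmsp hatop in
theorem top_mem_socle {y : H} (hy : y ∈ ℋ a) : ∀ r ∈ m.toIdeal, r • y = 0 := by
  apply smul_eq_zero_of_homogeneous 𝒜 m hmsp
  intro c hc t ht
  have h1 : t • y ∈ ℋ (c + a) := smul_mem_piece 𝒜 ℋ ht hy
  rw [hatop (c + a) (by omega), AddSubgroup.mem_bot] at h1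
  exact h1

variable [hmax : m.toIdeal.IsMaximal] (ha : ℋ a ≠ ⊥)
  (h₀ : H) (hsoc : ∀ r ∈ m.toIdeal, r • h₀ = 0)
  (hcyc : ∀ x : H, (∀ r ∈ m.toIdeal, r • x = 0) → ∃ r : R, x = r • h₀)

include hpos hmsp hatop ha hsoc hcyc in
/-- A nonzero homogeneous socle element lives in the top degree. -/
theorem deg_eq_of_mem_socle {j : ℤ} {x : H} (hx : x ∈ ℋ j) (hx0 : x ≠ 0)
    (hxs : ∀ r ∈ m.toIdeal, r • x = 0) : j = a := by
  classical
  obtain ⟨y, hy, hy0⟩ : ∃ y ∈ ℋ a, y ≠ 0 := by
    by_contra hcon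
    push Not at hcon
    apply ha
    rw [eq_bot_iff]
    intro y hy
    rw [AddSubgroup.mem_bot]
    exact hcon y hy
  obtain ⟨r₂, hr₂⟩ := hcyc y (top_mem_socle 𝒜 m hmsp ℋ a hatop hy)
  obtain ⟨r₁, hr₁⟩ := hcyc x hxs
  have hr₂m : r₂ ∉ m.toIdeal := by
    intro h
    apply hy0
    rw [hr₂, hsoc r₂ h]
  obtain ⟨r₃, i, hi, h1⟩ := hmax.exists_inv hr₂m
  have h2 : h₀ = r₃ • y := by
    have : (r₃ * r₂ + i) • h₀ = h₀ := by rw [h1, one_smul]
    rw [add_smul, hsoc i hi, add_zero, mul_smul, ← hr₂] at this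
    exact this.symm
  have h3 : x = (r₁ * r₃) • y := by rw [mul_smul, ← h2, hr₁]
  have h4 : x = (decompose 𝒜 (r₁ * r₃) (j - a) : R) • y := by
    have h5 := decompose_smul_of_mem_right 𝒜 ℋ hy (r₁ * r₃) (j - a)
    rw [← h3, sub_add_cancel, decompose_of_mem_same ℋ hx] at h5
    exact h5
  by_contra hne
  apply hx0
  rcases lt_or_gt_of_ne hne with hlt | hgt
  · have h6 : ∀ z ∈ 𝒜 (j - a), z = 0 := by
      intro z hz
      rw [hpos (j - a) (by omega), AddSubgroup.mem_bot] at hz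
      exact hz
    rw [h4, h6 _ (decompose 𝒜 (r₁ * r₃) (j - a)).2, zero_smul]
  · have h6 := hx
    rw [hatop j hgt, AddSubgroup.mem_bot] at h6
    exact h6

variable (htors : ∀ h : H, ∃ N : ℕ, ∀ r ∈ m.toIdeal ^ N, r • h = 0)

include hpos hmsp hatop ha hsoc hcyc htors in
/-- **Top-degree nondegeneracy.** -/
theorem exists_smul_ne_zero {d : ℤ} {h : H} (hh : h ∈ ℋ d) (hne : h ≠ 0) :
    ∃ s ∈ 𝒜 (a - d), s • h ≠ 0 := by
  classical
  -- a socle element in `R h`
  obtain ⟨r, hr0, hrs⟩ : ∃ r : R, r • h ≠ 0 ∧ ∀ t ∈ m.toIdeal, t • (r • h) = 0 := by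
    have hex := htors h
    have hfind := Nat.find_spec hex
    have hmin := fun k => Nat.find_min hex (m := k)
    cases hN : Nat.find hex with
    | zero =>
      exfalso
      rw [hN, pow_zero, Ideal.one_eq_top] at hfind
      apply hne
      have := hfind 1 Submodule.mem_top
      rwa [one_smul] at this
    | succ N' =>
      have h1 := hmin N' (by omega)
      push Not at h1
      obtain ⟨r, hr, hr0⟩ := h1
      refine ⟨r, hr0, fun t ht => ?_⟩
      rw [← mul_smul]
      apply hfind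
      rw [hN, pow_succ']
      exact Ideal.mul_mem_mul ht hr
  -- a nonzero homogeneous component
  obtain ⟨e, he0⟩ : ∃ e : ℤ, (decompose 𝒜 r e : R) • h ≠ 0 := by
    by_contra hcon
    push Not at hcon
    apply hr0
    rw [← sum_support_decompose 𝒜 r, Finset.sum_smul]
    exact Finset.sum_eq_zero fun e _ => hcon e
  have hmem : (decompose 𝒜 r e : R) • h ∈ ℋ (e + d) :=
    smul_mem_piece 𝒜 ℋ (decompose 𝒜 r e).2 hh
  have hsocle : ∀ t ∈ m.toIdeal, t • ((decompose 𝒜 r e : R) • h) = 0 := by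
    apply smul_eq_zero_of_homogeneous 𝒜 m hmsp
    intro c hc t ht
    have htm : t ∈ m.toIdeal := by
      rw [hmsp]
      apply Ideal.subset_span
      simp only [Set.mem_iUnion, Set.mem_Ioi, SetLike.mem_coe, exists_prop]
      exact ⟨c, hc, ht⟩
    have h1 := decompose_smul_of_mem 𝒜 ℋ ht (r • h) (e + d)
    rw [decompose_smul_of_mem_right 𝒜 ℋ hh r e, hrs t htm, decompose_zero, DirectSum.zero_apply,
      ZeroMemClass.coe_zero] at h1
    exact h1.symm
  have hdeg := deg_eq_of_mem_socle 𝒜 hpos m hmsp ℋ a hatop ha h₀ hsoc hcyc hmem he0 hsocle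
  have hed : e = a - d := by omega
  rw [hed] at he0
  exact ⟨_, (decompose 𝒜 r (a - d)).2, he0⟩

end Groth.Agent.Lib.Helper24.GorGrG
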