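import Mathlib
import Groth.Agent.Lib.Helper24.GorGrG
import Groth.Agent.Lib.Helper8.GrStarLocal

/-!
# Standard graded algebras over a field: pieces of dimension `≥ 2`, and the perfect pairing
on the top local cohomology (helper24)
-/

set_option autoImplicit false
set_option linter.unusedSectionVars false

namespace Groth.Agent.Lib.Helper24.GorGrH

open DirectSum
open Groth.Agent.Lib.Helper30 Groth.Agent.Lib.Helper8.GrStarLocal

universe u

section Cyc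

variable {R : Type u} [CommRing R] (𝒜 : ℤ → AddSubgroup R) [GradedRing 𝒜]

/-- The piece `R_i` is spanned over `R_0` by one element (possibly zero). -/
def Cyc (i : ℤ) : Prop := ∃ w ∈ 𝒜 i, ∀ z ∈ 𝒜 i, ∃ c ∈ 𝒜 0, z = c * w

variable (h0 : IsField (GrLC.deg0 𝒜))

include h0 in
theorem exists_inv {c : R} (hc : c ∈ 𝒜 0) (hc0 : c ≠ 0) : ∃ d ∈ 𝒜 0, c * d = 1 := by
  have hne : (⟨c, hc⟩ : GrLC.deg0 𝒜) ≠ 0 := fun h => hc0 (congrArg Subtype.val h)
  obtain ⟨d, hd⟩ := h0.mul_inv_cancel hne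
  exact ⟨d.1, d.2, congrArg Subtype.val hd⟩

include h0 in
/-- **Kernel lemma.** If `R_i` is not cyclic over `R_0` and multiplication `R_i → M`, `r ↦ r • y`
takes values in a cyclic `R_0`-module, then some nonzero `r ∈ R_i` kills `y`. -/
theorem exists_ne_zero_smul_eq_zero {i : ℤ} (hi : ¬ Cyc 𝒜 i) {M : Type*} [AddCommGroup M]
    [Module R M] (y w : M) (hyw : ∀ r ∈ 𝒜 i, ∃ c ∈ 𝒜 0, r • y = c • w) :
    ∃ r ∈ 𝒜 i, r ≠ 0 ∧ r • y = 0 := by
  by_cases hall : ∀ r ∈ 𝒜 i, r • y = 0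
  · by_contra hcon
    push Not at hcon
    apply hi
    refine ⟨0, zero_mem _, fun z hz => ⟨0, zero_mem _, ?_⟩⟩
    rw [mul_zero]
    by_contra hz0
    exact hcon z hz hz0 (hall z hz)
  · push Not at hall
    obtain ⟨r₁, hr₁, hr₁y⟩ := hall
    obtain ⟨c₁, hc₁, hc₁w⟩ := hyw r₁ hr₁
    have hc₁0 : c₁ ≠ 0 := by
      intro h
      apply hr₁y
      rw [hc₁w, h, zero_smul]
    obtain ⟨d₁, hd₁, hcd⟩ := exists_inv 𝒜 h0 hc₁ hc₁0
    have hz : ∃ z ∈ 𝒜 i, ∀ c ∈ 𝒜 0, z ≠ c * r₁ := by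
      by_contra hcon
      push Not at hcon
      exact hi ⟨r₁, hr₁, hcon⟩
    obtain ⟨z, hz, hzr⟩ := hz
    obtain ⟨cz, hcz, hczw⟩ := hyw z hz
    have hmem0 : cz * d₁ ∈ 𝒜 0 := by
      have := SetLike.GradedMul.mul_mem (A := 𝒜) hcz hd₁
      rwa [add_zero] at this
    have hmem : cz * d₁ * r₁ ∈ 𝒜 i := by
      have := SetLike.GradedMul.mul_mem (A := 𝒜) hmem0 hr₁
      rwa [zero_add] at this
    refine ⟨z - cz * d₁ * r₁, sub_mem hz hmem, ?_, ?_⟩
    · intro h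
      exact hzr (cz * d₁) hmem0 (sub_eq_zero.mp h)
    · have h5 : cz * d₁ * c₁ = cz := by rw [mul_assoc, mul_comm d₁ c₁, hcd, mul_one]
      rw [sub_smul, mul_smul (cz * d₁) r₁ y, hczw, hc₁w, ← mul_smul, h5, sub_self]

variable (hstd : Ideal.span (⋃ n ∈ Set.Ioi (0 : ℤ), (𝒜 n : Set R)) =
  Ideal.span ((𝒜 1 : AddSubgroup R) : Set R))

include hstd in
/-- In a standard graded ring `R_{i+1} = R_1 · R_i`. -/
theorem mem_closure_mul {i : ℤ} (hi : 0 ≤ i) {z : R} (hz : z ∈ 𝒜 (i + 1)) :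
    z ∈ AddSubgroup.closure {p : R | ∃ x ∈ 𝒜 1, ∃ y ∈ 𝒜 i, p = x * y} := by
  classical
  have hz' : z ∈ Ideal.span ((𝒜 1 : AddSubgroup R) : Set R) := by
    rw [← hstd]
    apply Ideal.subset_span
    simp only [Set.mem_iUnion, Set.mem_Ioi, SetLike.mem_coe, exists_prop]
    exact ⟨i + 1, by omega, hz⟩
  obtain ⟨k, c, x, hsum⟩ := Submodule.mem_span_set'.mp hz'
  have h1 : z = ∑ j, (x j : R) * (decompose 𝒜 (c j) i : R) := by
    have h2 := decompose_of_mem_same 𝒜 hz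
    rw [← h2, ← hsum, decompose_sum, DFinsupp.finsetSum_apply, AddSubgroup.val_finsetSum]
    apply Finset.sum_congr rfl
    intro j _
    have h3 := decompose_smul_of_mem_right 𝒜 𝒜 (x j).2 (c j) i
    rw [h3, smul_eq_mul, mul_comm]
  rw [h1]
  apply AddSubgroup.sum_mem
  intro j _
  exact AddSubgroup.subset_closure ⟨_, (x j).2, _, (decompose 𝒜 (c j) i).2, rfl⟩

include h0 hstd in
/-- If `R_i` is cyclic over `R_0` (`i ≥ 1`), so is `R_{i+1}`. -/
theorem cyc_succ {i : ℤ} (hi : 1 ≤ i) (hc : Cyc 𝒜 i) : Cyc 𝒜 (i + 1) := by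
  obtain ⟨w, hw, hcyc⟩ := hc
  by_cases hw0 : w = 0
  · have hzero : ∀ z ∈ 𝒜 i, z = 0 := by
      intro z hz
      obtain ⟨c, _, hc⟩ := hcyc z hz
      rw [hc, hw0, mul_zero]
    refine ⟨0, zero_mem _, fun z hz => ⟨0, zero_mem _, ?_⟩⟩
    rw [mul_zero]
    have hall : ∀ p ∈ AddSubgroup.closure {p : R | ∃ x ∈ 𝒜 1, ∃ y ∈ 𝒜 i, p = x * y}, p = 0 := by
      intro p hcl
      induction hcl using AddSubgroup.closure_induction with
      | mem p hp =>
        obtain ⟨x, _, y, hy, rfl⟩ := hp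
        rw [hzero y hy, mul_zero]
      | zero => rfl
      | add a b _ _ ha hb => rw [ha, hb, add_zero]
      | neg a _ ha => rw [ha, neg_zero]
    exact hall z (mem_closure_mul 𝒜 hstd (by omega : (0 : ℤ) ≤ i) hz)
  · -- `w` is a scalar multiple of a product `x₀ y₀`
    have hwcl : w ∈ AddSubgroup.closure {p : R | ∃ x ∈ 𝒜 1, ∃ y ∈ 𝒜 (i - 1), p = x * y} := by
      have hw' : w ∈ 𝒜 (i - 1 + 1) := by rwa [sub_add_cancel]
      exact mem_closure_mul 𝒜 hstd (by omega : (0 : ℤ) ≤ i - 1) hw'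
    obtain ⟨x₀, hx₀, y₀, hy₀, hxy⟩ : ∃ x₀ ∈ 𝒜 1, ∃ y₀ ∈ 𝒜 (i - 1), x₀ * y₀ ≠ 0 := by
      by_contra hcon
      push Not at hcon
      apply hw0
      have hall : ∀ p ∈ AddSubgroup.closure {p : R | ∃ x ∈ 𝒜 1, ∃ y ∈ 𝒜 (i - 1), p = x * y},
          p = 0 := by
        intro p hcl
        induction hcl using AddSubgroup.closure_induction with
        | mem p hp =>
          obtain ⟨x, hx, y, hy, rfl⟩ := hp
          exact hcon x hx y hy
        | zero => rfl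
        | add a b _ _ ha hb => rw [ha, hb, add_zero]
        | neg a _ ha => rw [ha, neg_zero]
      exact hall w hwcl
    have hxy_mem : x₀ * y₀ ∈ 𝒜 i := by
      have := SetLike.GradedMul.mul_mem (A := 𝒜) hx₀ hy₀
      rwa [show (1 : ℤ) + (i - 1) = i by ring] at this
    obtain ⟨c₀, hc₀, hc₀w⟩ := hcyc _ hxy_mem
    have hc₀0 : c₀ ≠ 0 := by
      intro h
      apply hxy
      rw [hc₀w, h, zero_mul]
    obtain ⟨d₀, hd₀, hcd⟩ := exists_inv 𝒜 h0 hc₀ hc₀0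
    have hw_eq : w = d₀ * (x₀ * y₀) := by
      rw [hc₀w, ← mul_assoc, mul_comm d₀ c₀, hcd, one_mul]
    have hmul0 : ∀ {c d : R}, c ∈ 𝒜 0 → d ∈ 𝒜 0 → c * d ∈ 𝒜 0 := by
      intro c d hc hd
      have := SetLike.GradedMul.mul_mem (A := 𝒜) hc hd
      rwa [add_zero] at this
    have key : ∀ x' ∈ 𝒜 1, ∃ c ∈ 𝒜 0, x' * w = c * (x₀ * w) := by
      intro x' hx'
      have hx'y : x' * y₀ ∈ 𝒜 i := by
        have := SetLike.GradedMul.mul_mem (A := 𝒜) hx' hy₀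
        rwa [show (1 : ℤ) + (i - 1) = i by ring] at this
      obtain ⟨c', hc', hc'w⟩ := hcyc _ hx'y
      refine ⟨d₀ * c', hmul0 hd₀ hc', ?_⟩
      calc x' * w = d₀ * (x₀ * (x' * y₀)) := by rw [hw_eq]; ring
        _ = d₀ * c' * (x₀ * w) := by rw [hc'w]; ring
    have hx₀w : x₀ * w ∈ 𝒜 (i + 1) := by
      have := SetLike.GradedMul.mul_mem (A := 𝒜) hx₀ hw
      rwa [add_comm] at this
    refine ⟨x₀ * w, hx₀w, fun z hz => ?_⟩
    have hall : ∀ p ∈ AddSubgroup.closure {p : R | ∃ x ∈ 𝒜 1, ∃ y ∈ 𝒜 i, p = x * y},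
        ∃ c ∈ 𝒜 0, p = c * (x₀ * w) := by
      intro p hcl
      induction hcl using AddSubgroup.closure_induction with
      | mem p hp =>
        obtain ⟨x, hx, y, hy, rfl⟩ := hp
        obtain ⟨c, hc, hcw⟩ := hcyc y hy
        obtain ⟨c'', hc'', hc''w⟩ := key x hx
        refine ⟨c * c'', hmul0 hc hc'', ?_⟩
        calc x * y = c * (x * w) := by rw [hcw]; ring
          _ = c * c'' * (x₀ * w) := by rw [hc''w]; ring
      | zero => exact ⟨0, zero_mem _, (zero_mul _).symm⟩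
      | add a b _ _ ha hb =>
        obtain ⟨c₁, hc₁, h₁⟩ := ha
        obtain ⟨c₂, hc₂, h₂⟩ := hb
        exact ⟨c₁ + c₂, add_mem hc₁ hc₂, by rw [h₁, h₂, add_mul]⟩
      | neg a _ ha =>
        obtain ⟨c₁, hc₁, h₁⟩ := ha
        exact ⟨-c₁, neg_mem hc₁, by rw [h₁, neg_mul]⟩
    exact hall z (mem_closure_mul 𝒜 hstd (by omega : (0 : ℤ) ≤ i) hz)

variable (m : HomogeneousIdeal 𝒜)
  (hmsp : m.toIdeal = Ideal.span (⋃ n ∈ Set.Ioi (0 : ℤ), (𝒜 n : Set R)))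

include hstd hmsp in
theorem pow_le_span (j : ℕ) : m.toIdeal ^ j ≤ Ideal.span ((𝒜 (j : ℤ) : AddSubgroup R) : Set R) := by
  induction j with
  | zero =>
    rw [pow_zero, Ideal.one_eq_top]
    intro x _
    have h1 : (1 : R) ∈ Ideal.span ((𝒜 ((0 : ℕ) : ℤ) : AddSubgroup R) : Set R) :=
      Ideal.subset_span (SetLike.GradedOne.one_mem (A := 𝒜))
    have := Ideal.mul_mem_left _ x h1
    rwa [mul_one] at this
  | succ j ih =>
    rw [pow_succ]
    refine le_trans (Ideal.mul_mono ih (le_of_eq (hmsp.trans hstd))) ?_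
    rw [Ideal.span_mul_span', Ideal.span_le]
    rintro _ ⟨s, hs, t, ht, rfl⟩
    apply Ideal.subset_span
    have := SetLike.GradedMul.mul_mem (A := 𝒜) hs ht
    rw [Nat.cast_succ]
    exact this

include h0 hstd hmsp in
/-- In a standard graded algebra over a field with `dim_k R_1 ≥ 2` and a regular element in
`R_+`, no piece `R_i`, `i ≥ 1`, is cyclic over `R_0`. -/
theorem not_cyc (h1 : ¬ Cyc 𝒜 1) {t : R} (htm : t ∈ m.toIdeal) (htreg : IsSMulRegular R t)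
    {i : ℤ} (hi : 1 ≤ i) : ¬ Cyc 𝒜 i := by
  intro hc
  have hc' := cyc_succ 𝒜 h0 hstd hi hc
  obtain ⟨w, hw, hcyc⟩ := hc
  obtain ⟨w', hw', hcyc'⟩ := hc'
  obtain ⟨x, hx, hx0, hxw⟩ := exists_ne_zero_smul_eq_zero 𝒜 h0 h1 (M := R) w w' (by
    intro r hr
    have hrw : r * w ∈ 𝒜 (i + 1) := by
      have := SetLike.GradedMul.mul_mem (A := 𝒜) hr hw
      rwa [add_comm] at this
    obtain ⟨c, hc, hcw⟩ := hcyc' _ hrw
    exact ⟨c, hc, hcw⟩)
  have hxi : ∀ z ∈ 𝒜 i, x * z = 0 := by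
    intro z hz
    obtain ⟨c, _, hcw⟩ := hcyc z hz
    have : x * w = 0 := hxw
    rw [hcw, mul_left_comm, this, mul_zero]
  have hspan : ∀ s ∈ Ideal.span ((𝒜 i : AddSubgroup R) : Set R), x * s = 0 := by
    intro s hs
    induction hs using Submodule.span_induction with
    | mem z hz => exact hxi z hz
    | zero => exact mul_zero _
    | add a b _ _ ha hb => rw [mul_add, ha, hb, add_zero]
    | smul r a _ ha => rw [smul_eq_mul, mul_left_comm, ha, mul_zero]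
  have hti : t ^ i.toNat ∈ Ideal.span ((𝒜 i : AddSubgroup R) : Set R) := by
    have h2 := pow_le_span 𝒜 hstd m hmsp i.toNat (Ideal.pow_mem_pow htm _)
    rwa [Int.toNat_of_nonneg (by omega : (0 : ℤ) ≤ i)] at h2
  have h3 : t ^ i.toNat • x = t ^ i.toNat • (0 : R) := by
    rw [smul_zero, smul_eq_mul, mul_comm]
    exact hspan _ hti
  exact hx0 ((htreg.pow _) h3)

end Cyc

section Top

variable {R : Type u} [CommRing R] (𝒜 : ℤ → AddSubgroup R) [GradedRing 𝒜]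
  (hpos : ∀ n : ℤ, n < 0 → 𝒜 n = ⊥) (m : HomogeneousIdeal 𝒜)
  (hmsp : m.toIdeal = Ideal.span (⋃ n ∈ Set.Ioi (0 : ℤ), (𝒜 n : Set R)))
variable {H : Type u} [AddCommGroup H] [Module R H] (ℋ : ℤ → AddSubgroup H)
  [DirectSum.Decomposition ℋ] [SetLike.GradedSMul 𝒜 ℋ]
variable (a : ℤ) (hatop : ∀ t, a < t → ℋ t = ⊥)
variable [hmax : m.toIdeal.IsMaximal]
  (h₀ : H) (hsoc : ∀ r ∈ m.toIdeal, r • h₀ = 0)
  (hcyc : ∀ x : H, (∀ r ∈ m.toIdeal, r • x = 0) → ∃ r : R, x = r • h₀)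

include hmsp hatop hsoc hcyc in
/-- The top piece is cyclic over `R_0`, generated by any nonzero element. -/
theorem top_cyclic {y₁ : H} (hy₁ : y₁ ∈ ℋ a) (hy₁0 : y₁ ≠ 0) {y : H} (hy : y ∈ ℋ a) :
    ∃ c ∈ 𝒜 0, y = c • y₁ := by
  classical
  obtain ⟨r₂, hr₂⟩ := hcyc y₁ (GorGrG.top_mem_socle 𝒜 m hmsp ℋ a hatop hy₁)
  obtain ⟨r₁, hr₁⟩ := hcyc y (GorGrG.top_mem_socle 𝒜 m hmsp ℋ a hatop hy)
  have hr₂m : r₂ ∉ m.toIdeal := by
    intro h
    apply hy₁0
    rw [hr₂, hsoc r₂ h]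
  obtain ⟨r₃, i, hi, h1⟩ := hmax.exists_inv hr₂m
  have h2 : h₀ = r₃ • y₁ := by
    have : (r₃ * r₂ + i) • h₀ = h₀ := by rw [h1, one_smul]
    rw [add_smul, hsoc i hi, add_zero, mul_smul, ← hr₂] at this
    exact this.symm
  have h3 : y = (r₁ * r₃) • y₁ := by rw [mul_smul, ← h2, hr₁]
  refine ⟨(decompose 𝒜 (r₁ * r₃) 0 : R), (decompose 𝒜 (r₁ * r₃) 0).2, ?_⟩
  have h5 := decompose_smul_of_mem_right 𝒜 ℋ hy₁ (r₁ * r₃) 0
  rw [← h3, zero_add, decompose_of_mem_same ℋ hy] at h5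
  exact h5

variable [IsNoetherianRing R] (hm : GrLC.IsStarLocal 𝒜 m)

include hm in
/-- If `H` is an injective module and `y₁` a socle element, every nonzero homogeneous `r ∈ R_i`
has `y₁ ∈ r • H_{a-i}`. -/
theorem exists_smul_eq (hB : Module.Baer R H) {y₁ : H} (hy₁ : y₁ ∈ ℋ a)
    (hy₁s : ∀ r ∈ m.toIdeal, r • y₁ = 0) {i : ℤ} {r : R} (hr : r ∈ 𝒜 i) (hr0 : r ≠ 0) :
    ∃ x ∈ ℋ (a - i), r • x = y₁ := by
  classical
  have hbot : (⊥ : Submodule R R).IsHomogeneous 𝒜 := by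
    intro j x hx
    rw [Submodule.mem_bot] at hx
    rw [hx, decompose_zero]
    exact Submodule.zero_mem _
  let J : HomogeneousIdeal 𝒜 := ⟨colon (⊥ : Submodule R R) r, colon_isHomogeneous 𝒜 𝒜 hbot hr⟩
  have hJtop : J.toIdeal ≠ ⊤ := by
    intro h
    have h1 : (1 : R) ∈ colon (⊥ : Submodule R R) r := by
      have : (1 : R) ∈ J.toIdeal := by rw [h]; exact Submodule.mem_top
      exact this
    rw [mem_colon, one_smul, Submodule.mem_bot] at h1
    exact hr0 h1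
  have hle : colon (⊥ : Submodule R R) r ≤ m.toIdeal := le_of_isStarLocal 𝒜 m hm J hJtop
  let t : R →ₗ[R] R := LinearMap.toSpanSingleton R R r
  have hker : LinearMap.ker t = colon (⊥ : Submodule R R) r := by
    ext x
    rw [LinearMap.mem_ker, mem_colon, Submodule.mem_bot]
    rfl
  let ι : (R ⧸ colon (⊥ : Submodule R R) r) →ₗ[R] R :=
    (colon (⊥ : Submodule R R) r).liftQ t (le_of_eq hker.symm)
  have hι : Function.Injective ι := by
    rw [← LinearMap.ker_eq_bot]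
    exact Submodule.ker_liftQ_eq_bot _ _ _ (le_of_eq hker)
  let g : (R ⧸ colon (⊥ : Submodule R R) r) →ₗ[R] H :=
    (colon (⊥ : Submodule R R) r).liftQ (LinearMap.toSpanSingleton R H y₁) (by
      intro s hs
      rw [LinearMap.mem_ker, LinearMap.toSpanSingleton_apply]
      exact hy₁s s (hle hs))
  obtain ⟨h, hh⟩ := hB.extension_property ι hι g
  have h1 : r • h 1 = y₁ := by
    have h2 : r • h 1 = g (Submodule.Quotient.mk 1) := by
      rw [← hh, LinearMap.comp_apply, ← map_smul]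
      congr 1
      change r • (1 : R) = (1 : R) • r
      rw [smul_eq_mul, smul_eq_mul, mul_one, one_mul]
    rw [h2]
    change (LinearMap.toSpanSingleton R H y₁) 1 = y₁
    rw [LinearMap.toSpanSingleton_apply, one_smul]
  refine ⟨(decompose ℋ (h 1) (a - i) : H), (decompose ℋ (h 1) (a - i)).2, ?_⟩
  have h3 := decompose_smul_of_mem 𝒜 ℋ hr (h 1) (a - i)
  rw [h1, add_sub_cancel, decompose_of_mem_same ℋ hy₁] at h3
  exact h3.symm

end Top

end Groth.Agent.Lib.Helper24.GorGrH
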