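import Mathlib
import Groth.Agent.Lib.Helper24.GorGrD
import Groth.Agent.Lib.Helper8.GrLCCompareRows
import Groth.Agent.Lib.Helper8.GrLCPieces
import Groth.Agent.Lib.Helper8.GrHeight
import Groth.Agent.Lib.Helper8.GrIrrelLocal
import Groth.Agent.Lib.Helper8.GrLCCM
import Groth.Agent.Lib.Helper8.GrCanVer
import Groth.Agent.Lib.Helper8.GrVerIso
import Groth.Agent.Lib.Helper67.Depth
import Groth.Agent.S10843

/-!
# Veronese subrings of graded rings over a field: standard data (helper24)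
-/

set_option autoImplicit false
set_option linter.unusedSectionVars false
set_option linter.style.haveILetI false

namespace Groth.Agent.Lib.Helper24.GorGrI

open DirectSum GrLC

universe u

/-- The Veronese subring of a Noetherian graded ring is Noetherian. -/
theorem isNoetherianRing_ver (R : Type u) [CommRing R] [IsNoetherianRing R]
    (𝒜 : ℤ → AddSubgroup R) [GradedRing 𝒜] (q : ℕ) (R' : Type u) [CommRing R']
    (𝒜' : ℤ → AddSubgroup R') [GradedRing 𝒜'] (φ : R' →+* R) (hφ : Function.Injective φ)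
    (hdeg : ∀ j : ℤ, (𝒜' j).map (φ : R' →+ R) = 𝒜 (j * q)) : IsNoetherianRing R' := by
  have hdeg' : ∀ j : ℤ, (𝒜' j).map (φ : R' →+ R) = 𝒜 (AddMonoidHom.mulRight (q : ℤ) j) := hdeg
  exact Groth.Agent.Lib.Helper8.GrVer.isNoetherianRing_ver (AddMonoidHom.mulRight (q : ℤ)) 𝒜 𝒜' φ
    hdeg' hφ

/-- Standard data attached to a Veronese subring `R' = R^(q)` of a graded ring over a field:
the irrelevant ideal `m'`, a *injective resolution, *locality, positivity, `dim R' = dim R`, and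
the comparison maps `H^p_{m'}(R') → H^p_m(R)`. -/
theorem exists_ver_data (R : Type u) [CommRing R] [IsNoetherianRing R]
    (𝒜 : ℤ → AddSubgroup R) [GradedRing 𝒜]
    (hpos : ∀ n : ℤ, n < 0 → 𝒜 n = ⊥) (h0 : IsField (GrLC.deg0 𝒜)) (m : HomogeneousIdeal 𝒜)
    (hmsp : m.toIdeal = Ideal.span (⋃ n ∈ Set.Ioi (0 : ℤ), (𝒜 n : Set R))) (n : ℕ)
    (hn : ringKrullDim R = n) (I : GrLC.StarInjRes 𝒜 𝒜) (q : ℕ) (hq : 0 < q) (R' : Type u)
    [CommRing R'] [IsNoetherianRing R'] (𝒜' : ℤ → AddSubgroup R') [GradedRing 𝒜']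
    (φ : R' →+* R) (hφ : Function.Injective φ)
    (hdeg : ∀ j : ℤ, (𝒜' j).map (φ : R' →+ R) = 𝒜 (j * q)) :
    ∃ (m' : HomogeneousIdeal 𝒜') (I' : GrLC.StarInjRes 𝒜' 𝒜'),
      m'.toIdeal = Ideal.span (⋃ j ∈ Set.Ioi (0 : ℤ), (𝒜' j : Set R')) ∧
      GrLC.IsStarLocal 𝒜' m' ∧ m'.toIdeal.IsMaximal ∧ (∀ j : ℤ, j < 0 → 𝒜' j = ⊥) ∧
      IsField (GrLC.deg0 𝒜') ∧ ringKrullDim R' = n ∧
      ∀ p : ℕ, ∃ J : I'.H m' p →ₛₗ[φ] I.H m p, Function.Injective J ∧
        (∀ (j : ℤ) (x : I'.H m' p), x ∈ I'.Hgr m' p j → J x ∈ I.Hgr m p (j * q)) ∧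
        (∀ (j : ℤ) (y : I.H m p), y ∈ I.Hgr m p (j * q) → ∃ x ∈ I'.Hgr m' p j, J x = y) := by
  classical
  have hq' : (q : ℤ) ≠ 0 := by exact_mod_cast hq.ne'
  have hqpos : (0 : ℤ) < (q : ℤ) := by exact_mod_cast hq
  have hE : Function.Injective (AddMonoidHom.mulRight (q : ℤ)) := by
    intro a b hab
    have hab' : a * (q : ℤ) = b * (q : ℤ) := hab
    exact mul_right_cancel₀ hq' hab'
  have hdeg' : ∀ j : ℤ, (𝒜' j).map (φ : R' →+ R) = 𝒜 (AddMonoidHom.mulRight (q : ℤ) j) := hdeg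
  have hpos' := Groth.Agent.Lib.Helper8.GrCanVer.hpos' φ hφ (q : ℤ) hqpos hdeg hpos
  have h0' := Groth.Agent.Lib.Helper8.GrCanVer.h0' φ hφ (q : ℤ) hdeg h0
  have hmem' : ∀ x : R', x ∈ (⋃ j ∈ Set.Ioi (0 : ℤ), (𝒜' j : Set R')) →
      ∃ j : ℤ, 0 < j ∧ x ∈ 𝒜' j := by
    intro x hx
    simp only [Set.mem_iUnion, Set.mem_Ioi] at hx
    obtain ⟨j, hj, hxj⟩ := hx
    exact ⟨j, hj, hxj⟩
  let m' : HomogeneousIdeal 𝒜' :=
    ⟨Ideal.span (⋃ j ∈ Set.Ioi (0 : ℤ), (𝒜' j : Set R')), by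
      apply Ideal.homogeneous_span
      intro x hx
      obtain ⟨j, _, hxj⟩ := hmem' x hx
      exact ⟨j, hxj⟩⟩
  have hm'sp : m'.toIdeal = Ideal.span (⋃ j ∈ Set.Ioi (0 : ℤ), (𝒜' j : Set R')) := rfl
  have hm' : GrLC.IsStarLocal 𝒜' m' :=
    Groth.Agent.Lib.Helper8.GrIrrelLocal.isStarLocal hpos' h0' m' hm'sp
  have hmax' : m'.toIdeal.IsMaximal :=
    Groth.Agent.Lib.Helper8.GrLCPieces.isMaximal_of_isStarLocal hpos' m' hm'
  have hmem : ∀ x : R, x ∈ (⋃ n ∈ Set.Ioi (0 : ℤ), (𝒜 n : Set R)) →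
      ∃ n : ℤ, 0 < n ∧ x ∈ 𝒜 n := by
    intro x hx
    simp only [Set.mem_iUnion, Set.mem_Ioi] at hx
    obtain ⟨j, hj, hxj⟩ := hx
    exact ⟨j, hj, hxj⟩
  have hsub' : ∀ (j : ℤ) (x : R'), 0 < j → x ∈ 𝒜' j → x ∈ m'.toIdeal := by
    intro j x hj hx
    rw [hm'sp]
    apply Ideal.subset_span
    simp only [Set.mem_iUnion, Set.mem_Ioi]
    exact ⟨j, hj, hx⟩
  have hsub : ∀ (n : ℤ) (x : R), 0 < n → x ∈ 𝒜 n → x ∈ m.toIdeal := by
    intro j x hj hx
    rw [hmsp]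
    apply Ideal.subset_span
    simp only [Set.mem_iUnion, Set.mem_Ioi]
    exact ⟨j, hj, hx⟩
  have hφmem : ∀ (j : ℤ) (x : R'), x ∈ 𝒜' j → φ x ∈ 𝒜 (j * q) := by
    intro j x hx
    rw [← hdeg j]
    exact ⟨x, hx, rfl⟩
  have h1 : m'.toIdeal.map φ ≤ m.toIdeal := by
    conv_lhs => rw [hm'sp]
    rw [Ideal.map_span, Ideal.span_le]
    rintro _ ⟨x, hx, rfl⟩
    obtain ⟨j, hj, hxj⟩ := hmem' x hx
    exact hsub (j * q) (φ x) (mul_pos hj hqpos) (hφmem j x hxj)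
  have hhom : (m'.toIdeal.map φ).IsHomogeneous 𝒜 := by
    rw [hm'sp, Ideal.map_span]
    apply Ideal.homogeneous_span
    rintro _ ⟨x, hx, rfl⟩
    obtain ⟨j, hj, hxj⟩ := hmem' x hx
    exact ⟨j * q, hφmem j x hxj⟩
  have hrad : m.toIdeal ≤ (m'.toIdeal.map φ).radical := by
    conv_lhs => rw [hmsp]
    rw [Ideal.span_le]
    intro x hx
    obtain ⟨n, hn, hxn⟩ := hmem x hx
    refine ⟨q, ?_⟩
    have hxq : x ^ q ∈ 𝒜 (q • n) := SetLike.pow_mem_graded q hxn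
    have hxq' : x ^ q ∈ 𝒜 (n * q) := by
      rwa [nsmul_eq_mul, mul_comm] at hxq
    rw [← hdeg n] at hxq'
    obtain ⟨y, hy, hyx⟩ := hxq'
    have hyx' : φ y = x ^ q := hyx
    rw [← hyx']
    exact Ideal.mem_map_of_mem _ (hsub' n y hn hy)
  obtain ⟨N, h2⟩ := Ideal.exists_pow_le_of_le_radical_of_fg hrad (IsNoetherian.noetherian _)
  let gφ : R' →ₛₗ[φ] R :=
    { toFun := φ
      map_add' := map_add φ
      map_smul' := fun r x => map_mul φ r x }
  have hgφ : Function.Injective gφ := hφ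
  have hgφdeg : ∀ j : ℤ, (𝒜' j).map (gφ : R' →+ R) = 𝒜 (AddMonoidHom.mulRight (q : ℤ) j) := by
    intro j
    rw [← hdeg' j]
    rfl
  let I' : GrLC.StarInjRes 𝒜' 𝒜' := Groth.Agent.Lib.Helper30.starInjRes 𝒜' 𝒜'
  have hJ := fun p : ℕ => Groth.Agent.Lib.Helper8.GrVerIso.exists_semilinear hE hdeg' hφ
    gφ hgφ hgφdeg m m' h1 N h2 hhom I I' p
  have hint : φ.IsIntegral := by
    intro x
    induction x using DirectSum.Decomposition.inductionOn 𝒜 with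
    | zero => exact φ.isIntegralElem_zero
    | @homogeneous d x =>
      have hxq : (x : R) ^ q ∈ 𝒜 (q • d) := SetLike.pow_mem_graded q x.2
      have hxq' : (x : R) ^ q ∈ 𝒜 (d * q) := by
        rwa [nsmul_eq_mul, mul_comm] at hxq
      rw [← hdeg d] at hxq'
      obtain ⟨y, hy, hyx⟩ := hxq'
      have hyx' : φ y = (x : R) ^ q := hyx
      refine ⟨Polynomial.X ^ q - Polynomial.C y, Polynomial.monic_X_pow_sub_C y hq.ne', ?_⟩
      rw [Polynomial.eval₂_sub, Polynomial.eval₂_pow, Polynomial.eval₂_X, Polynomial.eval₂_C,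
        hyx', sub_self]
    | add x y hx hy => exact RingHom.IsIntegralElem.add φ hx hy
  have hdim' : ringKrullDim R' = n := by
    rw [← hn]
    exact (Groth.Agent.S10843.ringKrullDim_eq_of_ringHom φ hint hφ).symm
  exact ⟨m', I', hm'sp, hm', hmax', hpos', h0', hdim', hJ⟩

section Top

variable {R : Type u} [CommRing R] [IsNoetherianRing R] {𝒜 : ℤ → AddSubgroup R} [GradedRing 𝒜]
  (m : HomogeneousIdeal 𝒜) [hmax : m.toIdeal.IsMaximal] (n : ℕ)

/-- The top local cohomology of a graded ring whose localization at the maximal ideal `m` is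
Gorenstein of dimension `n`: it is injective, with cyclic socle, and `m`-power torsion. -/
theorem top_data_of_gor [LocCoh.IsGorensteinLocalRing (Localization.AtPrime m.toIdeal)]
    (hnA : ringKrullDim (Localization.AtPrime m.toIdeal) = n) (I : GrLC.StarInjRes 𝒜 𝒜) :
    Module.Baer R (I.H m n) ∧
    (∃ h₀ : I.H m n, (∀ r ∈ m.toIdeal, r • h₀ = 0) ∧
      ∀ x : I.H m n, (∀ r ∈ m.toIdeal, r • x = 0) → ∃ r : R, x = r • h₀) ∧
    ∀ h : I.H m n, ∃ N : ℕ, ∀ r ∈ m.toIdeal ^ N, r • h = 0 := by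
  obtain ⟨c⟩ := Groth.Agent.Lib.Helper8.GrLCCompareRows.compare m I n
  have hinjH := Groth.Agent.Lib.Helper24.GorGrD.H_injective_of_gor m.toIdeal n hnA
  obtain ⟨h₀', -, hsoc', hcyc'⟩ :=
    Groth.Agent.Lib.Helper24.GorGrD.exists_socle_generator_of_gor m.toIdeal n hnA
  refine ⟨Module.Baer.of_equiv c.symm (Module.Baer.of_injective hinjH),
    ⟨c.symm h₀', fun r hr => ?_, fun x hx => ?_⟩, fun h => ?_⟩
  · rw [← map_smul, hsoc' r hr, map_zero]
  · obtain ⟨r, hr⟩ := hcyc' (c x) (fun r hr => by rw [← map_smul, hx r hr, map_zero])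
    refine ⟨r, ?_⟩
    apply c.injective
    rw [map_smul, LinearEquiv.apply_symm_apply, hr]
  · obtain ⟨k, hk⟩ := Groth.Agent.Lib.Helper24.GorGrD.isPowerTorsion_H m.toIdeal n (c h)
    refine ⟨k, fun r hr => ?_⟩
    apply c.injective
    rw [map_smul, hk r hr, map_zero]

end Top

/-- Unpacking `endDeg ℳ = a`. -/
theorem endDeg_data {M : Type u} [AddCommGroup M] (ℳ : ℤ → AddSubgroup M) (a : ℤ)
    (ha : GrLC.endDeg ℳ = ((a : WithTop ℤ) : WithBot (WithTop ℤ))) :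
    (∀ t, a < t → ℳ t = ⊥) ∧ ℳ a ≠ ⊥ := by
  have hatop : ∀ t, a < t → ℳ t = ⊥ :=
    (Groth.Agent.Lib.Helper8.GrLCSub.endDeg_le_iff _ a).mp (le_of_eq ha)
  refine ⟨hatop, fun hbot => ?_⟩
  have h3 : GrLC.endDeg ℳ ≤ (((a - 1 : ℤ) : WithTop ℤ) : WithBot (WithTop ℤ)) := by
    rw [Groth.Agent.Lib.Helper8.GrLCSub.endDeg_le_iff]
    intro t ht
    rcases eq_or_lt_of_le (show a ≤ t by omega) with h | h
    · rw [← h]
      exact hbot
    · exact hatop t h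
  rw [ha, WithBot.coe_le_coe, WithTop.coe_le_coe] at h3
  omega

/-- A Cohen–Macaulay positively graded *local ring of positive dimension has a regular element
in its irrelevant ideal. -/
theorem exists_regular_of_cm {R : Type u} [CommRing R] [LocCoh.IsCohenMacaulayRing R]
    {𝒜 : ℤ → AddSubgroup R} [GradedRing 𝒜] (hpos : ∀ n : ℤ, n < 0 → 𝒜 n = ⊥)
    (m : HomogeneousIdeal 𝒜) (hm : GrLC.IsStarLocal 𝒜 m) (n : ℕ) (hn : ringKrullDim R = n)
    (h1 : 1 ≤ n) : ∃ t ∈ m.toIdeal, IsSMulRegular R t := by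
  haveI : IsNoetherianRing R := inferInstance
  haveI hmax : m.toIdeal.IsMaximal :=
    Groth.Agent.Lib.Helper8.GrLCPieces.isMaximal_of_isStarLocal hpos m hm
  have hht : m.toIdeal.height = n := by
    have := Groth.Agent.Lib.Helper8.GrHeight.ringKrullDim_eq_height 𝒜 m hm
    rw [hn] at this
    exact (WithBot.coe_injective this).symm
  have hdepth := Groth.Agent.Lib.Helper8.GrLCCM.le_idealDepth_of_cm m.toIdeal n hht
  have hIM : m.toIdeal • (⊤ : Submodule R R) ≠ ⊤ := by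
    rw [smul_eq_mul, Ideal.mul_top]
    exact hmax.ne_top
  have h1' : (1 : ℕ∞) ≤ LocCoh.idealDepth m.toIdeal R :=
    le_trans (by exact_mod_cast h1) hdepth
  rcases (Groth.Agent.Lib.Helper67.one_le_idealDepth_iff m.toIdeal R).1 h1' with h | h
  · exact absurd h hIM
  · exact h

end Groth.Agent.Lib.Helper24.GorGrI
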