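import Mathlib
import Groth.Agent.Lib.Helper24.GorGrH

/-!
# Socle of the Veronese of the top local cohomology; dimension count (helper24)
-/

set_option autoImplicit false
set_option linter.unusedSectionVars false
set_option linter.style.haveILetI false

namespace Groth.Agent.Lib.Helper24.GorGrJ

open DirectSum
open Groth.Agent.Lib.Helper30 Groth.Agent.Lib.Helper24.GorGrH

universe u

section Prod

variable {R : Type u} [CommRing R] (𝒜 : ℤ → AddSubgroup R) [GradedRing 𝒜]
variable (hstd : Ideal.span (⋃ n ∈ Set.Ioi (0 : ℤ), (𝒜 n : Set R)) =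
  Ideal.span ((𝒜 1 : AddSubgroup R) : Set R))

include hstd in
/-- In a standard graded ring `R_{c+d} = R_c · R_d`. -/
theorem mem_closure_mul_nat (c : ℕ) {d : ℤ} (hd : 0 ≤ d) : ∀ {z : R}, z ∈ 𝒜 ((c : ℤ) + d) →
    z ∈ AddSubgroup.closure {p : R | ∃ u ∈ 𝒜 (c : ℤ), ∃ v ∈ 𝒜 d, p = u * v} := by
  induction c with
  | zero =>
    intro z hz
    apply AddSubgroup.subset_closure
    refine ⟨1, SetLike.GradedOne.one_mem (A := 𝒜), z, ?_, (one_mul z).symm⟩
    rwa [Nat.cast_zero, zero_add] at hz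
  | succ c ih =>
    intro z hz
    have hz' : z ∈ 𝒜 (((c : ℤ) + d) + 1) := by
      have : ((c + 1 : ℕ) : ℤ) + d = ((c : ℤ) + d) + 1 := by push_cast; ring
      rwa [this] at hz
    have h1 := mem_closure_mul 𝒜 hstd (by omega : (0 : ℤ) ≤ (c : ℤ) + d) hz'
    have key : ∀ x ∈ 𝒜 1, ∀ y ∈ AddSubgroup.closure
        {p : R | ∃ u ∈ 𝒜 (c : ℤ), ∃ v ∈ 𝒜 d, p = u * v},
        x * y ∈ AddSubgroup.closure
          {p : R | ∃ u ∈ 𝒜 ((c + 1 : ℕ) : ℤ), ∃ v ∈ 𝒜 d, p = u * v} := by
      intro x hx y hy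
      induction hy using AddSubgroup.closure_induction with
      | mem p hp =>
        obtain ⟨u, hu, v, hv, rfl⟩ := hp
        apply AddSubgroup.subset_closure
        refine ⟨x * u, ?_, v, hv, (mul_assoc x u v).symm⟩
        have := SetLike.GradedMul.mul_mem (A := 𝒜) hx hu
        have e : (1 : ℤ) + (c : ℤ) = ((c + 1 : ℕ) : ℤ) := by push_cast; ring
        rwa [e] at this
      | zero =>
        rw [mul_zero]
        exact zero_mem _
      | add a b _ _ ha hb =>
        rw [mul_add]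
        exact add_mem ha hb
      | neg a _ ha =>
        rw [mul_neg]
        exact neg_mem ha
    have hall : ∀ p ∈ AddSubgroup.closure
        {p : R | ∃ x ∈ 𝒜 1, ∃ y ∈ 𝒜 ((c : ℤ) + d), p = x * y},
        p ∈ AddSubgroup.closure
          {p : R | ∃ u ∈ 𝒜 ((c + 1 : ℕ) : ℤ), ∃ v ∈ 𝒜 d, p = u * v} := by
      intro p hp
      induction hp using AddSubgroup.closure_induction with
      | mem p hp =>
        obtain ⟨x, hx, y, hy, rfl⟩ := hp
        exact key x hx y (ih hy)
      | zero => exact zero_mem _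
      | add a b _ _ ha hb => exact add_mem ha hb
      | neg a _ ha => exact neg_mem ha
    exact hall z h1

include hstd in
theorem exists_mul_smul_ne_zero {M : Type*} [AddCommGroup M] [Module R M] {c d : ℤ} (hc : 0 ≤ c)
    (hd : 0 ≤ d) {s : R} (hs : s ∈ 𝒜 (c + d)) {h : M} (hsh : s • h ≠ 0) :
    ∃ u ∈ 𝒜 c, ∃ v ∈ 𝒜 d, (u * v) • h ≠ 0 := by
  obtain ⟨c', rfl⟩ := Int.eq_ofNat_of_zero_le hc
  by_contra hcon
  push Not at hcon
  apply hsh
  have h1 := mem_closure_mul_nat 𝒜 hstd c' hd hs
  have hall : ∀ p ∈ AddSubgroup.closure {p : R | ∃ u ∈ 𝒜 (c' : ℤ), ∃ v ∈ 𝒜 d, p = u * v},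
      p • h = 0 := by
    intro p hp
    induction hp using AddSubgroup.closure_induction with
    | mem p hp =>
      obtain ⟨u, hu, v, hv, rfl⟩ := hp
      exact hcon u hu v hv
    | zero => exact zero_smul _ _
    | add a b _ _ ha hb => rw [add_smul, ha, hb, add_zero]
    | neg a _ ha => rw [neg_smul, ha, neg_zero]
  exact hall s h1

end Prod

section Socle

variable {R : Type u} [CommRing R] (𝒜 : ℤ → AddSubgroup R) [GradedRing 𝒜]
variable (hstd : Ideal.span (⋃ n ∈ Set.Ioi (0 : ℤ), (𝒜 n : Set R)) =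
  Ideal.span ((𝒜 1 : AddSubgroup R) : Set R))
variable {R' : Type u} [CommRing R'] (𝒜' : ℤ → AddSubgroup R') [GradedRing 𝒜']
  (φ : R' →+* R) (q : ℕ) (hq : 0 < q)
  (hdeg : ∀ j : ℤ, (𝒜' j).map (φ : R' →+ R) = 𝒜 (j * q))
  (m' : HomogeneousIdeal 𝒜')
  (hm'sp : m'.toIdeal = Ideal.span (⋃ j ∈ Set.Ioi (0 : ℤ), (𝒜' j : Set R')))
variable {H : Type u} [AddCommGroup H] [Module R H] (ℋ : ℤ → AddSubgroup H)
  [DirectSum.Decomposition ℋ] [SetLike.GradedSMul 𝒜 ℋ]
variable {H' : Type u} [AddCommGroup H'] [Module R' H'] (ℋ' : ℤ → AddSubgroup H')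
  [DirectSum.Decomposition ℋ'] [SetLike.GradedSMul 𝒜' ℋ']
  (J : H' →ₛₗ[φ] H) (hJinj : Function.Injective J)
  (hJmem : ∀ (j : ℤ) (x : H'), x ∈ ℋ' j → J x ∈ ℋ (j * q))
variable (a b ρ : ℤ) (hab : a = b * q + ρ) (hρ0 : 0 ≤ ρ)
  (hND : ∀ (d : ℤ) (h : H), h ∈ ℋ d → h ≠ 0 → ∃ s ∈ 𝒜 (a - d), s • h ≠ 0)
  (hatop' : ∀ t, b < t → ℋ' t = ⊥)

include hstd hq hdeg hm'sp hJinj hJmem hab hρ0 hND hatop' in
/-- The socle of the Veronese of the top local cohomology is its top piece. -/
theorem socle_le_top {x : H'} (hx : ∀ r ∈ m'.toIdeal, r • x = 0) : x ∈ ℋ' b := by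
  classical
  have hqpos : (0 : ℤ) < (q : ℤ) := by exact_mod_cast hq
  have hcomp : ∀ j, j ≠ b → (decompose ℋ' x j : H') = 0 := by
    intro j hj
    by_contra hy0
    set y : H' := (decompose ℋ' x j : H') with hy
    have hymem : y ∈ ℋ' j := (decompose ℋ' x j).2
    rcases lt_or_gt_of_ne hj with hlt | hgt
    · -- `j < b`
      have hJy0 : J y ≠ 0 := by
        intro h
        apply hy0
        apply hJinj
        rw [h, map_zero]
      obtain ⟨s, hs, hsy⟩ := hND (j * q) (J y) (hJmem j y hymem) hJy0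
      have hdeg' : a - j * q = (b - j) * q + ρ := by rw [hab]; ring
      rw [hdeg'] at hs
      have hbj : 0 ≤ (b - j) * (q : ℤ) := mul_nonneg (by omega) hqpos.le
      obtain ⟨u, hu, v, hv, huv⟩ := exists_mul_smul_ne_zero 𝒜 hstd hbj hρ0 hs hsy
      rw [← hdeg (b - j)] at hu
      obtain ⟨u', hu', rfl⟩ := hu
      have hu'm : u' ∈ m'.toIdeal := by
        rw [hm'sp]
        apply Ideal.subset_span
        simp only [Set.mem_iUnion, Set.mem_Ioi, SetLike.mem_coe, exists_prop]
        exact ⟨b - j, by omega, hu'⟩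
      have h1 : u' • y = 0 := by
        have h2 := decompose_smul_of_mem 𝒜' ℋ' hu' x j
        rw [hx u' hu'm, decompose_zero, DirectSum.zero_apply, ZeroMemClass.coe_zero] at h2
        exact h2.symm
      apply huv
      have h3 : (φ u' : R) • J y = 0 := by
        have := map_smulₛₗ J u' y
        rw [h1, map_zero] at this
        exact this.symm
      change ((φ : R' →+ R) u' * v) • J y = 0
      rw [mul_comm, mul_smul]
      change v • ((φ u' : R) • J y) = 0
      rw [h3, smul_zero]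
    · have h1 := hymem
      rw [hatop' j hgt, AddSubgroup.mem_bot] at h1
      exact hy0 h1
  have hxb : x = (decompose ℋ' x b : H') := by
    conv_lhs => rw [← sum_support_decompose ℋ' x]
    by_cases hb : b ∈ (decompose ℋ' x).support
    · rw [Finset.sum_eq_single_of_mem b hb (fun j _ hj => hcomp j hj)]
    · rw [Finset.sum_eq_zero (fun j hj => hcomp j (fun h => hb (h ▸ hj)))]
      rw [DFinsupp.notMem_support_iff] at hb
      rw [hb]
      rfl
  rw [hxb]
  exact (decompose ℋ' x b).2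

end Socle

section Dim

/-- A pairing into a line which is nondegenerate on both sides has equidimensional sides. -/
theorem finrank_eq_of_nondegenerate {k : Type*} [Field k] {V W L : Type*} [AddCommGroup V]
    [Module k V] [Module.Finite k V] [AddCommGroup W] [Module k W] [AddCommGroup L] [Module k L]
    (hL : Module.finrank k L = 1) (B : V →ₗ[k] W →ₗ[k] L)
    (hl : ∀ v, v ≠ 0 → ∃ w, B v w ≠ 0) (hr : ∀ w, w ≠ 0 → ∃ v, B v w ≠ 0) :
    Module.Finite k W ∧ Module.finrank k W = Module.finrank k V := by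
  haveI : Module.Finite k L := Module.finite_of_finrank_pos (by omega)
  have hinjr : Function.Injective B.flip := by
    rw [← LinearMap.ker_eq_bot, LinearMap.ker_eq_bot']
    intro w hw
    by_contra hw0
    obtain ⟨v, hv⟩ := hr w hw0
    apply hv
    have := LinearMap.congr_fun hw v
    exact this
  have hinjl : Function.Injective B := by
    rw [← LinearMap.ker_eq_bot, LinearMap.ker_eq_bot']
    intro v hv
    by_contra hv0
    obtain ⟨w, hw⟩ := hl v hv0
    apply hw
    have := LinearMap.congr_fun hv w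
    exact this
  haveI : Module.Finite k W := Module.Finite.of_injective B.flip hinjr
  refine ⟨inferInstance, le_antisymm ?_ ?_⟩
  · have h1 := LinearMap.finrank_le_finrank_of_injective hinjr
    rw [Module.finrank_linearMap, hL, mul_one] at h1
    exact h1
  · have h1 := LinearMap.finrank_le_finrank_of_injective hinjl
    rw [Module.finrank_linearMap, hL, mul_one] at h1
    exact h1

end Dim

end Groth.Agent.Lib.Helper24.GorGrJ
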