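import Mathlib
import Groth.Agent.Lib.Helper24.GorGrC
import Groth.Agent.Lib.Helper8.GrLCCompareRows
import Groth.Agent.Lib.Helper8.GrLCCM

/-!
# Vanishing of local cohomology of a graded subring below the dimension (helper24)
-/

set_option autoImplicit false
set_option linter.unusedSectionVars false
set_option linter.style.haveILetI false

namespace Groth.Agent.Lib.Helper24.GorGrK

open DirectSum GrLC

universe u

/-- If `H^p_{m'}(R')` injects into `H^p_m(R)` for a Cohen–Macaulay positively graded *local ring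
`R` of dimension `n > p`, then `H^p` of the localization of `R'` at `m'` vanishes. -/
theorem subsingleton_H_localization {R : Type u} [CommRing R] [LocCoh.IsCohenMacaulayRing R]
    {𝒜 : ℤ → AddSubgroup R} [GradedRing 𝒜] (hpos : ∀ n : ℤ, n < 0 → 𝒜 n = ⊥)
    (m : HomogeneousIdeal 𝒜) (hm : GrLC.IsStarLocal 𝒜 m) (n : ℕ) (hn : ringKrullDim R = n)
    (I : GrLC.StarInjRes 𝒜 𝒜) {R' : Type u} [CommRing R'] [IsNoetherianRing R']
    {𝒜' : ℤ → AddSubgroup R'} [GradedRing 𝒜'] (m' : HomogeneousIdeal 𝒜') [m'.toIdeal.IsMaximal]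
    (I' : GrLC.StarInjRes 𝒜' 𝒜') (φ : R' →+* R) (p : ℕ) (hp : p < n)
    (J : I'.H m' p →ₛₗ[φ] I.H m p) (hJ : Function.Injective J) :
    Subsingleton (LocCoh.H (IsLocalRing.maximalIdeal (Localization.AtPrime m'.toIdeal)) p
      (Localization.AtPrime m'.toIdeal)) := by
  haveI : IsNoetherianRing R := inferInstance
  have hV : ∀ g, Groth.Agent.Lib.Helper8.GrLCLES.VanM m 𝒜 p g := fun g =>
    Groth.Agent.Lib.Helper8.GrLCCM.vanM_of_cm hpos m hm n hn p hp g
  have hs1 : Subsingleton (LocCoh.H m.toIdeal p R) :=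
    (Groth.Agent.Lib.Helper8.GrLCCompareRows.subsingleton_iff_vanM (ℳ := 𝒜) m p).mpr hV
  obtain ⟨c⟩ := Groth.Agent.Lib.Helper8.GrLCCompareRows.compare m I p
  have hs2 : Subsingleton (I.H m p) := c.injective.subsingleton
  have hs3 : Subsingleton (I'.H m' p) := hJ.subsingleton
  obtain ⟨c'⟩ := Groth.Agent.Lib.Helper8.GrLCCompareRows.compare m' I' p
  have hs4 : Subsingleton (LocCoh.H m'.toIdeal p R') := c'.symm.injective.subsingleton
  obtain ⟨e⟩ := Groth.Agent.Lib.Helper24.GorGrC.exists_equiv_localizedModule m'.toIdeal p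
  have hs5 : Subsingleton (LocalizedModule m'.toIdeal.primeCompl
      (LocCoh.H m'.toIdeal p R')) := by
    refine ⟨fun a b => ?_⟩
    induction a using LocalizedModule.induction_on with
    | h x s =>
      induction b using LocalizedModule.induction_on with
      | h y t => rw [Subsingleton.elim x 0, Subsingleton.elim y 0,
          LocalizedModule.zero_mk, LocalizedModule.zero_mk]
  exact e.injective.subsingleton

end Groth.Agent.Lib.Helper24.GorGrK
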