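import Mathlib
import Groth.Prelude.Def_GrLC
import Groth.Agent.Lib.Helper30.GradedGam
import Groth.Agent.Lib.Helper30.GradedEss

/-!
# Leading and trailing terms in a graded module (helper24)

If homogeneous elements outside a homogeneous ideal `q` act injectively on a graded module `X`,
`q` kills the components of `u ≠ 0`, and `f • u` is homogeneous, then `f` is homogeneous modulo `q`.
-/

set_option autoImplicit false
set_option linter.unusedSectionVars false
set_option linter.style.haveILetI false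

namespace Groth.Agent.Lib.Helper24.GrNonInjA

open DirectSum GrLC
open Groth.Agent.Lib.Helper30

universe u

/-- The component map as an additive homomorphism. -/
noncomputable def pr {X : Type u} [AddCommGroup X] (𝒳 : ℤ → AddSubgroup X)
    [DirectSum.Decomposition 𝒳] (d : ℤ) : X →+ X :=
  (𝒳 d).subtype.comp ((DFinsupp.evalAddMonoidHom d).comp
    (DirectSum.decomposeAddEquiv 𝒳).toAddMonoidHom)

theorem pr_apply {X : Type u} [AddCommGroup X] (𝒳 : ℤ → AddSubgroup X)
    [DirectSum.Decomposition 𝒳] (d : ℤ) (x : X) : pr 𝒳 d x = (decompose 𝒳 x d : X) := rfl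

variable {R : Type u} [CommRing R] (𝒜 : ℤ → AddSubgroup R) [GradedRing 𝒜]
variable {X : Type u} [AddCommGroup X] [Module R X] (𝒳 : ℤ → AddSubgroup X)
  [DirectSum.Decomposition 𝒳] [SetLike.GradedSMul 𝒜 𝒳]

open Classical in
/-- The components of a product. -/
theorem pr_smul (f : R) (u : X) (d : ℤ) :
    (decompose 𝒳 (f • u) d : X) =
      ∑ j ∈ (decompose 𝒜 f).support, (decompose 𝒜 f j : R) • (decompose 𝒳 u (d - j) : X) := by
  classical
  have h1 : f • u = ∑ j ∈ (decompose 𝒜 f).support, (decompose 𝒜 f j : R) • u := by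
    rw [← Finset.sum_smul, sum_support_decompose 𝒜 f]
  rw [← pr_apply, h1, map_sum]
  apply Finset.sum_congr rfl
  intro j _
  rw [pr_apply]
  have h2 := decompose_smul_of_mem 𝒜 𝒳 (decompose 𝒜 f j).2 u (d - j)
  have h3 : j + (d - j) = d := by ring
  rw [h3] at h2
  exact h2

variable (q : Ideal R)

/-- An extreme component of a product. -/
theorem piece_smul (f : R) (u : X)
    (hkill : ∀ (j : ℤ), (decompose 𝒜 f j : R) ∈ q → ∀ i, (decompose 𝒜 f j : R) •
      (decompose 𝒳 u i : X) = 0) (b i₁ : ℤ)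
    (hext : ∀ j i, (decompose 𝒜 f j : R) ∉ q → (decompose 𝒳 u i : X) ≠ 0 → j + i = b + i₁ →
      j = b) :
    (decompose 𝒳 (f • u) (b + i₁) : X) = (decompose 𝒜 f b : R) • (decompose 𝒳 u i₁ : X) := by
  classical
  rw [pr_smul 𝒜 𝒳]
  have hterm : ∀ j, j ≠ b → (decompose 𝒜 f j : R) • (decompose 𝒳 u (b + i₁ - j) : X) = 0 := by
    intro j hjb
    by_cases hq : (decompose 𝒜 f j : R) ∈ q
    · exact hkill j hq _
    · by_cases hu : (decompose 𝒳 u (b + i₁ - j) : X) = 0
      · rw [hu, smul_zero]
      · exact absurd (hext j _ hq hu (by ring)) hjb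
  have hb : b + i₁ - b = i₁ := by ring
  by_cases hbs : b ∈ (decompose 𝒜 f).support
  · rw [Finset.sum_eq_single b (fun j _ hjb => hterm j hjb) (fun h => absurd hbs h), hb]
  · have h0 : (decompose 𝒜 f b : R) = 0 := by
      have := DFinsupp.notMem_support_iff.mp hbs
      rw [this]
      rfl
    rw [h0, zero_smul]
    apply Finset.sum_eq_zero
    intro j hj
    apply hterm
    rintro rfl
    exact hbs hj

/-- **Homogeneity modulo `q`.** -/
theorem exists_forall_ne_mem (f : R) (u : X)
    (hkill : ∀ a ∈ q, ∀ i, a • (decompose 𝒳 u i : X) = 0)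
    (hinj : ∀ (j : ℤ) (s : R), s ∈ 𝒜 j → s ∉ q → ∀ x : X, s • x = 0 → x = 0)
    (hu : u ≠ 0) (hf : f ∉ q) {g : ℤ} (hhom : f • u ∈ 𝒳 g) :
    ∃ j, ∀ i, i ≠ j → (decompose 𝒜 f i : R) ∈ q := by
  classical
  let J : Finset ℤ := (decompose 𝒜 f).support.filter (fun j => (decompose 𝒜 f j : R) ∉ q)
  have hJmem : ∀ j, j ∈ J ↔ (decompose 𝒜 f j : R) ∉ q := by
    intro j
    simp only [J, Finset.mem_filter, DFinsupp.mem_support_toFun, ne_eq, and_iff_right_iff_imp]
    intro h h0
    apply h
    rw [h0]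
    exact q.zero_mem
  have hJne : J.Nonempty := by
    by_contra hempty
    rw [Finset.not_nonempty_iff_eq_empty] at hempty
    apply hf
    rw [← sum_support_decompose 𝒜 f]
    apply Ideal.sum_mem
    intro j _
    by_contra hj
    have : j ∈ J := (hJmem j).mpr hj
    rw [hempty] at this
    exact absurd this (Finset.notMem_empty j)
  have hUne : (decompose 𝒳 u).support.Nonempty := by
    by_contra hempty
    rw [Finset.not_nonempty_iff_eq_empty] at hempty
    apply hu
    rw [← sum_support_decompose 𝒳 u, hempty, Finset.sum_empty]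
  have hUmem : ∀ i, i ∈ (decompose 𝒳 u).support ↔ (decompose 𝒳 u i : X) ≠ 0 := by
    intro i
    rw [DFinsupp.mem_support_toFun]
    constructor
    · intro h h0
      exact h (Subtype.ext h0)
    · intro h h0
      apply h
      rw [h0]
      rfl
  have hkill' : ∀ (j : ℤ), (decompose 𝒜 f j : R) ∈ q → ∀ i, (decompose 𝒜 f j : R) •
      (decompose 𝒳 u i : X) = 0 := fun j hj i => hkill _ hj i
  -- top
  have htop := piece_smul 𝒜 𝒳 q f u hkill' (J.max' hJne) ((decompose 𝒳 u).support.max' hUne)
    (by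
      intro j i hj hi hji
      have h1 : j ≤ J.max' hJne := Finset.le_max' J j ((hJmem j).mpr hj)
      have h2 : i ≤ (decompose 𝒳 u).support.max' hUne :=
        Finset.le_max' _ i ((hUmem i).mpr hi)
      omega)
  have hbot := piece_smul 𝒜 𝒳 q f u hkill' (J.min' hJne) ((decompose 𝒳 u).support.min' hUne)
    (by
      intro j i hj hi hji
      have h1 : J.min' hJne ≤ j := Finset.min'_le J j ((hJmem j).mpr hj)
      have h2 : (decompose 𝒳 u).support.min' hUne ≤ i :=
        Finset.min'_le _ i ((hUmem i).mpr hi)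
      omega)
  have hne : ∀ j i, j ∈ J → i ∈ (decompose 𝒳 u).support →
      (decompose 𝒜 f j : R) • (decompose 𝒳 u i : X) ≠ 0 := by
    intro j i hj hi h0
    exact (hUmem i).mp hi (hinj j _ (decompose 𝒜 f j).2 ((hJmem j).mp hj) _ h0)
  have hdeg : ∀ d, (decompose 𝒳 (f • u) d : X) ≠ 0 → d = g := by
    intro d hd
    by_contra hne'
    exact hd (decompose_of_mem_ne 𝒳 hhom (Ne.symm hne'))
  have e1 := hdeg _ (by rw [htop]; exact hne _ _ (Finset.max'_mem J hJne) (Finset.max'_mem _ hUne))
  have e2 := hdeg _ (by rw [hbot]; exact hne _ _ (Finset.min'_mem J hJne) (Finset.min'_mem _ hUne))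
  have h3 : J.min' hJne ≤ J.max' hJne := Finset.min'_le J _ (Finset.max'_mem J hJne)
  have h4 : (decompose 𝒳 u).support.min' hUne ≤ (decompose 𝒳 u).support.max' hUne :=
    Finset.min'_le _ _ (Finset.max'_mem _ hUne)
  have h5 : J.min' hJne = J.max' hJne := by omega
  refine ⟨J.max' hJne, fun i hi => ?_⟩
  by_contra hiq
  have hiJ : i ∈ J := (hJmem i).mpr hiq
  have h6 : i ≤ J.max' hJne := Finset.le_max' J i hiJ
  have h7 : J.min' hJne ≤ i := Finset.min'_le J i hiJ
  omega

end Groth.Agent.Lib.Helper24.GrNonInjA
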