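import Mathlib
import Groth.Agent.Lib.Helper8.GrInjBaer

/-!
# A Baer-type criterion for torsion modules, tested on primes (helper24)

Let `R` be Noetherian, `𝔞` an ideal and `E` an `𝔞`-power torsion module.  If for every prime
`p ⊇ 𝔞` every linear map `p → E` is multiplication by an element of `E`, then `E` is injective.
-/

set_option autoImplicit false
set_option linter.unusedSectionVars false
set_option linter.style.haveILetI false

universe u

namespace Groth.Agent.Lib.Helper24.GrNonInjB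

open Groth.Agent.Lib.Helper8.GrInjBaer

variable {R : Type u} [CommRing R] [IsNoetherianRing R]
variable {E : Type u} [AddCommGroup E] [Module R E]

/-- One-step extension along an element whose colon ideal is `P`. -/
theorem exists_lt_extension' (P : Ideal R)
    (hext : ∀ h : ↥P →ₗ[R] E, ∃ z : E, ∀ x : ↥P, h x = (x : R) • z)
    (g : R →ₗ.[R] E) (y : R) (hmy : ∀ r ∈ P, r * y ∈ g.domain)
    (hcolon : ∀ c : R, c * y ∈ g.domain → c ∈ P) (hyD : y ∉ g.domain) :
    ∃ g' : R →ₗ.[R] E, g ≤ g' ∧ g.domain < g'.domain := by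
  classical
  let h : ↥P →ₗ[R] E := g.toFun.comp (LinearMap.codRestrict g.domain
    ((LinearMap.toSpanSingleton R R y).comp P.subtype) (fun r => by
      change (r : R) • y ∈ g.domain
      exact hmy r r.2))
  have hh : ∀ (c : R) (hc : c ∈ P) (hcy : c * y ∈ g.domain), g ⟨c * y, hcy⟩ = h ⟨c, hc⟩ := by
    intro c hc hcy
    rfl
  obtain ⟨z, hz⟩ := hext h
  have H : ∀ c : R, c • y = 0 → c • z = 0 := by
    intro c hc
    have hcy : c * y ∈ g.domain := by
      rw [← smul_eq_mul, hc]; exact zero_mem _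
    have hcm := hcolon c hcy
    have h1 := hz ⟨c, hcm⟩
    rw [← hh c hcm hcy] at h1
    rw [← h1]
    have : (⟨c * y, hcy⟩ : g.domain) = 0 :=
      Subtype.ext (by change c * y = 0; rw [← smul_eq_mul]; exact hc)
    rw [this, LinearPMap.map_zero]
  let g₁ : R →ₗ.[R] E := LinearPMap.mkSpanSingleton' y z H
  have hagree : ∀ (x : g.domain) (w : g₁.domain), (x : R) = w → g x = g₁ w := by
    intro x w hxw
    obtain ⟨c, hc⟩ := Submodule.mem_span_singleton.mp w.2
    have hw : w = ⟨c • y, hc ▸ w.2⟩ := Subtype.ext hc.symm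
    rw [hw, LinearPMap.mkSpanSingleton'_apply]
    have hcy : c * y ∈ g.domain := by
      rw [← smul_eq_mul, hc, ← hxw]; exact x.2
    have hcm := hcolon c hcy
    have h1 := hz ⟨c, hcm⟩
    rw [← hh c hcm hcy] at h1
    rw [RingHom.id_apply, ← h1]
    congr 1
    apply Subtype.ext
    rw [hxw, ← hc, smul_eq_mul]
  refine ⟨g.sup g₁ hagree, LinearPMap.left_le_sup g g₁ hagree, ?_⟩
  rw [LinearPMap.domain_sup]
  refine lt_of_le_of_ne le_sup_left ?_
  intro heq
  apply hyD
  rw [heq]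
  exact Submodule.mem_sup_right (Submodule.mem_span_singleton_self y)

/-- The criterion. -/
theorem injective_of_torsion (𝔞 : Ideal R)
    (htors : ∀ x : E, ∃ n : ℕ, ∀ r ∈ 𝔞 ^ n, r • x = 0)
    (hext : ∀ p : Ideal R, p.IsPrime → 𝔞 ≤ p → ∀ h : ↥p →ₗ[R] E,
      ∃ z : E, ∀ x : ↥p, h x = (x : R) • z) : Module.Injective R E := by
  apply Module.Baer.injective
  intro J f
  obtain ⟨k, hk⟩ := exists_pow_inf_kill 𝔞 htors J f
  let f₀ : R →ₗ.[R] E := ⟨J, f⟩
  let g₀ : R →ₗ.[R] E := ⟨𝔞 ^ k, 0⟩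
  have hagree : ∀ (x : f₀.domain) (w : g₀.domain), (x : R) = w → f₀ x = g₀ w := by
    intro x w hxw
    change f x = 0
    have := hk x.1 x.2 (hxw ▸ w.2)
    exact this
  let f₁ : R →ₗ.[R] E := f₀.sup g₀ hagree
  have h01 : f₀ ≤ f₁ := LinearPMap.left_le_sup f₀ g₀ hagree
  have hk1 : 𝔞 ^ k ≤ f₁.domain := (LinearPMap.right_le_sup f₀ g₀ hagree).1
  let 𝒮 : Set (Submodule R R) := {D | ∃ g : R →ₗ.[R] E, f₁ ≤ g ∧ g.domain = D}
  have hne : 𝒮.Nonempty := ⟨f₁.domain, f₁, le_rfl, rfl⟩
  obtain ⟨D₀, ⟨g, hg, hgD⟩, hmax⟩ :=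
    (set_has_maximal_iff_noetherian (R := R) (M := R)).mpr inferInstance 𝒮 hne
  have htop : g.domain = ⊤ := by
    by_contra hnt
    have hkD : 𝔞 ^ k ≤ g.domain := hk1.trans hg.1
    haveI : Nontrivial (R ⧸ g.domain) := Submodule.Quotient.nontrivial_iff.mpr hnt
    obtain ⟨P, hP⟩ := associatedPrimes.nonempty R (R ⧸ g.domain)
    obtain ⟨hPprime, xb, hPx⟩ := isAssociatedPrime_iff.mp hP
    obtain ⟨y, rfl⟩ := Submodule.Quotient.mk_surjective _ xb
    have hmem : ∀ c : R, c ∈ P ↔ c * y ∈ g.domain := by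
      intro c
      rw [hPx, Submodule.mem_colon_singleton, Submodule.mem_bot, ← Submodule.Quotient.mk_smul,
        Submodule.Quotient.mk_eq_zero, smul_eq_mul]
    have hyD : y ∉ g.domain := by
      intro hy
      apply hPprime.ne_top
      rw [eq_top_iff]
      intro c _
      rw [hmem]
      exact Ideal.mul_mem_left _ c hy
    have haP : 𝔞 ≤ P := by
      apply Ideal.IsPrime.le_of_pow_le (n := k)
      intro c hc
      rw [hmem]
      exact Ideal.mul_mem_right y _ (hkD hc)
    obtain ⟨g', hgg', hlt⟩ := exists_lt_extension' P (hext P hPprime haP) g y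
      (fun r hr => (hmem r).mp hr) (fun c hc => (hmem c).mpr hc) hyD
    exact hmax g'.domain ⟨g', hg.trans hgg', rfl⟩ (hgD ▸ hlt)
  refine ⟨g.toFun.comp (LinearMap.codRestrict g.domain LinearMap.id
    (fun x => by rw [htop]; exact Submodule.mem_top)), fun x hx => ?_⟩
  have h0g : f₀ ≤ g := h01.trans hg
  have := h0g.2 (x := ⟨x, hx⟩) (y := ⟨x, by rw [htop]; exact Submodule.mem_top⟩) rfl
  exact this.symm

end Groth.Agent.Lib.Helper24.GrNonInjB
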