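import Mathlib
import Groth.Prelude.Def_GrLC
import Groth.Agent.Lib.Helper24.GrNonInjA
import Groth.Agent.Lib.Helper30.GradedSub

/-!
# Non-graded primes over a graded prime (helper24)

* an ideal containing all pieces of nonzero degree is graded;
* if a graded prime `q` misses a homogeneous element of nonzero degree, there is a non-graded prime
  whose graded core is `q`.
-/

set_option autoImplicit false
set_option linter.unusedSectionVars false
set_option linter.style.haveILetI false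

namespace Groth.Agent.Lib.Helper24.GrNonInjC

open DirectSum GrLC
open Groth.Agent.Lib.Helper30

universe u

variable {R : Type u} [CommRing R] (𝒜 : ℤ → AddSubgroup R) [GradedRing 𝒜]

/-- The ideal generated by the pieces of nonzero degree. -/
def offIdeal : Ideal R := Ideal.span (⋃ j ∈ {j : ℤ | j ≠ 0}, (𝒜 j : Set R))

theorem mem_offIdeal {j : ℤ} (hj : j ≠ 0) {r : R} (hr : r ∈ 𝒜 j) : r ∈ offIdeal 𝒜 := by
  apply Ideal.subset_span
  simp only [Set.mem_iUnion, Set.mem_ofPred_eq, SetLike.mem_coe, exists_prop]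
  exact ⟨j, hj, hr⟩

theorem offIdeal_le {p : Ideal R} (h : ∀ j : ℤ, j ≠ 0 → ∀ r ∈ 𝒜 j, r ∈ p) : offIdeal 𝒜 ≤ p := by
  apply Ideal.span_le.mpr
  intro r hr
  simp only [Set.mem_iUnion, Set.mem_ofPred_eq, SetLike.mem_coe, exists_prop] at hr
  obtain ⟨j, hj, hr⟩ := hr
  exact h j hj r hr

/-- An ideal containing the pieces of nonzero degree is graded. -/
theorem isHomogeneous_of_offIdeal_le {p : Ideal R} (hp : offIdeal 𝒜 ≤ p) :
    p.IsHomogeneous 𝒜 := by
  classical
  intro i r hr
  by_cases hi : i = 0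
  · subst hi
    by_cases h0 : (0 : ℤ) ∈ (decompose 𝒜 r).support
    · have h1 := Finset.add_sum_erase (decompose 𝒜 r).support
        (fun j => (decompose 𝒜 r j : R)) h0
      rw [sum_support_decompose 𝒜 r] at h1
      have h2 : (decompose 𝒜 r 0 : R) = r - ∑ j ∈ (decompose 𝒜 r).support.erase 0,
          (decompose 𝒜 r j : R) := by
        rw [eq_sub_iff_add_eq]
        exact h1
      rw [h2]
      apply p.sub_mem hr
      apply Ideal.sum_mem
      intro j hj
      exact hp (mem_offIdeal 𝒜 (Finset.ne_of_mem_erase hj) (decompose 𝒜 r j).2)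
    · have := DFinsupp.notMem_support_iff.mp h0
      rw [this]
      exact p.zero_mem
  · exact hp (mem_offIdeal 𝒜 hi (decompose 𝒜 r i).2)

/-- A non-graded prime with prescribed graded core. -/
theorem exists_prime_core (q : Ideal R) (hq : q.IsHomogeneous 𝒜) [hqp : q.IsPrime] {j : ℤ}
    (hj : j ≠ 0) {t : R} (ht : t ∈ 𝒜 j) (htq : t ∉ q) :
    ∃ p : Ideal R, p.IsPrime ∧ ¬ Ideal.IsHomogeneous 𝒜 p ∧
      (Ideal.homogeneousCore 𝒜 p).toIdeal = q := by
  classical
  -- components of `t - 1`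
  have hc0 : (decompose 𝒜 (t - 1) 0 : R) = -1 := by
    rw [decompose_sub, DirectSum.sub_apply, AddSubgroup.coe_sub,
      decompose_of_mem_ne 𝒜 ht hj,
      decompose_of_mem_same 𝒜 (SetLike.GradedOne.one_mem (A := 𝒜))]
    ring
  have hcj : (decompose 𝒜 (t - 1) j : R) = t := by
    rw [decompose_sub, DirectSum.sub_apply, AddSubgroup.coe_sub,
      decompose_of_mem_same 𝒜 ht,
      decompose_of_mem_ne 𝒜 (SetLike.GradedOne.one_mem (A := 𝒜)) (Ne.symm hj)]
    ring
  have h1q : (1 : R) ∉ q := fun h => hqp.ne_top ((Ideal.eq_top_iff_one q).mpr h)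
  have hneg1 : (-1 : R) ∉ q := fun h => h1q (by simpa using q.neg_mem h)
  have hfq : t - 1 ∉ q := by
    intro h
    have := hq j h
    rw [hcj] at this
    exact htq this
  -- the multiplicative set of homogeneous elements outside `q`
  let S : Submonoid R :=
    { carrier := {s | (∃ i, s ∈ 𝒜 i) ∧ s ∉ q}
      one_mem' := ⟨⟨0, SetLike.GradedOne.one_mem (A := 𝒜)⟩, h1q⟩
      mul_mem' := by
        rintro a b ⟨⟨i, ha⟩, haq⟩ ⟨⟨i', hb⟩, hbq⟩
        refine ⟨⟨i + i', SetLike.GradedMul.mul_mem (A := 𝒜) ha hb⟩, fun hab => ?_⟩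
        rcases hqp.mem_or_mem hab with h | h
        · exact haq h
        · exact hbq h }
  let Q : GMod.{u} 𝒜 := gmodQuot 𝒜 𝒜 q hq
  have hdisj : Disjoint ((q ⊔ Ideal.span {t - 1} : Ideal R) : Set R) S := by
    rw [Set.disjoint_left]
    rintro s hsI ⟨⟨i, hsi⟩, hsq⟩
    obtain ⟨a, ha, b, hb, rfl⟩ := Submodule.mem_sup.mp hsI
    obtain ⟨c, rfl⟩ := Ideal.mem_span_singleton'.mp hb
    -- work in `R ⧸ q`
    have hkill : ∀ a' ∈ q, ∀ z : R ⧸ q, a' • z = 0 := by
      intro a' ha' z
      obtain ⟨r, rfl⟩ := Submodule.Quotient.mk_surjective _ z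
      rw [← Submodule.Quotient.mk_smul, Submodule.Quotient.mk_eq_zero]
      exact Ideal.mul_mem_right r q ha'
    have hinj : ∀ (j' : ℤ) (s' : R), s' ∈ 𝒜 j' → s' ∉ q → ∀ z : R ⧸ q, s' • z = 0 → z = 0 := by
      intro j' s' _ hs'q z hz
      obtain ⟨r, rfl⟩ := Submodule.Quotient.mk_surjective _ z
      rw [← Submodule.Quotient.mk_smul, Submodule.Quotient.mk_eq_zero] at hz
      rw [Submodule.Quotient.mk_eq_zero]
      rcases hqp.mem_or_mem hz with h | h
      · exact absurd h hs'q
      · exact h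
    have hu : (Submodule.Quotient.mk c : R ⧸ q) ≠ 0 := by
      intro h
      rw [Submodule.Quotient.mk_eq_zero] at h
      apply hsq
      exact q.add_mem ha (Ideal.mul_mem_right _ q h)
    have hhom : (t - 1) • (Submodule.Quotient.mk c : Q.carrier) ∈ Q.gr i := by
      refine ⟨a + c * (t - 1), hsi, ?_⟩
      change (Submodule.Quotient.mk (a + c * (t - 1)) : R ⧸ q) =
        (t - 1) • (Submodule.Quotient.mk c : R ⧸ q)
      rw [← Submodule.Quotient.mk_smul, Submodule.Quotient.eq]
      have : a + c * (t - 1) - (t - 1) • c = a := by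
        rw [smul_eq_mul]; ring
      rw [this]
      exact ha
    obtain ⟨j₀, hj₀⟩ := Groth.Agent.Lib.Helper24.GrNonInjA.exists_forall_ne_mem 𝒜 Q.gr q (t - 1)
      (Submodule.Quotient.mk c : Q.carrier) (fun a' ha' i' => hkill a' ha' _) hinj hu hfq hhom
    by_cases hj₀j : j₀ = j
    · have := hj₀ 0 (by rw [hj₀j]; exact Ne.symm hj)
      rw [hc0] at this
      exact hneg1 this
    · have := hj₀ j (Ne.symm hj₀j)
      rw [hcj] at this
      exact htq this
  obtain ⟨p, hpp, hIp, hpS⟩ := Ideal.exists_le_prime_disjoint _ S hdisj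
  have hqp' : q ≤ p := le_sup_left.trans hIp
  have htp : t - 1 ∈ p := hIp (Submodule.mem_sup_right (Ideal.mem_span_singleton_self _))
  have hhomq : ∀ (i : ℤ) (r : R), r ∈ 𝒜 i → r ∈ p → r ∈ q := by
    intro i r hri hrp
    by_contra hrq
    exact Set.disjoint_left.mp hpS hrp ⟨⟨i, hri⟩, hrq⟩
  refine ⟨p, hpp, ?_, ?_⟩
  · intro hph
    have := hph 0 htp
    rw [hc0] at this
    apply hpp.ne_top
    rw [Ideal.eq_top_iff_one]
    simpa using p.neg_mem this
  · apply le_antisymm
    · intro r hr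
      rw [← sum_support_decompose 𝒜 r]
      apply Ideal.sum_mem
      intro i _
      have h1 : (decompose 𝒜 r i : R) ∈ (Ideal.homogeneousCore 𝒜 p).toIdeal :=
        (Ideal.homogeneousCore 𝒜 p).isHomogeneous i hr
      exact hhomq i _ (decompose 𝒜 r i).2 (Ideal.toIdeal_homogeneousCore_le 𝒜 p h1)
    · have h1 : (⟨q, hq⟩ : HomogeneousIdeal 𝒜) ≤ Ideal.homogeneousCore 𝒜 p :=
        (Ideal.homogeneousCore.gc 𝒜 _ _).mp hqp'
      exact h1

end Groth.Agent.Lib.Helper24.GrNonInjC
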