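import Mathlib
import Groth.Prelude.Def_GrLC
import Groth.Agent.Lib.Helper24.GrNonInjA
import Groth.Agent.Lib.Helper24.GrNonInjB
import Groth.Agent.Lib.Helper24.GrNonInjC
import Groth.Agent.Lib.Helper8.GrInjComp
import Groth.Agent.Lib.Helper30.GradedAss

/-!
# When a *injective module is not injective (helper24)

A *injective graded module over a Noetherian `ℤ`-graded ring fails to be injective exactly when
the graded core of some non-graded prime is an associated prime.
-/

set_option autoImplicit false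
set_option linter.unusedSectionVars false
set_option linter.style.haveILetI false

namespace Groth.Agent.Lib.Helper24.GrNonInjD

open DirectSum GrLC
open Groth.Agent.Lib.Helper30 Groth.Agent.Lib.Helper24.GrNonInjC

universe u

variable {R : Type u} [CommRing R] (𝒜 : ℤ → AddSubgroup R) [GradedRing 𝒜]
variable {X : Type u} [AddCommGroup X] [Module R X] (𝒳 : ℤ → AddSubgroup X)
  [DirectSum.Decomposition 𝒳] [SetLike.GradedSMul 𝒜 𝒳]

/-- A homogeneous ideal killing an element kills its components. -/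
theorem kill_components {q : Ideal R} (hq : q.IsHomogeneous 𝒜) (u : X)
    (h : ∀ a ∈ q, a • u = 0) : ∀ a ∈ q, ∀ i, a • (decompose 𝒳 u i : X) = 0 := by
  classical
  have hhom : ∀ (j : ℤ) (a : R), a ∈ 𝒜 j → a ∈ q → ∀ i, a • (decompose 𝒳 u i : X) = 0 := by
    intro j a haj haq i
    rw [← decompose_smul_of_mem 𝒜 𝒳 haj u i, h a haq, decompose_zero]
    rfl
  intro a ha i
  rw [← sum_support_decompose 𝒜 a, Finset.sum_smul]
  apply Finset.sum_eq_zero
  intro j _
  exact hhom j _ (decompose 𝒜 a j).2 (hq j ha) i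

variable [IsNoetherianRing R]
variable {M : Type u} [AddCommGroup M] [Module R M] (ℳ : ℤ → AddSubgroup M)
  [DirectSum.Decomposition ℳ] [SetLike.GradedSMul 𝒜 ℳ]

/-- If no non-graded prime has its core associated to `M`, the *injective module `M` is
injective. -/
theorem injective_of_forall (hM : IsStarInj 𝒜 ℳ)
    (hcon : ∀ p : Ideal R, p.IsPrime → ¬ Ideal.IsHomogeneous 𝒜 p →
      (Ideal.homogeneousCore 𝒜 p).toIdeal ∉ associatedPrimes R M) : Module.Injective R M := by
  classical
  have htors_hom : ∀ (g : ℤ) (x : M), x ∈ ℳ g → ∃ n : ℕ, ∀ r ∈ offIdeal 𝒜 ^ n, r • x = 0 := by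
    intro g x hx
    haveI : Module.Finite R ↥(Submodule.span R {x}) := Module.Finite.span_singleton R x
    have hsub := Module.associatedPrimes.minimalPrimes_annihilator_subset_associatedPrimes R
      ↥(Submodule.span R {x})
    have hannhom : (Module.annihilator R ↥(Submodule.span R {x})).IsHomogeneous 𝒜 :=
      annihilator_span_singleton_isHomogeneous 𝒜 ℳ hx
    have key : ∀ P ∈ (Module.annihilator R ↥(Submodule.span R {x})).minimalPrimes,
        offIdeal 𝒜 ≤ P := by
      intro P hP
      have hPprime : P.IsPrime := hP.1.1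
      have hPass : P ∈ associatedPrimes R M :=
        (associatedPrimes.subset_of_injective (f := (Submodule.span R {x}).subtype)
          (Submodule.subtype_injective _)) (hsub hP)
      have hcoreP : (Ideal.homogeneousCore 𝒜 P).toIdeal.IsPrime := hPprime.homogeneousCore
      have hle : Module.annihilator R ↥(Submodule.span R {x}) ≤
          (Ideal.homogeneousCore 𝒜 P).toIdeal :=
        hannhom.toIdeal_homogeneousCore_eq_self.symm.trans_le
          (Ideal.homogeneousCore_mono _ hP.1.2)
      have hPle : P ≤ (Ideal.homogeneousCore 𝒜 P).toIdeal :=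
        hP.2 ⟨hcoreP, hle⟩ (Ideal.toIdeal_homogeneousCore_le 𝒜 P)
      have hPeq : (Ideal.homogeneousCore 𝒜 P).toIdeal = P :=
        le_antisymm (Ideal.toIdeal_homogeneousCore_le 𝒜 P) hPle
      have hPhom : P.IsHomogeneous 𝒜 := by
        rw [← hPeq]
        exact (Ideal.homogeneousCore 𝒜 P).isHomogeneous
      by_contra hnot
      have hex : ∃ j : ℤ, j ≠ 0 ∧ ∃ t ∈ 𝒜 j, t ∉ P := by
        by_contra hall
        push Not at hall
        exact hnot (offIdeal_le 𝒜 hall)
      obtain ⟨j, hj, t, ht, htP⟩ := hex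
      obtain ⟨p, hpp, hph, hpc⟩ := exists_prime_core 𝒜 P hPhom hj ht htP
      apply hcon p hpp hph
      rw [hpc]
      exact hPass
    have hrad : offIdeal 𝒜 ≤ (Module.annihilator R ↥(Submodule.span R {x})).radical := by
      rw [← Ideal.sInf_minimalPrimes]
      exact le_sInf key
    obtain ⟨n, hn⟩ := Ideal.exists_pow_le_of_le_radical_of_fg hrad
      (IsNoetherian.noetherian _)
    refine ⟨n, fun r hr => ?_⟩
    have h1 : r ∈ (Submodule.span R {x}).annihilator := hn hr
    exact (Submodule.mem_annihilator_span_singleton x r).mp h1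
  have htors : ∀ x : M, ∃ n : ℕ, ∀ r ∈ offIdeal 𝒜 ^ n, r • x = 0 := by
    intro x
    induction x using DirectSum.Decomposition.inductionOn ℳ with
    | zero => exact ⟨0, fun r _ => smul_zero r⟩
    | @homogeneous i x => exact htors_hom i x x.2
    | add x y hx hy =>
      obtain ⟨n₁, hn₁⟩ := hx
      obtain ⟨n₂, hn₂⟩ := hy
      refine ⟨max n₁ n₂, fun r hr => ?_⟩
      rw [smul_add, hn₁ r (Ideal.pow_le_pow_right (le_max_left _ _) hr),
        hn₂ r (Ideal.pow_le_pow_right (le_max_right _ _) hr), add_zero]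
  apply Groth.Agent.Lib.Helper24.GrNonInjB.injective_of_torsion (offIdeal 𝒜) htors
  intro p _ hp h
  exact Groth.Agent.Lib.Helper8.GrInjComp.exists_smul_eq ℳ hM
    ⟨p, isHomogeneous_of_offIdeal_le 𝒜 hp⟩ h

/-- If the core of a non-graded prime is associated to `M`, then `M` is not injective. -/
theorem not_injective_of_exists (hM : IsStarInj 𝒜 ℳ) (p : Ideal R) [p.IsPrime]
    (hph : ¬ Ideal.IsHomogeneous 𝒜 p)
    (hq : (Ideal.homogeneousCore 𝒜 p).toIdeal ∈ associatedPrimes R M)
    (hinj : Module.Injective R M) : False := by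
  classical
  have hqhom : (Ideal.homogeneousCore 𝒜 p).toIdeal.IsHomogeneous 𝒜 :=
    (Ideal.homogeneousCore 𝒜 p).isHomogeneous
  have hqp : (Ideal.homogeneousCore 𝒜 p).toIdeal ≤ p := Ideal.toIdeal_homogeneousCore_le 𝒜 p
  obtain ⟨hqprime, x₀, hx₀⟩ := isAssociatedPrime_iff.mp hq
  generalize hqdef : (Ideal.homogeneousCore 𝒜 p).toIdeal = q at hqhom hqp hqprime hx₀
  have hmem₀ : ∀ r, r ∈ q ↔ r • x₀ = 0 := by
    intro r
    rw [hx₀, Submodule.mem_colon_singleton, Submodule.mem_bot]
  have hcomp₀ := kill_components 𝒜 ℳ hqhom x₀ (fun a ha => (hmem₀ a).mp ha)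
  -- a homogeneous element with annihilator `q`
  obtain ⟨i, hi⟩ : ∃ i, ∀ r, r • (decompose ℳ x₀ i : M) = 0 → r ∈ q := by
    by_contra hcon
    push Not at hcon
    choose c hc using hcon
    have hprod : (∏ i ∈ (decompose ℳ x₀).support, c i) • x₀ = 0 := by
      rw [← sum_support_decompose ℳ x₀, Finset.smul_sum]
      apply Finset.sum_eq_zero
      intro i hi
      obtain ⟨d, hd⟩ := Finset.dvd_prod_of_mem c hi
      rw [sum_support_decompose ℳ x₀, hd, mul_comm, mul_smul, (hc i).1, smul_zero]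
    have := (hmem₀ _).mpr hprod
    rw [hqprime.prod_mem_iff] at this
    obtain ⟨i, _, hi⟩ := this
    exact (hc i).2 hi
  obtain ⟨x, hxi, hi, hqx⟩ : ∃ x : M, x ∈ ℳ i ∧ (∀ r, r • x = 0 → r ∈ q) ∧
      ∀ a ∈ q, a • x = 0 :=
    ⟨(decompose ℳ x₀ i : M), (decompose ℳ x₀ i).2, hi, fun a ha => hcomp₀ a ha i⟩
  have h1q : (1 : R) ∉ q := fun h => hqprime.ne_top ((Ideal.eq_top_iff_one q).mpr h)
  have hx0 : x ≠ 0 := by
    intro h
    apply h1q
    apply hi
    rw [h, smul_zero]
  have hann : (Submodule.span R {x}).annihilator =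
      (Ideal.homogeneousCore 𝒜 p).toIdeal := by
    rw [hqdef]
    ext r
    rw [Submodule.mem_annihilator_span_singleton]
    exact ⟨hi r, hqx r⟩
  obtain ⟨E₀, hE₀, fE, -, hf1, hessIn, C, -, hcompl⟩ :=
    exists_summand_hull 𝒜 ℳ hM (Ideal.homogeneousCore 𝒜 p) i x hxi hann
  have hxE : x ∈ E₀ := by
    rw [← hf1]
    exact (fE 1).2
  -- homogeneous elements outside `q` act injectively on `E₀`
  have hinjM : ∀ (j : ℤ) (s : R), s ∈ 𝒜 j → s ∉ q → ∀ z : M, z ∈ E₀ → s • z = 0 → z = 0 := by
    intro j s hs hsq z hz hsz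
    rw [← sum_support_decompose ℳ z]
    apply Finset.sum_eq_zero
    intro k _
    by_contra hk
    have hszk : s • (decompose ℳ z k : M) = 0 := by
      rw [← decompose_smul_of_mem 𝒜 ℳ hs z k, hsz, decompose_zero]
      rfl
    obtain ⟨r, ⟨w, hw⟩, hr0⟩ := hessIn k _ (decompose ℳ z k).2 (hE₀ k hz) hk
    obtain ⟨c, rfl⟩ := Ideal.Quotient.mk_surjective w
    rw [quotToModule_mk] at hw
    have hcq : c ∉ q := by
      intro hc
      apply hr0
      rw [← hw, hqx c hc]
    have h2 : (s * c) • x = 0 := by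
      rw [mul_smul, hw, smul_comm, hszk, smul_zero]
    rcases hqprime.mem_or_mem (hi _ h2) with h | h
    · exact hsq h
    · exact hcq h
  -- an element of `p` outside `q`
  obtain ⟨f, hfp, hfq⟩ : ∃ f ∈ p, f ∉ q := by
    by_contra hcon
    push Not at hcon
    apply hph
    have : p = q := le_antisymm hcon hqp
    rw [this]
    exact hqhom
  -- divide `x` by `f` in the injective module `M`
  obtain ⟨y, hfy, hqy⟩ : ∃ y : M, f • y = x ∧ ∀ a ∈ q, a • y = 0 := by
    let mulf : (R ⧸ q) →ₗ[R] (R ⧸ q) := LinearMap.lsmul R (R ⧸ q) f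
    have hmulf : Function.Injective mulf := by
      rw [← LinearMap.ker_eq_bot, LinearMap.ker_eq_bot']
      intro z hz
      obtain ⟨r, rfl⟩ := Submodule.Quotient.mk_surjective _ z
      change f • (Submodule.Quotient.mk r : R ⧸ q) = 0 at hz
      rw [← Submodule.Quotient.mk_smul, Submodule.Quotient.mk_eq_zero] at hz
      rw [Submodule.Quotient.mk_eq_zero]
      rcases hqprime.mem_or_mem hz with h | h
      · exact absurd h hfq
      · exact h
    let gx : (R ⧸ q) →ₗ[R] M := Submodule.liftQ q (LinearMap.toSpanSingleton R M x) (by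
      intro a ha
      rw [LinearMap.mem_ker, LinearMap.toSpanSingleton_apply]
      exact hqx a ha)
    obtain ⟨h, hh⟩ := Module.Injective.extension_property R M _ _ mulf hmulf gx
    refine ⟨h (Submodule.Quotient.mk 1), ?_, fun a ha => ?_⟩
    · rw [← map_smul]
      have h1 : h (mulf (Submodule.Quotient.mk 1)) = gx (Submodule.Quotient.mk 1) := by
        rw [← hh]
        rfl
      have h2 : gx (Submodule.Quotient.mk 1) = x := by
        have : gx (Submodule.Quotient.mk 1) = (LinearMap.toSpanSingleton R M x) 1 :=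
          Submodule.liftQ_apply _ _ _
        rw [this, LinearMap.toSpanSingleton_apply, one_smul]
      rw [← h2, ← h1]
      rfl
    · rw [← map_smul, ← Submodule.Quotient.mk_smul]
      have : (Submodule.Quotient.mk (a • (1 : R)) : R ⧸ q) = 0 := by
        rw [Submodule.Quotient.mk_eq_zero, smul_eq_mul, mul_one]
        exact ha
      rw [this, map_zero]
  -- project to `E₀`
  let XG : GMod.{u} 𝒜 := gmodSub 𝒜 ℳ E₀ hE₀
  let π : M →ₗ[R] ↥E₀ := Submodule.projectionOnto E₀ C hcompl
  have hπx : π x = ⟨x, hxE⟩ := Submodule.projectionOnto_apply_left hcompl ⟨x, hxE⟩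
  have hfu : f • π y = ⟨x, hxE⟩ := by rw [← map_smul, hfy, hπx]
  have hu : π y ≠ 0 := by
    intro h
    apply hx0
    have := hfu
    rw [h, smul_zero] at this
    exact (congrArg Subtype.val this).symm
  have hkillu : ∀ a ∈ q, a • π y = 0 := by
    intro a ha
    rw [← map_smul, hqy a ha, map_zero]
  have hhom : f • (show XG.carrier from π y) ∈ XG.gr i := by
    change ((f • π y : ↥E₀) : M) ∈ ℳ i
    rw [hfu]
    exact hxi
  have hinjE : ∀ (j : ℤ) (s : R), s ∈ 𝒜 j → s ∉ q → ∀ z : XG.carrier, s • z = 0 → z = 0 := by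
    intro j s hs hsq z hz
    apply Subtype.ext
    exact hinjM j s hs hsq z.1 z.2 (congrArg Subtype.val hz)
  obtain ⟨j₀, hj₀⟩ := Groth.Agent.Lib.Helper24.GrNonInjA.exists_forall_ne_mem 𝒜 XG.gr q f
    (show XG.carrier from π y) (kill_components 𝒜 XG.gr hqhom _ hkillu) hinjE hu hfq hhom
  -- `f` is homogeneous modulo `q`, hence lies in `q`
  apply hfq
  have hrest : ∑ k ∈ (decompose 𝒜 f).support.erase j₀, (decompose 𝒜 f k : R) ∈ q := by
    apply Ideal.sum_mem
    intro k hk
    exact hj₀ k (Finset.ne_of_mem_erase hk)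
  by_cases hj₀s : j₀ ∈ (decompose 𝒜 f).support
  · have h1 := Finset.add_sum_erase (decompose 𝒜 f).support
      (fun k => (decompose 𝒜 f k : R)) hj₀s
    rw [sum_support_decompose 𝒜 f] at h1
    have h2 : (decompose 𝒜 f j₀ : R) ∈ p := by
      have : (decompose 𝒜 f j₀ : R) = f - ∑ k ∈ (decompose 𝒜 f).support.erase j₀,
          (decompose 𝒜 f k : R) := by
        rw [eq_sub_iff_add_eq]
        exact h1
      rw [this]
      exact p.sub_mem hfp (hqp hrest)
    have h3 : (decompose 𝒜 f j₀ : R) ∈ q := by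
      rw [← hqdef]
      exact Ideal.mem_homogeneousCore_of_homogeneous_of_mem ⟨j₀, (decompose 𝒜 f j₀).2⟩ h2
    rw [← h1]
    exact q.add_mem h3 hrest
  · rw [← sum_support_decompose 𝒜 f]
    apply Ideal.sum_mem
    intro k hk
    apply hj₀ k
    rintro rfl
    exact hj₀s hk

end Groth.Agent.Lib.Helper24.GrNonInjD
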