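import Groth.Agent.Lib.Helper94.KosDivDefs

set_option autoImplicit false

universe u

open CategoryTheory CategoryTheory.Limits AlgebraicGeometry Opposite TopologicalSpace

open Groth.Agent.Lib.Lead.Inv Groth.Agent.Lib.Helper94.KosDiv

namespace Groth.Agent.Lib.Helper24.KosDivBAS

variable {X : Scheme.{u}}

open Groth.Agent.Lib.Helper22.IdealModAff in
/-- A generator of the ideal module on an affine open gives a nonzerodivisor generating the ideal. -/
theorem gen_props (I : X.IdealSheafData) (V : X.Opens) (hV : IsAffineOpen V)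
    (e' : Γ(ClSub.idealMod I, V)) (he' : IsGen (ClSub.idealMod I) V e') :
    incl I V e' ∈ nonZeroDivisors Γ(X, V) ∧ I.ideal ⟨V, hV⟩ = Ideal.span {incl I V e'} := by
  have hbij : Function.Bijective (fun r : Γ(X, V) => r • e') := by
    have h0 := he' V le_rfl
    have hfun : (fun r : Γ(X, V) => r • (ClSub.idealMod I).presheaf.map
        (homOfLE (le_refl V)).op e') = fun r : Γ(X, V) => r • e' := by
      funext r
      rw [Groth.Agent.Lib.Lead.QCohAff.res_self]
    rw [← hfun]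
    exact h0
  refine ⟨?_, ?_⟩
  · rw [mem_nonZeroDivisors_iff_right]
    intro r hr
    have h1 : incl I V (r • e') = 0 := by rw [_root_.map_smul]; exact hr
    have h2 : r • e' = 0 := incl_injective I V (h1.trans (map_zero _).symm)
    have h3 : (0 : Γ(X, V)) • e' = 0 := zero_smul _ _
    exact hbij.1 (h2.trans h3.symm)
  · ext a
    rw [mem_ideal_iff I ⟨V, hV⟩, Ideal.mem_span_singleton']
    constructor
    · rintro ⟨t, rfl⟩
      obtain ⟨r, rfl⟩ := hbij.2 t
      exact ⟨r, ((incl I V).map_smul r e').symm⟩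
    · rintro ⟨r, rfl⟩
      exact ⟨r • e', (incl I V).map_smul r e'⟩

/-- Finite intersection of neighbourhoods with generators. -/
theorem exists_common_nhd (n : ℕ) (IY : Fin n → X.IdealSheafData)
    (hY : ∀ i, BlowUp.IsEffCartierIdeal (IY i)) (x : X) :
    ∃ U : X.Opens, x ∈ U ∧ ∀ i, ∃ (Ui : X.Opens) (_ : U ≤ Ui) (e : Γ(ClSub.idealMod (IY i), Ui)),
      IsGen (ClSub.idealMod (IY i)) Ui e := by
  have h : ∀ i, ∃ (Ui : X.Opens), x ∈ Ui ∧ ∃ e : Γ(ClSub.idealMod (IY i), Ui),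
      IsGen (ClSub.idealMod (IY i)) Ui e := fun i =>
    (isInvertible_iff_exists_isGen.mp
      (Groth.Agent.Lib.Helper22.IdealModAff.isInvertible_of_isEffCartierIdeal (IY i) (hY i))) x
  choose Ui hxUi e he using h
  refine ⟨Finset.univ.inf Ui, ?_, fun i => ⟨Ui i, Finset.inf_le (Finset.mem_univ i), e i, he i⟩⟩
  have : ∀ s : Finset (Fin n), x ∈ s.inf Ui := by
    intro s
    induction s using Finset.induction_on with
    | empty => simp
    | insert a s _ ih =>
      rw [Finset.inf_insert]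
      exact ⟨hxUi a, ih⟩
  exact this _

theorem isBasis_good (n : ℕ) (IY : Fin n → X.IdealSheafData)
    (hY : ∀ i, BlowUp.IsEffCartierIdeal (IY i)) (ID : X.IdealSheafData)
    (hD : BlowUp.IsEffCartierIdeal ID) :
    Opens.IsBasis {U : X.Opens | ∃ hU : IsAffineOpen U,
      (∃ l : Γ(ClSub.idealMod ID, U), IsGen (ClSub.idealMod ID) U l ∧
        Groth.Agent.Lib.Helper22.IdealModAff.incl ID U l ∈ nonZeroDivisors Γ(X, U) ∧
        ID.ideal ⟨U, hU⟩ = Ideal.span {Groth.Agent.Lib.Helper22.IdealModAff.incl ID U l}) ∧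
      ∀ i, ∃ f ∈ nonZeroDivisors Γ(X, U), (IY i).ideal ⟨U, hU⟩ = Ideal.span {f}} := by
  rw [Opens.isBasis_iff_nbhd]
  intro W x hxW
  obtain ⟨U₁, hx₁, l, hl⟩ := (isInvertible_iff_exists_isGen.mp
    (Groth.Agent.Lib.Helper22.IdealModAff.isInvertible_of_isEffCartierIdeal ID hD)) x
  obtain ⟨U₂, hx₂, hU₂⟩ := exists_common_nhd n IY hY x
  obtain ⟨_, ⟨U, hU, rfl⟩, hxU, hUle⟩ :=
    X.isBasis_affineOpens.exists_subset_of_mem_open
      (show x ∈ ((U₁ ⊓ U₂ ⊓ W : X.Opens) : Set X) from ⟨⟨hx₁, hx₂⟩, hxW⟩) (U₁ ⊓ U₂ ⊓ W).2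
  have hU₁ : U ≤ U₁ := fun y hy => (hUle hy).1.1
  have hU₂' : U ≤ U₂ := fun y hy => (hUle hy).1.2
  have hUW : U ≤ W := fun y hy => (hUle hy).2
  refine ⟨U, ⟨hU, ?_, ?_⟩, hxU, hUW⟩
  · have hg := hl.res hU₁
    obtain ⟨h1, h2⟩ := gen_props ID U hU _ hg
    exact ⟨_, hg, h1, h2⟩
  · intro i
    obtain ⟨Ui, hUi, e, he⟩ := hU₂ i
    have hg := he.res (hU₂'.trans hUi)
    obtain ⟨h1, h2⟩ := gen_props (IY i) U hU _ hg
    exact ⟨_, h1, h2⟩

end Groth.Agent.Lib.Helper24.KosDivBAS
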