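import Mathlib
import Groth.Agent.Lib.Helper80.Node.Defs

set_option autoImplicit false
universe u
open Groth.Agent.Lib.Helper80.Node

namespace Groth.Agent.Lib.Helper24.NodeNQF

/-- A domain `D`, quasi-finite over `P` through `φ : P →+* D` whose image lies in a subalgebra
`k' ⊆ D` that is module-finite over a field `k`, is a field. -/
theorem isField_of_quasiFinite_of_range_le {k P D : Type u} [Field k] [CommRing P] [CommRing D]
    [IsDomain D] [Algebra k D] (k' : Subalgebra k D) [Module.Finite k k'] (φ : P →+* D)
    (hφ : ∀ p, φ p ∈ k') (hq : φ.QuasiFinite) : IsField D := by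
  -- factor φ through k'
  let χ : P →+* k' := φ.codRestrict k'.toSubsemiring hφ
  have hfac : φ = (algebraMap k' D).comp χ := by
    ext p
    rfl
  rw [hfac] at hq
  have h1 : (algebraMap k' D).QuasiFinite := RingHom.QuasiFinite.of_comp hq
  have h2 : Algebra.QuasiFinite k' D := RingHom.quasiFinite_algebraMap.mp h1
  have h3 : Algebra.QuasiFinite k D := Algebra.QuasiFinite.trans k k' D
  have h4 : Module.Finite k D := Module.Finite.of_quasiFinite
  have h5 : Algebra.IsIntegral k D := Algebra.IsIntegral.of_finite k D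
  exact isField_of_isIntegral_of_isField' (Field.toIsField k)

theorem nqf {V B : Type u} [CommRing V] [IsLocalRing V] [CommRing B] [Algebra V B]
    [Algebra.FiniteType V B] [CharZero (IsLocalRing.ResidueField V)]
    (hC0 : ∀ (k : Type u) [Field k] [CharZero k] (D : Type u) [CommRing D] [IsDomain D]
      [Algebra k D] [Algebra.FiniteType k D] (t : D), KaehlerDifferential.D k D t = 0 →
        IsAlgebraic k t)
    (I : Ideal B) [I.IsPrime] (hI : IsLocalRing.maximalIdeal V ≤ I.comap (algebraMap V B))
    (hnf : ¬ IsField (B ⧸ I)) (f : B)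
    (hD : KaehlerDifferential.D V (B ⧸ I) (Ideal.Quotient.mk I f) = 0) :
    ¬ (Polynomial.aeval f : Polynomial V →ₐ[V] B).toRingHom.QuasiFinite := by
  intro hq
  apply hnf
  -- the residue field acts on `B ⧸ I`
  let ρ : IsLocalRing.ResidueField V →+* (B ⧸ I) :=
    Ideal.Quotient.lift (IsLocalRing.maximalIdeal V) (algebraMap V (B ⧸ I)) (by
      intro a ha
      have := hI ha
      rw [Ideal.mem_comap] at this
      rw [IsScalarTower.algebraMap_apply V B (B ⧸ I)]
      exact Ideal.Quotient.eq_zero_iff_mem.mpr this)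
  letI : Algebra (IsLocalRing.ResidueField V) (B ⧸ I) := ρ.toAlgebra
  haveI : IsScalarTower V (IsLocalRing.ResidueField V) (B ⧸ I) :=
    IsScalarTower.of_algebraMap_eq (fun a => rfl)
  haveI : Algebra.FiniteType V (B ⧸ I) :=
    Algebra.FiniteType.of_surjective (Ideal.Quotient.mkₐ V I) (Ideal.Quotient.mkₐ_surjective V I)
  haveI : Algebra.FiniteType (IsLocalRing.ResidueField V) (B ⧸ I) :=
    Algebra.FiniteType.of_restrictScalars_finiteType V (IsLocalRing.ResidueField V) (B ⧸ I)
  -- the differential over the residue field vanishes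
  have hDk : KaehlerDifferential.D (IsLocalRing.ResidueField V) (B ⧸ I) (Ideal.Quotient.mk I f) = 0 := by
    have h := KaehlerDifferential.map_D V (IsLocalRing.ResidueField V) (B ⧸ I) (B ⧸ I)
      (Ideal.Quotient.mk I f)
    rw [hD, map_zero] at h
    simpa using h.symm
  have halg : IsAlgebraic (IsLocalRing.ResidueField V) (Ideal.Quotient.mk I f) :=
    hC0 (IsLocalRing.ResidueField V) (B ⧸ I) (Ideal.Quotient.mk I f) hDk
  have hint : IsIntegral (IsLocalRing.ResidueField V) (Ideal.Quotient.mk I f) := halg.isIntegral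
  haveI : Module.Finite (IsLocalRing.ResidueField V)
      (Algebra.adjoin (IsLocalRing.ResidueField V) {Ideal.Quotient.mk I f}) :=
    Algebra.finite_adjoin_simple_of_isIntegral hint
  -- the composite V[T] → B → B ⧸ I
  let φ : Polynomial V →+* (B ⧸ I) :=
    (Ideal.Quotient.mk I).comp (Polynomial.aeval f : Polynomial V →ₐ[V] B).toRingHom
  have hφq : φ.QuasiFinite := by
    apply RingHom.QuasiFinite.comp _ hq
    exact RingHom.QuasiFinite.of_finite (RingHom.Finite.of_surjective _ Ideal.Quotient.mk_surjective)
  have hφ : ∀ p, φ p ∈ Algebra.adjoin (IsLocalRing.ResidueField V) {Ideal.Quotient.mk I f} := by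
    intro p
    have h1 : φ p = Polynomial.aeval (Ideal.Quotient.mk I f) p := by
      show (Ideal.Quotient.mkₐ V I) (Polynomial.aeval f p) = _
      rw [← Polynomial.aeval_algHom_apply]
      rfl
    rw [h1, ← Polynomial.aeval_map_algebraMap (IsLocalRing.ResidueField V)]
    exact Polynomial.aeval_mem_adjoin_singleton _ _
  exact isField_of_quasiFinite_of_range_le
    (Algebra.adjoin (IsLocalRing.ResidueField V) {Ideal.Quotient.mk I f}) φ hφ hφq

end Groth.Agent.Lib.Helper24.NodeNQF
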