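import Mathlib
import Groth.Agent.Lib.Helper80.NormalDim2
import Groth.Agent.Lib.Helper38.WeakUnram
import Groth.Agent.Lib.Helper56.RkLift

/-!
# Reduced principal divisors in catenary normal local domains (helper24)

Generalises helper80's `NormalDim2.exists_reduced` (dimension two) to catenary Noetherian local
normal domains of any dimension (Stacks-style: for finitely many height one primes there is a
nonzero `f` in all of them with `A/f` reduced).  The Artinian ring `A/(f0,y)` of the dimension two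
proof is replaced by the finite family of Artinian rings `A_Q/(f0,y)A_Q`, `Q` minimal over `(f0,y)`
(these have height two by catenarity, and every height one prime over an `f` in the family lies in
one of them); the measure is the tuple of images of `rad(f) + (y)`, well-founded for the product
order.
-/

set_option autoImplicit false
universe u
open IsLocalRing

namespace Groth.Agent.Lib.Helper24.NormalRed

open Groth.Agent.Lib.Helper80.NormalDim2



section general
variable {A : Type u} [CommRing A] [IsDomain A] [IsNoetherianRing A] [IsIntegrallyClosed A]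

theorem mem_span_of_forall_height_one' {f : A} (hf : f ≠ 0) (x : A)
    (h : ∀ t : Ideal A, t.IsPrime → t.height = 1 → f ∈ t → ∃ s, s ∉ t ∧ s * x ∈ Ideal.span {f}) :
    x ∈ Ideal.span {f} := by
  rw [Ideal.mem_span_singleton]
  apply Groth.Agent.Lib.Helper38.WeakUnram.dvd_of_forall_height_one f x hf
  intro q hq hq1
  by_cases hfq : f ∈ q
  · obtain ⟨s, hs, hsx⟩ := h q hq hq1 hfq
    exact ⟨s, hs, Ideal.mem_span_singleton.mp hsx⟩
  · exact ⟨f, hfq, dvd_mul_right f x⟩

theorem isRadical_of_forall_notMem_sym2' {f : A} (hf : f ≠ 0)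
    (h : ∀ (t : Ideal A) [t.IsPrime], t.height = 1 → f ∈ t → f ∉ sym2 t) :
    (Ideal.span {f}).IsRadical := by
  intro x hx
  obtain ⟨n, hn⟩ := hx
  apply mem_span_of_forall_height_one' hf
  intro t htp ht hft
  have hxt : x ∈ t := by
    apply Ideal.IsPrime.mem_of_pow_mem htp n
    exact (Ideal.span_singleton_le_iff_mem _).mpr hft hn
  exact exists_mul_mem_span_of_notMem_sym2 t ht hft (h t ht hft) hxt

end general




theorem isEquidim_of_isDomain (R : Type*) [CommRing R] [IsDomain R] : EGA4.IsEquidim R := by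
  intro p hp
  have : p = ⊥ := by
    have h := @hp.2 (⊥ : Ideal R) ⟨Ideal.isPrime_bot, le_rfl⟩ bot_le
    exact le_bot_iff.mp h
  rw [this]
  exact ringKrullDim_eq_of_ringEquiv (RingEquiv.quotientBot R)

section cat
variable {A : Type u} [CommRing A] [IsDomain A] [IsNoetherianRing A]

omit [IsDomain A] in
/-- a prime minimal over `u + (y)` covers `u`. -/
theorem covBy_of_mem_minimalPrimes (u Q : Ideal A) [hu : u.IsPrime] [hQ : Q.IsPrime] (y : A) (hyu : y ∉ u)
    (hQmin : Q ∈ (u ⊔ Ideal.span {y}).minimalPrimes) :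
    (⟨u, hu⟩ : PrimeSpectrum A) ⋖ ⟨Q, hQ⟩ := by
  have huQ : u ≤ Q := le_sup_left.trans hQmin.1.2
  have hyQ : y ∈ Q := hQmin.1.2 (Ideal.mem_sup_right (Ideal.mem_span_singleton_self y))
  have hlt : u < Q := lt_of_le_of_ne huQ (fun h => hyu (h ▸ hyQ))
  refine ⟨hlt, ?_⟩
  intro P hP1 hP2
  have hP1' : u < P.asIdeal := hP1
  have hP2' : P.asIdeal < Q := hP2
  have hPp : P.asIdeal.IsPrime := P.isPrime
  have h1 := Ideal.map_height_le_one_of_mem_minimalPrimes hQmin
  have hsurj := Ideal.Quotient.mk_surjective (I := u)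
  have hker : RingHom.ker (Ideal.Quotient.mk u) = u := Ideal.mk_ker
  have hPprime : (P.asIdeal.map (Ideal.Quotient.mk u)).IsPrime :=
    Ideal.map_isPrime_of_surjective hsurj (by rw [hker]; exact hP1'.le)
  have hQprime : (Q.map (Ideal.Quotient.mk u)).IsPrime :=
    Ideal.map_isPrime_of_surjective hsurj (by rw [hker]; exact huQ)
  have hcP : (P.asIdeal.map (Ideal.Quotient.mk u)).comap (Ideal.Quotient.mk u) = P.asIdeal := by
    rw [Ideal.comap_map_of_surjective _ hsurj, ← RingHom.ker_eq_comap_bot, hker]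
    exact sup_eq_left.mpr hP1'.le
  have hcQ : (Q.map (Ideal.Quotient.mk u)).comap (Ideal.Quotient.mk u) = Q := by
    rw [Ideal.comap_map_of_surjective _ hsurj, ← RingHom.ker_eq_comap_bot, hker]
    exact sup_eq_left.mpr huQ
  have hltPQ : P.asIdeal.map (Ideal.Quotient.mk u) < Q.map (Ideal.Quotient.mk u) := by
    refine lt_of_le_of_ne (Ideal.map_mono hP2'.le) ?_
    intro heq
    have := congrArg (Ideal.comap (Ideal.Quotient.mk u)) heq
    rw [hcP, hcQ] at this
    exact hP2'.ne this
  have hP0 : P.asIdeal.map (Ideal.Quotient.mk u) ≠ ⊥ := by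
    intro h0
    have := congrArg (Ideal.comap (Ideal.Quotient.mk u)) h0
    rw [hcP, ← RingHom.ker_eq_comap_bot, hker] at this
    exact hP1'.ne' this
  have hdom : IsDomain (A ⧸ u) := Ideal.Quotient.isDomain u
  have hh0 : (P.asIdeal.map (Ideal.Quotient.mk u)).height ≠ 0 := by
    rw [Ne, Ideal.height_eq_zero_iff_eq_bot]
    exact hP0
  have hfin : (Q.map (Ideal.Quotient.mk u)).FiniteHeight :=
    ⟨Or.inr (ne_top_of_le_ne_top ENat.one_ne_top h1)⟩
  have h2 := Ideal.height_strict_mono_of_isPrime_of_isPrime hltPQ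
  have h3 : (P.asIdeal.map (Ideal.Quotient.mk u)).height < 1 := lt_of_lt_of_le h2 h1
  exact hh0 (Order.lt_one_iff.mp h3)

variable [IsLocalRing A]

theorem exists_minimalPrime_ge (hcat : CAlg.IsCatenary A) {f : A} (hf : f ≠ 0) (y : A)
    (hy : y ∈ maximalIdeal A)
    (hyf : ∀ t : Ideal A, t.IsPrime → t.height = 1 → f ∈ t → y ∉ t)
    (u : Ideal A) [hu : u.IsPrime] (hu1 : u.height = 1) (hfu : f ∈ u) :
    ∃ Q ∈ (Ideal.span {f} ⊔ Ideal.span {y}).minimalPrimes, u ≤ Q := by
  have hyu : y ∉ u := hyf u hu hu1 hfu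
  have hle : u ⊔ Ideal.span {y} ≤ maximalIdeal A :=
    sup_le (le_maximalIdeal hu.ne_top) ((Ideal.span_singleton_le_iff_mem _).mpr hy)
  obtain ⟨Q, hQmin, -⟩ := Ideal.exists_minimalPrimes_le hle
  have hQ : Q.IsPrime := hQmin.1.1
  have huQ : u ≤ Q := le_sup_left.trans hQmin.1.2
  have hyQ : y ∈ Q := hQmin.1.2 (Ideal.mem_sup_right (Ideal.mem_span_singleton_self y))
  have hcov := covBy_of_mem_minimalPrimes u Q y hyu hQmin
  have hQ2 : Q.height = 2 := by
    have := Groth.Agent.Lib.Helper56.height_eq_add_one_of_covBy hcat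
      (isEquidim_of_isDomain A) _ _ hcov
    simp only at this
    rw [this, hu1]; norm_num
  have hJQ : Ideal.span {f} ⊔ Ideal.span {y} ≤ Q :=
    sup_le ((Ideal.span_singleton_le_iff_mem _).mpr (huQ hfu))
      ((Ideal.span_singleton_le_iff_mem _).mpr hyQ)
  refine ⟨Q, ⟨⟨hQ, hJQ⟩, ?_⟩, huQ⟩
  rintro P ⟨hP, hJP⟩ hPQ
  by_contra hne
  have hlt : P < Q := lt_of_le_of_ne hPQ (fun h => hne h.ge)
  have hQfin : Q.FiniteHeight := ⟨Or.inr (by rw [hQ2]; exact ENat.natCast_ne_top 2)⟩
  have h2 := Ideal.height_strict_mono_of_isPrime_of_isPrime hlt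
  rw [hQ2] at h2
  have hfP : f ∈ P := hJP (Ideal.mem_sup_left (Ideal.mem_span_singleton_self f))
  have hyP : y ∈ P := hJP (Ideal.mem_sup_right (Ideal.mem_span_singleton_self y))
  have h0 : P.height ≠ 0 := by
    rw [Ne, Ideal.height_eq_zero_iff_eq_bot]
    rintro rfl
    exact hf (by simpa using hfP)
  have h1 : P.height ≠ 1 := fun h1 => hyf P hP h1 hfP hyP
  obtain ⟨n, hn⟩ := ENat.ne_top_iff_exists.mp (ne_top_of_lt h2)
  rw [← hn] at h0 h1 h2
  have h2' : n < 2 := by exact_mod_cast h2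
  rcases n with _ | _ | n
  · exact h0 rfl
  · exact h1 rfl
  · omega

end cat



section loc
variable {A : Type u} [CommRing A]

/-- the local ring at a minimal prime of `J`, modulo `J`. -/
abbrev QRing (J Q : Ideal A) [Q.IsPrime] : Type u :=
  Localization.AtPrime Q ⧸ J.map (algebraMap A (Localization.AtPrime Q))

/-- image of an ideal in `QRing`. -/
noncomputable def meas1 (J Q : Ideal A) [Q.IsPrime] (𝔞 : Ideal A) : Ideal (QRing J Q) :=
  (𝔞.map (algebraMap A (Localization.AtPrime Q))).map (Ideal.Quotient.mk _)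

theorem meas1_mono (J Q : Ideal A) [Q.IsPrime] {𝔞 𝔟 : Ideal A} (h : 𝔞 ≤ 𝔟) :
    meas1 J Q 𝔞 ≤ meas1 J Q 𝔟 :=
  Ideal.map_mono (Ideal.map_mono h)

theorem map_le_of_meas1_le (J Q : Ideal A) [Q.IsPrime] {𝔞 𝔟 : Ideal A} (hJ : J ≤ 𝔟)
    (h : meas1 J Q 𝔞 ≤ meas1 J Q 𝔟) :
    𝔞.map (algebraMap A (Localization.AtPrime Q)) ≤ 𝔟.map (algebraMap A (Localization.AtPrime Q)) := by
  have hsurj := Ideal.Quotient.mk_surjective (I := J.map (algebraMap A (Localization.AtPrime Q)))
  have h1 := Ideal.comap_mono (f := Ideal.Quotient.mk (J.map (algebraMap A (Localization.AtPrime Q)))) h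
  unfold meas1 at h1
  rw [Ideal.comap_map_of_surjective _ hsurj, Ideal.comap_map_of_surjective _ hsurj,
    ← RingHom.ker_eq_comap_bot, Ideal.mk_ker] at h1
  have h2 : J.map (algebraMap A (Localization.AtPrime Q)) ≤ 𝔟.map (algebraMap A (Localization.AtPrime Q)) :=
    Ideal.map_mono hJ
  rw [sup_eq_left.mpr h2] at h1
  exact le_sup_left.trans h1

theorem isArtinianRing_QRing [IsNoetherianRing A] (J Q : Ideal A) [hQ : Q.IsPrime]
    (hQmin : Q ∈ J.minimalPrimes) : IsArtinianRing (QRing J Q) := by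
  have hJQ : J.map (algebraMap A (Localization.AtPrime Q)) ≤ maximalIdeal (Localization.AtPrime Q) := by
    rw [← Localization.AtPrime.map_eq_maximalIdeal]
    exact Ideal.map_mono hQmin.1.2
  have : Ring.KrullDimLE 0 (QRing J Q) := by
    refine Ring.krullDimLE_zero_iff.mpr (fun P hP => ?_)
    have hsurj := Ideal.Quotient.mk_surjective (I := J.map (algebraMap A (Localization.AtPrime Q)))
    set P' := P.comap (Ideal.Quotient.mk (J.map (algebraMap A (Localization.AtPrime Q)))) with hP'
    have hP'p : P'.IsPrime := Ideal.comap_isPrime _ _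
    have hJP' : J.map (algebraMap A (Localization.AtPrime Q)) ≤ P' := by
      intro x hx
      rw [hP', Ideal.mem_comap, Ideal.Quotient.eq_zero_iff_mem.mpr hx]
      exact Ideal.zero_mem _
    set P0 := P'.comap (algebraMap A (Localization.AtPrime Q)) with hP0
    have hP0p : P0.IsPrime := Ideal.comap_isPrime _ _
    have hJP0 : J ≤ P0 := Ideal.map_le_iff_le_comap.mp hJP'
    have hP0Q : P0 ≤ Q := by
      have h1 : P' ≤ maximalIdeal (Localization.AtPrime Q) := le_maximalIdeal hP'p.ne_top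
      have h2 := Ideal.comap_mono (f := algebraMap A (Localization.AtPrime Q)) h1
      have h3 : (maximalIdeal (Localization.AtPrime Q)).comap (algebraMap A _) = Q :=
        IsLocalization.AtPrime.under_maximalIdeal _ Q
      rwa [h3] at h2
    have hQP0 : Q ≤ P0 := hQmin.2 ⟨hP0p, hJP0⟩ hP0Q
    have hP0eq : P0 = Q := le_antisymm hP0Q hQP0
    have hP'eq : P' = maximalIdeal (Localization.AtPrime Q) := by
      have hmc : (P'.comap (algebraMap A (Localization.AtPrime Q))).map
          (algebraMap A (Localization.AtPrime Q)) = P' :=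
        IsLocalization.map_under Q.primeCompl (Localization.AtPrime Q) P'
      rw [← hmc, ← hP0, hP0eq, Localization.AtPrime.map_eq_maximalIdeal]
    have hmap := Ideal.map_comap_of_surjective _ hsurj P
    rw [← hP', hP'eq] at hmap
    rcases Ideal.map_eq_top_or_isMaximal_of_surjective _ hsurj
      (maximalIdeal.isMaximal (Localization.AtPrime Q)) with h | h
    · rw [hmap] at h; exact absurd h hP.ne_top
    · rw [hmap] at h; exact h
  exact isArtinianRing_iff_krullDimLE_zero.mpr this

end loc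



section sat
variable {A : Type u} [CommRing A] [IsDomain A] [IsNoetherianRing A]

/-- Nakayama in the localisation at `Q`. -/
theorem sat_step (Q : Ideal A) [hQ : Q.IsPrime] (y : A) (hyQ : y ∈ Q) (N N' : Ideal A)
    (hN'N : N' ≤ N) (hcolon : ∀ c : A, c * y ∈ N → c ∈ N)
    (hle : (N ⊔ Ideal.span {y}).map (algebraMap A (Localization.AtPrime Q)) ≤
      (N' ⊔ Ideal.span {y}).map (algebraMap A (Localization.AtPrime Q))) :
    N.map (algebraMap A (Localization.AtPrime Q)) ≤ N'.map (algebraMap A (Localization.AtPrime Q)) := by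
  set B := Localization.AtPrime Q
  have hinj : Function.Injective (algebraMap A B) :=
    IsLocalization.injective B Q.primeCompl_le_nonZeroDivisors
  -- key inclusion
  have hkey : N.map (algebraMap A B) ≤
      (N' ⊔ Ideal.span {y} • N).map (algebraMap A B) := by
    rw [Ideal.map_le_iff_le_comap]
    intro w hw
    rw [Ideal.mem_comap]
    have hw1 : algebraMap A B w ∈ (N' ⊔ Ideal.span {y}).map (algebraMap A B) :=
      hle (Ideal.mem_map_of_mem _ (Ideal.mem_sup_left hw))
    obtain ⟨⟨⟨a, ha⟩, s⟩, hs⟩ := (IsLocalization.mem_map_algebraMap_iff Q.primeCompl B).mp hw1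
    simp only at hs
    rw [← map_mul] at hs
    have hws : w * (s : A) = a := hinj hs
    obtain ⟨w1, hw1', w2, hw2, hsum⟩ := Submodule.mem_sup.mp ha
    obtain ⟨c, rfl⟩ := Ideal.mem_span_singleton'.mp hw2
    have hcy : c * y ∈ N := by
      have h1 : c * y = w * (s : A) - w1 := by rw [hws, ← hsum]; ring
      rw [h1]
      exact Ideal.sub_mem _ (Ideal.mul_mem_right _ _ hw) (hN'N hw1')
    have hc : c ∈ N := hcolon c hcy
    have hmem : w * (s : A) ∈ N' ⊔ Ideal.span {y} • N := by
      rw [hws, ← hsum]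
      refine Submodule.add_mem_sup hw1' ?_
      rw [mul_comm, smul_eq_mul]
      exact Ideal.mul_mem_mul (Ideal.mem_span_singleton_self y) hc
    have hu : IsUnit (algebraMap A B (s : A)) := IsLocalization.map_units B s
    have h2 : algebraMap A B w * algebraMap A B (s : A) ∈
        (N' ⊔ Ideal.span {y} • N).map (algebraMap A B) := by
      rw [← map_mul]; exact Ideal.mem_map_of_mem _ hmem
    exact (Ideal.mul_unit_mem_iff_mem _ hu).mp h2
  rw [Ideal.map_sup, smul_eq_mul, Ideal.map_mul] at hkey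
  have hjac : (Ideal.span {y}).map (algebraMap A B) ≤ Ideal.jacobson (⊥ : Ideal B) := by
    rw [IsLocalRing.jacobson_eq_maximalIdeal ⊥ bot_ne_top, ← Localization.AtPrime.map_eq_maximalIdeal]
    exact Ideal.map_mono ((Ideal.span_singleton_le_iff_mem _).mpr hyQ)
  have hfin : ((N.map (algebraMap A B) : Ideal B) : Submodule B B).FG := IsNoetherian.noetherian _
  exact Submodule.le_of_le_smul_of_le_jacobson_bot hfin hjac hkey

end sat



section main
variable {A : Type u} [CommRing A] [IsDomain A] [IsNoetherianRing A] [IsLocalRing A]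
  [IsIntegrallyClosed A]

instance instPrimeMin (J : Ideal A) (Q : {Q : Ideal A // Q ∈ J.minimalPrimes}) : Q.1.IsPrime :=
  Q.2.1.1

/-- the measure: tuple of the images of an ideal in the Artinian rings `A_Q/J A_Q`. -/
noncomputable def meas (J : Ideal A) (𝔞 : Ideal A) :
    ∀ Q : {Q : Ideal A // Q ∈ J.minimalPrimes}, Ideal (QRing J Q.1) :=
  fun Q => meas1 J Q.1 𝔞

theorem step' (hcat : CAlg.IsCatenary A) (s : Finset (Ideal A))
    (hs : ∀ p ∈ s, p.IsPrime ∧ p.height = 1) (y : A) (hy : y ∈ maximalIdeal A)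
    (J : Ideal A) :
    ∀ (I : ∀ Q : {Q : Ideal A // Q ∈ J.minimalPrimes}, Ideal (QRing J Q.1)) (f : A), f ≠ 0 →
      (∀ p ∈ s, f ∈ p) →
      J = Ideal.span {f} ⊔ Ideal.span {y} →
      (∀ t : Ideal A, t.IsPrime → t.height = 1 → f ∈ t → y ∉ t) →
      meas J ((Ideal.span {f}).radical ⊔ Ideal.span {y}) = I →
      ∃ f' : A, f' ≠ 0 ∧ (∀ p ∈ s, f' ∈ p) ∧ (Ideal.span {f'}).IsRadical := by
  have : Finite {Q : Ideal A // Q ∈ J.minimalPrimes} :=
    (Ideal.finite_minimalPrimes_of_isNoetherianRing A J).to_subtype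
  have hart : ∀ Q : {Q : Ideal A // Q ∈ J.minimalPrimes}, IsArtinianRing (QRing J Q.1) :=
    fun Q => isArtinianRing_QRing J Q.1 Q.2
  intro I
  induction I using WellFoundedLT.induction with
  | _ I IH =>
  intro f hf hfs hJ hyf hI
  by_cases hall : ∀ (t : Ideal A) [t.IsPrime], t.height = 1 → f ∈ t → f ∉ sym2 t
  · exact ⟨f, hf, hfs, isRadical_of_forall_notMem_sym2' hf hall⟩
  classical
  let T : Finset (PrimeSpectrum A) := (finite_height_one f hf).toFinset
  have hT : ∀ t : PrimeSpectrum A, t ∈ T ↔ t.asIdeal.height = 1 ∧ f ∈ t.asIdeal := by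
    intro t; simp [T]
  obtain ⟨z, hz⟩ := exists_modification T (fun t ht => ((hT t).mp ht).1) f y
    (fun t ht => ((hT t).mp ht).2)
    (fun t ht => hyf t.asIdeal t.isPrime ((hT t).mp ht).1 ((hT t).mp ht).2)
  have hz' : ∀ (t : Ideal A) [ht : t.IsPrime], t.height = 1 → f ∈ t →
      f + y * z ∈ t ∧ f + y * z ∉ sym2 t := by
    intro t ht h1 hft
    exact hz ⟨t, ht⟩ ((hT _).mpr ⟨h1, hft⟩)
  push Not at hall
  obtain ⟨t0, ht0p, ht01, hft0, hbad⟩ := hall
  have hf' : f + y * z ≠ 0 := by
    intro h0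
    have := (hz' t0 ht01 hft0).2
    rw [h0] at this
    exact this (Ideal.zero_mem _)
  have hfs' : ∀ p ∈ s, f + y * z ∈ p := by
    intro p hp
    have := (hs p hp).1
    exact (hz' p (hs p hp).2 (hfs p hp)).1
  have hfmem : f ∈ Ideal.span {f + y * z} ⊔ Ideal.span {y} := by
    have h := Ideal.sub_mem (Ideal.span {f + y * z} ⊔ Ideal.span {y})
      (Ideal.mem_sup_left (Ideal.mem_span_singleton_self (f + y * z)))
      (Ideal.mem_sup_right (Ideal.mul_mem_left _ z (Ideal.mem_span_singleton_self y)))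
    convert h using 1
    ring
  have hf'mem : f + y * z ∈ Ideal.span {f} ⊔ Ideal.span {y} :=
    Ideal.add_mem _ (Ideal.mem_sup_left (Ideal.mem_span_singleton_self f))
      (Ideal.mem_sup_right (Ideal.mul_mem_right _ _ (Ideal.mem_span_singleton_self y)))
  have hJ' : J = Ideal.span {f + y * z} ⊔ Ideal.span {y} := by
    rw [hJ]
    apply le_antisymm
    · exact sup_le ((Ideal.span_singleton_le_iff_mem _).mpr hfmem) le_sup_right
    · exact sup_le ((Ideal.span_singleton_le_iff_mem _).mpr hf'mem) le_sup_right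
  have hback : ∀ t : Ideal A, t.IsPrime → f + y * z ∈ t → y ∈ t → f ∈ t := by
    intro t ht h1 h2
    have : f = (f + y * z) - z * y := by ring
    rw [this]
    exact Ideal.sub_mem _ h1 (Ideal.mul_mem_left _ _ h2)
  have hyf' : ∀ t : Ideal A, t.IsPrime → t.height = 1 → f + y * z ∈ t → y ∉ t := by
    intro t ht h1 hft hyt
    exact hyf t ht h1 (hback t ht hft hyt) hyt
  by_cases hnew : ∀ (t : Ideal A) [t.IsPrime], t.height = 1 → f + y * z ∈ t → f ∈ t
  · exact ⟨f + y * z, hf', hfs', isRadical_of_forall_notMem_sym2' hf'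
      (fun t ht h1 hft => (hz' t h1 (hnew t h1 hft)).2)⟩
  push Not at hnew
  obtain ⟨u, hup, hu1, hfu', hfu⟩ := hnew
  have hrad_le : (Ideal.span {f + y * z}).radical ≤ (Ideal.span {f}).radical := by
    rw [Ideal.radical_le_radical_iff, Ideal.span_singleton_le_iff_mem, mem_radical_span_iff hf]
    intro t ht h1 hft
    exact (hz' t h1 hft).1
  refine IH _ ?_ (f + y * z) hf' hfs' hJ' hyf' rfl
  rw [← hI]
  have hmono : meas J ((Ideal.span {f + y * z}).radical ⊔ Ideal.span {y}) ≤
      meas J ((Ideal.span {f}).radical ⊔ Ideal.span {y}) :=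
    fun Q => meas1_mono J Q.1 (sup_le_sup_right hrad_le _)
  refine lt_of_le_of_ne hmono ?_
  intro heq
  -- the new prime lies under some minimal prime of J
  obtain ⟨Q, hQmin, huQ⟩ := exists_minimalPrime_ge hcat hf' y hy hyf' u hu1 hfu'
  rw [← hJ'] at hQmin
  have hQp : Q.IsPrime := hQmin.1.1
  have heqQ := congrFun heq ⟨Q, hQmin⟩
  have hJ1 : J ≤ (Ideal.span {f + y * z}).radical ⊔ Ideal.span {y} := by
    rw [hJ']; exact sup_le_sup_right Ideal.le_radical _
  have hmap := map_le_of_meas1_le J Q hJ1 heqQ.ge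
  have hyQ : y ∈ Q := hQmin.1.2 (by rw [hJ]; exact Ideal.mem_sup_right (Ideal.mem_span_singleton_self y))
  have hcolon : ∀ c : A, c * y ∈ (Ideal.span {f}).radical → c ∈ (Ideal.span {f}).radical := by
    intro c hcy
    rw [mem_radical_span_iff hf] at hcy ⊢
    intro t ht ht1 hft
    rcases ht.mem_or_mem (hcy t ht ht1 hft) with h | h
    · exact h
    · exact absurd h (hyf t ht ht1 hft)
  have hfinal := sat_step Q y hyQ _ _ hrad_le hcolon hmap
  apply hfu
  have h1 : algebraMap A (Localization.AtPrime Q) f ∈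
      (Ideal.span {f + y * z}).radical.map (algebraMap A (Localization.AtPrime Q)) :=
    hfinal (Ideal.mem_map_of_mem _ (Ideal.le_radical (Ideal.mem_span_singleton_self f)))
  have h2 : (Ideal.span {f + y * z}).radical ≤ u :=
    (Ideal.IsPrime.radical_le_iff hup).mpr ((Ideal.span_singleton_le_iff_mem _).mpr hfu')
  have h3 : algebraMap A (Localization.AtPrime Q) f ∈ u.map (algebraMap A (Localization.AtPrime Q)) :=
    Ideal.map_mono h2 h1
  have hdisj : Disjoint (Q.primeCompl : Set A) (u : Set A) := by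
    rw [Set.disjoint_left]
    intro x hx hxu
    exact hx (huQ hxu)
  have h4 : (u.map (algebraMap A (Localization.AtPrime Q))).comap
      (algebraMap A (Localization.AtPrime Q)) = u :=
    IsLocalization.under_map_of_isPrime_disjoint Q.primeCompl (Localization.AtPrime Q) hup hdisj
  rw [← h4]
  exact h3

end main


section final
variable {A : Type u} [CommRing A] [IsDomain A] [IsNoetherianRing A] [IsLocalRing A]
  [IsIntegrallyClosed A]

/-- In a catenary Noetherian local normal domain, finitely many height one primes contain a common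
nonzero element `f` with `A/f` reduced. -/
theorem exists_reduced' (hcat : CAlg.IsCatenary A) (s : Finset (Ideal A))
    (hs : ∀ p ∈ s, p.IsPrime ∧ p.height = 1) :
    ∃ f : A, f ≠ 0 ∧ (∀ p ∈ s, f ∈ p) ∧ IsReduced (A ⧸ Ideal.span {f}) := by
  classical
  -- initial element
  have hg : ∀ p ∈ s, ∃ g : A, g ∈ p ∧ g ≠ 0 := by
    intro p hp
    have hne : p ≠ ⊥ := Ideal.ne_bot_of_height_eq_one (hs p hp).2
    obtain ⟨g, hg, hg0⟩ := Submodule.exists_mem_ne_zero_of_ne_bot hne
    exact ⟨g, hg, hg0⟩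
  choose! g hg1 hg2 using hg
  let f0 : A := ∏ p ∈ s, g p
  have hf0 : f0 ≠ 0 := Finset.prod_ne_zero_iff.mpr hg2
  have hf0s : ∀ p ∈ s, f0 ∈ p := by
    intro p hp
    exact Ideal.mem_of_dvd _ (Finset.dvd_prod_of_mem g hp) (hg1 p hp)
  let T0 : Finset (PrimeSpectrum A) := (finite_height_one f0 hf0).toFinset
  have hT0 : ∀ t : PrimeSpectrum A, t ∈ T0 ↔ t.asIdeal.height = 1 ∧ f0 ∈ t.asIdeal := by
    intro t; simp [T0]
  by_cases hsub : ((maximalIdeal A : Set A) ⊆ ⋃ t ∈ (T0 : Set (PrimeSpectrum A)), t.asIdeal)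
  · -- the maximal ideal has height one
    obtain ⟨t, htT, hle⟩ := (Ideal.subset_union_prime (IsLocalRing.closedPoint A)
      (IsLocalRing.closedPoint A) (fun t _ _ _ => t.isPrime)).mp hsub
    have hteq : t.asIdeal = maximalIdeal A :=
      ((maximalIdeal.isMaximal A).eq_of_le t.isPrime.ne_top hle).symm
    have hm1 : (maximalIdeal A).height = 1 := by rw [← hteq]; exact ((hT0 t).mp htT).1
    have hall : ∀ (q : Ideal A) [q.IsPrime], q.height = 1 → q = maximalIdeal A := by
      intro q hq hq1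
      exact eq_of_le_of_height_one hm1 (Ideal.ne_bot_of_height_eq_one hq1)
        (le_maximalIdeal hq.ne_top)
    obtain ⟨π, hπ, hπ2⟩ := exists_mem_notMem_sym2 (maximalIdeal A)
      (Ideal.ne_bot_of_height_eq_one hm1)
    have hπ0 : π ≠ 0 := by
      rintro rfl
      exact hπ2 (Ideal.zero_mem _)
    refine ⟨π, hπ0, ?_, (Ideal.isRadical_iff_quotient_reduced _).mp
      (isRadical_of_forall_notMem_sym2' hπ0 ?_)⟩
    · intro p hp
      have := (hs p hp).1
      rw [hall p (hs p hp).2]
      exact hπ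
    · intro q hq hq1 _
      have hqe := hall q hq1
      subst hqe
      exact hπ2
  · obtain ⟨y, hym, hyU⟩ := Set.not_subset.mp hsub
    have hy0 : ∀ t : Ideal A, t.IsPrime → t.height = 1 → f0 ∈ t → y ∉ t := by
      intro t ht h1 hft hyt
      apply hyU
      simp only [Set.mem_iUnion]
      exact ⟨⟨t, ht⟩, Finset.mem_coe.mpr ((hT0 _).mpr ⟨h1, hft⟩), hyt⟩
    obtain ⟨f, hf, hfs, hrad⟩ := step' hcat s hs y hym (Ideal.span {f0} ⊔ Ideal.span {y}) _ f0 hf0
      hf0s rfl hy0 rfl
    exact ⟨f, hf, hfs, (Ideal.isRadical_iff_quotient_reduced _).mp hrad⟩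

/-- Stacks-style: a nonzero radical ideal of a catenary Noetherian local normal domain contains a
nonzero `f` with `A/f` reduced. -/
theorem exists_reduced_of_isRadical (hcat : CAlg.IsCatenary A) (J : Ideal A) (hJ : J.IsRadical)
    (hJ0 : J ≠ ⊥) : ∃ f ∈ J, f ≠ 0 ∧ IsReduced (A ⧸ Ideal.span {f}) := by
  classical
  have hfin := Ideal.finite_minimalPrimes_of_isNoetherianRing A J
  have hex : ∀ P ∈ J.minimalPrimes, ∃ p : Ideal A, p.IsPrime ∧ p.height = 1 ∧ p ≤ P := by
    intro P hP
    have hPp : P.IsPrime := hP.1.1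
    have hPne : P ≠ ⊥ := by
      rintro rfl
      exact hJ0 (le_bot_iff.mp hP.1.2)
    obtain ⟨x, hxP, hx0⟩ := Submodule.exists_mem_ne_zero_of_ne_bot hPne
    obtain ⟨p, hpmin, hpP⟩ := Ideal.exists_minimalPrimes_le
      ((Ideal.span_singleton_le_iff_mem (I := P)).mpr hxP)
    exact ⟨p, hpmin.1.1, height_eq_one_of_mem_minimalPrimes hx0 hpmin, hpP⟩
  choose! p hp1 hp2 hp3 using hex
  obtain ⟨f, hf0, hfs, hred⟩ := exists_reduced' hcat (hfin.toFinset.image p) (by
    intro q hq
    obtain ⟨P, hP, rfl⟩ := Finset.mem_image.mp hq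
    exact ⟨hp1 P (hfin.mem_toFinset.mp hP), hp2 P (hfin.mem_toFinset.mp hP)⟩)
  refine ⟨f, ?_, hf0, hred⟩
  rw [← hJ.radical, ← Ideal.sInf_minimalPrimes, Ideal.mem_sInf]
  intro P hP
  exact hp3 P hP (hfs (p P) (Finset.mem_image_of_mem p (hfin.mem_toFinset.mpr hP)))

end final

end Groth.Agent.Lib.Helper24.NormalRed
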