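import Mathlib
import Groth.Prelude.Def_GrassD

universe u

open CategoryTheory AlgebraicGeometry

namespace Groth.Agent.Lib.Helper24.QuotBCComp

/-- `pullbackCongr` is an `eqToIso`, evaluated. -/
theorem pullbackCongr_inv_app {X Y : Scheme.{u}} {f g : X ⟶ Y} (hf : f = g) (E : Y.Modules) :
    (Scheme.Modules.pullbackCongr hf).inv.app E = eqToHom (by rw [hf]) := by
  subst hf
  simp [Scheme.Modules.pullbackCongr]

/-- The pseudofunctor associativity evaluated at an object. -/
theorem assoc_app {X G G' T : Scheme.{u}} (k : T ⟶ G') (ρ : G' ⟶ G) (π : G ⟶ X) (E : X.Modules) :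
    (Scheme.Modules.pullbackComp k (ρ ≫ π)).inv.app E ≫
      (Scheme.Modules.pullback k).map ((Scheme.Modules.pullbackComp ρ π).inv.app E) ≫
        (Scheme.Modules.pullbackComp k ρ).hom.app ((Scheme.Modules.pullback π).obj E) ≫
          (Scheme.Modules.pullbackComp (k ≫ ρ) π).hom.app E =
    eqToHom (by simp) := by
  have h := congrArg (fun t => t.app E) (Scheme.Modules.pseudofunctor_associativity k ρ π)
  simpa using h

theorem quotBC_comp {X G G' T : Scheme.{u}} {π : G ⟶ X} {E : X.Modules} {Q : G.Modules}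
    {π' : G' ⟶ X} {ρ : G' ⟶ G} (hρ : ρ ≫ π = π') {k : T ⟶ G'} {g : T ⟶ X} (hk : k ≫ π' = g)
    (hkρ : (k ≫ ρ) ≫ π = g) (q : (Scheme.Modules.pullback π).obj E ⟶ Q) :
    Grass.quotBC hk (Grass.quotBC hρ q) ≫ (Scheme.Modules.pullbackComp k ρ).hom.app Q =
      Grass.quotBC hkρ q := by
  subst hρ
  subst hk
  unfold Grass.quotBC
  have hnat := (Scheme.Modules.pullbackComp k ρ).hom.naturality q
  have hA := assoc_app k ρ π E
  simp only [pullbackCongr_inv_app, Functor.map_comp, Category.assoc, eqToHom_refl,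
    Category.id_comp, Functor.comp_map] at hnat ⊢
  rw [hnat]
  -- goal: inv.app E ≫ map (inv.app E) ≫ hom.app _ ≫ map q = eqToHom ≫ inv.app E ≫ map q
  have hB : (Scheme.Modules.pullbackComp k (ρ ≫ π)).inv.app E ≫
      (Scheme.Modules.pullback k).map ((Scheme.Modules.pullbackComp ρ π).inv.app E) ≫
        (Scheme.Modules.pullbackComp k ρ).hom.app ((Scheme.Modules.pullback π).obj E) =
      eqToHom (by simp) ≫ (Scheme.Modules.pullbackComp (k ≫ ρ) π).inv.app E := by
    rw [← hA]
    simp
  simp only [← Category.assoc] at hB ⊢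
  rw [hB]

end Groth.Agent.Lib.Helper24.QuotBCComp
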