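import Mathlib
import Groth.Agent.Lib.Helper96.GrpLikeCoeff

set_option autoImplicit false
universe u
open TensorProduct

namespace Groth.Agent.Lib.Helper24.S2982_A1

open Groth.Agent.Lib.Helper96.GrpLikeCoeff

section

variable {K : Type u} [CommRing K] {M : Type u} [CommGroup M]

/-- `y ↦ lid ((ev b ⊗ id) (comul y))` on the group algebra. -/
noncomputable def slice (b : M) : MonoidAlgebra K M →ₗ[K] MonoidAlgebra K M :=
  (TensorProduct.lid K (MonoidAlgebra K M)).toLinearMap ∘ₗ
    (TensorProduct.map (ev b) LinearMap.id) ∘ₗ (Coalgebra.comul (R := K) (A := MonoidAlgebra K M))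

theorem slice_apply (b : M) (y : MonoidAlgebra K M) :
    slice b y = y.coeff b • MonoidAlgebra.single b (1 : K) := by
  classical
  induction y using MonoidAlgebra.induction_on with
  | of g =>
    simp only [MonoidAlgebra.of_apply, slice, LinearMap.comp_apply]
    rw [(MonoidAlgebra.isGroupLikeElem_single_one (R := K) (A := K) g).comul_eq_tmul_self]
    simp only [TensorProduct.map_tmul, LinearEquiv.coe_coe, TensorProduct.lid_tmul, ev_apply,
      LinearMap.id_apply, MonoidAlgebra.coeff_single_apply]
    by_cases h : g = b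
    · subst h; simp
    · simp [h]
  | add x y hx hy => rw [map_add, hx, hy, MonoidAlgebra.coeff_add, Finsupp.add_apply, add_smul]
  | smul r x hx =>
    rw [map_smul, hx, MonoidAlgebra.coeff_smul, Finsupp.smul_apply, smul_smul, smul_eq_mul]

end

theorem coeff_smul_single_sub_one_mem {K : Type u} [CommRing K] {M : Type u} [CommGroup M]
    {C : Type u} [CommRing C] [Bialgebra K C] (f : C →ₐc[K] MonoidAlgebra K M) (b : M) (c : C) :
    (f c).coeff b • (MonoidAlgebra.single b (1 : K) - 1) ∈
      Ideal.map f (RingHom.ker (Bialgebra.counitAlgHom K C)) := by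
  classical
  -- the element c'
  let g : C →ₗ[K] C :=
    (TensorProduct.lid K C).toLinearMap ∘ₗ
      (TensorProduct.map ((ev b).comp (f : C →ₗ[K] MonoidAlgebra K M)) LinearMap.id) ∘ₗ
        (Coalgebra.comul (R := K) (A := C))
  have hfg : ∀ c : C, f (g c) = slice b (f c) := by
    intro c
    have h1 : (f : C →ₗ[K] MonoidAlgebra K M) ∘ₗ g =
        slice b ∘ₗ (f : C →ₗ[K] MonoidAlgebra K M) := by
      have hcomul : (Coalgebra.comul (R := K) (A := MonoidAlgebra K M)) ∘ₗ
          (f : C →ₗ[K] MonoidAlgebra K M) =
          TensorProduct.map (f : C →ₗ[K] MonoidAlgebra K M) (f : C →ₗ[K] MonoidAlgebra K M) ∘ₗ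
            (Coalgebra.comul (R := K) (A := C)) := by
        exact (CoalgHomClass.map_comp_comul f).symm
      simp only [slice, g]
      rw [LinearMap.comp_assoc, LinearMap.comp_assoc, hcomul]
      rw [← LinearMap.comp_assoc, ← LinearMap.comp_assoc, ← LinearMap.comp_assoc,
        ← LinearMap.comp_assoc]
      congr 1
      apply TensorProduct.ext'
      intro x y
      simp
    exact LinearMap.congr_fun h1 c
  set c' := g c with hc'
  have h2 : f c' = (f c).coeff b • MonoidAlgebra.single b (1 : K) := by
    rw [hfg, slice_apply]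
  have h3 : Coalgebra.counit (R := K) c' = (f c).coeff b := by
    have : Coalgebra.counit (R := K) (f c') = Coalgebra.counit (R := K) c' :=
      CoalgHomClass.counit_comp_apply f c'
    rw [← this, h2, map_smul, MonoidAlgebra.counit_single, smul_eq_mul]
    simp
  have h4 : (f c).coeff b • (MonoidAlgebra.single b (1 : K) - 1) =
      f (c' - algebraMap K C (Coalgebra.counit (R := K) c')) := by
    rw [map_sub, h2, h3, smul_sub, AlgHomClass.commutes, Algebra.algebraMap_eq_smul_one]
  rw [h4]
  apply Ideal.mem_map_of_mem
  rw [RingHom.mem_ker, map_sub]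
  simp [Bialgebra.counitAlgHom]
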