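import Mathlib

set_option autoImplicit false
universe u
open TensorProduct

namespace Groth.Agent.Lib.Helper24.S2982_D1

theorem counit_eq_sum {K : Type u} [CommRing K] {M : Type u} [CommGroup M]
    (y : MonoidAlgebra K M) :
    Coalgebra.counit (R := K) y = ∑ m ∈ y.coeff.support, y.coeff m := by
  classical
  conv_lhs => rw [← MonoidAlgebra.sum_coeff_single y]
  rw [Finsupp.sum, map_sum]
  apply Finset.sum_congr rfl
  intro m _
  rw [MonoidAlgebra.counit_single]
  rfl

theorem single_one_sum {K : Type u} [CommRing K] {N : Type u} [CommGroup N] {ι : Type u}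
    (s : Finset ι) (g : ι → K) :
    MonoidAlgebra.single (1 : N) (∑ i ∈ s, g i) = ∑ i ∈ s, MonoidAlgebra.single (1 : N) (g i) := by
  classical
  induction s using Finset.induction_on with
  | empty => simp
  | insert a s ha ih =>
    rw [Finset.sum_insert ha, Finset.sum_insert ha, MonoidAlgebra.single_add, ih]

theorem smul_mapDomain_mk_eq {K : Type u} [CommRing K] {M : Type u} [CommGroup M] (M' : Subgroup M)
    (t : K) (y : MonoidAlgebra K M) (h : ∀ m : M, m ∉ M' → t * y.coeff m = 0) :
    t • MonoidAlgebra.mapDomainBialgHom K (QuotientGroup.mk' M') y =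
      MonoidAlgebra.single (1 : M ⧸ M') (t * Coalgebra.counit (R := K) y) := by
  classical
  rw [counit_eq_sum, Finset.mul_sum, single_one_sum]
  conv_lhs => rw [← MonoidAlgebra.sum_coeff_single y]
  rw [Finsupp.sum, map_sum, Finset.smul_sum]
  apply Finset.sum_congr rfl
  intro m _
  rw [MonoidAlgebra.mapDomainBialgHom_single, MonoidAlgebra.smul_single, smul_eq_mul]
  by_cases hm : m ∈ M'
  · have : (QuotientGroup.mk' M') m = 1 := by
      rw [QuotientGroup.mk'_apply]
      exact (QuotientGroup.eq_one_iff m).mpr hm
    rw [this]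
  · rw [h m hm]
    simp

end Groth.Agent.Lib.Helper24.S2982_D1
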