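import Mathlib

set_option autoImplicit false

universe u

open CategoryTheory CategoryTheory.Limits AlgebraicGeometry TensorProduct

namespace Groth.Agent.Lib.Helper24.SDG1F

/-- The ring map of `Spec.map β ≫ hU.fromSpec` on `U` (to global sections) is `β` up to `ΓSpecIso`. -/
theorem appLE_SpecMap_fromSpec {X : Scheme.{u}} (U : X.Opens) (hU : IsAffineOpen U)
    (R' : CommRingCat.{u}) (β : Γ(X, U) ⟶ R')
    (e : (⊤ : (Spec R').Opens) ≤ (Spec.map β ≫ hU.fromSpec) ⁻¹ᵁ U) :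
    (Spec.map β ≫ hU.fromSpec).appLE U ⊤ e = β ≫ (Scheme.ΓSpecIso R').inv := by
  apply Spec.map_injective
  have h := IsAffineOpen.SpecMap_appLE_fromSpec (Spec.map β ≫ hU.fromSpec) hU
    (isAffineOpen_top (Spec R')) e
  rw [IsAffineOpen.fromSpec_top, Scheme.isoSpec_Spec_inv, ← Category.assoc, cancel_mono] at h
  rw [h, Spec.map_comp]

theorem G1F {X X' Zi : Scheme.{u}} (fi : Zi ⟶ X) (g : X' ⟶ X) (U : X.Opens) (hU : IsAffineOpen U)
    (U' : X'.Opens) (hU' : IsAffineOpen U') (hUU' : U' ≤ g ⁻¹ᵁ U) (W : Zi.Opens)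
    (hW : IsAffineOpen W) (hWU : W ≤ fi ⁻¹ᵁ U) (t : Γ(X', U'))
    (ht : (pullback.snd fi g).app U' t = 0) (R' : CommRingCat.{u}) (α : Γ(Zi, W) ⟶ R')
    (β : Γ(X', U') ⟶ R') (hαβ : fi.appLE U W hWU ≫ α = g.appLE U U' hUU' ≫ β) :
    β.hom t = 0 := by
  set a : Spec R' ⟶ Zi := Spec.map α ≫ hW.fromSpec with ha
  set b : Spec R' ⟶ X' := Spec.map β ≫ hU'.fromSpec with hb
  have hab : a ≫ fi = b ≫ g := by
    rw [ha, hb, Category.assoc, Category.assoc, ← IsAffineOpen.SpecMap_appLE_fromSpec fi hU hW hWU,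
      ← IsAffineOpen.SpecMap_appLE_fromSpec g hU hU' hUU', ← Spec.map_comp_assoc,
      ← Spec.map_comp_assoc, hαβ]
  set c : Spec R' ⟶ pullback fi g := pullback.lift a b hab with hc
  have hcs : c ≫ pullback.snd fi g = b := pullback.lift_snd _ _ _
  have hle : (⊤ : (Spec R').Opens) ≤ b ⁻¹ᵁ U' := by
    rw [hb, Scheme.Hom.comp_preimage, hU'.fromSpec_preimage_self]
    exact le_rfl
  have hle2 : (⊤ : (Spec R').Opens) ≤ (c ≫ pullback.snd fi g) ⁻¹ᵁ U' := by rw [hcs]; exact hle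
  have h1 : (c ≫ pullback.snd fi g).appLE U' ⊤ hle2 = β ≫ (Scheme.ΓSpecIso R').inv := by
    have : ∀ (b' : Spec R' ⟶ X') (hb' : b' = b) (h : (⊤ : (Spec R').Opens) ≤ b' ⁻¹ᵁ U'),
        b'.appLE U' ⊤ h = β ≫ (Scheme.ΓSpecIso R').inv := by
      intro b' hb' h
      subst hb'
      exact appLE_SpecMap_fromSpec U' hU' R' β h
    exact this _ hcs _
  rw [Scheme.Hom.comp_appLE] at h1
  have h2 : (β ≫ (Scheme.ΓSpecIso R').inv).hom t = 0 := by
    rw [← h1]
    simp only [CommRingCat.hom_comp, RingHom.coe_comp, Function.comp_apply]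
    rw [ht, map_zero]
  simp only [CommRingCat.hom_comp, RingHom.coe_comp, Function.comp_apply] at h2
  have hinj : Function.Injective (Scheme.ΓSpecIso R').inv.hom :=
    (ConcreteCategory.bijective_of_isIso (Scheme.ΓSpecIso R').inv).injective
  exact hinj (by rw [h2, map_zero])

end Groth.Agent.Lib.Helper24.SDG1F
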