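import Mathlib
import Groth.Agent.Lib.Helper68.TorMod

/-!
# Tor of a quotient by a regular sequence (helper24)
-/

set_option autoImplicit false
universe u v' u' v'' u''

open CategoryTheory CategoryTheory.Limits MonoidalCategory

namespace Groth.Agent.Lib.Helper24.TorRegular

open Groth.Agent.Lib.Helper68

section Linear

variable {R : Type*} [CommRing R]
variable {C : Type u'} [Category.{v'} C] [Abelian C] [Linear R C]

theorem homologyMap_smul {ι : Type*} {c : ComplexShape ι} {K L : HomologicalComplex C c}
    (φ : K ⟶ L) (r : R) (i : ι) :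
    HomologicalComplex.homologyMap (r • φ) i = r • HomologicalComplex.homologyMap φ i := by
  have h : (HomologicalComplex.shortComplexFunctor C c i).map (r • φ) =
      r • (HomologicalComplex.shortComplexFunctor C c i).map φ := by
    ext <;> rfl
  unfold HomologicalComplex.homologyMap
  rw [h, ShortComplex.homologyMap_smul]
  rfl

variable [HasProjectiveResolutions C]
variable {D : Type u''} [Category.{v''} D] [Abelian D] [Linear R D] (F : C ⥤ D) [F.Additive]
  [F.Linear R]

theorem leftDerived_map_smul_id (n : ℕ) (X : C) (r : R) :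
    (F.leftDerived n).map (r • 𝟙 X) = r • 𝟙 _ := by
  let P := projectiveResolution X
  have w : (r • 𝟙 P.complex) ≫ P.π = P.π ≫ (ChainComplex.single₀ C).map (r • 𝟙 X) := by
    apply HomologicalComplex.to_single_hom_ext
    simp only [HomologicalComplex.comp_f, HomologicalComplex.smul_f_apply,
      Linear.smul_comp, Category.id_comp, ChainComplex.single₀_map_f_zero]
    erw [Linear.comp_smul, Category.comp_id]
  rw [Functor.leftDerived_map_eq F n (r • 𝟙 X) (P := P) (Q := P) (r • 𝟙 P.complex) w]
  have h1 : (F.mapHomologicalComplex (ComplexShape.down ℕ) ⋙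
      HomologicalComplex.homologyFunctor D (ComplexShape.down ℕ) n).map (r • 𝟙 P.complex) =
      r • 𝟙 _ := by
    rw [Functor.comp_map, Functor.map_smul, CategoryTheory.Functor.map_id]
    change HomologicalComplex.homologyMap (r • 𝟙 _) n = _
    rw [homologyMap_smul, HomologicalComplex.homologyMap_id]
    rfl
  rw [h1]
  simp

end Linear

section Rees

variable {A : Type u} [CommRing A]
variable (F : ModuleCat.{u} A ⥤ ModuleCat.{u} A) [F.Additive] [F.Linear A]

/-- **Rees step for left derived functors.** If `x` is `N`-regular and `LᵢF(N) = 0` for `i > r`,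
then `LᵢF(N/xN) = 0` for `i > r + 1` and `L_{r+1}F(N/xN)` is the `x`-torsion of `L_rF(N)`. -/
theorem rees_step (N : ModuleCat.{u} A) (x : A) (hx : IsSMulRegular N x) (r : ℕ)
    (hvan : ∀ i, r < i → IsZero ((F.leftDerived i).obj N)) :
    (∀ i, r + 1 < i → IsZero ((F.leftDerived i).obj (ModuleCat.of A (QuotSMulTop x N)))) ∧
    Nonempty (((F.leftDerived (r + 1)).obj (ModuleCat.of A (QuotSMulTop x N))) ≃ₗ[A]
      LinearMap.ker (LinearMap.lsmul A ((F.leftDerived r).obj N) x)) := by
  have hS : (ModuleCat.smulShortComplex N x).ShortExact := hx.smulShortComplex_shortExact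
  constructor
  · intro i hi
    obtain ⟨j, rfl⟩ : ∃ j, i = j + 1 := ⟨i - 1, by omega⟩
    exact LeftDerivedLES.isZero_right F hS j (hvan (j + 1) (by omega)) (hvan j (by omega))
  · have hmono := LeftDerivedLES.mono_δ F hS r (hvan (r + 1) (by omega))
    obtain ⟨e⟩ := TorMod.linearEquiv_ker_of_mono_exact (LeftDerivedLES.δ F hS r)
      ((F.leftDerived r).map (ModuleCat.smulShortComplex N x).f)
      (LeftDerivedLES.δ_map_f F hS r) hmono (LeftDerivedLES.exact₁ F hS r)
    have hmap : ((F.leftDerived r).map (ModuleCat.smulShortComplex N x).f).hom =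
        LinearMap.lsmul A ((F.leftDerived r).obj N) x :=
      (congrArg ModuleCat.Hom.hom (leftDerived_map_smul_id (R := A) F r N x)).trans rfl
    exact ⟨e.trans (LinearEquiv.ofEq _ _ (congrArg LinearMap.ker hmap))⟩

end Rees

section Torsion

variable {A : Type u} [CommRing A]

/-- The submodule of elements killed by all members of a list. -/
def tors (xs : List A) (T : Type*) [AddCommGroup T] [Module A T] : Submodule A T where
  carrier := {t | ∀ x ∈ xs, x • t = 0}
  add_mem' := fun {a b} ha hb x hx => by rw [smul_add, ha x hx, hb x hx, add_zero]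
  zero_mem' := fun x _ => smul_zero x
  smul_mem' := fun c t ht x hx => by rw [smul_comm, ht x hx, smul_zero]

theorem mem_tors {xs : List A} {T : Type*} [AddCommGroup T] [Module A T] {t : T} :
    t ∈ tors xs T ↔ ∀ x ∈ xs, x • t = 0 := Iff.rfl

/-- `T[x :: xs] ≃ (T[x])[xs]`. -/
def torsCons (x : A) (xs : List A) (T : Type*) [AddCommGroup T] [Module A T] :
    tors (x :: xs) T ≃ₗ[A] tors xs (LinearMap.ker (LinearMap.lsmul A T x)) where
  toFun t := ⟨⟨t.1, by
      rw [LinearMap.mem_ker, LinearMap.lsmul_apply]
      exact t.2 x List.mem_cons_self⟩, fun y hy =>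
      Subtype.ext (t.2 y (List.mem_cons_of_mem _ hy))⟩
  map_add' := fun _ _ => rfl
  map_smul' := fun _ _ => rfl
  invFun s := ⟨s.1.1, fun y hy => by
    rcases List.mem_cons.mp hy with rfl | h
    · have := s.1.2
      rwa [LinearMap.mem_ker, LinearMap.lsmul_apply] at this
    · exact congrArg Subtype.val (s.2 y h)⟩
  left_inv := fun _ => rfl
  right_inv := fun _ => rfl

/-- Transport of torsion along a linear equivalence. -/
def torsCongr (xs : List A) {T T' : Type*} [AddCommGroup T] [Module A T] [AddCommGroup T']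
    [Module A T'] (e : T ≃ₗ[A] T') : tors xs T ≃ₗ[A] tors xs T' where
  toFun t := ⟨e t.1, fun x hx => by rw [← map_smul, t.2 x hx, map_zero]⟩
  map_add' := fun _ _ => Subtype.ext (map_add e _ _)
  map_smul' := fun _ _ => Subtype.ext (map_smul e _ _)
  invFun t := ⟨e.symm t.1, fun x hx => by rw [← map_smul, t.2 x hx, map_zero]⟩
  left_inv := fun t => Subtype.ext (e.symm_apply_apply _)
  right_inv := fun t => Subtype.ext (e.apply_symm_apply _)

theorem liftQ_one (I : Ideal A) {T : Type*} [AddCommGroup T] [Module A T] (f : A →ₗ[A] T)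
    (h : I ≤ LinearMap.ker f) : Submodule.liftQ I f h (1 : A ⧸ I) = f 1 :=
  Submodule.liftQ_apply I f 1

/-- `T[xs] ≃ Hom(A/(xs), T)`. -/
noncomputable def torsEquivHom (xs : List A) (T : Type*) [AddCommGroup T] [Module A T] :
    tors xs T ≃ₗ[A] ((A ⧸ Ideal.ofList xs) →ₗ[A] T) where
  toFun t := Submodule.liftQ (Ideal.ofList xs) (LinearMap.toSpanSingleton A T t.1) (by
    rw [Ideal.ofList, Ideal.span_le]
    intro x hx
    rw [SetLike.mem_coe, LinearMap.mem_ker, LinearMap.toSpanSingleton_apply]
    exact t.2 x hx)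
  map_add' := fun a b => by
    apply Submodule.linearMap_qext
    ext
    simp [liftQ_one]
  map_smul' := fun c a => by
    apply Submodule.linearMap_qext
    ext
    simp [liftQ_one]
  invFun φ := ⟨φ (Submodule.Quotient.mk 1), fun x hx => by
    rw [← map_smul, ← Submodule.Quotient.mk_smul, smul_eq_mul, mul_one]
    have : (Submodule.Quotient.mk x : A ⧸ Ideal.ofList xs) = 0 := by
      rw [Submodule.Quotient.mk_eq_zero]
      exact Ideal.subset_span hx
    rw [this, map_zero]⟩
  left_inv := fun t => Subtype.ext (by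
    change Submodule.liftQ _ _ _ (1 : A ⧸ Ideal.ofList xs) = _
    rw [liftQ_one, LinearMap.toSpanSingleton_apply, one_smul])
  right_inv := fun φ => by
    apply Submodule.linearMap_qext
    ext
    simp

theorem tors_nil (T : Type*) [AddCommGroup T] [Module A T] : tors ([] : List A) T = ⊤ := by
  ext t
  simp [mem_tors]

end Torsion

section Main

variable {A : Type u} [CommRing A]
variable (F : ModuleCat.{u} A ⥤ ModuleCat.{u} A) [F.Additive] [F.Linear A]

/-- Left derived functors of a linear functor on the quotient by a weakly regular sequence. -/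
theorem leftDerived_quotient_regular (xs : List A) :
    ∀ (N : Type u) [AddCommGroup N] [Module A N], RingTheory.Sequence.IsWeaklyRegular N xs →
    ∀ (r n : ℕ), r + xs.length = n →
    (∀ i, r < i → IsZero ((F.leftDerived i).obj (ModuleCat.of A N))) →
    (∀ i, n < i → IsZero ((F.leftDerived i).obj
        (ModuleCat.of A (N ⧸ (Ideal.ofList xs • (⊤ : Submodule A N)))))) ∧
    Nonempty (((F.leftDerived n).obj
        (ModuleCat.of A (N ⧸ (Ideal.ofList xs • (⊤ : Submodule A N))))) ≃ₗ[A]
      tors xs ((F.leftDerived r).obj (ModuleCat.of A N))) := by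
  induction xs with
  | nil =>
    intro N _ _ _ r n hn hvan
    have hbot : Ideal.ofList ([] : List A) • (⊤ : Submodule A N) = ⊥ := by
      rw [Ideal.ofList_nil, Submodule.bot_smul]
    let e : (N ⧸ (Ideal.ofList ([] : List A) • (⊤ : Submodule A N))) ≃ₗ[A] N :=
      Submodule.quotEquivOfEqBot _ hbot
    have hn' : r = n := by simpa using hn
    subst hn'
    constructor
    · intro i hi
      exact (hvan i hi).of_iso ((F.leftDerived i).mapIso e.toModuleIso)
    · exact ⟨((F.leftDerived r).mapIso e.toModuleIso).toLinearEquiv.trans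
        (LinearEquiv.ofTop _ (tors_nil _)).symm⟩
  | cons x xs ih =>
    intro N _ _ hreg r n hn hvan
    obtain ⟨hx, hreg'⟩ := (RingTheory.Sequence.isWeaklyRegular_cons_iff N x xs).mp hreg
    obtain ⟨hvan', ⟨e1⟩⟩ := rees_step F (ModuleCat.of A N) x hx r hvan
    have hn' : r + 1 + xs.length = n := by
      rw [List.length_cons] at hn
      omega
    obtain ⟨hvan'', ⟨e2⟩⟩ := ih (QuotSMulTop x N) hreg' (r + 1) n hn' hvan'
    let eq := Submodule.quotOfListConsSMulTopEquivQuotSMulTopInner N x xs
    constructor
    · intro i hi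
      exact (hvan'' i hi).of_iso ((F.leftDerived i).mapIso eq.toModuleIso)
    · exact ⟨((F.leftDerived n).mapIso eq.toModuleIso).toLinearEquiv ≪≫ₗ e2 ≪≫ₗ
        torsCongr xs e1 ≪≫ₗ (torsCons x xs _).symm⟩

end Main

end Groth.Agent.Lib.Helper24.TorRegular
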