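import Mathlib

set_option autoImplicit false
set_option linter.unusedSectionVars false

namespace Groth.Agent.Lib.Helper24.Ufd

universe u

section Nagata

variable {R S : Type*} [CommRing R] [IsDomain R] [CommRing S] [IsDomain S] [Algebra R S]

/-- an element not divisible by the prime `x` whose image in `R[1/x]` is prime is prime -/
theorem prime_of_prime_map_away (x : R) (hx : Prime x) [IsLocalization.Away x S]
    (a : R) (hxa : ¬ x ∣ a) (ha : Prime (algebraMap R S a)) : Prime a := by
  have hinj : Function.Injective (algebraMap R S) :=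
    IsLocalization.injective S (powers_le_nonZeroDivisors_of_noZeroDivisors hx.ne_zero)
  refine ⟨?_, ?_, ?_⟩
  · intro h0; apply ha.ne_zero; rw [h0, map_zero]
  · intro hu; exact ha.not_isUnit (hu.map _)
  · intro b c hbc
    have key : ∀ b : R, algebraMap R S a ∣ algebraMap R S b → a ∣ b := by
      intro b ⟨s, hs⟩
      obtain ⟨⟨r, ⟨_, n, rfl⟩⟩, hr⟩ := IsLocalization.surj (Submonoid.powers x) s
      simp only at hr
      have h1 : algebraMap R S (x ^ n * b) = algebraMap R S (a * r) := by
        rw [map_mul, map_mul, hs, ← hr]; ring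
      have h2 : x ^ n * b = a * r := hinj h1
      have h3 : x ^ n ∣ r := hx.pow_dvd_of_dvd_mul_left n hxa ⟨b, h2.symm⟩
      obtain ⟨r', rfl⟩ := h3
      have h4 : x ^ n * b = x ^ n * (a * r') := by rw [h2]; ring
      exact ⟨r', mul_left_cancel₀ (pow_ne_zero n hx.ne_zero) h4⟩
    have h1 : algebraMap R S a ∣ algebraMap R S b * algebraMap R S c := by
      rw [← map_mul]; exact map_dvd _ hbc
    rcases ha.dvd_or_dvd h1 with h | h
    · exact Or.inl (key b h)
    · exact Or.inr (key c h)

/-- Nagata's criterion for one prime element -/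
theorem ufd_of_away [IsNoetherianRing R] (x : R) (hx : Prime x) [IsLocalization.Away x S]
    [UniqueFactorizationMonoid S] : UniqueFactorizationMonoid R := by
  rw [UniqueFactorizationMonoid.iff_exists_prime_mem_of_isPrime]
  intro P hP0 hP
  by_cases hxP : x ∈ P
  · exact ⟨x, hxP, hx⟩
  · have hdisj : Disjoint (Submonoid.powers x : Set R) (P : Set R) := by
      rw [Set.disjoint_left]
      rintro _ ⟨n, rfl⟩ hn
      exact hxP (hP.mem_of_pow_mem n hn)
    have hQ : (P.map (algebraMap R S)).IsPrime :=
      IsLocalization.isPrime_of_isPrime_disjoint (Submonoid.powers x) S P hP hdisj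
    have hcomap : (P.map (algebraMap R S)).comap (algebraMap R S) = P :=
      IsLocalization.under_map_of_isPrime_disjoint (Submonoid.powers x) S hP hdisj
    have hinj : Function.Injective (algebraMap R S) :=
      IsLocalization.injective S (powers_le_nonZeroDivisors_of_noZeroDivisors hx.ne_zero)
    have hQ0 : P.map (algebraMap R S) ≠ ⊥ := by
      intro h
      apply hP0
      rw [eq_bot_iff]
      intro y hy
      have : algebraMap R S y ∈ P.map (algebraMap R S) := Ideal.mem_map_of_mem _ hy
      rw [h, Ideal.mem_bot] at this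
      rw [Ideal.mem_bot]
      exact hinj (by rw [this, map_zero])
    obtain ⟨q, hqQ, hq⟩ := hQ.exists_mem_prime_of_ne_bot hQ0
    obtain ⟨⟨a, ⟨_, n, rfl⟩⟩, ha⟩ := IsLocalization.surj (Submonoid.powers x) q
    simp only at ha
    have hunit : IsUnit (algebraMap R S (x ^ n)) :=
      IsLocalization.map_units S (⟨x ^ n, n, rfl⟩ : Submonoid.powers x)
    have haprime : Prime (algebraMap R S a) := by
      rw [← ha]
      exact (Associated.prime_iff (associated_mul_unit_right q _ hunit)).1 hq
    have haP : a ∈ P := by
      rw [← hcomap, Ideal.mem_comap, ← ha]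
      exact Ideal.mul_mem_right _ _ hqQ
    have ha0 : a ≠ 0 := by intro h0; apply haprime.ne_zero; rw [h0, map_zero]
    obtain ⟨k, a', hxa', rfl⟩ := WfDvdMonoid.max_power_factor ha0 hx.irreducible
    have ha'P : a' ∈ P := by
      rcases hP.mem_or_mem haP with h | h
      · exact absurd (hP.mem_of_pow_mem k h) hxP
      · exact h
    have hunit' : IsUnit (algebraMap R S (x ^ k)) :=
      IsLocalization.map_units S (⟨x ^ k, k, rfl⟩ : Submonoid.powers x)
    have ha'prime : Prime (algebraMap R S a') := by
      rw [map_mul] at haprime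
      exact (Associated.prime_iff (associated_unit_mul_left (algebraMap R S a') _ hunit')).1 haprime
    exact ⟨a', ha'P, prime_of_prime_map_away x hx a' hxa' ha'prime⟩

end Nagata

end Groth.Agent.Lib.Helper24.Ufd
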