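import Mathlib
import Groth.Agent.Lib.Helper24.UfdA

set_option autoImplicit false
set_option linter.unusedSectionVars false

namespace Groth.Agent.Lib.Helper24.Ufd

open Polynomial LaurentPolynomial

universe u

variable {A : Type u} [CommRing A] [IsDomain A]

/-- a divisor of a nonzero monomial in `A[X]` (A a domain) is a monomial -/
theorem poly_eq_monomial_of_mul_eq_monomial (p q : A[X]) (M : ℕ) (a : A) (ha : a ≠ 0)
    (h : p * q = monomial M a) : ∃ (i : ℕ) (c : A), p = monomial i c := by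
  classical
  have hm0 : (monomial M a : A[X]) ≠ 0 := by
    rw [Ne, monomial_eq_zero_iff]; exact ha
  have hp0 : p ≠ 0 := by rintro rfl; rw [zero_mul] at h; exact hm0 h.symm
  have hq0 : q ≠ 0 := by rintro rfl; rw [mul_zero] at h; exact hm0 h.symm
  have h1 : p.natDegree + q.natDegree = M := by
    rw [← natDegree_mul hp0 hq0, h, natDegree_monomial, if_neg ha]
  have h2 : p.natTrailingDegree + q.natTrailingDegree = M := by
    rw [← natTrailingDegree_mul hp0 hq0, h, natTrailingDegree_monomial ha]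
  have h3 := natTrailingDegree_le_natDegree p
  have h4 := natTrailingDegree_le_natDegree q
  have h5 : p.natTrailingDegree = p.natDegree := by omega
  refine ⟨p.natDegree, p.coeff p.natDegree, ?_⟩
  ext j
  rw [coeff_monomial]
  split_ifs with hj
  · rw [hj]
  · rcases lt_or_gt_of_ne hj with hlt | hgt
    · exact coeff_eq_zero_of_natDegree_lt hlt
    · exact coeff_eq_zero_of_lt_natTrailingDegree (h5 ▸ hgt)

/-- a divisor of a nonzero monomial in `A[T;T⁻¹]` (A a domain) is a monomial -/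
theorem laurent_eq_monomial_of_mul_eq_monomial (g h : A[T;T⁻¹]) (n : ℤ) (a : A) (ha : a ≠ 0)
    (hgh : g * h = LaurentPolynomial.C a * T n) :
    ∃ (m : ℤ) (c : A), g = LaurentPolynomial.C c * T m := by
  obtain ⟨k, g', hg'⟩ := exists_T_pow g
  obtain ⟨l, h', hh'⟩ := exists_T_pow h
  -- make the exponent nonnegative
  have key : toLaurent (g' * X ^ n.natAbs * h') =
      toLaurent (monomial (n + n.natAbs + k + l).toNat a) := by
    rw [map_mul, map_mul, hg', hh', Polynomial.toLaurent_X_pow, Polynomial.toLaurent_C_mul_T]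
    have hnn : ((n + n.natAbs + k + l).toNat : ℤ) = n + n.natAbs + k + l := by
      apply Int.toNat_of_nonneg
      omega
    rw [hnn]
    calc g * T k * T (n.natAbs) * (h * T l) = (g * h) * (T k * T n.natAbs * T l) := by ring
      _ = LaurentPolynomial.C a * T n * (T k * T n.natAbs * T l) := by rw [hgh]
      _ = LaurentPolynomial.C a * T (n + n.natAbs + k + l) := by
          rw [T_add, T_add, T_add]; ring
  have key' := Polynomial.toLaurent_injective key
  obtain ⟨i, c, hic⟩ := poly_eq_monomial_of_mul_eq_monomial _ _ _ a ha key'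
  refine ⟨i - (k + n.natAbs), c, ?_⟩
  have h1 : g * T (k + n.natAbs) = LaurentPolynomial.C c * T i := by
    rw [T_add, ← mul_assoc, ← hg', ← Polynomial.toLaurent_X_pow, ← map_mul, hic,
      Polynomial.toLaurent_C_mul_T]
  calc g = g * T (k + n.natAbs) * T (-(k + n.natAbs : ℤ)) := by
        rw [mul_assoc, ← T_add, add_neg_cancel, T_zero, mul_one]
    _ = LaurentPolynomial.C c * T (i - (k + n.natAbs)) := by
        rw [h1, mul_assoc, ← T_add, sub_eq_add_neg]

theorem coeff_C_mul (c : A) (f : A[T;T⁻¹]) (j : ℤ) :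
    (LaurentPolynomial.C c * f).coeff j = c * f.coeff j := by
  rw [LaurentPolynomial.C_eq_algebraMap, ← Algebra.smul_def]
  rfl

theorem coeff_C_mul_T_same (c : A) (m : ℤ) : (LaurentPolynomial.C c * T m).coeff m = c := by
  rw [← single_eq_C_mul_T, AddMonoidAlgebra.coeff_single, Finsupp.single_eq_same]

theorem coeff_C_mul_T_ne (c : A) {m j : ℤ} (h : m ≠ j) :
    (LaurentPolynomial.C c * T m).coeff j = 0 := by
  rw [← single_eq_C_mul_T, AddMonoidAlgebra.coeff_single, Finsupp.single_eq_of_ne (Ne.symm h)]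

/-- `C c` prime in `A[T;T⁻¹]` implies `c` prime in `A` -/
theorem prime_of_prime_C (c : A) (hc : Prime (LaurentPolynomial.C c : A[T;T⁻¹])) : Prime c := by
  refine ⟨?_, ?_, ?_⟩
  · intro h0; apply hc.ne_zero; rw [h0, map_zero]
  · intro hu; exact hc.not_isUnit (hu.map _)
  · intro a b hab
    have key : ∀ a : A, (LaurentPolynomial.C c : A[T;T⁻¹]) ∣ LaurentPolynomial.C a → c ∣ a := by
      intro a ⟨f, hf⟩
      refine ⟨f.coeff 0, ?_⟩
      have := congrArg (fun z : A[T;T⁻¹] => z.coeff 0) hf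
      simp only [coeff_C_mul] at this
      rw [← this, ← mul_one (LaurentPolynomial.C a), ← T_zero, coeff_C_mul_T_same]
    have h1 : (LaurentPolynomial.C c : A[T;T⁻¹]) ∣ LaurentPolynomial.C a * LaurentPolynomial.C b := by
      rw [← map_mul]; exact map_dvd _ hab
    rcases hc.dvd_or_dvd h1 with h | h
    · exact Or.inl (key a h)
    · exact Or.inr (key b h)

theorem prime_of_prime_C_mul_T (c : A) (m : ℤ)
    (hc : Prime (LaurentPolynomial.C c * T m : A[T;T⁻¹])) : Prime c := by
  apply prime_of_prime_C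
  exact (Associated.prime_iff (associated_mul_unit_left (LaurentPolynomial.C c) _ (isUnit_T m))).1 hc

/-- `A[T;T⁻¹]` UFD implies `A` UFD -/
theorem ufd_of_ufd_laurent [UniqueFactorizationMonoid A[T;T⁻¹]] : UniqueFactorizationMonoid A := by
  classical
  rw [UniqueFactorizationMonoid.iff_exists_prime_mem_of_isPrime]
  intro 𝔭 h𝔭0 h𝔭
  obtain ⟨a, ha𝔭, ha0⟩ := Submodule.exists_mem_ne_zero_of_ne_bot h𝔭0
  have hCa0 : (LaurentPolynomial.C a : A[T;T⁻¹]) ≠ 0 := by
    intro h
    apply ha0
    have := congrArg (fun z : A[T;T⁻¹] => z.coeff 0) h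
    change (LaurentPolynomial.C a : A[T;T⁻¹]).coeff 0 = (0 : A[T;T⁻¹]).coeff 0 at this
    rw [← mul_one (LaurentPolynomial.C a), ← T_zero, coeff_C_mul_T_same] at this
    simpa using this
  -- the prime ideal of Laurent polynomials with all coefficients in 𝔭
  let 𝔓 : Ideal A[T;T⁻¹] :=
    RingHom.ker (AddMonoidAlgebra.mapRingHom ℤ (Ideal.Quotient.mk 𝔭))
  have hmem : ∀ f : A[T;T⁻¹], f ∈ 𝔓 ↔ ∀ j, f.coeff j ∈ 𝔭 := by
    intro f
    rw [RingHom.mem_ker, ← AddMonoidAlgebra.coeff_inj]
    constructor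
    · intro h j
      have := DFunLike.congr_fun h j
      rw [AddMonoidAlgebra.coeff_mapRingHom] at this
      exact Ideal.Quotient.eq_zero_iff_mem.mp this
    · intro h
      ext j
      rw [AddMonoidAlgebra.coeff_mapRingHom]
      exact Ideal.Quotient.eq_zero_iff_mem.mpr (h j)
  have h𝔓 : 𝔓.IsPrime := by
    have : IsDomain (A ⧸ 𝔭) := Ideal.Quotient.isDomain 𝔭
    exact RingHom.ker_isPrime _
  have hCa𝔓 : (LaurentPolynomial.C a : A[T;T⁻¹]) ∈ 𝔓 := by
    rw [hmem]
    intro j
    by_cases hj : (0 : ℤ) = j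
    · subst hj
      rw [← mul_one (LaurentPolynomial.C a), ← T_zero, coeff_C_mul_T_same]; exact ha𝔭
    · rw [← mul_one (LaurentPolynomial.C a), ← T_zero, coeff_C_mul_T_ne a hj]; exact 𝔭.zero_mem
  obtain ⟨f, hfprime, hfa⟩ := UniqueFactorizationMonoid.exists_prime_factors _ hCa0
  have hprod : f.prod ∈ 𝔓 := by
    obtain ⟨v, hv⟩ := hfa.symm
    rw [← hv]
    exact Ideal.mul_mem_right _ _ hCa𝔓
  obtain ⟨b, hbf, hb𝔓⟩ := (h𝔓.multiset_prod_mem_iff_exists_mem f).1 hprod
  have hbdvd : b ∣ LaurentPolynomial.C a := (Multiset.dvd_prod hbf).trans hfa.dvd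
  obtain ⟨h, hh⟩ := hbdvd
  obtain ⟨m, c, hbc⟩ := laurent_eq_monomial_of_mul_eq_monomial b h 0 a ha0
    (by rw [← hh, T_zero, mul_one])
  refine ⟨c, ?_, ?_⟩
  · have := (hmem b).1 hb𝔓 m
    rwa [hbc, coeff_C_mul_T_same] at this
  · exact prime_of_prime_C_mul_T c m (hbc ▸ hfprime b hbf)

/-- `A` UFD implies `A[T;T⁻¹]` UFD -/
theorem ufd_laurent [UniqueFactorizationMonoid A] : UniqueFactorizationMonoid A[T;T⁻¹] :=
  UniqueFactorizationMonoid.of_isLocalization (Submonoid.powers (X : A[X])) A[T;T⁻¹]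

end Groth.Agent.Lib.Helper24.Ufd
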