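import Mathlib
import Groth.Prelude.Def_CAlg
import Groth.Prelude.Def_W4c2filtblowupsingRees
import Groth.Agent.Lib.Helper24.UfdB
import Groth.Agent.Lib.Helper24.ExtReesG

set_option autoImplicit false
set_option linter.unusedSectionVars false

namespace Groth.Agent.Lib.Helper24.Ufd

open Polynomial LaurentPolynomial FiltBl
open Groth.Agent.Lib.Helper24.ExtRees

universe u

variable {A : Type u} [CommRing A] [IsDomain A] (𝓕 : FiltBl.IdealFiltration A)



theorem u_ne_zero : 𝓕.u ≠ 0 := by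
  intro h
  have h1 : ((𝓕.u : 𝓕.extRees) : A[T;T⁻¹]) = 0 := by rw [h]; rfl
  have h2 : ((𝓕.u : 𝓕.extRees) : A[T;T⁻¹]) = T (-1) := rfl
  rw [h2] at h1
  exact (isUnit_T (R := A) (-1)).ne_zero h1

theorem ufd_extRees_of [IsNoetherianRing A] (hfg : Algebra.FiniteType A 𝓕.rees)
    [IsDomain 𝓕.extRees] [UniqueFactorizationMonoid A] [IsDomain 𝓕.Gr] :
    UniqueFactorizationMonoid 𝓕.extRees := by
  have hN : IsNoetherianRing 𝓕.extRees := isNoetherianRing_extRees 𝓕 hfg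
  have hprime : Prime 𝓕.u :=
    (Ideal.span_singleton_prime (u_ne_zero 𝓕)).1
      ((Ideal.Quotient.isDomain_iff_prime _).1 inferInstance)
  have := ufd_laurent (A := A)
  exact ufd_of_away (S := A[T;T⁻¹]) 𝓕.u hprime

theorem one_mem_F_mul (i : ℕ) (h : (1 : A) ∈ 𝓕.F i) (n : ℕ) : (1 : A) ∈ 𝓕.F (n * i) := by
  induction n with
  | zero => rw [zero_mul, 𝓕.zero_eq]; trivial
  | succ n ih =>
    have := 𝓕.mul_le (n * i) i (Ideal.mul_mem_mul ih h)
    rwa [one_mul, ← Nat.succ_mul] at this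

theorem F_ne_top (hsep : ⨅ n, 𝓕.F n = ⊥) (i : ℕ) (hi : 1 ≤ i) : 𝓕.F i ≠ ⊤ := by
  intro h
  have h1 : (1 : A) ∈ 𝓕.F i := by rw [h]; trivial
  have h2 : (1 : A) ∈ ⨅ n, 𝓕.F n := by
    rw [Ideal.mem_iInf]
    intro n
    exact 𝓕.antitone (Nat.le_mul_of_pos_right n hi) (one_mem_F_mul 𝓕 i h1 n)
  rw [hsep, Ideal.mem_bot] at h2
  exact one_ne_zero h2

theorem coe_algebraMap (a : A) :
    ((algebraMap A 𝓕.extRees a : 𝓕.extRees) : A[T;T⁻¹]) = LaurentPolynomial.C a := by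
  rw [LaurentPolynomial.C_eq_algebraMap]; rfl

theorem u_irreducible (hsep : ⨅ n, 𝓕.F n = ⊥) : Irreducible 𝓕.u := by
  have hcoeu : ((𝓕.u : 𝓕.extRees) : A[T;T⁻¹]) = LaurentPolynomial.C 1 * T (-1) := by
    rw [map_one, one_mul]; rfl
  refine ⟨?_, ?_⟩
  · -- not a unit
    rintro ⟨v, hv⟩
    have h1 : ((𝓕.u * (v⁻¹ : (𝓕.extRees)ˣ) : 𝓕.extRees) : A[T;T⁻¹]) = 1 := by
      rw [← hv, Units.mul_inv]; rfl
    have h2 : (((v⁻¹ : (𝓕.extRees)ˣ) : 𝓕.extRees) : A[T;T⁻¹]) = T 1 := by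
      have h3 : T (-1) * (((v⁻¹ : (𝓕.extRees)ˣ) : 𝓕.extRees) : A[T;T⁻¹]) = 1 := h1
      calc (((v⁻¹ : (𝓕.extRees)ˣ) : 𝓕.extRees) : A[T;T⁻¹])
          = T 1 * (T (-1) * (((v⁻¹ : (𝓕.extRees)ˣ) : 𝓕.extRees) : A[T;T⁻¹])) := by
            rw [← mul_assoc, ← T_add]; simp
        _ = T 1 := by rw [h3, mul_one]
    have h4 := ((v⁻¹ : (𝓕.extRees)ˣ) : 𝓕.extRees).2 1
    rw [h2] at h4
    have h5 : (T 1 : A[T;T⁻¹]).coeff 1 = 1 := by
      rw [← one_mul (T 1), ← map_one LaurentPolynomial.C, coeff_C_mul_T_same]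
    rw [h5] at h4
    exact F_ne_top 𝓕 hsep 1 le_rfl ((Ideal.eq_top_iff_one _).2 h4)
  · intro a b hab
    have hab' : (a : A[T;T⁻¹]) * (b : A[T;T⁻¹]) = LaurentPolynomial.C 1 * T (-1) := by
      rw [← hcoeu, hab]; rfl
    obtain ⟨i, α, ha⟩ := laurent_eq_monomial_of_mul_eq_monomial (a : A[T;T⁻¹]) (b : A[T;T⁻¹])
      (-1) (1 : A) one_ne_zero hab'
    obtain ⟨j, β, hb⟩ := laurent_eq_monomial_of_mul_eq_monomial (b : A[T;T⁻¹]) (a : A[T;T⁻¹])
      (-1) (1 : A) one_ne_zero (by rw [mul_comm]; exact hab')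
    have hprod : LaurentPolynomial.C (α * β) * T (i + j) = LaurentPolynomial.C 1 * T (-1) := by
      rw [← hab', ha, hb, map_mul, T_add]; ring
    have hij : i + j = -1 := by
      by_contra hne
      have h1 := congrArg (fun z : A[T;T⁻¹] => z.coeff (-1)) hprod
      beta_reduce at h1
      rw [coeff_C_mul_T_ne _ hne, coeff_C_mul_T_same] at h1
      exact zero_ne_one h1
    have hαβ : α * β = 1 := by
      have h1 := congrArg (fun z : A[T;T⁻¹] => z.coeff (-1)) hprod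
      beta_reduce at h1
      rw [hij, coeff_C_mul_T_same, coeff_C_mul_T_same] at h1
      exact h1
    have hαmem : α ∈ 𝓕.F i.toNat := by
      have := a.2 i
      rwa [ha, coeff_C_mul_T_same] at this
    have hβmem : β ∈ 𝓕.F j.toNat := by
      have := b.2 j
      rwa [hb, coeff_C_mul_T_same] at this
    have hi : i ≤ 0 := by
      by_contra hpos
      push Not at hpos
      apply F_ne_top 𝓕 hsep i.toNat (by omega)
      exact Ideal.eq_top_of_isUnit_mem _ hαmem (IsUnit.of_mul_eq_one _ hαβ)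
    have hj : j ≤ 0 := by
      by_contra hpos
      push Not at hpos
      apply F_ne_top 𝓕 hsep j.toNat (by omega)
      exact Ideal.eq_top_of_isUnit_mem _ hβmem (IsUnit.of_mul_eq_one _ (by rw [mul_comm]; exact hαβ))
    have hcases : i = 0 ∨ j = 0 := by omega
    rcases hcases with h0 | h0
    · left
      have : a = algebraMap A 𝓕.extRees α := by
        apply Subtype.ext
        rw [coe_algebraMap, ha, h0, T_zero, mul_one]
      rw [this]
      exact (IsUnit.of_mul_eq_one _ hαβ).map _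
    · right
      have : b = algebraMap A 𝓕.extRees β := by
        apply Subtype.ext
        rw [coe_algebraMap, hb, h0, T_zero, mul_one]
      rw [this]
      exact (IsUnit.of_mul_eq_one _ (by rw [mul_comm]; exact hαβ)).map _

theorem of_ufd_extRees (hsep : ⨅ n, 𝓕.F n = ⊥) [IsDomain 𝓕.extRees]
    [UniqueFactorizationMonoid 𝓕.extRees] :
    UniqueFactorizationMonoid A ∧ IsDomain 𝓕.Gr := by
  constructor
  · have : UniqueFactorizationMonoid A[T;T⁻¹] :=
      UniqueFactorizationMonoid.of_isLocalization (Submonoid.powers 𝓕.u) A[T;T⁻¹]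
    exact ufd_of_ufd_laurent
  · have hprime : Prime 𝓕.u :=
      UniqueFactorizationMonoid.irreducible_iff_prime.1 (u_irreducible 𝓕 hsep)
    exact (Ideal.Quotient.isDomain_iff_prime _).2
      ((Ideal.span_singleton_prime (u_ne_zero 𝓕)).2 hprime)

end Groth.Agent.Lib.Helper24.Ufd
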