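import Mathlib
import Groth.Agent.Lib.Helper97.Decaying
import Groth.Agent.S2056

set_option autoImplicit false
open scoped TensorProduct

namespace Groth.Agent.Lib.Helper24.UnivInjCompl

open Groth.Agent.Lib.Helper97.Decaying

section finite

variable {R S : Type*} [CommRing R] [CommRing S] [Algebra R S]

/-- `N ⊗[R] Q` is a finite `S`-module when `N` is finite over `S` and `Q` is finite over `R`. -/
theorem finite_tensor (N Q : Type*) [AddCommGroup N] [Module S N] [Module R N]
    [IsScalarTower R S N] [Module.Finite S N] [AddCommGroup Q] [Module R Q] [Module.Finite R Q] :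
    Module.Finite S (N ⊗[R] Q) := by
  classical
  obtain ⟨k, π, hπ⟩ := Module.Finite.exists_fin' R Q
  have h1 : Function.Surjective (TensorProduct.AlgebraTensorModule.lTensor S N π) := by
    have : ⇑(TensorProduct.AlgebraTensorModule.lTensor S N π) = ⇑(LinearMap.lTensor N π) := rfl
    rw [this]
    exact LinearMap.lTensor_surjective N hπ
  have e := TensorProduct.piScalarRight R S N (Fin k)
  have : Module.Finite S (N ⊗[R] (Fin k → R)) := Module.Finite.equiv e.symm
  exact Module.Finite.of_surjective _ h1

/-- Krull intersection + associated primes: a finite `S`-module `P` all of whose associated primes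
`q` satisfy `IS + q ≠ S` is `I`-adically separated. -/
theorem isHausdorff_of_forall_ass [IsNoetherianRing S] (I : Ideal R)
    (P : Type*) [AddCommGroup P] [Module S P] [Module R P] [IsScalarTower R S P] [Module.Finite S P]
    (h : ∀ q ∈ associatedPrimes S P, I.map (algebraMap R S) ⊔ q ≠ ⊤) : IsHausdorff I P := by
  refine ⟨fun x hx => ?_⟩
  by_contra hx0
  have hmem : x ∈ (⨅ i : ℕ, (I.map (algebraMap R S)) ^ i • ⊤ : Submodule S P) := by
    rw [Submodule.mem_iInf]
    intro n
    have := hx n
    rw [SModEq.zero] at this
    exact smul_top_le_of_map_le I (I.map (algebraMap R S)) le_rfl P n this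
  obtain ⟨r, hr⟩ := (Ideal.mem_iInf_smul_pow_eq_bot_iff (I.map (algebraMap R S)) x).mp hmem
  obtain ⟨q, hq, hle⟩ := exists_le_isAssociatedPrime_of_isNoetherianRing S x hx0
  apply h q hq
  rw [Ideal.eq_top_iff_one]
  have h1 : (1 - (r : S)) ∈ q := by
    apply hle
    rw [Submodule.mem_colon_singleton, Submodule.mem_bot, sub_smul, one_smul, hr, sub_self]
  have : (1 : S) = (r : S) + (1 - (r : S)) := by ring
  rw [this]
  exact Submodule.add_mem_sup r.2 h1

end finite

section main

variable {R : Type*} [CommRing R] (I : Ideal R) (N Q : Type*) [AddCommGroup N] [Module R N]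
  [AddCommGroup Q] [Module R Q]

variable {N} in
lemma map_add_left {N' : Type*} [AddCommGroup N'] [Module R N'] (f g : N →ₗ[R] N')
    (x : AdicCompletion I N) :
    AdicCompletion.map I (f + g) x = AdicCompletion.map I f x + AdicCompletion.map I g x := by
  induction x using AdicCompletion.induction_on with
  | h a =>
    rw [AdicCompletion.map_mk, AdicCompletion.map_mk, AdicCompletion.map_mk, ← map_add]
    congr 1

variable {N} in
lemma map_smul_left {N' : Type*} [AddCommGroup N'] [Module R N'] (r : R) (f : N →ₗ[R] N')
    (x : AdicCompletion I N) :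
    AdicCompletion.map I (r • f) x = r • AdicCompletion.map I f x := by
  induction x using AdicCompletion.induction_on with
  | h a =>
    rw [AdicCompletion.map_mk, AdicCompletion.map_mk, ← map_smul]
    congr 1

/-- The comparison map `N^ ⊗ Q → (N ⊗ Q)^`. -/
noncomputable def rho : AdicCompletion I N ⊗[R] Q →ₗ[R] AdicCompletion I (N ⊗[R] Q) :=
  TensorProduct.lift
    { toFun := fun x =>
        { toFun := fun q => AdicCompletion.map I ((TensorProduct.mk R N Q).flip q) x
          map_add' := fun q q' => by
            rw [map_add, map_add_left]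
          map_smul' := fun a q => by
            rw [map_smul, map_smul_left]; rfl }
      map_add' := fun x y => by
        apply LinearMap.ext; intro q
        simp
      map_smul' := fun a x => by
        apply LinearMap.ext; intro q
        simp }

lemma rho_of_tmul (n : N) (q : Q) :
    rho I N Q (AdicCompletion.of I N n ⊗ₜ q) = AdicCompletion.of I (N ⊗[R] Q) (n ⊗ₜ q) := by
  simp [rho, AdicCompletion.map_of]

lemma rho_comp : rho I N Q ∘ₗ (AdicCompletion.of I N).rTensor Q = AdicCompletion.of I (N ⊗[R] Q) := by
  apply TensorProduct.ext'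
  intro n q
  simp [rho_of_tmul]

/-- If `N ⊗ Q` is `I`-adically separated then `N ⊗ Q → N^ ⊗ Q` is injective. -/
theorem rTensor_of_injective [IsHausdorff I (N ⊗[R] Q)] :
    Function.Injective ((AdicCompletion.of I N).rTensor Q) := by
  have h : Function.Injective (rho I N Q ∘ₗ (AdicCompletion.of I N).rTensor Q) := by
    rw [rho_comp]
    exact AdicCompletion.of_injective I _
  exact Function.Injective.of_comp h

end main

end Groth.Agent.Lib.Helper24.UnivInjCompl
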