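import Mathlib
import Groth.Agent.Lib.Helper24.UnivInjCompl
import Groth.Agent.Lib.Helper24.FiberAss
import Groth.Agent.S2056
import Groth.Agent.S1223

/-!
# Universal injectivity of `B → B^` (completion along an ideal of `B`) over a base `A`

`univInj_of_quotient_bijective`: `B` Noetherian `A`-algebra, `I ⊂ B`, `Bh` a `B`-algebra with
`B/I^n ≅ Bh/I^n Bh` for all `n`.  If for every finite `A`-module `Q` every associated prime `q` of
`B ⊗_A Q` satisfies `I + q ≠ B`, then `B → Bh` is universally injective over `A`.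
-/

set_option autoImplicit false
open scoped TensorProduct

namespace Groth.Agent.Lib.Helper24.UnivInjSection

universe u

open Groth.Agent.Lib.Helper24.UnivInjCompl

section main

variable {A B Bh : Type u} [CommRing A] [CommRing B] [CommRing Bh] [Algebra A B] [Algebra B Bh]
  [Algebra A Bh] [IsScalarTower A B Bh]

/-- elements in the kernel of `B ⊗ Q → (B/J) ⊗ Q` lie in `J (B ⊗ Q)`. -/
lemma mem_smul_top_of_rTensor_mk_eq_zero (J : Ideal B) (Q : Type*) [AddCommGroup Q] [Module A Q]
    (x : B ⊗[A] Q) (hx : (Ideal.Quotient.mkₐ A J).toLinearMap.rTensor Q x = 0) :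
    x ∈ (J • ⊤ : Submodule B (B ⊗[A] Q)) := by
  let ι : J →ₗ[A] B := (Submodule.subtype J).restrictScalars A
  have hex : Function.Exact ι (Ideal.Quotient.mkₐ A J).toLinearMap := by
    intro b
    constructor
    · intro hb
      have : b ∈ J := Ideal.Quotient.eq_zero_iff_mem.1 hb
      exact ⟨⟨b, this⟩, rfl⟩
    · rintro ⟨j, rfl⟩
      exact Ideal.Quotient.eq_zero_iff_mem.2 j.2
  have hsurj : Function.Surjective (Ideal.Quotient.mkₐ A J).toLinearMap :=
    Ideal.Quotient.mk_surjective
  obtain ⟨z, rfl⟩ := (rTensor_exact Q hex hsurj x).1 hx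
  clear hx
  induction z using TensorProduct.induction_on with
  | zero => rw [map_zero]; exact Submodule.zero_mem _
  | tmul j q' =>
    rw [LinearMap.rTensor_tmul]
    have : (ι j) ⊗ₜ[A] q' = (j : B) • ((1 : B) ⊗ₜ[A] q') := by
      rw [TensorProduct.smul_tmul', smul_eq_mul, mul_one]; rfl
    rw [this]
    exact Submodule.smul_mem_smul j.2 Submodule.mem_top
  | add a b ha hb => rw [map_add]; exact Submodule.add_mem _ ha hb

theorem univInj_of_quotient_bijective [IsNoetherianRing B] (I : Ideal B)
    (hq : ∀ n : ℕ, Function.Bijective (Ideal.quotientMap ((I ^ n).map (algebraMap B Bh))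
      (algebraMap B Bh) Ideal.le_comap_map))
    (hass : ∀ (Q : Type u) [AddCommGroup Q] [Module A Q], Module.Finite A Q →
      ∀ q ∈ associatedPrimes B (B ⊗[A] Q), I ⊔ q ≠ ⊤) :
    CAlgX.UniversallyInjective A (IsScalarTower.toAlgHom A B Bh).toLinearMap := by
  rw [Groth.Agent.S2056.result]
  intro Q _ _ hQ
  have hfin : Module.Finite A Q := inferInstance
  have hfinB : Module.Finite B (B ⊗[A] Q) := finite_tensor B Q
  have hH : IsHausdorff I (B ⊗[A] Q) :=
    isHausdorff_of_forall_ass (R := B) (S := B) I (B ⊗[A] Q) (by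
      intro q hq'
      rw [Algebra.algebraMap_self, Ideal.map_id]
      exact hass Q hfin q hq')
  rw [injective_iff_map_eq_zero]
  intro x hx
  apply hH.haus
  intro n
  rw [SModEq.zero]
  apply mem_smul_top_of_rTensor_mk_eq_zero (A := A)
  let qm : (B ⧸ I ^ n) →ₐ[A] (Bh ⧸ (I ^ n).map (algebraMap B Bh)) :=
    Ideal.quotientMapₐ ((I ^ n).map (algebraMap B Bh)) (IsScalarTower.toAlgHom A B Bh)
      Ideal.le_comap_map
  have hqm : Function.Bijective qm.toLinearMap := hq n
  let σ := (LinearEquiv.ofBijective qm.toLinearMap hqm).symm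
  let g : Bh →ₗ[A] (B ⧸ I ^ n) :=
    σ.toLinearMap ∘ₗ (Ideal.Quotient.mkₐ A ((I ^ n).map (algebraMap B Bh))).toLinearMap
  have hgf : g ∘ₗ (IsScalarTower.toAlgHom A B Bh).toLinearMap =
      (Ideal.Quotient.mkₐ A (I ^ n)).toLinearMap := by
    apply LinearMap.ext
    intro b
    simp only [g, LinearMap.comp_apply, LinearEquiv.coe_coe]
    rw [LinearEquiv.symm_apply_eq]
    rfl
  rw [← hgf, LinearMap.rTensor_comp, LinearMap.comp_apply, hx, map_zero]

end main

section geomIntegral

attribute [local instance] Algebra.TensorProduct.rightAlgebra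

variable {A B : Type u} [CommRing A] [CommRing B] [Algebra A B]

/-- For `B` flat over `A` with geometrically integral fibres and an `A`-retraction `u : B → A`,
every associated prime `q` of `B ⊗_A Q` (`Q` finite) satisfies `ker u + q ≠ B`. -/
theorem ker_sup_ne_top [IsNoetherianRing A] [IsNoetherianRing B] [Module.Flat A B]
    (hfib : FlatCA.GeomIntegralFibres A B) (u : B →ₐ[A] A) (Q : Type u) [AddCommGroup Q]
    [Module A Q] [Module.Finite A Q] (q : Ideal B) (hq : q ∈ associatedPrimes B (B ⊗[A] Q)) :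
    RingHom.ker u ⊔ q ≠ ⊤ := by
  obtain ⟨p, hp, hq', hl, hfibAss⟩ :=
    Groth.Agent.Lib.Helper24.FiberAss.exists_fiberIdeal_mem_associatedPrimes B Q q hq
  have hD : IsDomain (p.Fiber B) := Groth.Agent.S1223.isDomain_fiber hfib p
  have e : FlatCA.fiberMod p B B ≃ₗ[p.Fiber B] p.Fiber B :=
    TensorProduct.AlgebraTensorModule.rid B (p.Fiber B) (p.Fiber B)
  have hbot : FlatCA.fiberIdeal p q = ⊥ :=
    Groth.Agent.S1223.assoc_eq_bot_of_domain e _ hfibAss
  intro htop
  have h1mem : (1 : B) ∈ RingHom.ker u ⊔ q := by rw [htop]; exact Submodule.mem_top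
  obtain ⟨i, hi, s, hs, his⟩ := Submodule.mem_sup.1 h1mem
  have h0 : (1 : p.ResidueField) ⊗ₜ[A] s = 0 := by
    have : ((1 : p.ResidueField) ⊗ₜ[A] s : p.Fiber B) ∈ FlatCA.fiberIdeal p q :=
      Ideal.mem_map_of_mem _ hs
    rw [hbot] at this
    exact this
  have h1 := congrArg (fun w => TensorProduct.rid A p.ResidueField
    (LinearMap.lTensor p.ResidueField u.toLinearMap w)) h0
  simp only [LinearMap.lTensor_tmul, AlgHom.toLinearMap_apply, TensorProduct.rid_tmul, map_zero]
    at h1
  have hus : u s = 1 := by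
    have := congrArg u his
    rw [map_add, RingHom.mem_ker.1 hi, zero_add, map_one] at this
    exact this
  rw [hus, one_smul] at h1
  exact one_ne_zero h1

end geomIntegral

end Groth.Agent.Lib.Helper24.UnivInjSection
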