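import Mathlib
import Groth.Prelude.Def_GrLC
import Groth.Prelude.Def_Wider
import Groth.Agent.Lib.Helper8.GrCanDual
import Groth.Agent.Lib.Helper8.GrLCPieces
import Groth.Agent.Lib.Helper30.GradedShift
import Groth.Agent.Lib.Helper24.GorGrH
import Groth.Agent.Lib.Helper24.GorGrJ

/-!
# A graded module with a Veronese-essential socle is a shifted *injective envelope (helper24)

Abstract core of "`R^(q)` Gorenstein implies `R` Gorenstein": a graded map `Ψ : H → *E(R/m)` of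
degree `-b`, nonzero on a distinguished class `h_b`, is bijective as soon as `h_b` is reached from
every nonzero class in degrees divisible by `q`, the pairing `R_j × H_{b-j} → H_b` is
nondegenerate in `R_j`, and `H` is divisible by the first term of a regular sequence of length two.
-/

set_option autoImplicit false
set_option linter.unusedSectionVars false
set_option linter.style.haveILetI false

namespace Groth.Agent.Lib.Helper24.VerGorA

open DirectSum GrLC Pointwise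
open Groth.Agent.Lib.Helper30 Groth.Agent.Lib.Helper8.GrCanDual

universe u

section Abs

/-- A family of functionals on a finite-dimensional space separating the points is everything. -/
theorem abs_exists_rep {k V W : Type*} [Field k] [AddCommGroup V] [Module k V]
    [FiniteDimensional k V] [AddCommGroup W] [Module k W] (β : W →ₗ[k] V →ₗ[k] k)
    (hβ : ∀ v : V, (∀ w, β w v = 0) → v = 0) (l : V →ₗ[k] k) : ∃ w, β w = l := by
  have h1 : (LinearMap.range β).dualCoannihilator = ⊥ := by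
    rw [eq_bot_iff]
    intro v hv
    rw [Submodule.mem_dualCoannihilator] at hv
    rw [Submodule.mem_bot]
    apply hβ
    intro w
    exact hv (β w) ⟨w, rfl⟩
  have h2 := Subspace.dualCoannihilator_dualAnnihilator_eq (W := LinearMap.range β)
  rw [h1, Submodule.dualAnnihilator_bot] at h2
  have h3 : l ∈ LinearMap.range β := by
    rw [← h2]
    trivial
  exact h3

/-- The same with values in a line. -/
theorem abs_exists_rep' {k V W L : Type*} [Field k] [AddCommGroup V] [Module k V]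
    [FiniteDimensional k V] [AddCommGroup W] [Module k W] [AddCommGroup L] [Module k L]
    (c : L ≃ₗ[k] k) (β : W →ₗ[k] V →ₗ[k] L)
    (hβ : ∀ v : V, (∀ w, β w v = 0) → v = 0) (l : V →ₗ[k] L) : ∃ w, β w = l := by
  obtain ⟨w, hw⟩ := abs_exists_rep
    ((LinearEquiv.congrRight c : (V →ₗ[k] L) ≃ₗ[k] (V →ₗ[k] k)).toLinearMap ∘ₗ β)
    (fun v hv => hβ v (fun w => by
      have := hv w
      rw [LinearMap.comp_apply] at this
      apply c.injective
      rw [map_zero]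
      exact this)) (c.toLinearMap ∘ₗ l)
  refine ⟨w, ?_⟩
  apply LinearMap.ext
  intro v
  apply c.injective
  have := LinearMap.congr_fun hw v
  exact this

end Abs

section Div

variable {R : Type u} [CommRing R] {E' : Type u} [AddCommGroup E'] [Module R E']
  [Module.Injective R E']

/-- In an injective module, the `x`-torsion is divisible by an element regular on `R/xR`. -/
theorem exists_div {x y : R} (hy : IsSMulRegular (QuotSMulTop x R) y) (ξ : E')
    (hξ : x • ξ = 0) : ∃ ξ' : E', y • ξ' = ξ ∧ x • ξ' = 0 := by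
  let f : QuotSMulTop x R →ₗ[R] QuotSMulTop x R := LinearMap.lsmul R (QuotSMulTop x R) y
  have hf : Function.Injective f := hy
  let g : QuotSMulTop x R →ₗ[R] E' :=
    (x • (⊤ : Submodule R R)).liftQ (LinearMap.toSpanSingleton R E' ξ) (by
      intro z hz
      obtain ⟨r, -, rfl⟩ := (Submodule.mem_smul_pointwise_iff_exists _ _ _).1 hz
      rw [LinearMap.mem_ker, LinearMap.toSpanSingleton_apply, smul_assoc, smul_comm, hξ,
        smul_zero])
  obtain ⟨h, hh⟩ := Module.Injective.extension_property R E' _ _ f hf g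
  refine ⟨h (Submodule.Quotient.mk 1), ?_, ?_⟩
  · rw [← map_smul]
    have h1 : h (f (Submodule.Quotient.mk 1)) = g (Submodule.Quotient.mk 1) := by
      rw [← hh]
      rfl
    have h2 : g (Submodule.Quotient.mk 1) = ξ := by
      have : g (Submodule.Quotient.mk 1) = (LinearMap.toSpanSingleton R E' ξ) 1 :=
        Submodule.liftQ_apply _ _ _
      rw [this, LinearMap.toSpanSingleton_apply, one_smul]
    rw [← h2, ← h1]
    rfl
  · rw [← map_smul, ← Submodule.Quotient.mk_smul]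
    have : (Submodule.Quotient.mk (x • (1 : R)) : QuotSMulTop x R) = 0 :=
      (Submodule.Quotient.mk_eq_zero _).2
        (Submodule.smul_mem_pointwise_smul 1 x ⊤ Submodule.mem_top)
    rw [this, map_zero]

end Div

section Core

variable {R : Type u} [CommRing R] [IsNoetherianRing R] {𝒜 : ℤ → AddSubgroup R} [GradedRing 𝒜]
variable (hpos : ∀ n : ℤ, n < 0 → 𝒜 n = ⊥) (h0 : IsField (deg0 𝒜)) (m : HomogeneousIdeal 𝒜)
  (hmsp : m.toIdeal = Ideal.span (⋃ n ∈ Set.Ioi (0 : ℤ), (𝒜 n : Set R)))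
  (hstd : Ideal.span (⋃ n ∈ Set.Ioi (0 : ℤ), (𝒜 n : Set R)) =
    Ideal.span ((𝒜 1 : AddSubgroup R) : Set R))
variable {E' : Type u} [AddCommGroup E'] [Module R E'] (𝓔 : ℤ → AddSubgroup E')
  [DirectSum.Decomposition 𝓔] [SetLike.GradedSMul 𝒜 𝓔]
  (e : (R ⧸ m.toIdeal) →ₗ[R] E') (he : IsStarInjHull 𝒜 (quotGr 𝒜 m) 𝓔 e)
variable {H : Type u} [AddCommGroup H] [Module R H] (ℋ : ℤ → AddSubgroup H)
  [DirectSum.Decomposition ℋ] [SetLike.GradedSMul 𝒜 ℋ]

include hpos h0 hmsp he in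
/-- A graded map into the *injective envelope, of prescribed degree, nonzero at a prescribed
homogeneous element. -/
theorem exists_psi (d : ℤ) {hb : H} (hbm : hb ∈ ℋ (-d)) (hb0 : hb ≠ 0) :
    ∃ Ψ : H →ₗ[R] E', IsGrHomDeg ℋ 𝓔 Ψ d ∧ Ψ hb ≠ 0 := by
  classical
  letI : Field (deg0 𝒜) := h0.toField
  obtain ⟨μ₀, hμ₀⟩ : ∃ μ₀ : Module.Dual (deg0 𝒜) ↥(comp 𝒜 ℋ (-d)), μ₀ ⟨hb, hbm⟩ ≠ 0 := by
    by_contra hcon
    push Not at hcon
    have := (Module.forall_dual_apply_eq_zero_iff (deg0 𝒜)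
      (⟨hb, hbm⟩ : ↥(comp 𝒜 ℋ (-d)))).mp hcon
    exact hb0 (congrArg Subtype.val this)
  let μ : ↥(comp 𝒜 ℋ (-d)) →ₗ[deg0 𝒜] ↥(comp 𝒜 𝓔 0) :=
    (epsEquiv hpos h0 m hmsp 𝓔 e he).symm.toLinearMap ∘ₗ μ₀
  obtain ⟨Ψ, hΨ, hΨμ⟩ := exists_extension hpos m hmsp 𝓔 e he.toIsStarEss ℋ he.starInj d μ
  refine ⟨Ψ, hΨ, ?_⟩
  have h1 := hΨμ ⟨hb, hbm⟩
  change Ψ hb = _ at h1
  rw [h1]
  intro h2
  apply hμ₀
  have h3 : μ ⟨hb, hbm⟩ = 0 := Subtype.ext h2
  exact (epsEquiv hpos h0 m hmsp 𝓔 e he).symm.injective (h3.trans (map_zero _).symm)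

include hpos h0 hmsp he in
/-- Surjectivity from nondegeneracy of the pairing in the ring variable. -/
theorem psi_surjective (b : ℤ) {hb : H} (Ψ : H →ₗ[R] E') (hΨ : IsGrHomDeg ℋ 𝓔 Ψ (-b))
    (hΨb : Ψ hb ≠ 0)
    (hP1 : ∀ j : ℤ, ∀ r ∈ 𝒜 j, r ≠ 0 → ∃ h ∈ ℋ (b - j), r • h = hb) :
    Function.Surjective Ψ := by
  classical
  letI : Field (deg0 𝒜) := h0.toField
  have key : ∀ (j : ℤ) (ξ : E'), ξ ∈ 𝓔 j → ∃ h : H, Ψ h = ξ := by
    intro j ξ hξ
    haveI : IsNoetherian (deg0 𝒜) ↥(comp 𝒜 𝒜 (-j)) :=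
      Groth.Agent.Lib.Helper8.GrLCPieces.isNoetherian_comp (𝒜 := 𝒜) (ℳ := 𝒜) (-j)
    haveI : Module.Finite (deg0 𝒜) ↥(comp 𝒜 𝒜 (-j)) := Module.IsNoetherian.finite _ _
    have hmemβ : ∀ (w : H) (v : R), w ∈ ℋ (b + j) → v ∈ 𝒜 (-j) → v • Ψ w ∈ 𝓔 0 := by
      intro w v hw hv
      have h1 := smul_mem_piece 𝒜 𝓔 hv (hΨ _ _ hw)
      have h2 : -j + (b + j + -b) = 0 := by ring
      rwa [h2] at h1
    have hmeml : ∀ v : R, v ∈ 𝒜 (-j) → v • ξ ∈ 𝓔 0 := by
      intro v hv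
      have h1 := smul_mem_piece 𝒜 𝓔 hv hξ
      rwa [neg_add_cancel] at h1
    let β : ↥(comp 𝒜 ℋ (b + j)) →ₗ[deg0 𝒜] ↥(comp 𝒜 𝒜 (-j)) →ₗ[deg0 𝒜] ↥(comp 𝒜 𝓔 0) :=
      LinearMap.mk₂ (deg0 𝒜) (fun w v => ⟨(v : R) • Ψ (w : H), hmemβ w v w.2 v.2⟩)
        (fun w w' v => Subtype.ext (by
          change (v : R) • Ψ ((w : H) + (w' : H)) = (v : R) • Ψ (w : H) + (v : R) • Ψ (w' : H)
          rw [map_add, smul_add]))
        (fun c w v => Subtype.ext (by
          change (v : R) • Ψ ((c : R) • (w : H)) = (c : R) • ((v : R) • Ψ (w : H))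
          rw [map_smul, smul_comm]))
        (fun w v v' => Subtype.ext (by
          change ((v : R) + (v' : R)) • Ψ (w : H) = (v : R) • Ψ (w : H) + (v' : R) • Ψ (w : H)
          rw [add_smul]))
        (fun c w v => Subtype.ext (by
          change ((c : R) * (v : R)) • Ψ (w : H) = (c : R) • ((v : R) • Ψ (w : H))
          rw [mul_smul]))
    let l : ↥(comp 𝒜 𝒜 (-j)) →ₗ[deg0 𝒜] ↥(comp 𝒜 𝓔 0) :=
      { toFun := fun v => ⟨(v : R) • ξ, hmeml v v.2⟩
        map_add' := fun v v' => Subtype.ext (by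
          change ((v : R) + (v' : R)) • ξ = (v : R) • ξ + (v' : R) • ξ
          rw [add_smul])
        map_smul' := fun c v => Subtype.ext (by
          change ((c : R) * (v : R)) • ξ = (c : R) • ((v : R) • ξ)
          rw [mul_smul]) }
    obtain ⟨w, hw⟩ := abs_exists_rep' (epsEquiv hpos h0 m hmsp 𝓔 e he) β (by
      intro v hv
      by_contra hv0
      have hv0' : (v : R) ≠ 0 := fun h => hv0 (Subtype.ext h)
      obtain ⟨h, hh, hvh⟩ := hP1 (-j) (v : R) v.2 hv0'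
      have hh' : h ∈ ℋ (b + j) := by rwa [sub_neg_eq_add] at hh
      have h1 := hv ⟨h, hh'⟩
      have h2 : (v : R) • Ψ h = 0 := congrArg Subtype.val h1
      rw [← map_smul, hvh] at h2
      exact hΨb h2) l
    refine ⟨(w : H), ?_⟩
    by_contra hne
    have hdiff : ξ - Ψ (w : H) ∈ 𝓔 j := by
      have h1 := hΨ _ _ w.2
      have h2 : b + j + -b = j := by ring
      rw [h2] at h1
      exact sub_mem hξ h1
    have hne' : ξ - Ψ (w : H) ≠ 0 := fun h => hne (sub_eq_zero.mp h).symm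
    obtain ⟨r, hr, hr0⟩ := exists_smul_ne_zero hpos m hmsp 𝓔 e he.toIsStarEss hdiff hne'
    apply hr0
    have h3 := LinearMap.congr_fun hw ⟨r, hr⟩
    have h4 : r • Ψ (w : H) = r • ξ := congrArg Subtype.val h3
    rw [smul_sub, h4, sub_self]
  intro ξ
  induction ξ using DirectSum.Decomposition.inductionOn 𝓔 with
  | zero => exact ⟨0, map_zero _⟩
  | @homogeneous i ξ => exact key i ξ ξ.2
  | add ξ ξ' h h' =>
    obtain ⟨a, ha⟩ := h
    obtain ⟨a', ha'⟩ := h'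
    exact ⟨a + a', by rw [map_add, ha, ha']⟩

include hstd hmsp in
/-- A graded submodule with no nonzero elements in degrees divisible by `q` is killed by `m^q`. -/
theorem ker_pow_smul (q : ℕ) (hq : 0 < q) (N : Submodule R H) (hN : N.IsHomogeneous ℋ)
    (hNq : ∀ j : ℤ, ∀ h ∈ ℋ (j * q), h ∈ N → h = 0) :
    ∀ r ∈ m.toIdeal ^ q, ∀ ν ∈ N, r • ν = 0 := by
  classical
  have hqpos : (0 : ℤ) < q := by exact_mod_cast hq
  have hhom : ∀ (d : ℤ) (ν : H), ν ∈ ℋ d → ν ∈ N → ∀ s ∈ 𝒜 (q : ℤ), s • ν = 0 := by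
    intro d ν hν hνN s hs
    by_contra hne
    have he₀0 : 0 ≤ (-d) % (q : ℤ) := Int.emod_nonneg _ hqpos.ne'
    have he₀q : (-d) % (q : ℤ) < q := Int.emod_lt_of_pos _ hqpos
    have hdiv := Int.emod_add_mul_ediv (-d) q
    generalize (-d) % (q : ℤ) = e₀ at he₀0 he₀q hdiv
    generalize (-d) / (q : ℤ) = f₀ at hdiv
    have hs' : s ∈ 𝒜 (e₀ + ((q : ℤ) - e₀)) := by
      have : e₀ + ((q : ℤ) - e₀) = q := by ring
      rwa [this]
    obtain ⟨u, hu, v, hv, huv⟩ := Groth.Agent.Lib.Helper24.GorGrJ.exists_mul_smul_ne_zero 𝒜 hstd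
      he₀0 (by omega : (0 : ℤ) ≤ (q : ℤ) - e₀) hs' hne
    apply huv
    have h1 : u • ν ∈ ℋ (e₀ + d) := smul_mem_piece 𝒜 ℋ hu hν
    have h2 : e₀ + d = (-f₀) * q := by linarith
    rw [h2] at h1
    have h3 := hNq _ _ h1 (N.smul_mem u hνN)
    rw [mul_comm, mul_smul, h3, smul_zero]
  have hall : ∀ s ∈ 𝒜 (q : ℤ), ∀ ν ∈ N, s • ν = 0 := by
    intro s hs ν hν
    rw [← DirectSum.sum_support_decompose ℋ ν, Finset.smul_sum]
    apply Finset.sum_eq_zero
    intro i _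
    exact hhom i _ (decompose ℋ ν i).2 (hN i hν) s hs
  intro r hr ν hν
  have hr' := Groth.Agent.Lib.Helper24.GorGrH.pow_le_span 𝒜 hstd m hmsp q hr
  clear hr
  induction hr' using Submodule.span_induction with
  | mem s hs => exact hall s hs ν hν
  | zero => rw [zero_smul]
  | add a b _ _ ha hb => rw [add_smul, ha, hb, add_zero]
  | smul c a _ ha => rw [smul_eq_mul, mul_smul, ha, smul_zero]

include hpos h0 hmsp hstd he in
/-- **Core.** The graded module `H` is a shifted *injective envelope of `R/m`. -/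
theorem exists_equiv [Module.Injective R E'] (q : ℕ) (hq : 0 < q) (b : ℤ) {hb : H}
    (hbm : hb ∈ ℋ b) (hb0 : hb ≠ 0)
    (hver : ∀ j : ℤ, ∀ h ∈ ℋ (j * q), h ≠ 0 → ∃ r : R, r • h = hb)
    (hP1 : ∀ j : ℤ, ∀ r ∈ 𝒜 j, r ≠ 0 → ∃ h ∈ ℋ (b - j), r • h = hb)
    {x y : R} (hx : x ∈ m.toIdeal) (hy : y ∈ m.toIdeal)
    (hyreg : IsSMulRegular (QuotSMulTop x R) y) (hdiv : ∀ h : H, ∃ h₁ : H, x • h₁ = h) :
    ∃ Ψ : H ≃ₗ[R] E', IsGrHomDeg ℋ 𝓔 Ψ.toLinearMap (-b) := by
  classical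
  obtain ⟨Ψ, hΨ, hΨb⟩ := exists_psi hpos h0 m hmsp 𝓔 e he ℋ (-b) (hb := hb)
    (by rwa [neg_neg]) hb0
  have hsurj := psi_surjective hpos h0 m hmsp 𝓔 e he ℋ b Ψ hΨ hΨb hP1
  have hNhom : (LinearMap.ker Ψ).IsHomogeneous ℋ :=
    ker_isHomogeneous_of_isGrHomDeg ℋ 𝓔 Ψ (-b) hΨ
  have hNq : ∀ j : ℤ, ∀ h ∈ ℋ (j * q), h ∈ LinearMap.ker Ψ → h = 0 := by
    intro j h hh hker
    by_contra hne
    obtain ⟨r, hr⟩ := hver j h hh hne
    apply hΨb
    rw [← hr, map_smul, LinearMap.mem_ker.mp hker, smul_zero]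
  have hkill := ker_pow_smul m hmsp hstd ℋ q hq (LinearMap.ker Ψ) hNhom hNq
  have hstep : ∀ ν ∈ LinearMap.ker Ψ, ∃ ν₁ ∈ LinearMap.ker Ψ, ∃ ν₂ ∈ LinearMap.ker Ψ,
      ν = x • ν₁ + y • ν₂ := by
    intro ν hν
    obtain ⟨h, hh⟩ := hdiv ν
    have hxξ : x • Ψ h = 0 := by
      rw [← map_smul, hh]
      exact LinearMap.mem_ker.mp hν
    obtain ⟨ξ', hyξ', hxξ'⟩ := exists_div hyreg (Ψ h) hxξ
    obtain ⟨h', hh'⟩ := hsurj ξ'
    refine ⟨h - y • h', ?_, x • h', ?_, ?_⟩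
    · rw [LinearMap.mem_ker, map_sub, map_smul, hh', hyξ', sub_self]
    · rw [LinearMap.mem_ker, map_smul, hh', hxξ']
    · rw [smul_sub, smul_comm y x h', sub_add_cancel, hh]
  have hpow : ∀ t : ℕ, LinearMap.ker Ψ ≤ (m.toIdeal ^ t) • LinearMap.ker Ψ := by
    intro t
    induction t with
    | zero => rw [pow_zero, Ideal.one_eq_top, Submodule.top_smul]
    | succ t ih =>
      intro ν hν
      obtain ⟨ν₁, hν₁, ν₂, hν₂, rfl⟩ := hstep ν hν
      rw [pow_succ', Submodule.mul_smul]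
      exact add_mem (Submodule.smul_mem_smul hx (ih hν₁)) (Submodule.smul_mem_smul hy (ih hν₂))
  have hker : LinearMap.ker Ψ = ⊥ := by
    rw [eq_bot_iff]
    intro ν hν
    have h1 := hpow q hν
    rw [Submodule.mem_bot]
    exact Submodule.smul_induction_on h1 (fun r hr n hn => hkill r hr n hn)
      (fun a b ha hb => by rw [ha, hb, add_zero])
  exact ⟨LinearEquiv.ofBijective Ψ ⟨LinearMap.ker_eq_bot.mp hker, hsurj⟩,
    fun g z hz => hΨ g z hz⟩

end Core

end Groth.Agent.Lib.Helper24.VerGorA
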