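import Mathlib
import Groth.Prelude.Def_GrLC
import Groth.Prelude.Def_Wider
import Groth.Agent.Lib.Helper30.GradedHull
import Groth.Agent.Lib.Helper30.GradedSub
import Groth.Agent.Lib.Helper30.EnoughInj
import Groth.Agent.Lib.Helper92.LocCohGV
import Groth.Agent.Lib.Helper92.LocCohDepth
import Groth.Agent.Lib.Helper92.LocCohLES2

/-!
# Existence of the *injective envelope of `R/m`; divisibility of top local cohomology (helper24)
-/

set_option autoImplicit false
set_option linter.unusedSectionVars false
set_option linter.style.haveILetI false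

namespace Groth.Agent.Lib.Helper24.VerGorB

open DirectSum GrLC Pointwise CategoryTheory
open Groth.Agent.Lib.Helper30

universe u

/-- Every graded ring has a *injective envelope of `R/m`. -/
theorem exists_hull {R : Type u} [CommRing R] (𝒜 : ℤ → AddSubgroup R) [GradedRing 𝒜]
    (m : HomogeneousIdeal 𝒜) :
    ∃ (E : GMod.{u} 𝒜) (e : (R ⧸ m.toIdeal) →ₗ[R] E.carrier),
      IsStarInjHull 𝒜 (quotGr 𝒜 m) E.gr e := by
  let Q : GMod.{u} 𝒜 := gmodQuot 𝒜 𝒜 m.toIdeal m.isHomogeneous
  obtain ⟨I₀, _, _, _, ι, hι⟩ := exists_injective_embedding R Q.carrier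
  obtain ⟨E, f, hull, -⟩ := exists_isStarInjHull 𝒜 Q.gr I₀ ι hι
  refine ⟨E, (show (R ⧸ m.toIdeal) →ₗ[R] E.carrier from f),
    ⟨⟨hull.injective, ?_, hull.essential⟩, hull.starInj⟩⟩
  rintro j y ⟨r, hr, rfl⟩
  exact hull.grHom j _ ⟨r, hr, rfl⟩

open Groth.Agent.Lib.Helper92.LC in
/-- The top local cohomology of a Noetherian ring is divisible by regular elements. -/
theorem exists_smul_eq_top {R : Type u} [CommRing R] [IsNoetherianRing R] (J : Ideal R) (n : ℕ)
    (hn : ringKrullDim R = n) {x : R} (hx : IsSMulRegular R x) (y : LocCoh.H J n R) :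
    ∃ y₁ : LocCoh.H J n R, x • y₁ = y := by
  have hS := sesSMul_shortExact R x hx
  have hdim : Module.supportDim R (QuotSMulTop x R) < (n : WithBot ℕ∞) := by
    have h1 := Module.supportDim_quotSMulTop_succ_le_of_notMem_minimalPrimes (R := R) (M := R)
      (x := x) (fun _ => hx.notMem_of_mem_minimalPrimes)
    rw [Module.supportDim_self_eq_ringKrullDim, hn] at h1
    generalize Module.supportDim R (QuotSMulTop x R) = a at h1
    induction a using WithBot.recBotCoe with
    | bot => exact WithBot.bot_lt_coe _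
    | coe a =>
      have h2 : a + 1 ≤ (n : ℕ∞) := by exact_mod_cast h1
      have h3 : a < (n : ℕ∞) := by
        cases a using ENat.recTopCoe with
        | top => simp at h2
        | coe k =>
          have : k + 1 ≤ n := by exact_mod_cast h2
          exact_mod_cast Nat.lt_of_succ_le this
      exact_mod_cast h3
  haveI hsub : Subsingleton ((localCohomology J n).obj (sesSMul R x).X₃) :=
    subsingleton_of_supportDim_lt J n (QuotSMulTop x R) hdim
  obtain ⟨y₁, hy₁⟩ := exact₂ J n hS y (Subsingleton.elim _ _)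
  refine ⟨y₁, ?_⟩
  rw [← hy₁, sesSMul_f, Hmap_smul_id]

end Groth.Agent.Lib.Helper24.VerGorB
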