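import Mathlib
import Groth.Agent.Lib.Helper24.VerGorA
import Groth.Agent.Lib.Helper24.VerGorB
import Groth.Agent.Lib.Helper24.GorGrE
import Groth.Agent.Lib.Helper24.GorGrH
import Groth.Agent.Lib.Helper24.GorGrI
import Groth.Agent.Lib.Helper8.GrLCTopQuot
import Groth.Agent.Lib.Helper8.GrLCCompareRows
import Groth.Agent.Lib.Helper8.GrLCCM
import Groth.Agent.Lib.Helper8.GrLCShift
import Groth.Agent.Lib.Helper8.GrLCSub
import Groth.Agent.Lib.Helper8.GrLCPieces
import Groth.Agent.Lib.Helper8.GrHeight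
import Groth.Agent.Lib.Helper67.Depth
import Groth.Agent.S13225
import Groth.Agent.S13244
import Groth.Agent.S18637
import Groth.Agent.S18650

/-!
# A Cohen–Macaulay standard graded ring of dimension `≥ 2` with Gorenstein Veronese subring is
Gorenstein, and `q` divides its `a`-invariant (helper24)
-/

set_option autoImplicit false
set_option linter.unusedSectionVars false
set_option linter.style.haveILetI false

namespace Groth.Agent.Lib.Helper24.VerGorC

open DirectSum GrLC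
open Groth.Agent.Lib.Helper30 Groth.Agent.Lib.Helper8.GrCanDual Groth.Agent.Lib.Helper8.GrLCShift

universe u

theorem main (R : Type u) [CommRing R] [LocCoh.IsCohenMacaulayRing R] (𝒜 : ℤ → AddSubgroup R)
    [GradedRing 𝒜] (hpos : ∀ n : ℤ, n < 0 → 𝒜 n = ⊥) (h0 : IsField (GrLC.deg0 𝒜))
    (m : HomogeneousIdeal 𝒜) (hm : GrLC.IsStarLocal 𝒜 m)
    (hmsp : m.toIdeal = Ideal.span (⋃ n ∈ Set.Ioi (0 : ℤ), (𝒜 n : Set R)))
    (hstd : Ideal.span (⋃ n ∈ Set.Ioi (0 : ℤ), (𝒜 n : Set R)) =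
      Ideal.span ((𝒜 1 : AddSubgroup R) : Set R)) (n : ℕ) (hn : ringKrullDim R = n) (h2 : 2 ≤ n)
    (I : GrLC.StarInjRes 𝒜 𝒜) (q : ℕ) (hq : 0 < q) (R' : Type u) [CommRing R']
    (𝒜' : ℤ → AddSubgroup R') [GradedRing 𝒜'] (φ : R' →+* R) (hφ : Function.Injective φ)
    (hdeg : ∀ j : ℤ, (𝒜' j).map (φ : R' →+ R) = 𝒜 (j * q)) [LocCoh.IsGorensteinRing R'] :
    LocCoh.IsGorensteinRing R ∧ ∃ a : ℤ,
      GrLC.endDeg (I.Hgr m n) = ((a : WithTop ℤ) : WithBot (WithTop ℤ)) ∧ (q : ℤ) ∣ a := by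
  classical
  haveI : IsNoetherianRing R := inferInstance
  haveI : IsNoetherianRing R' := inferInstance
  haveI hmax : m.toIdeal.IsMaximal :=
    Groth.Agent.Lib.Helper8.GrLCPieces.isMaximal_of_isStarLocal hpos m hm
  have hq' : (q : ℤ) ≠ 0 := by exact_mod_cast hq.ne'
  have hqpos : (0 : ℤ) < (q : ℤ) := by exact_mod_cast hq
  obtain ⟨m', I', hm'sp, hm', hmax', hpos', h0', hdim', hJ⟩ :=
    Groth.Agent.Lib.Helper24.GorGrI.exists_ver_data R 𝒜 hpos h0 m hmsp n hn I q hq R' 𝒜' φ hφ hdeg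
  haveI := hmax'
  have hht : m.toIdeal.height = n := by
    have := Groth.Agent.Lib.Helper8.GrHeight.ringKrullDim_eq_height 𝒜 m hm
    rw [hn] at this
    exact (WithBot.coe_injective this).symm
  have hht' : m'.toIdeal.height = n := by
    have := Groth.Agent.Lib.Helper8.GrHeight.ringKrullDim_eq_height 𝒜' m' hm'
    rw [hdim'] at this
    exact (WithBot.coe_injective this).symm
  -- gradings on the top local cohomology modules
  have hintH := Groth.Agent.S13225.result R 𝒜 m R 𝒜 I n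
  letI : DirectSum.Decomposition (I.Hgr m n) := hintH.chooseDecomposition
  haveI : SetLike.GradedSMul 𝒜 (I.Hgr m n) :=
    Groth.Agent.Lib.Helper8.GrLCTopQuot.gradedSMul_Hgr m n I
  have hintH' := Groth.Agent.S13225.result R' 𝒜' m' R' 𝒜' I' n
  letI : DirectSum.Decomposition (I'.Hgr m' n) := hintH'.chooseDecomposition
  haveI : SetLike.GradedSMul 𝒜' (I'.Hgr m' n) :=
    Groth.Agent.Lib.Helper8.GrLCTopQuot.gradedSMul_Hgr m' n I'
  obtain ⟨J, hJinj, hJmem, hJsurj⟩ := hJ n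
  -- *injective envelopes
  obtain ⟨EG, e, he⟩ := Groth.Agent.Lib.Helper24.VerGorB.exists_hull 𝒜 m
  obtain ⟨EG', e', he'⟩ := Groth.Agent.Lib.Helper24.VerGorB.exists_hull 𝒜' m'
  have hull := Groth.Agent.S18637.result R 𝒜 m EG.carrier EG.gr e he
  have hull' := Groth.Agent.S18637.result R' 𝒜' m' EG'.carrier EG'.gr e' he'
  haveI : Module.Injective R EG.carrier := hull.isInjective
  -- the Gorenstein side
  obtain ⟨g, φ', hφ'⟩ := Groth.Agent.S13244.result R' 𝒜' m' hm' n hht' I' EG'.carrier EG'.gr e' he'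
  have he'1 : e' 1 ∈ EG'.gr 0 := eps_mem m' EG'.gr e' he'.toIsStarEss
  obtain ⟨h₀', hh₀'⟩ : ∃ h₀' : I'.H m' n, φ' h₀' = e' 1 := ⟨φ'.symm (e' 1), φ'.apply_symm_apply _⟩
  have hh₀'0 : h₀' ≠ 0 := by
    intro h
    apply Groth.Agent.Lib.Helper24.GorGrE.e_one_ne_zero m'.toIdeal e' hull'
    rw [← hh₀', h, map_zero]
  have hh₀'mem : h₀' ∈ I'.Hgr m' n (-g) := by
    have h1 := decompose_map_of_isGrHomDeg (I'.Hgr m' n) EG'.gr φ'.toLinearMap g hφ' h₀' (-g)
    rw [LinearEquiv.coe_coe, hh₀', neg_add_cancel, decompose_of_mem_same EG'.gr he'1] at h1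
    have h3 : (decompose (I'.Hgr m' n) h₀' (-g) : I'.H m' n) = h₀' := by
      apply φ'.injective
      rw [h1, hh₀']
    rw [← h3]
    exact (decompose (I'.Hgr m' n) h₀' (-g)).2
  have hess' : ∀ h' : I'.H m' n, h' ≠ 0 → ∃ r' : R', r' • h' = h₀' := by
    intro h' hne
    have hN : Submodule.span R' {φ' h'} ≠ ⊥ := by
      intro hbot
      apply hne
      have : φ' h' ∈ Submodule.span R' {φ' h'} := Submodule.mem_span_singleton_self _
      rw [hbot, Submodule.mem_bot] at this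
      exact φ'.injective (this.trans (map_zero _).symm)
    have h1 := Groth.Agent.Lib.Helper24.GorGrE.e_one_mem_of_ne_bot m'.toIdeal e' hull' _ hN
    obtain ⟨r', hr'⟩ := Submodule.mem_span_singleton.mp h1
    refine ⟨r', ?_⟩
    apply φ'.injective
    rw [map_smul, hr', hh₀']
  have hP1' : ∀ (i : ℤ) (r' : R'), r' ∈ 𝒜' i → r' ≠ 0 → ∃ h' : I'.H m' n, r' • h' ≠ 0 := by
    intro i r' hr' hr'0
    obtain ⟨x, hx⟩ := Groth.Agent.Lib.Helper24.GorGrE.exists_smul_ne_zero 𝒜' m' hm' e' hull'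
      hr' hr'0
    refine ⟨φ'.symm x, fun h => hx ?_⟩
    have := congrArg φ' h
    rwa [map_smul, LinearEquiv.apply_symm_apply, map_zero] at this
  -- the distinguished class
  have hbm : J h₀' ∈ I.Hgr m n (-g * q) := hJmem (-g) h₀' hh₀'mem
  have hb0 : J h₀' ≠ 0 := fun h => hh₀'0 (hJinj (h.trans (map_zero J).symm))
  have hver : ∀ j : ℤ, ∀ h ∈ I.Hgr m n (j * q), h ≠ 0 → ∃ r : R, r • h = J h₀' := by
    intro j h hh hne
    obtain ⟨x', hx', rfl⟩ := hJsurj j h hh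
    have hx'0 : x' ≠ 0 := fun h0 => hne (by rw [h0, map_zero])
    obtain ⟨r', hr'⟩ := hess' x' hx'0
    exact ⟨φ r', by rw [← map_smulₛₗ, hr']⟩
  obtain ⟨t, htm, htreg⟩ :=
    Groth.Agent.Lib.Helper24.GorGrI.exists_regular_of_cm hpos m hm n hn (by omega)
  have hP1 : ∀ j : ℤ, ∀ r ∈ 𝒜 j, r ≠ 0 → ∃ h ∈ I.Hgr m n (-g * q - j), r • h = J h₀' := by
    intro j r hr hr0
    have he₀0 : 0 ≤ (-j) % (q : ℤ) := Int.emod_nonneg _ hq'
    have hdiv := Int.emod_add_mul_ediv (-j) q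
    generalize (-j) % (q : ℤ) = e₀ at he₀0 hdiv
    generalize (-j) / (q : ℤ) = f₀ at hdiv
    obtain ⟨c, rfl⟩ := Int.eq_ofNat_of_zero_le he₀0
    have h1 : t ^ c * r ≠ 0 := by
      intro h
      apply hr0
      apply htreg.pow c
      change t ^ c • r = t ^ c • 0
      rw [smul_eq_mul, smul_zero, h]
    have h2 : t ^ c ∈ Ideal.span ((𝒜 (c : ℤ) : AddSubgroup R) : Set R) :=
      Groth.Agent.Lib.Helper24.GorGrH.pow_le_span 𝒜 hstd m hmsp c (Ideal.pow_mem_pow htm c)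
    obtain ⟨s, hs, hsr⟩ : ∃ s ∈ 𝒜 (c : ℤ), s * r ≠ 0 := by
      by_contra hcon
      push Not at hcon
      apply h1
      have key : ∀ z ∈ Ideal.span ((𝒜 (c : ℤ) : AddSubgroup R) : Set R), z * r = 0 := by
        intro z hz
        induction hz using Submodule.span_induction with
        | mem s hs => exact hcon s hs
        | zero => rw [zero_mul]
        | add a b _ _ ha hb => rw [add_mul, ha, hb, add_zero]
        | smul a z _ hz => rw [smul_eq_mul, mul_assoc, hz, mul_zero]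
      exact key _ h2
    have hsr_mem : s * r ∈ 𝒜 ((-f₀) * q) := by
      have := SetLike.GradedMul.mul_mem (A := 𝒜) hs hr
      have h3 : (c : ℤ) + j = (-f₀) * q := by linarith
      rwa [h3] at this
    rw [← hdeg (-f₀)] at hsr_mem
    obtain ⟨r', hr', hφr'⟩ := hsr_mem
    have hφr'' : φ r' = s * r := hφr'
    have hr'0 : r' ≠ 0 := by
      intro h
      apply hsr
      rw [← hφr'', h, map_zero]
    obtain ⟨h', hh'⟩ := hP1' _ r' hr' hr'0
    obtain ⟨t', ht'⟩ := hess' (r' • h') hh'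
    have hrh₁ : r • ((φ t' * s) • J h') = J h₀' := by
      have h4 : J (t' • (r' • h')) = J h₀' := by rw [ht']
      rw [map_smulₛₗ, map_smulₛₗ, hφr''] at h4
      rw [← h4, smul_smul, smul_smul]
      congr 1
      ring
    refine ⟨(decompose (I.Hgr m n) ((φ t' * s) • J h') (-g * q - j) : I.H m n),
      (decompose (I.Hgr m n) ((φ t' * s) • J h') (-g * q - j)).2, ?_⟩
    have h4 := decompose_smul_of_mem 𝒜 (I.Hgr m n) hr ((φ t' * s) • J h') (-g * q - j)
    rw [← h4, hrh₁]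
    have h5 : j + (-g * q - j) = -g * q := by ring
    rw [h5]
    exact decompose_of_mem_same _ hbm
  -- a regular sequence of length two
  have hIM : m.toIdeal • (⊤ : Submodule R R) ≠ ⊤ := by
    rw [smul_eq_mul, Ideal.mul_top]
    exact hmax.ne_top
  have hdepth := Groth.Agent.Lib.Helper8.GrLCCM.le_idealDepth_of_cm m.toIdeal n hht
  have h2' : ((2 : ℕ) : ℕ∞) ≤ LocCoh.idealDepth m.toIdeal R :=
    le_trans (by exact_mod_cast h2) hdepth
  rcases (Groth.Agent.Lib.Helper67.le_idealDepth_iff m.toIdeal R 2).1 h2' with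
    h | ⟨rs, hlen, hreg, hmem⟩
  · exact absurd h hIM
  obtain ⟨x, y, rfl⟩ := List.length_eq_two.mp hlen
  rw [RingTheory.Sequence.isWeaklyRegular_cons_iff] at hreg
  obtain ⟨hxreg, hreg2⟩ := hreg
  rw [RingTheory.Sequence.isWeaklyRegular_cons_iff] at hreg2
  have hyreg : IsSMulRegular (QuotSMulTop x R) y := hreg2.1
  obtain ⟨cmp⟩ := Groth.Agent.Lib.Helper8.GrLCCompareRows.compare m I n
  have hdivH : ∀ h : I.H m n, ∃ h₁ : I.H m n, x • h₁ = h := by
    intro h
    obtain ⟨y₁, hy₁⟩ := Groth.Agent.Lib.Helper24.VerGorB.exists_smul_eq_top m.toIdeal n hn hxreg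
      (cmp h)
    refine ⟨cmp.symm y₁, ?_⟩
    apply cmp.injective
    rw [map_smul, LinearEquiv.apply_symm_apply, hy₁]
  -- the core
  obtain ⟨Ψ, hΨ⟩ := Groth.Agent.Lib.Helper24.VerGorA.exists_equiv hpos h0 m hmsp hstd EG.gr e he
    (I.Hgr m n) q hq (-g * q) hbm hb0 hver hP1 (hmem x (by simp)) (hmem y (by simp)) hyreg hdivH
  have hGor : LocCoh.IsGorensteinRing R := by
    rw [Groth.Agent.S18650.result R 𝒜 m hm n hht I]
    exact ⟨GMod.of 𝒜 EG.carrier (shiftGr EG.gr (-(-g * q))), Ψ,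
      isStarInj_shift EG.gr he.starInj (-(-g * q)), fun k z hz => hΨ k z hz⟩
  refine ⟨hGor, -g * q, ?_, Dvd.intro_left (-g) rfl⟩
  apply le_antisymm
  · rw [Groth.Agent.Lib.Helper8.GrLCSub.endDeg_le_iff]
    intro t ht
    rw [eq_bot_iff]
    intro z hz
    rw [AddSubgroup.mem_bot]
    apply Ψ.injective
    rw [map_zero]
    exact eq_zero_of_pos hpos m hmsp EG.gr e he.toIsStarEss
      (by omega : 0 < t + -(-g * q)) (hΨ t z hz)
  · unfold GrLC.endDeg
    have hne : I.Hgr m n (-g * q) ≠ ⊥ := by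
      intro hbot
      rw [hbot] at hbm
      exact hb0 (AddSubgroup.mem_bot.mp hbm)
    exact le_iSup₂ (f := fun (k : ℤ) (_ : I.Hgr m n k ≠ ⊥) =>
      ((k : WithTop ℤ) : WithBot (WithTop ℤ))) (-g * q) hne

end Groth.Agent.Lib.Helper24.VerGorC
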