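import Mathlib
import Groth.Prelude

/-!
# A graded ring structure on an abstract Veronese subring

Given a `ℤ`-graded ring `(R, 𝒜)`, an injective ring homomorphism `φ : R' → R` whose range is the set
of elements with vanishing components in the degrees not divisible by `q`, the pieces
`𝒜'_j = φ⁻¹(𝒜_{jq})` form a grading of `R'`.
-/

set_option autoImplicit false
set_option linter.unusedSectionVars false
universe u

open DirectSum

namespace Groth.Agent.Lib.Helper24.VerPolyA

variable {R : Type u} [CommRing R] (𝒜 : ℤ → AddSubgroup R) [GradedRing 𝒜]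
variable {R' : Type u} [CommRing R'] (φ : R' →+* R) (q : ℤ)

/-- The pieces of the Veronese subring. -/
def pc (j : ℤ) : AddSubgroup R' := (𝒜 (j * q)).comap (φ : R' →+ R)

theorem mem_pc {j : ℤ} {x : R'} : x ∈ pc 𝒜 φ q j ↔ φ x ∈ 𝒜 (j * q) := Iff.rfl

instance pc_gradedMonoid : SetLike.GradedMonoid (pc 𝒜 φ q) where
  one_mem := by
    rw [mem_pc, map_one, zero_mul]
    exact SetLike.GradedOne.one_mem
  mul_mem i j x y hx hy := by
    rw [mem_pc] at hx hy ⊢
    rw [map_mul, add_mul]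
    exact SetLike.GradedMul.mul_mem hx hy

theorem decompose_coe (hq : q ≠ 0) (z : ⨁ j, ↥(pc 𝒜 φ q j)) (j : ℤ) :
    (decompose 𝒜 (φ (DirectSum.coeAddMonoidHom (pc 𝒜 φ q) z)) (j * q) : R) = φ (z j : R') := by
  induction z using DirectSum.induction_on with
  | zero => simp
  | of j' x =>
    rw [DirectSum.coeAddMonoidHom_of]
    have hx : φ (x : R') ∈ 𝒜 (j' * q) := x.2
    by_cases hj : j' = j
    · subst hj
      rw [decompose_of_mem_same 𝒜 hx, DirectSum.of_eq_same]
    · have hne : j' * q ≠ j * q := fun h => hj (mul_right_cancel₀ hq h)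
      rw [decompose_of_mem_ne 𝒜 hx hne, DirectSum.of_eq_of_ne _ _ _ (Ne.symm hj)]
      simp
  | add x y hx hy =>
    rw [map_add, map_add, decompose_add, DirectSum.add_apply, AddSubgroup.coe_add, hx, hy,
      DirectSum.add_apply, AddSubgroup.coe_add, map_add]

theorem sub_range (hrange : ∀ p : R, (∀ i : ℤ, ¬ q ∣ i → (decompose 𝒜 p i : R) = 0) → p ∈ φ.range)
    (j : ℤ) (p : R) (hp : p ∈ 𝒜 (j * q)) : p ∈ φ.range := by
  apply hrange
  intro i hi
  have hne : j * q ≠ i := by
    rintro rfl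
    exact hi (dvd_mul_left q j)
  exact decompose_of_mem_ne 𝒜 hp hne

theorem pc_isInternal (hφ : Function.Injective φ) (hq : q ≠ 0)
    (hrange : ∀ p : R, p ∈ φ.range ↔ ∀ i : ℤ, ¬ q ∣ i → (decompose 𝒜 p i : R) = 0) :
    DirectSum.IsInternal (pc 𝒜 φ q) := by
  classical
  have hsub := sub_range 𝒜 φ q (fun p => (hrange p).mpr)
  constructor
  · rw [injective_iff_map_eq_zero]
    intro z hz
    apply DFinsupp.ext
    intro j
    apply Subtype.ext
    apply hφ
    rw [← decompose_coe 𝒜 φ q hq z j, hz]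
    simp
  · intro x
    have key : ∀ p : R, p ∈ φ.range → ∃ z : ⨁ j, ↥(pc 𝒜 φ q j),
        φ (DirectSum.coeAddMonoidHom (pc 𝒜 φ q) z) = p := by
      intro p hp
      rw [← sum_support_decompose 𝒜 p]
      refine Finset.sum_induction _ (fun y => ∃ z : ⨁ j, ↥(pc 𝒜 φ q j),
        φ (DirectSum.coeAddMonoidHom (pc 𝒜 φ q) z) = y) ?_ ?_ ?_
      · rintro _ _ ⟨z, rfl⟩ ⟨z', rfl⟩
        exact ⟨z + z', by rw [map_add, map_add]⟩
      · exact ⟨0, by simp⟩
      · intro i _
        by_cases hi : q ∣ i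
        · obtain ⟨j, rfl⟩ := hi
          have h1 : (decompose 𝒜 p (q * j) : R) ∈ 𝒜 (j * q) := by
            rw [mul_comm j q]
            exact (decompose 𝒜 p (q * j)).2
          obtain ⟨x', hx'⟩ := hsub j _ h1
          refine ⟨DirectSum.of (fun j => ↥(pc 𝒜 φ q j)) j ⟨x', ?_⟩, ?_⟩
          · rw [mem_pc, hx']
            exact h1
          · rw [DirectSum.coeAddMonoidHom_of]
            exact hx'
        · rw [(hrange p).mp hp i hi]
          exact ⟨0, by simp⟩
    obtain ⟨z, hz⟩ := key (φ x) ⟨x, rfl⟩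
    exact ⟨z, hφ hz⟩

theorem hdeg (hrange : ∀ p : R, (∀ i : ℤ, ¬ q ∣ i → (decompose 𝒜 p i : R) = 0) → p ∈ φ.range)
    (j : ℤ) : (pc 𝒜 φ q j).map (φ : R' →+ R) = 𝒜 (j * q) := by
  ext p
  constructor
  · rintro ⟨x, hx, rfl⟩
    exact hx
  · intro hp
    obtain ⟨x, hx⟩ := sub_range 𝒜 φ q hrange j p hp
    refine ⟨x, ?_, hx⟩
    rw [SetLike.mem_coe, mem_pc, hx]
    exact hp

/-- The graded ring structure on the abstract Veronese subring. -/
@[instance_reducible]
noncomputable def pcGradedRing (hφ : Function.Injective φ) (hq : q ≠ 0)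
    (hrange : ∀ p : R, p ∈ φ.range ↔ ∀ i : ℤ, ¬ q ∣ i → (decompose 𝒜 p i : R) = 0) :
    GradedRing (pc 𝒜 φ q) :=
  { toGradedMonoid := pc_gradedMonoid 𝒜 φ q
    toDecomposition := (pc_isInternal 𝒜 φ q hφ hq hrange).chooseDecomposition }

end Groth.Agent.Lib.Helper24.VerPolyA
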