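import Mathlib
import Groth.Prelude
import Groth.Agent.Lib.Helper8.GrCanPolyW
import Groth.Agent.Lib.Helper8.GrCanVer
import Groth.Agent.Lib.Helper8.GrIrrelLocal
import Groth.Agent.Lib.Helper24.VerPolyA
import Groth.Agent.Lib.Helper24.GorCI
import Groth.Agent.Lib.Helper24.GrUnmixed
import Groth.Agent.S18644
import Groth.Agent.S18655

/-!
# The type of the Veronese subrings of a polynomial ring
-/

set_option autoImplicit false
set_option linter.unusedSectionVars false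
universe u

attribute [local instance] MvPolynomial.weightedGradedAlgebra

open DirectSum GrLC
open Groth.Agent.Lib.Helper8.GrLCSub

namespace Groth.Agent.Lib.Helper24.VerPolyB

variable (k : Type u) [Field k] (s : ℕ)

/-- The standard weights. -/
def w1 : Fin s → ℤ := fun _ => 1

theorem w1_pos : ∀ i : Fin s, 0 < w1 s i := fun _ => one_pos

/-- The standard grading of the polynomial ring. -/
noncomputable abbrev 𝒜s : ℤ → AddSubgroup (MvPolynomial (Fin s) k) :=
  agr (MvPolynomial.weightedHomogeneousSubmodule k (w1 s))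

theorem weight_w1 (e : Fin s →₀ ℕ) : Finsupp.weight (w1 s) e = (e.degree : ℤ) := by
  rw [Finsupp.weight_apply, Finsupp.sum, Finsupp.degree_apply]
  push_cast
  apply Finset.sum_congr rfl
  intro i _
  simp [w1]

theorem whc_eq (j : ℕ) (p : MvPolynomial (Fin s) k) :
    MvPolynomial.weightedHomogeneousComponent (w1 s) (j : ℤ) p =
      MvPolynomial.homogeneousComponent j p := by
  classical
  ext e
  rw [MvPolynomial.coeff_weightedHomogeneousComponent, MvPolynomial.coeff_homogeneousComponent,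
    weight_w1]
  simp only [Nat.cast_inj]

theorem whc_neg (i : ℤ) (hi : i < 0) (p : MvPolynomial (Fin s) k) :
    MvPolynomial.weightedHomogeneousComponent (w1 s) i p = 0 := by
  classical
  ext e
  rw [MvPolynomial.coeff_weightedHomogeneousComponent, weight_w1, MvPolynomial.coeff_zero]
  rw [if_neg]
  intro h
  have : (0 : ℤ) ≤ (e.degree : ℤ) := Int.natCast_nonneg _
  omega

theorem decompose_eq (p : MvPolynomial (Fin s) k) (i : ℤ) :
    (decompose (𝒜s k s) p i : MvPolynomial (Fin s) k) =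
      MvPolynomial.weightedHomogeneousComponent (w1 s) i p := by
  rw [coe_decompose_agr]
  exact MvPolynomial.weightedDecomposition.decompose'_apply k (w1 s) p i

theorem hrange_iff (d : ℕ) (p : MvPolynomial (Fin s) k) :
    (∀ j : ℕ, ¬ d ∣ j → MvPolynomial.homogeneousComponent j p = 0) ↔
      ∀ i : ℤ, ¬ (d : ℤ) ∣ i → (decompose (𝒜s k s) p i : MvPolynomial (Fin s) k) = 0 := by
  constructor
  · intro h i hi
    rw [decompose_eq]
    rcases lt_or_ge i 0 with hneg | hnn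
    · exact whc_neg k s i hneg p
    · obtain ⟨j, rfl⟩ := Int.eq_ofNat_of_zero_le hnn
      rw [whc_eq]
      apply h
      intro hdj
      exact hi (Int.natCast_dvd_natCast.mpr hdj)
  · intro h j hj
    rw [← whc_eq, ← decompose_eq]
    apply h
    intro hdj
    exact hj (Int.natCast_dvd_natCast.mp hdj)


theorem hstd :
    Ideal.span (⋃ n ∈ Set.Ioi (0 : ℤ), (𝒜s k s n : Set (MvPolynomial (Fin s) k))) =
      Ideal.span ((𝒜s k s 1 : AddSubgroup _) : Set (MvPolynomial (Fin s) k)) := by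
  apply le_antisymm
  · rw [Groth.Agent.Lib.Helper8.GrCanPolyW.irrel_eq_span k s (w1 s) (w1_pos s), Ideal.span_le]
    rintro _ ⟨i, rfl⟩
    apply Ideal.subset_span
    exact Groth.Agent.Lib.Helper8.GrCanPolyW.X_mem k s (w1 s) i
  · apply Ideal.span_mono
    intro x hx
    simp only [Set.mem_iUnion, Set.mem_Ioi, SetLike.mem_coe, exists_prop]
    exact ⟨1, one_pos, hx⟩

/-- The constants are the degree-zero part. -/
noncomputable def kEquiv : k ≃+* deg0 (𝒜s k s) :=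
  RingEquiv.ofBijective (Groth.Agent.Lib.Helper8.GrCanPolyW.cHom k s (w1 s))
    ⟨(Groth.Agent.Lib.Helper8.GrCanPolyW.cHom k s (w1 s)).injective,
     Groth.Agent.Lib.Helper8.GrCanPolyW.cHom_surjective k s (w1 s) (w1_pos s)⟩

theorem endDeg_top (m : HomogeneousIdeal (𝒜s k s))
    (hmsp : m.toIdeal =
      Ideal.span (⋃ n ∈ Set.Ioi (0 : ℤ), (𝒜s k s n : Set (MvPolynomial (Fin s) k))))
    (I : GrLC.StarInjRes (𝒜s k s) (𝒜s k s)) :
    GrLC.endDeg (I.Hgr m s) = (((-(s : ℤ) : ℤ) : WithTop ℤ) : WithBot (WithTop ℤ)) := by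
  haveI : LocCoh.IsGorensteinRing (MvPolynomial (Fin s) k) :=
    Groth.Agent.Lib.Helper24.GorLink.gorRing_mvPolynomial_field k s
  haveI : LocCoh.IsCohenMacaulayRing (MvPolynomial (Fin s) k) :=
    Groth.Agent.Lib.Helper24.GrUnmixed.isCohenMacaulayRing_of_isGorensteinRing _
  have hpos := Groth.Agent.Lib.Helper8.GrCanPolyW.hpos_W k s (w1 s) (w1_pos s)
  have h0 := Groth.Agent.Lib.Helper8.GrCanPolyW.isField_deg0 k s (w1 s) (w1_pos s)
  have hm := Groth.Agent.Lib.Helper8.GrIrrelLocal.isStarLocal hpos h0 m hmsp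
  exact (Groth.Agent.S18644.result (MvPolynomial (Fin s) k) (𝒜s k s) hpos h0 m hm hmsp
    (hstd k s) s (Groth.Agent.Lib.Helper8.GrCanPolyW.dim_poly k s) I).mpr
    ⟨MvPolynomial.mapEquiv (Fin s) (kEquiv k s)⟩

theorem finrank_piece (ρ : ℕ) :
    Module.finrank (deg0 (𝒜s k s)) (comp (𝒜s k s) (𝒜s k s) (ρ : ℤ)) = (s + ρ - 1).choose ρ := by
  classical
  let j : ↥(MvPolynomial.weightedHomogeneousSubmodule k (w1 s) (ρ : ℤ)) ≃+
      ↥(comp (𝒜s k s) (𝒜s k s) (ρ : ℤ)) :=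
    { toFun := fun x => ⟨x.1, x.2⟩
      invFun := fun x => ⟨x.1, x.2⟩
      left_inv := fun _ => rfl
      right_inv := fun _ => rfl
      map_add' := fun _ _ => rfl }
  have hc : ∀ (r : k) (x : ↥(MvPolynomial.weightedHomogeneousSubmodule k (w1 s) (ρ : ℤ))),
      j (r • x) = (Groth.Agent.Lib.Helper8.GrCanPolyW.cHom k s (w1 s) r) • j x := by
    intro r x
    apply Subtype.ext
    change r • (x : MvPolynomial (Fin s) k) =
      (MvPolynomial.C r : MvPolynomial (Fin s) k) * (x : MvPolynomial (Fin s) k)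
    rw [MvPolynomial.smul_eq_C_mul]
  have h1 := rank_eq_of_equiv_equiv (Groth.Agent.Lib.Helper8.GrCanPolyW.cHom k s (w1 s)) j
    ⟨(Groth.Agent.Lib.Helper8.GrCanPolyW.cHom k s (w1 s)).injective,
     Groth.Agent.Lib.Helper8.GrCanPolyW.cHom_surjective k s (w1 s) (w1_pos s)⟩ hc
  have h2 : Module.finrank (deg0 (𝒜s k s)) (comp (𝒜s k s) (𝒜s k s) (ρ : ℤ)) =
      Module.finrank k ↥(MvPolynomial.weightedHomogeneousSubmodule k (w1 s) (ρ : ℤ)) := by
    rw [Module.finrank, Module.finrank, h1]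
  rw [h2, MvPolynomial.weightedHomogeneousSubmodule_eq_finsupp_supported,
    (AddMonoidAlgebra.supportedEquivFinsupp _).finrank_eq,
    Module.finrank_eq_nat_card_basis (Finsupp.basisSingleOne)]
  have e1 : {e : Fin s →₀ ℕ | Finsupp.weight (w1 s) e = (ρ : ℤ)} ≃
      {P : Fin s →₀ ℕ // P.sum (fun _ => id) = ρ} :=
    Equiv.subtypeEquivRight (fun e => by
      rw [Set.mem_ofPred_eq, weight_w1, Finsupp.degree_apply, Nat.cast_inj]
      rfl)
  rw [Nat.card_congr (e1.trans (Sym.equivNatSum (Fin s) ρ).symm), Nat.card_eq_fintype_card,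
    Sym.card_sym_eq_choose, Fintype.card_fin]


theorem bassNum_congr {A : Type u} [CommRing A] (I J : Ideal A) [I.IsMaximal] [J.IsMaximal]
    (h : I = J) (i : ℕ) : GrLC.bassNum I A i = GrLC.bassNum J A i := by
  subst h
  rfl

theorem main (d : ℕ) (hs : 1 ≤ s)
    (hd : 1 ≤ d) (R' : Type u) [CommRing R'] (φ : R' →+* MvPolynomial (Fin s) k)
    (hφ : Function.Injective φ)
    (hrange : ∀ p : MvPolynomial (Fin s) k, p ∈ φ.range ↔
      ∀ j : ℕ, ¬ d ∣ j → MvPolynomial.homogeneousComponent j p = 0)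
    (m' : Ideal R') [m'.IsMaximal]
    (hm' : m' = Ideal.comap φ
      (RingHom.ker (MvPolynomial.constantCoeff : MvPolynomial (Fin s) k →+* k)))
    (n : ℕ) (hsn : s ≤ n) (hdn : d ∣ n) (hmin : ∀ n' : ℕ, s ≤ n' → d ∣ n' → n ≤ n') :
    GrLC.bassNum m' R' s = (Nat.choose (n - 1) (s - 1) : ℕ∞) := by
  classical
  have hpos := Groth.Agent.Lib.Helper8.GrCanPolyW.hpos_W k s (w1 s) (w1_pos s)
  have h0 := Groth.Agent.Lib.Helper8.GrCanPolyW.isField_deg0 k s (w1 s) (w1_pos s)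
  haveI : LocCoh.IsGorensteinRing (MvPolynomial (Fin s) k) :=
    Groth.Agent.Lib.Helper24.GorLink.gorRing_mvPolynomial_field k s
  -- the irrelevant ideal of the polynomial ring
  let m : HomogeneousIdeal (𝒜s k s) :=
    ⟨Ideal.span (⋃ n ∈ Set.Ioi (0 : ℤ), (𝒜s k s n : Set (MvPolynomial (Fin s) k))), by
      apply Ideal.homogeneous_span
      intro x hx
      simp only [Set.mem_iUnion, Set.mem_Ioi] at hx
      obtain ⟨j, _, hxj⟩ := hx
      exact ⟨j, hxj⟩⟩
  have hmsp : m.toIdeal =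
      Ideal.span (⋃ n ∈ Set.Ioi (0 : ℤ), (𝒜s k s n : Set (MvPolynomial (Fin s) k))) := rfl
  have hm := Groth.Agent.Lib.Helper8.GrIrrelLocal.isStarLocal hpos h0 m hmsp
  let I : GrLC.StarInjRes (𝒜s k s) (𝒜s k s) :=
    Groth.Agent.Lib.Helper30.starInjRes (𝒜s k s) (𝒜s k s)
  have ha := endDeg_top k s m hmsp I
  -- the grading of `R'`
  have hdq : ((d : ℕ) : ℤ) ≠ 0 := by
    have : d ≠ 0 := by omega
    exact_mod_cast this
  have hdpos : (0 : ℤ) < ((d : ℕ) : ℤ) := by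
    have : 0 < d := by omega
    exact_mod_cast this
  have hrange' : ∀ p : MvPolynomial (Fin s) k, p ∈ φ.range ↔
      ∀ i : ℤ, ¬ ((d : ℕ) : ℤ) ∣ i → (decompose (𝒜s k s) p i : MvPolynomial (Fin s) k) = 0 :=
    fun p => (hrange p).trans (hrange_iff k s d p)
  letI : GradedRing (VerPolyA.pc (𝒜s k s) φ ((d : ℕ) : ℤ)) :=
    VerPolyA.pcGradedRing (𝒜s k s) φ ((d : ℕ) : ℤ) hφ hdq hrange'
  have hdeg : ∀ j : ℤ, (VerPolyA.pc (𝒜s k s) φ ((d : ℕ) : ℤ) j).map (φ : R' →+ _) =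
      𝒜s k s (j * ((d : ℕ) : ℤ)) :=
    VerPolyA.hdeg (𝒜s k s) φ ((d : ℕ) : ℤ) (fun p => (hrange' p).mpr)
  have hpos' := Groth.Agent.Lib.Helper8.GrCanVer.hpos' φ hφ ((d : ℕ) : ℤ) hdpos hdeg hpos
  have h0' := Groth.Agent.Lib.Helper8.GrCanVer.h0' φ hφ ((d : ℕ) : ℤ) hdeg h0
  -- the irrelevant ideal of `R'`
  let m'' : HomogeneousIdeal (VerPolyA.pc (𝒜s k s) φ ((d : ℕ) : ℤ)) :=
    ⟨Ideal.span (⋃ j ∈ Set.Ioi (0 : ℤ), (VerPolyA.pc (𝒜s k s) φ ((d : ℕ) : ℤ) j : Set R')), by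
      apply Ideal.homogeneous_span
      intro x hx
      simp only [Set.mem_iUnion, Set.mem_Ioi] at hx
      obtain ⟨j, _, hxj⟩ := hx
      exact ⟨j, hxj⟩⟩
  have hm''sp : m''.toIdeal = Ideal.span
      (⋃ j ∈ Set.Ioi (0 : ℤ), (VerPolyA.pc (𝒜s k s) φ ((d : ℕ) : ℤ) j : Set R')) := rfl
  have hm''loc := Groth.Agent.Lib.Helper8.GrIrrelLocal.isStarLocal hpos' h0' m'' hm''sp
  haveI hmax'' : m''.toIdeal.IsMaximal :=
    Groth.Agent.Lib.Helper8.GrLCPieces.isMaximal_of_isStarLocal hpos' m'' hm''loc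
  have hle : m''.toIdeal ≤ m' := by
    rw [hm''sp, Ideal.span_le]
    intro x hx
    simp only [Set.mem_iUnion, Set.mem_Ioi, SetLike.mem_coe] at hx
    obtain ⟨j, hj, hxj⟩ := hx
    rw [SetLike.mem_coe, hm', Ideal.mem_comap, RingHom.mem_ker]
    have h1 : MvPolynomial.IsWeightedHomogeneous (w1 s) (φ x) (j * ((d : ℕ) : ℤ)) := hxj
    rw [MvPolynomial.constantCoeff_eq]
    apply h1.coeff_eq_zero
    rw [map_zero]
    exact (mul_pos hj hdpos).ne
  have hne : m' ≠ ⊤ := Ideal.IsMaximal.ne_top inferInstance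
  have heq : m''.toIdeal = m' := hmax''.eq_of_le hne hle
  rw [← bassNum_congr m''.toIdeal m' heq s]
  -- the numerology
  have hρ0 : (0 : ℤ) ≤ ((n - s : ℕ) : ℤ) := Int.natCast_nonneg _
  have hρq : ((n - s : ℕ) : ℤ) < ((d : ℕ) : ℤ) := by
    by_contra hcon
    push Not at hcon
    have h1 : d ≤ n - s := by exact_mod_cast hcon
    have h2 := hmin (n - d) (by omega) (Nat.dvd_sub hdn (dvd_refl d))
    omega
  have hρa : (((d : ℕ) : ℤ)) ∣ (-(s : ℤ)) - ((n - s : ℕ) : ℤ) := by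
    have h1 : (-(s : ℤ)) - ((n - s : ℕ) : ℤ) = -((n : ℕ) : ℤ) := by
      rw [Nat.cast_sub hsn]
      ring
    rw [h1, dvd_neg]
    exact Int.natCast_dvd_natCast.mpr hdn
  have key := Groth.Agent.S18655.result (MvPolynomial (Fin s) k) (𝒜s k s) hpos h0 m hm hmsp
    (hstd k s) s (Groth.Agent.Lib.Helper8.GrCanPolyW.dim_poly k s) I (-(s : ℤ)) ha d
    (by omega) R' (VerPolyA.pc (𝒜s k s) φ ((d : ℕ) : ℤ)) φ hφ hdeg m'' hm''sp
    ((n - s : ℕ) : ℤ) hρ0 hρq hρa
  rw [key, finrank_piece k s (n - s)]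
  congr 1
  have h3 : s + (n - s) - 1 = n - 1 := by omega
  have h4 : n - s = (n - 1) - (s - 1) := by omega
  rw [h3, h4, Nat.choose_symm (by omega)]

end Groth.Agent.Lib.Helper24.VerPolyB
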